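import Cfsg.Agent.Coset.Ly.MatCode

/-!
Comparing the matrix of a word with listed rows.
-/

set_option autoImplicit false
set_option maxRecDepth 100000

namespace CfsgLib.Coset.Ly

/-- A word sends a unit vector to the listed row, if the index is in range. -/
noncomputable def rowI (mask : Nat) (ms : List (List Nat)) (n : Nat) (w R : List Nat) (i : Nat) :
    Bool :=
  cond (Nat.ble n i) true
    (Nat.beq (vrun mask ms (Nat.pow 2 (Nat.mul 24 i)) w) (R.getD i 0))

theorem matWord_eq_matOf {n : ℕ} (hn : n ≤ 120) {ms : List (List ℕ)}
    (h : allList (matOK n) ms = true) {mask : ℕ} (hm : mask = encF n fun _ => 1023)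
    {w R : List ℕ} (hR : matOK n R = true) (hw : ∀ l ∈ w, l < ms.length)
    (hc : ∀ s < 30, allBlock 2 s (rowI mask ms n w R) = true) :
    matWord n ms w = matOf n R := by
  refine Matrix.ext fun i j => ?_
  have h0 := allBlock_iff 2 ((i : ℕ) / 4) _ (hc _ (by have := i.2; omega)) i
    (by omega) (by omega)
  rw [rowI, show Nat.ble n i = false from Bool.eq_false_iff.mpr fun h => by
    have := Nat.ble_eq.mp h; have := i.2; omega, cond_false] at h0
  have h1 := Nat.eq_of_beq_eq_true h0
  subst hm
  change vrun _ ms (2 ^ (24 * (i : ℕ))) w = R.getD i 0 at h1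
  rw [← code_single n i, vrun_code hn h w hw, row_code hR i] at h1
  have h2 := congrFun (code_injective h1) j
  rw [Matrix.single_one_vecMul] at h2
  exact h2

/-- Evaluation of words in a list given by words in another alphabet. -/
theorem matWord_flatten {n : ℕ} {ms ns : List (List ℕ)} {ws : List (List ℕ)}
    (h : ∀ k < ws.length, matWord n ms (ws.getD k []) = matOf n (ns.getD k [])) :
    ∀ v : List ℕ, (∀ k ∈ v, k < ws.length) →
      matWord n ns v = matWord n ms (v.map fun k => ws.getD k []).flatten := by
  intro v
  induction v with
  | nil => intro _; simp [matWord]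
  | cons k v ih =>
    intro hv
    have e1 : matWord n ns (k :: v) = matOf n (ns.getD k []) * matWord n ns v := by
      simp [matWord]
    have e2 : matWord n ms ((k :: v).map fun k => ws.getD k []).flatten =
        matWord n ms (ws.getD k []) * matWord n ms (v.map fun k => ws.getD k []).flatten := by
      simp [matWord]
    rw [e1, e2, h k (hv k (by simp)), ih fun x hx => hv x (by simp [hx])]

end CfsgLib.Coset.Ly
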