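import Cfsg.Agent.Coset.Prim

set_option autoImplicit false
set_option maxRecDepth 100000
set_option linter.unusedVariables false

namespace CfsgLib.Coset.Ly

/-- Generators of a level. -/
def CA0G : List (List Nat) := [[0], [2], [4], [6], [8]]
noncomputable def CA0P_0 (i : Nat) : Nat := (Bool.rec (motive := fun _ => Nat) (Bool.rec (motive := fun _ => Nat) (Bool.rec (motive := fun _ => Nat) (Bool.rec (motive := fun _ => Nat) (Bool.rec (motive := fun _ => Nat) (0) (Bool.rec (motive := fun _ => Nat) (0x3000000000001) (0x4000000000002) (Nat.ble 2 i)) (Nat.ble 1 i)) (Bool.rec (motive := fun _ => Nat) (Bool.rec (motive := fun _ => Nat) (0x2000001000003) (0x4000001000005) (Nat.ble 4 i)) (Bool.rec (motive := fun _ => Nat) (0x200000e) (0x300000200000f) (Nat.ble 6 i)) (Nat.ble 5 i)) (Nat.ble 3 i)) (Bool.rec (motive := fun _ => Nat) (Bool.rec (motive := fun _ => Nat) (Bool.rec (motive := fun _ => Nat) (0x3000006) (0x1000003000008) (Nat.ble 8 i)) (Bool.rec (motive := fun _ => Nat) (0x2000003000013) (0x3000003000014)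 (Nat.ble 10 i)) (Nat.ble 9 i)) (Bool.rec (motive := fun _ => Nat) (Bool.rec (motive := fun _ => Nat) (0x4000003000016) (0x400002a) (Nat.ble 12 i)) (Bool.rec (motive := fun _ => Nat) (0x100000400002c) (0x200000400002e) (Nat.ble 14 i)) (Nat.ble 13 i)) (Nat.ble 11 i)) (Nat.ble 7 i)) (Bool.rec (motive := fun _ => Nat) (Bool.rec (motive := fun _ => Nat) (Bool.rec (motive := fun _ => Nat) (0x3000004000030) (Bool.rec (motive := fun _ => Nat) (0x1000005000087) (0x2000005000089) (Nat.ble 17 i)) (Nat.ble 16 i)) (Bool.rec (motive := fun _ => Nat) (Bool.rec (motive := fun _ => Nat) (0x300000500008b) (0x400000500008c) (Nat.ble 19 i)) (Bool.rec (motive := fun _ => Nat) (0x200000600008d) (0x7000020) (Nat.ble 21 i)) (Nat.ble 20 i)) (Nat.ble 18 i)) (Bool.rec (motive := fun _ => Nat) (Bool.rec (motive := fun _ => Nat) (Bool.rec (motive := fun _ => Nat) (0x100000700003a) (0x200000700003c) (Nat.ble 23 i)) (Bool.rec (motive := fun _ => Nat) (0x300000700003e) (0x4000007000040) (Nat.ble 25 i)) (Nat.ble 24 i)) (Bool.rec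 (motive := fun _ => Nat) (Bool.rec (motive := fun _ => Nat) (0x8000052) (0x1000008000031) (Nat.ble 27 i)) (Bool.rec (motive := fun _ => Nat) (0x2000008000054) (0x300000800002d) (Nat.ble 29 i)) (Nat.ble 28 i)) (Nat.ble 26 i)) (Nat.ble 22 i)) (Nat.ble 15 i)) (Bool.rec (motive := fun _ => Nat) (Bool.rec (motive := fun _ => Nat) (Bool.rec (motive := fun _ => Nat) (Bool.rec (motive := fun _ => Nat) (0x4000008000057) (Bool.rec (motive := fun _ => Nat) (0x9000012) (0x100000900005a) (Nat.ble 32 i)) (Nat.ble 31 i)) (Bool.rec (motive := fun _ => Nat) (Bool.rec (motive := fun _ => Nat) (0x30000090000aa) (0x40000090000ac) (Nat.ble 34 i)) (Bool.rec (motive := fun _ => Nat) (0xa0000a2) (0x200000a0000b5) (Nat.ble 36 i)) (Nat.ble 35 i)) (Nat.ble 33 i)) (Bool.rec (motive := fun _ => Nat) (Bool.rec (motive := fun _ => Nat) (Bool.rec (motive := fun _ => Nat) (0x300000a000004) (0x400000a0000b7) (Nat.ble 38 i)) (Bool.rec (motive := fun _ => Nat) (0xb0000c6) (0x100000b0000c7) (Nat.ble 40 i)) (Nat.ble 39 i)) (Bool.rec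 (motive := fun _ => Nat) (Bool.rec (motive := fun _ => Nat) (0x200000b0000c9) (0x300000b0000cb) (Nat.ble 42 i)) (Bool.rec (motive := fun _ => Nat) (0xc00019d) (0x200000c00019f) (Nat.ble 44 i)) (Nat.ble 43 i)) (Nat.ble 41 i)) (Nat.ble 37 i)) (Bool.rec (motive := fun _ => Nat) (Bool.rec (motive := fun _ => Nat) (Bool.rec (motive := fun _ => Nat) (Bool.rec (motive := fun _ => Nat) (0x300000c0001a1) (0x400000c0001a3) (Nat.ble 46 i)) (Bool.rec (motive := fun _ => Nat) (0xd0001bb) (0x100000d000070) (Nat.ble 48 i)) (Nat.ble 47 i)) (Bool.rec (motive := fun _ => Nat) (Bool.rec (motive := fun _ => Nat) (0x200000d0001bd) (0x300000d00007a) (Nat.ble 50 i)) (Bool.rec (motive := fun _ => Nat) (0x400000d0001bf) (0xe0001a4) (Nat.ble 52 i)) (Nat.ble 51 i)) (Nat.ble 49 i)) (Bool.rec (motive := fun _ => Nat) (Bool.rec (motive := fun _ => Nat) (Bool.rec (motive := fun _ => Nat) (0x100000e0001b8) (0x200000e0001cf) (Nat.ble 54 i)) (Bool.rec (motive := fun _ => Nat) (0x300000e000163) (0x400000e0001d0) (Nat.ble 56 i))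 (Nat.ble 55 i)) (Bool.rec (motive := fun _ => Nat) (Bool.rec (motive := fun _ => Nat) (0xf0001b1) (0x200000f0001e2) (Nat.ble 58 i)) (Bool.rec (motive := fun _ => Nat) (0x300000f0001e4) (0x400000f0001e5) (Nat.ble 60 i)) (Nat.ble 59 i)) (Nat.ble 57 i)) (Nat.ble 53 i)) (Nat.ble 45 i)) (Nat.ble 30 i))
noncomputable def CA0P_1 (i : Nat) : Nat := (Bool.rec (motive := fun _ => Nat) (Bool.rec (motive := fun _ => Nat) (Bool.rec (motive := fun _ => Nat) (Bool.rec (motive := fun _ => Nat) (Bool.rec (motive := fun _ => Nat) (0x10000493) (Bool.rec (motive := fun _ => Nat) (0x2000010000494) (0x30000100001dd) (Nat.ble 63 i)) (Nat.ble 62 i)) (Bool.rec (motive := fun _ => Nat) (Bool.rec (motive := fun _ => Nat) (0x11000010) (0x1000011000495) (Nat.ble 65 i)) (Bool.rec (motive := fun _ => Nat) (0x200001100009b) (0x300001100049b) (Nat.ble 67 i)) (Nat.ble 66 i)) (Nat.ble 64 i)) (Bool.rec (motive := fun _ => Nat) (Bool.rec (motive := fun _ => Nat) (Bool.rec (motive := fun _ => Nat) (0x4000011000322) (0x20000120001ce)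 (Nat.ble 69 i)) (Bool.rec (motive := fun _ => Nat) (0x130001ca) (0x10000130004a3) (Nat.ble 71 i)) (Nat.ble 70 i)) (Bool.rec (motive := fun _ => Nat) (Bool.rec (motive := fun _ => Nat) (0x20000130004a5) (0x30000130004a6) (Nat.ble 73 i)) (Bool.rec (motive := fun _ => Nat) (0x1400049e) (0x1000014000091) (Nat.ble 75 i)) (Nat.ble 74 i)) (Nat.ble 72 i)) (Nat.ble 68 i)) (Bool.rec (motive := fun _ => Nat) (Bool.rec (motive := fun _ => Nat) (Bool.rec (motive := fun _ => Nat) (0x3000014000316) (Bool.rec (motive := fun _ => Nat) (0x40000140004ac) (0x1500001f) (Nat.ble 78 i)) (Nat.ble 77 i)) (Bool.rec (motive := fun _ => Nat) (Bool.rec (motive := fun _ => Nat) (0x1000015000066) (0x30000150000ab) (Nat.ble 80 i)) (Bool.rec (motive := fun _ => Nat) (0x400001500013c) (0x16000240) (Nat.ble 82 i)) (Nat.ble 81 i)) (Nat.ble 79 i)) (Bool.rec (motive := fun _ => Nat) (Bool.rec (motive := fun _ => Nat) (Bool.rec (motive := fun _ => Nat) (0x1000016000241) (0x2000016000242) (Nat.ble 84 i)) (Bool.rec (motive := fun _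 => Nat) (0x3000016000243) (0x4000016000245) (Nat.ble 86 i)) (Nat.ble 85 i)) (Bool.rec (motive := fun _ => Nat) (Bool.rec (motive := fun _ => Nat) (0x1700013d) (0x1000017000248) (Nat.ble 88 i)) (Bool.rec (motive := fun _ => Nat) (0x20000170000e0) (0x300001700025c) (Nat.ble 90 i)) (Nat.ble 89 i)) (Nat.ble 87 i)) (Nat.ble 83 i)) (Nat.ble 76 i)) (Bool.rec (motive := fun _ => Nat) (Bool.rec (motive := fun _ => Nat) (Bool.rec (motive := fun _ => Nat) (Bool.rec (motive := fun _ => Nat) (0x400001700025e) (Bool.rec (motive := fun _ => Nat) (0x18000015) (0x200001800026c) (Nat.ble 93 i)) (Nat.ble 92 i)) (Bool.rec (motive := fun _ => Nat) (Bool.rec (motive := fun _ => Nat) (0x3000018000007) (0x400001800026e) (Nat.ble 95 i)) (Bool.rec (motive := fun _ => Nat) (0x1900027c) (0x100001900027e) (Nat.ble 97 i)) (Nat.ble 96 i)) (Nat.ble 94 i)) (Bool.rec (motive := fun _ => Nat) (Bool.rec (motive := fun _ => Nat) (Bool.rec (motive := fun _ => Nat) (0x2000019000280) (0x3000019000282) (Nat.ble 99 i)) (Bool.rec (motive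 := fun _ => Nat) (0x100001a000315) (0x200001a000317) (Nat.ble 101 i)) (Nat.ble 100 i)) (Bool.rec (motive := fun _ => Nat) (Bool.rec (motive := fun _ => Nat) (0x300001a000092) (0x400001a00020c) (Nat.ble 103 i)) (Bool.rec (motive := fun _ => Nat) (0x1b0001b0) (0x100001b00006d) (Nat.ble 105 i)) (Nat.ble 104 i)) (Nat.ble 102 i)) (Nat.ble 98 i)) (Bool.rec (motive := fun _ => Nat) (Bool.rec (motive := fun _ => Nat) (Bool.rec (motive := fun _ => Nat) (Bool.rec (motive := fun _ => Nat) (0x200001b0001ec) (0x400001b0001ed) (Nat.ble 107 i)) (Bool.rec (motive := fun _ => Nat) (0x1c000319) (0x100001c0001f0) (Nat.ble 109 i)) (Nat.ble 108 i)) (Bool.rec (motive := fun _ => Nat) (Bool.rec (motive := fun _ => Nat) (0x200001c00032b) (0x300001c00032c) (Nat.ble 111 i)) (Bool.rec (motive := fun _ => Nat) (0x1d0001c6) (0x200001d0001c7) (Nat.ble 113 i)) (Nat.ble 112 i)) (Nat.ble 110 i)) (Bool.rec (motive := fun _ => Nat) (Bool.rec (motive := fun _ => Nat) (Bool.rec (motive := fun _ => Nat) (0x300001d000009) (0x400001d0001c9)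 (Nat.ble 115 i)) (Bool.rec (motive := fun _ => Nat) (0x1e000343) (0x100001e000344) (Nat.ble 117 i)) (Nat.ble 116 i)) (Bool.rec (motive := fun _ => Nat) (Bool.rec (motive := fun _ => Nat) (0x200001e000345) (0x300001e000346) (Nat.ble 119 i)) (Bool.rec (motive := fun _ => Nat) (0x100001f00009d) (0x200001f00009f) (Nat.ble 121 i)) (Nat.ble 120 i)) (Nat.ble 118 i)) (Nat.ble 114 i)) (Nat.ble 106 i)) (Nat.ble 91 i))
noncomputable def CA0P_2 (i : Nat) : Nat := (Bool.rec (motive := fun _ => Nat) (Bool.rec (motive := fun _ => Nat) (Bool.rec (motive := fun _ => Nat) (Bool.rec (motive := fun _ => Nat) (Bool.rec (motive := fun _ => Nat) (0x300001f0000a1) (Bool.rec (motive := fun _ => Nat) (0x400001f0000a3) (0x20000053) (Nat.ble 124 i)) (Nat.ble 123 i)) (Bool.rec (motive := fun _ => Nat) (Bool.rec (motive := fun _ => Nat) (0x1000020000360) (0x2000020000361) (Nat.ble 126 i)) (Bool.rec (motive := fun _ => Nat) (0x3000020000363) (0x4000021000559) (Nat.ble 128 i)) (Nat.ble 127 i)) (Nat.ble 125 i)) (Bool.rec (motive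 := fun _ => Nat) (Bool.rec (motive := fun _ => Nat) (Bool.rec (motive := fun _ => Nat) (0x22000564) (0x10000220001d3) (Nat.ble 130 i)) (Bool.rec (motive := fun _ => Nat) (0x2000022000147) (0x3000022000566) (Nat.ble 132 i)) (Nat.ble 131 i)) (Bool.rec (motive := fun _ => Nat) (Bool.rec (motive := fun _ => Nat) (0x10000230004f1) (0x200002300051f) (Nat.ble 134 i)) (Bool.rec (motive := fun _ => Nat) (0x4000023000390) (0x240002af) (Nat.ble 136 i)) (Nat.ble 135 i)) (Nat.ble 133 i)) (Nat.ble 129 i)) (Bool.rec (motive := fun _ => Nat) (Bool.rec (motive := fun _ => Nat) (Bool.rec (motive := fun _ => Nat) (0x10000240001cc) (Bool.rec (motive := fun _ => Nat) (0x30000240002aa) (0x400002400027d) (Nat.ble 139 i)) (Nat.ble 138 i)) (Bool.rec (motive := fun _ => Nat) (Bool.rec (motive := fun _ => Nat) (0x4000025000021) (0x2600030c) (Nat.ble 141 i)) (Bool.rec (motive := fun _ => Nat) (0x1000026000393) (0x20000260003d2) (Nat.ble 143 i)) (Nat.ble 142 i)) (Nat.ble 140 i)) (Bool.rec (motive := fun _ => Nat) (Bool.rec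 (motive := fun _ => Nat) (Bool.rec (motive := fun _ => Nat) (0x30000260005ae) (0x270000d0) (Nat.ble 145 i)) (Bool.rec (motive := fun _ => Nat) (0x1000027000569) (0x30000270005f5) (Nat.ble 147 i)) (Nat.ble 146 i)) (Bool.rec (motive := fun _ => Nat) (Bool.rec (motive := fun _ => Nat) (0x4000027000459) (0x2800051d) (Nat.ble 149 i)) (Bool.rec (motive := fun _ => Nat) (0x10000280005fa) (0x20000280005f9) (Nat.ble 151 i)) (Nat.ble 150 i)) (Nat.ble 148 i)) (Nat.ble 144 i)) (Nat.ble 137 i)) (Bool.rec (motive := fun _ => Nat) (Bool.rec (motive := fun _ => Nat) (Bool.rec (motive := fun _ => Nat) (Bool.rec (motive := fun _ => Nat) (0x30000280005fb) (Bool.rec (motive := fun _ => Nat) (0x40000280005fd) (0x290000bb) (Nat.ble 154 i)) (Nat.ble 153 i)) (Bool.rec (motive := fun _ => Nat) (Bool.rec (motive := fun _ => Nat) (0x20000290001ac) (0x3000029000607) (Nat.ble 156 i)) (Bool.rec (motive := fun _ => Nat) (0x400002900028d) (0x2a0005c4) (Nat.ble 158 i)) (Nat.ble 157 i)) (Nat.ble 155 i)) (Bool.rec (motive :=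 fun _ => Nat) (Bool.rec (motive := fun _ => Nat) (Bool.rec (motive := fun _ => Nat) (0x200002a00060e) (0x300002a0000cf) (Nat.ble 160 i)) (Bool.rec (motive := fun _ => Nat) (0x400002a00060f) (0x2b000853) (Nat.ble 162 i)) (Nat.ble 161 i)) (Bool.rec (motive := fun _ => Nat) (Bool.rec (motive := fun _ => Nat) (0x100002b00023b) (0x200002b00022b) (Nat.ble 164 i)) (Bool.rec (motive := fun _ => Nat) (0x300002b0003be) (0x400002b000123) (Nat.ble 166 i)) (Nat.ble 165 i)) (Nat.ble 163 i)) (Nat.ble 159 i)) (Bool.rec (motive := fun _ => Nat) (Bool.rec (motive := fun _ => Nat) (Bool.rec (motive := fun _ => Nat) (Bool.rec (motive := fun _ => Nat) (0x2c00021a) (0x100002c000349) (Nat.ble 168 i)) (Bool.rec (motive := fun _ => Nat) (0x200002c000202) (0x300002c0009de) (Nat.ble 170 i)) (Nat.ble 169 i)) (Bool.rec (motive := fun _ => Nat) (Bool.rec (motive := fun _ => Nat) (0x400002c00070a) (0x200002d000664) (Nat.ble 172 i)) (Bool.rec (motive := fun _ => Nat) (0x300002d000652) (0x400002d0009e6) (Nat.ble 174 i)) (Nat.ble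 173 i)) (Nat.ble 171 i)) (Bool.rec (motive := fun _ => Nat) (Bool.rec (motive := fun _ => Nat) (Bool.rec (motive := fun _ => Nat) (0x2e0009e9) (0x100002e0003fb) (Nat.ble 176 i)) (Bool.rec (motive := fun _ => Nat) (0x200002e0004dd) (0x300002e00089f) (Nat.ble 178 i)) (Nat.ble 177 i)) (Bool.rec (motive := fun _ => Nat) (Bool.rec (motive := fun _ => Nat) (0x100002f0009f0) (0x200002f0009db) (Nat.ble 180 i)) (Bool.rec (motive := fun _ => Nat) (0x300002f0003eb) (0x400002f000383) (Nat.ble 182 i)) (Nat.ble 181 i)) (Nat.ble 179 i)) (Nat.ble 175 i)) (Nat.ble 167 i)) (Nat.ble 152 i))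
noncomputable def CA0P_3 (i : Nat) : Nat := (Bool.rec (motive := fun _ => Nat) (Bool.rec (motive := fun _ => Nat) (Bool.rec (motive := fun _ => Nat) (Bool.rec (motive := fun _ => Nat) (Bool.rec (motive := fun _ => Nat) (0x300003e2) (Bool.rec (motive := fun _ => Nat) (0x2000030000405) (0x300003000000b) (Nat.ble 185 i)) (Nat.ble 184 i)) (Bool.rec (motive := fun _ => Nat) (Bool.rec (motive := fun _ => Nat) (0x40000300001f4) (0x31000424) (Nat.ble 187 i)) (Bool.rec (motive := fun _ => Nat) (0x1000031000407) (0x20000310009c3) (Nat.ble 189 i)) (Nat.ble 188 i)) (Nat.ble 186 i)) (Bool.rec (motive := fun _ => Nat) (Bool.rec (motive := fun _ => Nat) (Bool.rec (motive := fun _ => Nat) (0x3000031000a23) (0x4000031000476) (Nat.ble 191 i)) (Bool.rec (motive := fun _ => Nat) (0x3200023c) (0x200003200044a) (Nat.ble 193 i)) (Nat.ble 192 i)) (Bool.rec (motive := fun _ => Nat) (Bool.rec (motive := fun _ => Nat) (0x300003200023a) (0x400003200044b) (Nat.ble 195 i)) (Bool.rec (motive := fun _ => Nat) (0x330003bb)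 (0x1000033000a26) (Nat.ble 197 i)) (Nat.ble 196 i)) (Nat.ble 194 i)) (Nat.ble 190 i)) (Bool.rec (motive := fun _ => Nat) (Bool.rec (motive := fun _ => Nat) (Bool.rec (motive := fun _ => Nat) (0x200003300038d) (Bool.rec (motive := fun _ => Nat) (0x30000330007f2) (0x340009ee) (Nat.ble 200 i)) (Nat.ble 199 i)) (Bool.rec (motive := fun _ => Nat) (Bool.rec (motive := fun _ => Nat) (0x10000340000cd) (0x2000034000808) (Nat.ble 202 i)) (Bool.rec (motive := fun _ => Nat) (0x3000034000672) (0x400003400017e) (Nat.ble 204 i)) (Nat.ble 203 i)) (Nat.ble 201 i)) (Bool.rec (motive := fun _ => Nat) (Bool.rec (motive := fun _ => Nat) (Bool.rec (motive := fun _ => Nat) (0x3500080a) (0x200003500045b) (Nat.ble 206 i)) (Bool.rec (motive := fun _ => Nat) (0x30000350002eb) (0x40000350001e3) (Nat.ble 208 i)) (Nat.ble 207 i)) (Bool.rec (motive := fun _ => Nat) (Bool.rec (motive := fun _ => Nat) (0x360001a7) (0x1000036000650) (Nat.ble 210 i)) (Bool.rec (motive := fun _ => Nat) (0x20000360001d8) (0x300003600048f) (Nat.ble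 212 i)) (Nat.ble 211 i)) (Nat.ble 209 i)) (Nat.ble 205 i)) (Nat.ble 198 i)) (Bool.rec (motive := fun _ => Nat) (Bool.rec (motive := fun _ => Nat) (Bool.rec (motive := fun _ => Nat) (Bool.rec (motive := fun _ => Nat) (0x400003600006f) (Bool.rec (motive := fun _ => Nat) (0x37000778) (0x2000037000804) (Nat.ble 215 i)) (Nat.ble 214 i)) (Bool.rec (motive := fun _ => Nat) (Bool.rec (motive := fun _ => Nat) (0x3000037000234) (0x4000037000940) (Nat.ble 217 i)) (Bool.rec (motive := fun _ => Nat) (0x380003c4) (0x10000380003f0) (Nat.ble 219 i)) (Nat.ble 218 i)) (Nat.ble 216 i)) (Bool.rec (motive := fun _ => Nat) (Bool.rec (motive := fun _ => Nat) (Bool.rec (motive := fun _ => Nat) (0x100003900004f) (0x2000039000744) (Nat.ble 221 i)) (Bool.rec (motive := fun _ => Nat) (0x300003900002b) (0x4000039000a09) (Nat.ble 223 i)) (Nat.ble 222 i)) (Bool.rec (motive := fun _ => Nat) (Bool.rec (motive := fun _ => Nat) (0x3a000368) (0x100003a000423) (Nat.ble 225 i)) (Bool.rec (motive := fun _ => Nat) (0x200003a00034f)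 (0x300003a0001d9) (Nat.ble 227 i)) (Nat.ble 226 i)) (Nat.ble 224 i)) (Nat.ble 220 i)) (Bool.rec (motive := fun _ => Nat) (Bool.rec (motive := fun _ => Nat) (Bool.rec (motive := fun _ => Nat) (Bool.rec (motive := fun _ => Nat) (0x400003a0009fb) (0x200003b000644) (Nat.ble 229 i)) (Bool.rec (motive := fun _ => Nat) (0x400003b000188) (0x3c00026d) (Nat.ble 231 i)) (Nat.ble 230 i)) (Bool.rec (motive := fun _ => Nat) (Bool.rec (motive := fun _ => Nat) (0x100003c000486) (0x200003c0005ce) (Nat.ble 233 i)) (Bool.rec (motive := fun _ => Nat) (0x300003c000a28) (0x100003d000496) (Nat.ble 235 i)) (Nat.ble 234 i)) (Nat.ble 232 i)) (Bool.rec (motive := fun _ => Nat) (Bool.rec (motive := fun _ => Nat) (Bool.rec (motive := fun _ => Nat) (0x200003d000e05) (0x300003d0009f5) (Nat.ble 237 i)) (Bool.rec (motive := fun _ => Nat) (0x400003d0004b0) (0x3e000a30) (Nat.ble 239 i)) (Nat.ble 238 i)) (Bool.rec (motive := fun _ => Nat) (Bool.rec (motive := fun _ => Nat) (0x200003e0004d7) (0x300003e000cc1) (Nat.ble 241 i)) (Bool.rec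 (motive := fun _ => Nat) (0x400003e0004ce) (0x200003f000a5e) (Nat.ble 243 i)) (Nat.ble 242 i)) (Nat.ble 240 i)) (Nat.ble 236 i)) (Nat.ble 228 i)) (Nat.ble 213 i))
noncomputable def CA0P_4 (i : Nat) : Nat := (Bool.rec (motive := fun _ => Nat) (Bool.rec (motive := fun _ => Nat) (Bool.rec (motive := fun _ => Nat) (Bool.rec (motive := fun _ => Nat) (Bool.rec (motive := fun _ => Nat) (0x40000097) (Bool.rec (motive := fun _ => Nat) (0x3000040000098) (0x41000e07) (Nat.ble 246 i)) (Nat.ble 245 i)) (Bool.rec (motive := fun _ => Nat) (Bool.rec (motive := fun _ => Nat) (0x1000041000e06) (0x3000041000bf6) (Nat.ble 248 i)) (Bool.rec (motive := fun _ => Nat) (0x40000410004d4) (0x4200009a) (Nat.ble 250 i)) (Nat.ble 249 i)) (Nat.ble 247 i)) (Bool.rec (motive := fun _ => Nat) (Bool.rec (motive := fun _ => Nat) (Bool.rec (motive := fun _ => Nat) (0x10000420004d8) (0x30000420004db) (Nat.ble 252 i)) (Bool.rec (motive := fun _ => Nat) (0x40000420004a4) (0x43000238) (Nat.ble 254 i)) (Nat.ble 253 i)) (Bool.rec (motive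 := fun _ => Nat) (Bool.rec (motive := fun _ => Nat) (0x20000430002b2) (0x300004300008a) (Nat.ble 256 i)) (Bool.rec (motive := fun _ => Nat) (0x4000043000bd6) (0x44000364) (Nat.ble 258 i)) (Nat.ble 257 i)) (Nat.ble 255 i)) (Nat.ble 251 i)) (Bool.rec (motive := fun _ => Nat) (Bool.rec (motive := fun _ => Nat) (Bool.rec (motive := fun _ => Nat) (0x100004400049d) (Bool.rec (motive := fun _ => Nat) (0x3000044000060) (0x4500008f) (Nat.ble 261 i)) (Nat.ble 260 i)) (Bool.rec (motive := fun _ => Nat) (Bool.rec (motive := fun _ => Nat) (0x100004500002f) (0x20000450004c2) (Nat.ble 263 i)) (Bool.rec (motive := fun _ => Nat) (0x3000045000303) (0x46000093) (Nat.ble 265 i)) (Nat.ble 264 i)) (Nat.ble 262 i)) (Bool.rec (motive := fun _ => Nat) (Bool.rec (motive := fun _ => Nat) (Bool.rec (motive := fun _ => Nat) (0x2000046000a43) (0x3000046000a44) (Nat.ble 267 i)) (Bool.rec (motive := fun _ => Nat) (0x4000046000478) (0x470004ab) (Nat.ble 269 i)) (Nat.ble 268 i)) (Bool.rec (motive := fun _ => Nat) (Bool.rec (motive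 := fun _ => Nat) (0x300004700038b) (0x4800033e) (Nat.ble 271 i)) (Bool.rec (motive := fun _ => Nat) (0x30000480004a7) (0x49000a48) (Nat.ble 273 i)) (Nat.ble 272 i)) (Nat.ble 270 i)) (Nat.ble 266 i)) (Nat.ble 259 i)) (Bool.rec (motive := fun _ => Nat) (Bool.rec (motive := fun _ => Nat) (Bool.rec (motive := fun _ => Nat) (Bool.rec (motive := fun _ => Nat) (0x2000049000cb4) (Bool.rec (motive := fun _ => Nat) (0x40000490001ad) (0x100004a000239) (Nat.ble 276 i)) (Nat.ble 275 i)) (Bool.rec (motive := fun _ => Nat) (Bool.rec (motive := fun _ => Nat) (0x200004a000a36) (0x300004a000bff) (Nat.ble 278 i)) (Bool.rec (motive := fun _ => Nat) (0x400004a00039c) (0x100004b0004cd) (Nat.ble 280 i)) (Nat.ble 279 i)) (Nat.ble 277 i)) (Bool.rec (motive := fun _ => Nat) (Bool.rec (motive := fun _ => Nat) (Bool.rec (motive := fun _ => Nat) (0x4c000b25) (0x200004c000456) (Nat.ble 282 i)) (Bool.rec (motive := fun _ => Nat) (0x300004c00008e) (0x400004c000a5f) (Nat.ble 284 i)) (Nat.ble 283 i)) (Bool.rec (motive := fun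 _ => Nat) (Bool.rec (motive := fun _ => Nat) (0x4d0004d9) (0x200004d000924) (Nat.ble 286 i)) (Bool.rec (motive := fun _ => Nat) (0x300004d0000a6) (0x100004e000131) (Nat.ble 288 i)) (Nat.ble 287 i)) (Nat.ble 285 i)) (Nat.ble 281 i)) (Bool.rec (motive := fun _ => Nat) (Bool.rec (motive := fun _ => Nat) (Bool.rec (motive := fun _ => Nat) (Bool.rec (motive := fun _ => Nat) (0x200004e000133) (0x400004e000135) (Nat.ble 290 i)) (Bool.rec (motive := fun _ => Nat) (0x200004f00031d) (0x400004f0003c0) (Nat.ble 292 i)) (Nat.ble 291 i)) (Bool.rec (motive := fun _ => Nat) (Bool.rec (motive := fun _ => Nat) (0x5000003f) (0x4000050000561) (Nat.ble 294 i)) (Bool.rec (motive := fun _ => Nat) (0x510001de) (0x1000051000348) (Nat.ble 296 i)) (Nat.ble 295 i)) (Nat.ble 293 i)) (Bool.rec (motive := fun _ => Nat) (Bool.rec (motive := fun _ => Nat) (Bool.rec (motive := fun _ => Nat) (0x3000051000891) (0x2000052000679) (Nat.ble 298 i)) (Bool.rec (motive := fun _ => Nat) (0x4000052000b21) (0x100005300024e) (Nat.ble 300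 i)) (Nat.ble 299 i)) (Bool.rec (motive := fun _ => Nat) (Bool.rec (motive := fun _ => Nat) (0x2000053000904) (0x3000053000abd) (Nat.ble 302 i)) (Bool.rec (motive := fun _ => Nat) (0x4000053000b24) (0x5500026f) (Nat.ble 304 i)) (Nat.ble 303 i)) (Nat.ble 301 i)) (Nat.ble 297 i)) (Nat.ble 289 i)) (Nat.ble 274 i))
noncomputable def CA0P_5 (i : Nat) : Nat := (Bool.rec (motive := fun _ => Nat) (Bool.rec (motive := fun _ => Nat) (Bool.rec (motive := fun _ => Nat) (Bool.rec (motive := fun _ => Nat) (Bool.rec (motive := fun _ => Nat) (0x3000055000047) (Bool.rec (motive := fun _ => Nat) (0x4000055000141) (0x5600084c) (Nat.ble 307 i)) (Nat.ble 306 i)) (Bool.rec (motive := fun _ => Nat) (Bool.rec (motive := fun _ => Nat) (0x10000560007da) (0x2000056000b2b) (Nat.ble 309 i)) (Bool.rec (motive := fun _ => Nat) (0x30000560004b6) (0x5700086c) (Nat.ble 311 i)) (Nat.ble 310 i)) (Nat.ble 308 i)) (Bool.rec (motive := fun _ => Nat) (Bool.rec (motive := fun _ => Nat) (Bool.rec (motive := fun _ => Nat) (0x1000057000893)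 (0x2000057000159) (Nat.ble 313 i)) (Bool.rec (motive := fun _ => Nat) (0x300005700055c) (0x400005700029f) (Nat.ble 315 i)) (Nat.ble 314 i)) (Bool.rec (motive := fun _ => Nat) (Bool.rec (motive := fun _ => Nat) (0x58000b38) (0x100005800032e) (Nat.ble 317 i)) (Bool.rec (motive := fun _ => Nat) (0x2000058000aaf) (0x3000058000b3b) (Nat.ble 319 i)) (Nat.ble 318 i)) (Nat.ble 316 i)) (Nat.ble 312 i)) (Bool.rec (motive := fun _ => Nat) (Bool.rec (motive := fun _ => Nat) (Bool.rec (motive := fun _ => Nat) (0x59000684) (Bool.rec (motive := fun _ => Nat) (0x1000059000685) (0x20000590000d3) (Nat.ble 322 i)) (Nat.ble 321 i)) (Bool.rec (motive := fun _ => Nat) (Bool.rec (motive := fun _ => Nat) (0x3000059000680) (0x5a00007d) (Nat.ble 324 i)) (Bool.rec (motive := fun _ => Nat) (0x200005a00025d) (0x300005a00004a) (Nat.ble 326 i)) (Nat.ble 325 i)) (Nat.ble 323 i)) (Bool.rec (motive := fun _ => Nat) (Bool.rec (motive := fun _ => Nat) (Bool.rec (motive := fun _ => Nat) (0x400005a000120) (0x5b000925) (Nat.ble 328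 i)) (Bool.rec (motive := fun _ => Nat) (0x100005b000750) (0x200005b000365) (Nat.ble 330 i)) (Nat.ble 329 i)) (Bool.rec (motive := fun _ => Nat) (Bool.rec (motive := fun _ => Nat) (0x300005b00058d) (0x100005c000056) (Nat.ble 332 i)) (Bool.rec (motive := fun _ => Nat) (0x200005c0000bd) (0x400005c0000bf) (Nat.ble 334 i)) (Nat.ble 333 i)) (Nat.ble 331 i)) (Nat.ble 327 i)) (Nat.ble 320 i)) (Bool.rec (motive := fun _ => Nat) (Bool.rec (motive := fun _ => Nat) (Bool.rec (motive := fun _ => Nat) (Bool.rec (motive := fun _ => Nat) (0x5d0000c0) (Bool.rec (motive := fun _ => Nat) (0x100005d0000c4) (0x200005d000413) (Nat.ble 337 i)) (Nat.ble 336 i)) (Bool.rec (motive := fun _ => Nat) (Bool.rec (motive := fun _ => Nat) (0x300005d000108) (0x400005d000532) (Nat.ble 339 i)) (Bool.rec (motive := fun _ => Nat) (0x200005e000049) (0x400005e00004b) (Nat.ble 341 i)) (Nat.ble 340 i)) (Nat.ble 338 i)) (Bool.rec (motive := fun _ => Nat) (Bool.rec (motive := fun _ => Nat) (Bool.rec (motive := fun _ => Nat) (0x5f000b1d)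 (0x100005f00010f) (Nat.ble 343 i)) (Bool.rec (motive := fun _ => Nat) (0x200005f00033d) (0x300005f000825) (Nat.ble 345 i)) (Nat.ble 344 i)) (Bool.rec (motive := fun _ => Nat) (Bool.rec (motive := fun _ => Nat) (0x6000082e) (0x10000600007ff) (Nat.ble 347 i)) (Bool.rec (motive := fun _ => Nat) (0x200006000017d) (0x30000600003a5) (Nat.ble 349 i)) (Nat.ble 348 i)) (Nat.ble 346 i)) (Nat.ble 342 i)) (Bool.rec (motive := fun _ => Nat) (Bool.rec (motive := fun _ => Nat) (Bool.rec (motive := fun _ => Nat) (Bool.rec (motive := fun _ => Nat) (0x40000600007d0) (0x61000bb0) (Nat.ble 351 i)) (Bool.rec (motive := fun _ => Nat) (0x1000061000af5) (0x2000061000bb1) (Nat.ble 353 i)) (Nat.ble 352 i)) (Bool.rec (motive := fun _ => Nat) (Bool.rec (motive := fun _ => Nat) (0x30000610005f7) (0x40000610007d3) (Nat.ble 355 i)) (Bool.rec (motive := fun _ => Nat) (0x62000634) (0x100006200062c) (Nat.ble 357 i)) (Nat.ble 356 i)) (Nat.ble 354 i)) (Bool.rec (motive := fun _ => Nat) (Bool.rec (motive := fun _ => Nat) (Bool.rec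 (motive := fun _ => Nat) (0x2000062000bb4) (0x3000062000479) (Nat.ble 359 i)) (Bool.rec (motive := fun _ => Nat) (0x4000062000355) (0x630005c7) (Nat.ble 361 i)) (Nat.ble 360 i)) (Bool.rec (motive := fun _ => Nat) (Bool.rec (motive := fun _ => Nat) (0x3000063000bb9) (0x40000630005a2) (Nat.ble 363 i)) (Bool.rec (motive := fun _ => Nat) (0x640002bf) (0x1000064000965) (Nat.ble 365 i)) (Nat.ble 364 i)) (Nat.ble 362 i)) (Nat.ble 358 i)) (Nat.ble 350 i)) (Nat.ble 335 i))
noncomputable def CA0P_6 (i : Nat) : Nat := (Bool.rec (motive := fun _ => Nat) (Bool.rec (motive := fun _ => Nat) (Bool.rec (motive := fun _ => Nat) (Bool.rec (motive := fun _ => Nat) (Bool.rec (motive := fun _ => Nat) (0x20000640009bd) (Bool.rec (motive := fun _ => Nat) (0x30000640004cf) (0x650003c1) (Nat.ble 368 i)) (Nat.ble 367 i)) (Bool.rec (motive := fun _ => Nat) (Bool.rec (motive := fun _ => Nat) (0x2000065000356) (0x30000650007eb) (Nat.ble 370 i)) (Bool.rec (motive := fun _ => Nat) (0x4000065000a66) (0x2000066000096) (Nat.ble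 372 i)) (Nat.ble 371 i)) (Nat.ble 369 i)) (Bool.rec (motive := fun _ => Nat) (Bool.rec (motive := fun _ => Nat) (Bool.rec (motive := fun _ => Nat) (0x300006600005f) (0x4000066000499) (Nat.ble 374 i)) (Bool.rec (motive := fun _ => Nat) (0x67000a02) (0x10000670009c0) (Nat.ble 376 i)) (Nat.ble 375 i)) (Bool.rec (motive := fun _ => Nat) (Bool.rec (motive := fun _ => Nat) (0x2000067000035) (0x3000067000a47) (Nat.ble 378 i)) (Bool.rec (motive := fun _ => Nat) (0x1000068000043) (0x200006800078b) (Nat.ble 380 i)) (Nat.ble 379 i)) (Nat.ble 377 i)) (Nat.ble 373 i)) (Bool.rec (motive := fun _ => Nat) (Bool.rec (motive := fun _ => Nat) (Bool.rec (motive := fun _ => Nat) (0x40000680007a4) (Bool.rec (motive := fun _ => Nat) (0x6900023d) (0x100006900000a) (Nat.ble 383 i)) (Nat.ble 382 i)) (Bool.rec (motive := fun _ => Nat) (Bool.rec (motive := fun _ => Nat) (0x20000690003ec) (0x4000069000278) (Nat.ble 385 i)) (Bool.rec (motive := fun _ => Nat) (0x6a000a07) (0x100006a0003ef) (Nat.ble 387 i)) (Nat.ble 386 i))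 (Nat.ble 384 i)) (Bool.rec (motive := fun _ => Nat) (Bool.rec (motive := fun _ => Nat) (Bool.rec (motive := fun _ => Nat) (0x200006a00028c) (0x300006a00063c) (Nat.ble 389 i)) (Bool.rec (motive := fun _ => Nat) (0x400006a000a7e) (0x6b000467) (Nat.ble 391 i)) (Nat.ble 390 i)) (Bool.rec (motive := fun _ => Nat) (Bool.rec (motive := fun _ => Nat) (0x200006b000a81) (0x300006b0007b7) (Nat.ble 393 i)) (Bool.rec (motive := fun _ => Nat) (0x6c000a76) (0x100006c000666) (Nat.ble 395 i)) (Nat.ble 394 i)) (Nat.ble 392 i)) (Nat.ble 388 i)) (Nat.ble 381 i)) (Bool.rec (motive := fun _ => Nat) (Bool.rec (motive := fun _ => Nat) (Bool.rec (motive := fun _ => Nat) (Bool.rec (motive := fun _ => Nat) (0x200006c000a85) (Bool.rec (motive := fun _ => Nat) (0x300006c000531) (0x400006c0002a4) (Nat.ble 398 i)) (Nat.ble 397 i)) (Bool.rec (motive := fun _ => Nat) (Bool.rec (motive := fun _ => Nat) (0x100006d00045e) (0x200006d00044f) (Nat.ble 400 i)) (Bool.rec (motive := fun _ => Nat) (0x300006d000a0f) (0x400006d000a8e)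 (Nat.ble 402 i)) (Nat.ble 401 i)) (Nat.ble 399 i)) (Bool.rec (motive := fun _ => Nat) (Bool.rec (motive := fun _ => Nat) (Bool.rec (motive := fun _ => Nat) (0x6e000cfe) (0x100006e0000b1) (Nat.ble 404 i)) (Bool.rec (motive := fun _ => Nat) (0x200006e000334) (0x400006e00064f) (Nat.ble 406 i)) (Nat.ble 405 i)) (Bool.rec (motive := fun _ => Nat) (Bool.rec (motive := fun _ => Nat) (0x6f0008fe) (0x200006f000347) (Nat.ble 408 i)) (Bool.rec (motive := fun _ => Nat) (0x300006f000062) (0x400006f0006af) (Nat.ble 410 i)) (Nat.ble 409 i)) (Nat.ble 407 i)) (Nat.ble 403 i)) (Bool.rec (motive := fun _ => Nat) (Bool.rec (motive := fun _ => Nat) (Bool.rec (motive := fun _ => Nat) (Bool.rec (motive := fun _ => Nat) (0x10000700004b3) (0x2000070000094) (Nat.ble 412 i)) (Bool.rec (motive := fun _ => Nat) (0x1000071000034) (0x2000071000a33) (Nat.ble 414 i)) (Nat.ble 413 i)) (Bool.rec (motive := fun _ => Nat) (Bool.rec (motive := fun _ => Nat) (0x4000071000641) (0x2000072000061) (Nat.ble 416 i)) (Bool.rec (motive :=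 fun _ => Nat) (0x4000072000063) (0x730000a4) (Nat.ble 418 i)) (Nat.ble 417 i)) (Nat.ble 415 i)) (Bool.rec (motive := fun _ => Nat) (Bool.rec (motive := fun _ => Nat) (Bool.rec (motive := fun _ => Nat) (0x10000730009a9) (0x200007300042b) (Nat.ble 420 i)) (Bool.rec (motive := fun _ => Nat) (0x3000073000a3e) (0x7400012f) (Nat.ble 422 i)) (Nat.ble 421 i)) (Bool.rec (motive := fun _ => Nat) (Bool.rec (motive := fun _ => Nat) (0x200007400014c) (0x30000740002a1) (Nat.ble 424 i)) (Bool.rec (motive := fun _ => Nat) (0x40000740002f8) (0x100007500049f) (Nat.ble 426 i)) (Nat.ble 425 i)) (Nat.ble 423 i)) (Nat.ble 419 i)) (Nat.ble 411 i)) (Nat.ble 396 i))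
noncomputable def CA0P_7 (i : Nat) : Nat := (Bool.rec (motive := fun _ => Nat) (Bool.rec (motive := fun _ => Nat) (Bool.rec (motive := fun _ => Nat) (Bool.rec (motive := fun _ => Nat) (Bool.rec (motive := fun _ => Nat) (0x3000075000309) (Bool.rec (motive := fun _ => Nat) (0x4000075000457) (0x760003ad) (Nat.ble 429 i)) (Nat.ble 428 i)) (Bool.rec (motive := fun _ => Nat) (Bool.rec (motive := fun _ => Nat) (0x100007600040d) (0x20000760005c8) (Nat.ble 431 i)) (Bool.rec (motive := fun _ => Nat) (0x300007600015b) (0x4000076000392) (Nat.ble 433 i)) (Nat.ble 432 i)) (Nat.ble 430 i)) (Bool.rec (motive := fun _ => Nat) (Bool.rec (motive := fun _ => Nat) (Bool.rec (motive := fun _ => Nat) (0x770002a2) (0x200007700032d) (Nat.ble 435 i)) (Bool.rec (motive := fun _ => Nat) (0x3000077000406) (0x40000770003e9) (Nat.ble 437 i)) (Nat.ble 436 i)) (Bool.rec (motive := fun _ => Nat) (Bool.rec (motive := fun _ => Nat) (0x780000a7) (0x10000780004ef) (Nat.ble 439 i)) (Bool.rec (motive := fun _ => Nat) (0x20000780004f0)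 (0x40000780004f2) (Nat.ble 441 i)) (Nat.ble 440 i)) (Nat.ble 438 i)) (Nat.ble 434 i)) (Bool.rec (motive := fun _ => Nat) (Bool.rec (motive := fun _ => Nat) (Bool.rec (motive := fun _ => Nat) (0x79000017) (Bool.rec (motive := fun _ => Nat) (0x10000790004f5) (0x2000079000508) (Nat.ble 444 i)) (Nat.ble 443 i)) (Bool.rec (motive := fun _ => Nat) (Bool.rec (motive := fun _ => Nat) (0x3000079000509) (0x400007900050b) (Nat.ble 446 i)) (Bool.rec (motive := fun _ => Nat) (0x200007a00051c) (0x400007a00011b) (Nat.ble 448 i)) (Nat.ble 447 i)) (Nat.ble 445 i)) (Bool.rec (motive := fun _ => Nat) (Bool.rec (motive := fun _ => Nat) (Bool.rec (motive := fun _ => Nat) (0x7b000522) (0x100007b000524) (Nat.ble 450 i)) (Bool.rec (motive := fun _ => Nat) (0x200007b000526) (0x300007b000528) (Nat.ble 452 i)) (Nat.ble 451 i)) (Bool.rec (motive := fun _ => Nat) (Bool.rec (motive := fun _ => Nat) (0x200007c000320) (0x400007c0001bc) (Nat.ble 454 i)) (Bool.rec (motive := fun _ => Nat) (0x100007d000428) (0x200007d000370)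 (Nat.ble 456 i)) (Nat.ble 455 i)) (Nat.ble 453 i)) (Nat.ble 449 i)) (Nat.ble 442 i)) (Bool.rec (motive := fun _ => Nat) (Bool.rec (motive := fun _ => Nat) (Bool.rec (motive := fun _ => Nat) (Bool.rec (motive := fun _ => Nat) (0x400007d0005ea) (Bool.rec (motive := fun _ => Nat) (0x7e000323) (0x100007e0007dd) (Nat.ble 459 i)) (Nat.ble 458 i)) (Bool.rec (motive := fun _ => Nat) (Bool.rec (motive := fun _ => Nat) (0x200007e0005de) (0x300007e000d41) (Nat.ble 461 i)) (Bool.rec (motive := fun _ => Nat) (0x400007e00021b) (0x200007f000d1e) (Nat.ble 463 i)) (Nat.ble 462 i)) (Nat.ble 460 i)) (Bool.rec (motive := fun _ => Nat) (Bool.rec (motive := fun _ => Nat) (Bool.rec (motive := fun _ => Nat) (0x400007f00041f) (0x80000647) (Nat.ble 465 i)) (Bool.rec (motive := fun _ => Nat) (0x1000080000cfb) (0x2000080000d1b) (Nat.ble 467 i)) (Nat.ble 466 i)) (Bool.rec (motive := fun _ => Nat) (Bool.rec (motive := fun _ => Nat) (0x3000080000764) (0x81000731) (Nat.ble 469 i)) (Bool.rec (motive := fun _ => Nat) (0x100008100066d)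 (0x200008100072c) (Nat.ble 471 i)) (Nat.ble 470 i)) (Nat.ble 468 i)) (Nat.ble 464 i)) (Bool.rec (motive := fun _ => Nat) (Bool.rec (motive := fun _ => Nat) (Bool.rec (motive := fun _ => Nat) (Bool.rec (motive := fun _ => Nat) (0x3000081000643) (0x4000081000d1c) (Nat.ble 473 i)) (Bool.rec (motive := fun _ => Nat) (0x82000a1d) (0x20000820001da) (Nat.ble 475 i)) (Nat.ble 474 i)) (Bool.rec (motive := fun _ => Nat) (Bool.rec (motive := fun _ => Nat) (0x4000082000394) (0x830004c5) (Nat.ble 477 i)) (Bool.rec (motive := fun _ => Nat) (0x30000830008b4) (0x40000830003d0) (Nat.ble 479 i)) (Nat.ble 478 i)) (Nat.ble 476 i)) (Bool.rec (motive := fun _ => Nat) (Bool.rec (motive := fun _ => Nat) (Bool.rec (motive := fun _ => Nat) (0x84000e0d) (0x300008400056c) (Nat.ble 481 i)) (Bool.rec (motive := fun _ => Nat) (0x85000408) (0x1000085000733) (Nat.ble 483 i)) (Nat.ble 482 i)) (Bool.rec (motive := fun _ => Nat) (Bool.rec (motive := fun _ => Nat) (0x20000850005a9) (0x4000085000422) (Nat.ble 485 i)) (Bool.rec (motive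 := fun _ => Nat) (0x8600055a) (0x100008600062b) (Nat.ble 487 i)) (Nat.ble 486 i)) (Nat.ble 484 i)) (Nat.ble 480 i)) (Nat.ble 472 i)) (Nat.ble 457 i))
noncomputable def CA0P_8 (i : Nat) : Nat := (Bool.rec (motive := fun _ => Nat) (Bool.rec (motive := fun _ => Nat) (Bool.rec (motive := fun _ => Nat) (Bool.rec (motive := fun _ => Nat) (Bool.rec (motive := fun _ => Nat) (0x20000860005bc) (Bool.rec (motive := fun _ => Nat) (0x3000086000e7d) (0x4000086000452) (Nat.ble 490 i)) (Nat.ble 489 i)) (Bool.rec (motive := fun _ => Nat) (Bool.rec (motive := fun _ => Nat) (0x10000870006f7) (0x3000087000d08) (Nat.ble 492 i)) (Bool.rec (motive := fun _ => Nat) (0x88000560) (0x10000880000b6) (Nat.ble 494 i)) (Nat.ble 493 i)) (Nat.ble 491 i)) (Bool.rec (motive := fun _ => Nat) (Bool.rec (motive := fun _ => Nat) (Bool.rec (motive := fun _ => Nat) (0x20000880008ab) (0x300008800004e) (Nat.ble 496 i)) (Bool.rec (motive := fun _ => Nat) (0x4000088000967) (0x1000089000039) (Nat.ble 498 i)) (Nat.ble 497 i)) (Bool.rec (motive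 := fun _ => Nat) (Bool.rec (motive := fun _ => Nat) (0x2000089000a39) (0x8a0003e0) (Nat.ble 500 i)) (Bool.rec (motive := fun _ => Nat) (0x200008a000439) (0x300008a0000be) (Nat.ble 502 i)) (Nat.ble 501 i)) (Nat.ble 499 i)) (Nat.ble 495 i)) (Bool.rec (motive := fun _ => Nat) (Bool.rec (motive := fun _ => Nat) (Bool.rec (motive := fun _ => Nat) (0x400008a000c0f) (Bool.rec (motive := fun _ => Nat) (0x100008b00081b) (0x200008b0001f3) (Nat.ble 505 i)) (Nat.ble 504 i)) (Bool.rec (motive := fun _ => Nat) (Bool.rec (motive := fun _ => Nat) (0x300008b0005ec) (0x8c000145) (Nat.ble 507 i)) (Bool.rec (motive := fun _ => Nat) (0x300008c000148) (0x8d000a42) (Nat.ble 509 i)) (Nat.ble 508 i)) (Nat.ble 506 i)) (Bool.rec (motive := fun _ => Nat) (Bool.rec (motive := fun _ => Nat) (Bool.rec (motive := fun _ => Nat) (0x200008d000afe) (0x8e0008db) (Nat.ble 511 i)) (Bool.rec (motive := fun _ => Nat) (0x100008e000082) (0x200008e000101) (Nat.ble 513 i)) (Nat.ble 512 i)) (Bool.rec (motive := fun _ => Nat) (Bool.rec (motive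 := fun _ => Nat) (0x300008e000d0a) (0x8f000369) (Nat.ble 515 i)) (Bool.rec (motive := fun _ => Nat) (0x100008f000a62) (0x200008f000377) (Nat.ble 517 i)) (Nat.ble 516 i)) (Nat.ble 514 i)) (Nat.ble 510 i)) (Nat.ble 503 i)) (Bool.rec (motive := fun _ => Nat) (Bool.rec (motive := fun _ => Nat) (Bool.rec (motive := fun _ => Nat) (Bool.rec (motive := fun _ => Nat) (0x300008f000a56) (Bool.rec (motive := fun _ => Nat) (0x400008f0001e1) (0x900007fd) (Nat.ble 520 i)) (Nat.ble 519 i)) (Bool.rec (motive := fun _ => Nat) (Bool.rec (motive := fun _ => Nat) (0x2000090000ed6) (0x30000900001f5) (Nat.ble 522 i)) (Bool.rec (motive := fun _ => Nat) (0x400009000037c) (0x910000c3) (Nat.ble 524 i)) (Nat.ble 523 i)) (Nat.ble 521 i)) (Bool.rec (motive := fun _ => Nat) (Bool.rec (motive := fun _ => Nat) (Bool.rec (motive := fun _ => Nat) (0x100009100055f) (0x3000091000295) (Nat.ble 526 i)) (Bool.rec (motive := fun _ => Nat) (0x400009100046b) (0x92000e27) (Nat.ble 528 i)) (Nat.ble 527 i)) (Bool.rec (motive := fun _ =>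 Nat) (Bool.rec (motive := fun _ => Nat) (0x100009200020b) (0x200009200056d) (Nat.ble 530 i)) (Bool.rec (motive := fun _ => Nat) (0x3000092000d03) (0x40000920003f1) (Nat.ble 532 i)) (Nat.ble 531 i)) (Nat.ble 529 i)) (Nat.ble 525 i)) (Bool.rec (motive := fun _ => Nat) (Bool.rec (motive := fun _ => Nat) (Bool.rec (motive := fun _ => Nat) (Bool.rec (motive := fun _ => Nat) (0x930000cc) (0x2000093000be4) (Nat.ble 534 i)) (Bool.rec (motive := fun _ => Nat) (0x30000930005e7) (0x4000093000a34) (Nat.ble 536 i)) (Nat.ble 535 i)) (Bool.rec (motive := fun _ => Nat) (Bool.rec (motive := fun _ => Nat) (0x9400007c) (0x1000094000ab3) (Nat.ble 538 i)) (Bool.rec (motive := fun _ => Nat) (0x2000094000a93) (0x3000094000b17) (Nat.ble 540 i)) (Nat.ble 539 i)) (Nat.ble 537 i)) (Bool.rec (motive := fun _ => Nat) (Bool.rec (motive := fun _ => Nat) (Bool.rec (motive := fun _ => Nat) (0x10000950008c7) (0x300009500052c) (Nat.ble 542 i)) (Bool.rec (motive := fun _ => Nat) (0x40000950007a0) (0x96000ee9) (Nat.ble 544 i))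 (Nat.ble 543 i)) (Bool.rec (motive := fun _ => Nat) (Bool.rec (motive := fun _ => Nat) (0x100009600021f) (0x20000960001c8) (Nat.ble 546 i)) (Bool.rec (motive := fun _ => Nat) (0x3000096000e42) (0x97000621) (Nat.ble 548 i)) (Nat.ble 547 i)) (Nat.ble 545 i)) (Nat.ble 541 i)) (Nat.ble 533 i)) (Nat.ble 518 i))
noncomputable def CA0P_9 (i : Nat) : Nat := (Bool.rec (motive := fun _ => Nat) (Bool.rec (motive := fun _ => Nat) (Bool.rec (motive := fun _ => Nat) (Bool.rec (motive := fun _ => Nat) (Bool.rec (motive := fun _ => Nat) (0x1000097000ba9) (Bool.rec (motive := fun _ => Nat) (0x20000970005c0) (0x30000970001b7) (Nat.ble 551 i)) (Nat.ble 550 i)) (Bool.rec (motive := fun _ => Nat) (Bool.rec (motive := fun _ => Nat) (0x400009700013f) (0x9800062f) (Nat.ble 553 i)) (Bool.rec (motive := fun _ => Nat) (0x2000098000eeb) (0x30000980005ba) (Nat.ble 555 i)) (Nat.ble 554 i)) (Nat.ble 552 i)) (Bool.rec (motive := fun _ => Nat) (Bool.rec (motive := fun _ => Nat) (Bool.rec (motive := fun _ => Nat) (0x4000098000510)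 (0x990003bd) (Nat.ble 557 i)) (Bool.rec (motive := fun _ => Nat) (0x20000990003d3) (0x300009900021c) (Nat.ble 559 i)) (Nat.ble 558 i)) (Bool.rec (motive := fun _ => Nat) (Bool.rec (motive := fun _ => Nat) (0x100009a0005c9) (0x200009a0005ca) (Nat.ble 561 i)) (Bool.rec (motive := fun _ => Nat) (0x300009a0005cb) (0x400009a000592) (Nat.ble 563 i)) (Nat.ble 562 i)) (Nat.ble 560 i)) (Nat.ble 556 i)) (Bool.rec (motive := fun _ => Nat) (Bool.rec (motive := fun _ => Nat) (Bool.rec (motive := fun _ => Nat) (0x100009b00014b) (Bool.rec (motive := fun _ => Nat) (0x200009b000279) (0x400009b00042a) (Nat.ble 566 i)) (Nat.ble 565 i)) (Bool.rec (motive := fun _ => Nat) (Bool.rec (motive := fun _ => Nat) (0x9c000bfd) (0x200009c0002e0) (Nat.ble 568 i)) (Bool.rec (motive := fun _ => Nat) (0x300009c000415) (0x400009c0006c2) (Nat.ble 570 i)) (Nat.ble 569 i)) (Nat.ble 567 i)) (Bool.rec (motive := fun _ => Nat) (Bool.rec (motive := fun _ => Nat) (Bool.rec (motive := fun _ => Nat) (0x9d000041) (0x100009d00096d) (Nat.ble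 572 i)) (Bool.rec (motive := fun _ => Nat) (0x300009d0003b9) (0x9e0002ff) (Nat.ble 574 i)) (Nat.ble 573 i)) (Bool.rec (motive := fun _ => Nat) (Bool.rec (motive := fun _ => Nat) (0x100009e000121) (0x200009e00011a) (Nat.ble 576 i)) (Bool.rec (motive := fun _ => Nat) (0x300009e0000ba) (0x400009e0005b8) (Nat.ble 578 i)) (Nat.ble 577 i)) (Nat.ble 575 i)) (Nat.ble 571 i)) (Nat.ble 564 i)) (Bool.rec (motive := fun _ => Nat) (Bool.rec (motive := fun _ => Nat) (Bool.rec (motive := fun _ => Nat) (Bool.rec (motive := fun _ => Nat) (0x9f000bb8) (Bool.rec (motive := fun _ => Nat) (0x100009f000b53) (0x200009f000ef2) (Nat.ble 581 i)) (Nat.ble 580 i)) (Bool.rec (motive := fun _ => Nat) (Bool.rec (motive := fun _ => Nat) (0x300009f00065f) (0x400009f000446) (Nat.ble 583 i)) (Bool.rec (motive := fun _ => Nat) (0x20000a0000625) (0x40000a0000626) (Nat.ble 585 i)) (Nat.ble 584 i)) (Nat.ble 582 i)) (Bool.rec (motive := fun _ => Nat) (Bool.rec (motive := fun _ => Nat) (Bool.rec (motive := fun _ => Nat) (0xa1000743)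 (0x10000a1000ad5) (Nat.ble 587 i)) (Bool.rec (motive := fun _ => Nat) (0x20000a1000701) (0x30000a1000e16) (Nat.ble 589 i)) (Nat.ble 588 i)) (Bool.rec (motive := fun _ => Nat) (Bool.rec (motive := fun _ => Nat) (0x20000a2000602) (0x40000a200061f) (Nat.ble 591 i)) (Bool.rec (motive := fun _ => Nat) (0x10000a3000273) (0x20000a3000ab9) (Nat.ble 593 i)) (Nat.ble 592 i)) (Nat.ble 590 i)) (Nat.ble 586 i)) (Bool.rec (motive := fun _ => Nat) (Bool.rec (motive := fun _ => Nat) (Bool.rec (motive := fun _ => Nat) (Bool.rec (motive := fun _ => Nat) (0x40000a30007a5) (0x10000a40001d7) (Nat.ble 595 i)) (Bool.rec (motive := fun _ => Nat) (0x20000a400048a) (0x30000a4000afc) (Nat.ble 597 i)) (Nat.ble 596 i)) (Bool.rec (motive := fun _ => Nat) (Bool.rec (motive := fun _ => Nat) (0xa50001a2) (0x30000a50001ab) (Nat.ble 599 i)) (Bool.rec (motive := fun _ => Nat) (0x10000a6000171) (0x20000a60007b3) (Nat.ble 601 i)) (Nat.ble 600 i)) (Nat.ble 598 i)) (Bool.rec (motive := fun _ => Nat) (Bool.rec (motive := fun _ => Nat)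 (Bool.rec (motive := fun _ => Nat) (0xa7000a16) (0x10000a7000749) (Nat.ble 603 i)) (Bool.rec (motive := fun _ => Nat) (0x20000a7000a20) (0x30000a7000a4a) (Nat.ble 605 i)) (Nat.ble 604 i)) (Bool.rec (motive := fun _ => Nat) (Bool.rec (motive := fun _ => Nat) (0x40000a7000ad9) (0xa80003d4) (Nat.ble 607 i)) (Bool.rec (motive := fun _ => Nat) (0x10000a800072e) (0x30000a80004a9) (Nat.ble 609 i)) (Nat.ble 608 i)) (Nat.ble 606 i)) (Nat.ble 602 i)) (Nat.ble 594 i)) (Nat.ble 579 i))
noncomputable def CA0P_10 (i : Nat) : Nat := (Bool.rec (motive := fun _ => Nat) (Bool.rec (motive := fun _ => Nat) (Bool.rec (motive := fun _ => Nat) (Bool.rec (motive := fun _ => Nat) (Bool.rec (motive := fun _ => Nat) (0x40000a80007e3) (Bool.rec (motive := fun _ => Nat) (0xa90001fd) (0x10000a90008ad) (Nat.ble 612 i)) (Nat.ble 611 i)) (Bool.rec (motive := fun _ => Nat) (Bool.rec (motive := fun _ => Nat) (0x20000a90001f6) (0x30000a90008c4) (Nat.ble 614 i)) (Bool.rec (motive := fun _ => Nat) (0x40000a9000367) (0xaa00070d)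 (Nat.ble 616 i)) (Nat.ble 615 i)) (Nat.ble 613 i)) (Bool.rec (motive := fun _ => Nat) (Bool.rec (motive := fun _ => Nat) (Bool.rec (motive := fun _ => Nat) (0x20000aa0004c7) (0x30000aa0009b7) (Nat.ble 618 i)) (Bool.rec (motive := fun _ => Nat) (0x40000aa00072b) (0xab000445) (Nat.ble 620 i)) (Nat.ble 619 i)) (Bool.rec (motive := fun _ => Nat) (Bool.rec (motive := fun _ => Nat) (0x10000ab000193) (0x20000ab000186) (Nat.ble 622 i)) (Bool.rec (motive := fun _ => Nat) (0x30000ab000659) (0xac0001ee) (Nat.ble 624 i)) (Nat.ble 623 i)) (Nat.ble 621 i)) (Nat.ble 617 i)) (Bool.rec (motive := fun _ => Nat) (Bool.rec (motive := fun _ => Nat) (Bool.rec (motive := fun _ => Nat) (0x10000ac000d27) (Bool.rec (motive := fun _ => Nat) (0x20000ac000e66) (0x30000ac00091c) (Nat.ble 627 i)) (Nat.ble 626 i)) (Bool.rec (motive := fun _ => Nat) (Bool.rec (motive := fun _ => Nat) (0x40000ac000ad1) (0x20000ad0001b5) (Nat.ble 629 i)) (Bool.rec (motive := fun _ => Nat) (0x40000ad000ce9) (0xae00084b) (Nat.ble 631 i)) (Nat.ble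 630 i)) (Nat.ble 628 i)) (Bool.rec (motive := fun _ => Nat) (Bool.rec (motive := fun _ => Nat) (Bool.rec (motive := fun _ => Nat) (0x10000ae000ca1) (0x20000ae00086f) (Nat.ble 633 i)) (Bool.rec (motive := fun _ => Nat) (0x30000ae000d86) (0xaf0008d0) (Nat.ble 635 i)) (Nat.ble 634 i)) (Bool.rec (motive := fun _ => Nat) (Bool.rec (motive := fun _ => Nat) (0x10000af00065c) (0x20000af00088f) (Nat.ble 637 i)) (Bool.rec (motive := fun _ => Nat) (0x30000af000be7) (0x40000af000e44) (Nat.ble 639 i)) (Nat.ble 638 i)) (Nat.ble 636 i)) (Nat.ble 632 i)) (Nat.ble 625 i)) (Bool.rec (motive := fun _ => Nat) (Bool.rec (motive := fun _ => Nat) (Bool.rec (motive := fun _ => Nat) (Bool.rec (motive := fun _ => Nat) (0xb000099f) (Bool.rec (motive := fun _ => Nat) (0x10000b00000f0) (0x30000b0000c39) (Nat.ble 642 i)) (Nat.ble 641 i)) (Bool.rec (motive := fun _ => Nat) (Bool.rec (motive := fun _ => Nat) (0x40000b00009e4) (0xb1000d4b) (Nat.ble 644 i)) (Bool.rec (motive := fun _ => Nat) (0x10000b10004e0) (0x30000b100080d)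 (Nat.ble 646 i)) (Nat.ble 645 i)) (Nat.ble 643 i)) (Bool.rec (motive := fun _ => Nat) (Bool.rec (motive := fun _ => Nat) (Bool.rec (motive := fun _ => Nat) (0xb2000ea1) (0x20000b20002f0) (Nat.ble 648 i)) (Bool.rec (motive := fun _ => Nat) (0x30000b2000a29) (0x40000b20002c6) (Nat.ble 650 i)) (Nat.ble 649 i)) (Bool.rec (motive := fun _ => Nat) (Bool.rec (motive := fun _ => Nat) (0xb300022f) (0x10000b3000277) (Nat.ble 652 i)) (Bool.rec (motive := fun _ => Nat) (0x20000b30001a6) (0x30000b3000883) (Nat.ble 654 i)) (Nat.ble 653 i)) (Nat.ble 651 i)) (Nat.ble 647 i)) (Bool.rec (motive := fun _ => Nat) (Bool.rec (motive := fun _ => Nat) (Bool.rec (motive := fun _ => Nat) (Bool.rec (motive := fun _ => Nat) (0x40000b3000816) (0xb4000abb) (Nat.ble 656 i)) (Bool.rec (motive := fun _ => Nat) (0x10000b40001a8) (0x20000b4000a2b) (Nat.ble 658 i)) (Nat.ble 657 i)) (Bool.rec (motive := fun _ => Nat) (Bool.rec (motive := fun _ => Nat) (0x30000b4000bc7) (0x40000b40007ab) (Nat.ble 660 i)) (Bool.rec (motive := fun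 _ => Nat) (0x20000b50009d8) (0x30000b5000216) (Nat.ble 662 i)) (Nat.ble 661 i)) (Nat.ble 659 i)) (Bool.rec (motive := fun _ => Nat) (Bool.rec (motive := fun _ => Nat) (Bool.rec (motive := fun _ => Nat) (0x40000b5000856) (0xb6000bfb) (Nat.ble 664 i)) (Bool.rec (motive := fun _ => Nat) (0x20000b6000398) (0x10000b7000a60) (Nat.ble 666 i)) (Nat.ble 665 i)) (Bool.rec (motive := fun _ => Nat) (Bool.rec (motive := fun _ => Nat) (0x30000b700006c) (0x40000b7000813) (Nat.ble 668 i)) (Bool.rec (motive := fun _ => Nat) (0xb80005ab) (0x20000b8000462) (Nat.ble 670 i)) (Nat.ble 669 i)) (Nat.ble 667 i)) (Nat.ble 663 i)) (Nat.ble 655 i)) (Nat.ble 640 i))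
noncomputable def CA0P_11 (i : Nat) : Nat := (Bool.rec (motive := fun _ => Nat) (Bool.rec (motive := fun _ => Nat) (Bool.rec (motive := fun _ => Nat) (Bool.rec (motive := fun _ => Nat) (Bool.rec (motive := fun _ => Nat) (0x30000b8000384) (Bool.rec (motive := fun _ => Nat) (0x40000b800031c) (0xb9000078) (Nat.ble 673 i)) (Nat.ble 672 i)) (Bool.rec (motive := fun _ => Nat) (Bool.rec (motive := fun _ => Nat) (0x20000b900007b) (0x30000b9000071) (Nat.ble 675 i)) (Bool.rec (motive := fun _ => Nat) (0xba000a98) (0x10000ba0003f2) (Nat.ble 677 i)) (Nat.ble 676 i)) (Nat.ble 674 i)) (Bool.rec (motive := fun _ => Nat) (Bool.rec (motive := fun _ => Nat) (Bool.rec (motive := fun _ => Nat) (0x20000ba000418) (0x30000ba000a7d) (Nat.ble 679 i)) (Bool.rec (motive := fun _ => Nat) (0xbb000601) (0x10000bb000892) (Nat.ble 681 i)) (Nat.ble 680 i)) (Bool.rec (motive := fun _ => Nat) (Bool.rec (motive := fun _ => Nat) (0x40000bb000074) (0xbc0005a8) (Nat.ble 683 i)) (Bool.rec (motive := fun _ => Nat) (0x10000bc00055b)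 (0x20000bc00062a) (Nat.ble 685 i)) (Nat.ble 684 i)) (Nat.ble 682 i)) (Nat.ble 678 i)) (Bool.rec (motive := fun _ => Nat) (Bool.rec (motive := fun _ => Nat) (Bool.rec (motive := fun _ => Nat) (0x30000bc0008e9) (Bool.rec (motive := fun _ => Nat) (0x40000bc0007d7) (0xbd000218) (Nat.ble 688 i)) (Nat.ble 687 i)) (Bool.rec (motive := fun _ => Nat) (Bool.rec (motive := fun _ => Nat) (0x10000bd0008ca) (0x20000bd0009a3) (Nat.ble 690 i)) (Bool.rec (motive := fun _ => Nat) (0x30000bd000681) (0x40000bd0005f6) (Nat.ble 692 i)) (Nat.ble 691 i)) (Nat.ble 689 i)) (Bool.rec (motive := fun _ => Nat) (Bool.rec (motive := fun _ => Nat) (Bool.rec (motive := fun _ => Nat) (0xbe0008d4) (0x20000be000704) (Nat.ble 694 i)) (Bool.rec (motive := fun _ => Nat) (0x30000be000a51) (0x40000be000d6c) (Nat.ble 696 i)) (Nat.ble 695 i)) (Bool.rec (motive := fun _ => Nat) (Bool.rec (motive := fun _ => Nat) (0xbf000449) (0x10000bf000080) (Nat.ble 698 i)) (Bool.rec (motive := fun _ => Nat) (0x20000bf000a97) (0x30000bf0009f4) (Nat.ble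 700 i)) (Nat.ble 699 i)) (Nat.ble 697 i)) (Nat.ble 693 i)) (Nat.ble 686 i)) (Bool.rec (motive := fun _ => Nat) (Bool.rec (motive := fun _ => Nat) (Bool.rec (motive := fun _ => Nat) (Bool.rec (motive := fun _ => Nat) (0x10000c0000281) (Bool.rec (motive := fun _ => Nat) (0x20000c000090d) (0x40000c0000906) (Nat.ble 703 i)) (Nat.ble 702 i)) (Bool.rec (motive := fun _ => Nat) (Bool.rec (motive := fun _ => Nat) (0xc1000380) (0x10000c100007e) (Nat.ble 705 i)) (Bool.rec (motive := fun _ => Nat) (0x20000c100042c) (0x40000c10009da) (Nat.ble 707 i)) (Nat.ble 706 i)) (Nat.ble 704 i)) (Bool.rec (motive := fun _ => Nat) (Bool.rec (motive := fun _ => Nat) (Bool.rec (motive := fun _ => Nat) (0x20000c2000210) (0x40000c200097d) (Nat.ble 709 i)) (Bool.rec (motive := fun _ => Nat) (0x10000c3000aa0) (0xc4000385) (Nat.ble 711 i)) (Nat.ble 710 i)) (Bool.rec (motive := fun _ => Nat) (Bool.rec (motive := fun _ => Nat) (0x10000c40002b9) (0x20000c4000790) (Nat.ble 713 i)) (Bool.rec (motive := fun _ => Nat) (0x30000c400025a)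 (0x40000c40008f4) (Nat.ble 715 i)) (Nat.ble 714 i)) (Nat.ble 712 i)) (Nat.ble 708 i)) (Bool.rec (motive := fun _ => Nat) (Bool.rec (motive := fun _ => Nat) (Bool.rec (motive := fun _ => Nat) (Bool.rec (motive := fun _ => Nat) (0xc5000b83) (0x10000c5000805) (Nat.ble 717 i)) (Bool.rec (motive := fun _ => Nat) (0x20000c50005d1) (0x30000c50009cd) (Nat.ble 719 i)) (Nat.ble 718 i)) (Bool.rec (motive := fun _ => Nat) (Bool.rec (motive := fun _ => Nat) (0x40000c5000622) (0xc6000065) (Nat.ble 721 i)) (Bool.rec (motive := fun _ => Nat) (0x10000c60005e0) (0x30000c6000c99) (Nat.ble 723 i)) (Nat.ble 722 i)) (Nat.ble 720 i)) (Bool.rec (motive := fun _ => Nat) (Bool.rec (motive := fun _ => Nat) (Bool.rec (motive := fun _ => Nat) (0x40000c60000c5) (0xc7000506) (Nat.ble 725 i)) (Bool.rec (motive := fun _ => Nat) (0x20000c70006c0) (0x30000c700096c) (Nat.ble 727 i)) (Nat.ble 726 i)) (Bool.rec (motive := fun _ => Nat) (Bool.rec (motive := fun _ => Nat) (0x40000c7000a8c) (0xc80009c4) (Nat.ble 729 i)) (Bool.rec (motive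 := fun _ => Nat) (0x10000c8000651) (0x30000c8000acc) (Nat.ble 731 i)) (Nat.ble 730 i)) (Nat.ble 728 i)) (Nat.ble 724 i)) (Nat.ble 716 i)) (Nat.ble 701 i))
noncomputable def CA0P_12 (i : Nat) : Nat := (Bool.rec (motive := fun _ => Nat) (Bool.rec (motive := fun _ => Nat) (Bool.rec (motive := fun _ => Nat) (Bool.rec (motive := fun _ => Nat) (Bool.rec (motive := fun _ => Nat) (0x40000c800075d) (Bool.rec (motive := fun _ => Nat) (0x20000c9000609) (0x30000c900061e) (Nat.ble 734 i)) (Nat.ble 733 i)) (Bool.rec (motive := fun _ => Nat) (Bool.rec (motive := fun _ => Nat) (0x40000c90004e5) (0xca000220) (Nat.ble 736 i)) (Bool.rec (motive := fun _ => Nat) (0x10000ca000620) (0x20000ca0001b6) (Nat.ble 738 i)) (Nat.ble 737 i)) (Nat.ble 735 i)) (Bool.rec (motive := fun _ => Nat) (Bool.rec (motive := fun _ => Nat) (Bool.rec (motive := fun _ => Nat) (0x30000ca00093e) (0x40000ca0007e6) (Nat.ble 740 i)) (Bool.rec (motive := fun _ => Nat) (0xcb0000dd) (0x20000cb00079d) (Nat.ble 742 i)) (Nat.ble 741 i)) (Bool.rec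 (motive := fun _ => Nat) (Bool.rec (motive := fun _ => Nat) (0xcc000807) (0x10000cc0007ae) (Nat.ble 744 i)) (Bool.rec (motive := fun _ => Nat) (0x20000cc000100) (0x30000cc00075b) (Nat.ble 746 i)) (Nat.ble 745 i)) (Nat.ble 743 i)) (Nat.ble 739 i)) (Bool.rec (motive := fun _ => Nat) (Bool.rec (motive := fun _ => Nat) (Bool.rec (motive := fun _ => Nat) (0x30000cd000228) (Bool.rec (motive := fun _ => Nat) (0x40000cd000285) (0xce00011f) (Nat.ble 749 i)) (Nat.ble 748 i)) (Bool.rec (motive := fun _ => Nat) (Bool.rec (motive := fun _ => Nat) (0x10000ce0003a3) (0x20000ce00039d) (Nat.ble 751 i)) (Bool.rec (motive := fun _ => Nat) (0x30000ce000cce) (0xcf000ac4) (Nat.ble 753 i)) (Nat.ble 752 i)) (Nat.ble 750 i)) (Bool.rec (motive := fun _ => Nat) (Bool.rec (motive := fun _ => Nat) (Bool.rec (motive := fun _ => Nat) (0x30000cf000224) (0xd0000a0a) (Nat.ble 755 i)) (Bool.rec (motive := fun _ => Nat) (0x10000d000044e) (0x30000d00006bf) (Nat.ble 757 i)) (Nat.ble 756 i)) (Bool.rec (motive := fun _ => Nat) (Bool.rec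 (motive := fun _ => Nat) (0x10000d1000414) (0x20000d10001c4) (Nat.ble 759 i)) (Bool.rec (motive := fun _ => Nat) (0x30000d10009f2) (0x40000d10007e2) (Nat.ble 761 i)) (Nat.ble 760 i)) (Nat.ble 758 i)) (Nat.ble 754 i)) (Nat.ble 747 i)) (Bool.rec (motive := fun _ => Nat) (Bool.rec (motive := fun _ => Nat) (Bool.rec (motive := fun _ => Nat) (Bool.rec (motive := fun _ => Nat) (0xd20001dc) (Bool.rec (motive := fun _ => Nat) (0x30000d200091a) (0x40000d20003d1) (Nat.ble 764 i)) (Nat.ble 763 i)) (Bool.rec (motive := fun _ => Nat) (Bool.rec (motive := fun _ => Nat) (0xd30000d8) (0x30000d300015a) (Nat.ble 766 i)) (Bool.rec (motive := fun _ => Nat) (0x40000d3000055) (0xd4000a15) (Nat.ble 768 i)) (Nat.ble 767 i)) (Nat.ble 765 i)) (Bool.rec (motive := fun _ => Nat) (Bool.rec (motive := fun _ => Nat) (Bool.rec (motive := fun _ => Nat) (0x20000d4000140) (0x30000d4000086) (Nat.ble 770 i)) (Bool.rec (motive := fun _ => Nat) (0x40000d40005b6) (0xd50003da) (Nat.ble 772 i)) (Nat.ble 771 i)) (Bool.rec (motive :=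 fun _ => Nat) (Bool.rec (motive := fun _ => Nat) (0x10000d500001a) (0x30000d50003ff) (Nat.ble 774 i)) (Bool.rec (motive := fun _ => Nat) (0x10000d6000318) (0x20000d6000102) (Nat.ble 776 i)) (Nat.ble 775 i)) (Nat.ble 773 i)) (Nat.ble 769 i)) (Bool.rec (motive := fun _ => Nat) (Bool.rec (motive := fun _ => Nat) (Bool.rec (motive := fun _ => Nat) (Bool.rec (motive := fun _ => Nat) (0x30000d60001c2) (0x40000d60003aa) (Nat.ble 778 i)) (Bool.rec (motive := fun _ => Nat) (0xd7000b29) (0x10000d7000c0e) (Nat.ble 780 i)) (Nat.ble 779 i)) (Bool.rec (motive := fun _ => Nat) (Bool.rec (motive := fun _ => Nat) (0x20000d70002d8) (0x30000d70007bd) (Nat.ble 782 i)) (Bool.rec (motive := fun _ => Nat) (0x40000d70007f3) (0x40000d800037a) (Nat.ble 784 i)) (Nat.ble 783 i)) (Nat.ble 781 i)) (Bool.rec (motive := fun _ => Nat) (Bool.rec (motive := fun _ => Nat) (Bool.rec (motive := fun _ => Nat) (0xd9000e48) (0x10000d90003bc) (Nat.ble 786 i)) (Bool.rec (motive := fun _ => Nat) (0x20000d900098a) (0x30000d9000ddc) (Nat.ble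 788 i)) (Nat.ble 787 i)) (Bool.rec (motive := fun _ => Nat) (Bool.rec (motive := fun _ => Nat) (0x10000da000b08) (0x30000da00045c) (Nat.ble 790 i)) (Bool.rec (motive := fun _ => Nat) (0x40000da00077c) (0xdb0007f7) (Nat.ble 792 i)) (Nat.ble 791 i)) (Nat.ble 789 i)) (Nat.ble 785 i)) (Nat.ble 777 i)) (Nat.ble 762 i))
noncomputable def CA0P_13 (i : Nat) : Nat := (Bool.rec (motive := fun _ => Nat) (Bool.rec (motive := fun _ => Nat) (Bool.rec (motive := fun _ => Nat) (Bool.rec (motive := fun _ => Nat) (Bool.rec (motive := fun _ => Nat) (0x20000db0007fb) (Bool.rec (motive := fun _ => Nat) (0x40000db00072d) (0x20000dc00030a) (Nat.ble 795 i)) (Nat.ble 794 i)) (Bool.rec (motive := fun _ => Nat) (Bool.rec (motive := fun _ => Nat) (0xdd000b07) (0x10000dd00030d) (Nat.ble 797 i)) (Bool.rec (motive := fun _ => Nat) (0x20000dd0008bb) (0x30000dd00036f) (Nat.ble 799 i)) (Nat.ble 798 i)) (Nat.ble 796 i)) (Bool.rec (motive := fun _ => Nat) (Bool.rec (motive := fun _ => Nat) (Bool.rec (motive := fun _ => Nat) (0x20000de0001ae)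 (0x40000de0001b2) (Nat.ble 801 i)) (Bool.rec (motive := fun _ => Nat) (0xdf000724) (0x10000df000931) (Nat.ble 803 i)) (Nat.ble 802 i)) (Bool.rec (motive := fun _ => Nat) (Bool.rec (motive := fun _ => Nat) (0x20000df000cae) (0x30000df000db5) (Nat.ble 805 i)) (Bool.rec (motive := fun _ => Nat) (0xe000037e) (0x20000e00000f7) (Nat.ble 807 i)) (Nat.ble 806 i)) (Nat.ble 804 i)) (Nat.ble 800 i)) (Bool.rec (motive := fun _ => Nat) (Bool.rec (motive := fun _ => Nat) (Bool.rec (motive := fun _ => Nat) (0x30000e00003f9) (Bool.rec (motive := fun _ => Nat) (0x40000e0000af1) (0xe100099a) (Nat.ble 810 i)) (Nat.ble 809 i)) (Bool.rec (motive := fun _ => Nat) (Bool.rec (motive := fun _ => Nat) (0x10000e10005dd) (0x20000e20002f7) (Nat.ble 812 i)) (Bool.rec (motive := fun _ => Nat) (0x40000e2000624) (0xe300037f) (Nat.ble 814 i)) (Nat.ble 813 i)) (Nat.ble 811 i)) (Bool.rec (motive := fun _ => Nat) (Bool.rec (motive := fun _ => Nat) (Bool.rec (motive := fun _ => Nat) (0xe4000a9b) (0x20000e40001d4) (Nat.ble 816 i))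 (Bool.rec (motive := fun _ => Nat) (0x30000e4000213) (0x20000e500048d) (Nat.ble 818 i)) (Nat.ble 817 i)) (Bool.rec (motive := fun _ => Nat) (Bool.rec (motive := fun _ => Nat) (0x30000e50000d5) (0x40000e500033a) (Nat.ble 820 i)) (Bool.rec (motive := fun _ => Nat) (0xe6000858) (0x10000e600010a) (Nat.ble 822 i)) (Nat.ble 821 i)) (Nat.ble 819 i)) (Nat.ble 815 i)) (Nat.ble 808 i)) (Bool.rec (motive := fun _ => Nat) (Bool.rec (motive := fun _ => Nat) (Bool.rec (motive := fun _ => Nat) (Bool.rec (motive := fun _ => Nat) (0x20000e6000077) (Bool.rec (motive := fun _ => Nat) (0xe70000c1) (0x10000e700014e) (Nat.ble 825 i)) (Nat.ble 824 i)) (Bool.rec (motive := fun _ => Nat) (Bool.rec (motive := fun _ => Nat) (0x30000e7000ba3) (0x40000e7000ba5) (Nat.ble 827 i)) (Bool.rec (motive := fun _ => Nat) (0xe8000d52) (0x10000e8000085) (Nat.ble 829 i)) (Nat.ble 828 i)) (Nat.ble 826 i)) (Bool.rec (motive := fun _ => Nat) (Bool.rec (motive := fun _ => Nat) (Bool.rec (motive := fun _ => Nat) (0x20000e8000a3d) (0x30000e8000713)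 (Nat.ble 831 i)) (Bool.rec (motive := fun _ => Nat) (0x10000e9000a52) (0x20000e9000606) (Nat.ble 833 i)) (Nat.ble 832 i)) (Bool.rec (motive := fun _ => Nat) (Bool.rec (motive := fun _ => Nat) (0x30000e9000cf7) (0x40000e9000397) (Nat.ble 835 i)) (Bool.rec (motive := fun _ => Nat) (0xea000dfe) (0x30000ea0005ee) (Nat.ble 837 i)) (Nat.ble 836 i)) (Nat.ble 834 i)) (Nat.ble 830 i)) (Bool.rec (motive := fun _ => Nat) (Bool.rec (motive := fun _ => Nat) (Bool.rec (motive := fun _ => Nat) (Bool.rec (motive := fun _ => Nat) (0x40000ea0008c5) (0xeb000088) (Nat.ble 839 i)) (Bool.rec (motive := fun _ => Nat) (0x20000eb0004d3) (0x30000ec0006f5) (Nat.ble 841 i)) (Nat.ble 840 i)) (Bool.rec (motive := fun _ => Nat) (Bool.rec (motive := fun _ => Nat) (0x40000ec0004b4) (0xee0004af) (Nat.ble 843 i)) (Bool.rec (motive := fun _ => Nat) (0x30000ee00031f) (0x30000ef000548) (Nat.ble 845 i)) (Nat.ble 844 i)) (Nat.ble 842 i)) (Bool.rec (motive := fun _ => Nat) (Bool.rec (motive := fun _ => Nat) (Bool.rec (motive := fun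 _ => Nat) (0x30000f0000e2b) (0x40000f0000095) (Nat.ble 847 i)) (Bool.rec (motive := fun _ => Nat) (0x20000f100081d) (0x40000f1000a64) (Nat.ble 849 i)) (Nat.ble 848 i)) (Bool.rec (motive := fun _ => Nat) (Bool.rec (motive := fun _ => Nat) (0xf20004a1) (0xf3000a17) (Nat.ble 851 i)) (Bool.rec (motive := fun _ => Nat) (0x10000f30007d5) (0x20000f3000a50) (Nat.ble 853 i)) (Nat.ble 852 i)) (Nat.ble 850 i)) (Nat.ble 846 i)) (Nat.ble 838 i)) (Nat.ble 823 i))
noncomputable def CA0P_14 (i : Nat) : Nat := (Bool.rec (motive := fun _ => Nat) (Bool.rec (motive := fun _ => Nat) (Bool.rec (motive := fun _ => Nat) (Bool.rec (motive := fun _ => Nat) (Bool.rec (motive := fun _ => Nat) (0x30000f30001fb) (Bool.rec (motive := fun _ => Nat) (0x40000f3000ae4) (0xf400009c) (Nat.ble 856 i)) (Nat.ble 855 i)) (Bool.rec (motive := fun _ => Nat) (Bool.rec (motive := fun _ => Nat) (0x30000f40004da) (0xf500049c) (Nat.ble 858 i)) (Bool.rec (motive := fun _ => Nat) (0x20000f50004dc) (0x30000f5000011) (Nat.ble 860 i)) (Nat.ble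 859 i)) (Nat.ble 857 i)) (Bool.rec (motive := fun _ => Nat) (Bool.rec (motive := fun _ => Nat) (Bool.rec (motive := fun _ => Nat) (0x40000f500023f) (0x10000f600054b) (Nat.ble 862 i)) (Bool.rec (motive := fun _ => Nat) (0x30000f6000887) (0x30000f7000908) (Nat.ble 864 i)) (Nat.ble 863 i)) (Bool.rec (motive := fun _ => Nat) (Bool.rec (motive := fun _ => Nat) (0x20000f8000959) (0x40000f800080e) (Nat.ble 866 i)) (Bool.rec (motive := fun _ => Nat) (0xf90004a2) (0x20000f90004aa) (Nat.ble 868 i)) (Nat.ble 867 i)) (Nat.ble 865 i)) (Nat.ble 861 i)) (Bool.rec (motive := fun _ => Nat) (Bool.rec (motive := fun _ => Nat) (Bool.rec (motive := fun _ => Nat) (0x30000fa00023e) (Bool.rec (motive := fun _ => Nat) (0x30000fb000e2c) (0x20000fc000e2f) (Nat.ble 871 i)) (Nat.ble 870 i)) (Bool.rec (motive := fun _ => Nat) (Bool.rec (motive := fun _ => Nat) (0x40000fc000e31) (0xfd00072f) (Nat.ble 873 i)) (Bool.rec (motive := fun _ => Nat) (0x20000fe00062d) (0x40000fe000038) (Nat.ble 875 i)) (Nat.ble 874 i)) (Nat.ble 872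 i)) (Bool.rec (motive := fun _ => Nat) (Bool.rec (motive := fun _ => Nat) (Bool.rec (motive := fun _ => Nat) (0xff000b13) (0x10000ff0003b6) (Nat.ble 877 i)) (Bool.rec (motive := fun _ => Nat) (0x20000ff00065a) (0x30000ff000331) (Nat.ble 879 i)) (Nat.ble 878 i)) (Bool.rec (motive := fun _ => Nat) (Bool.rec (motive := fun _ => Nat) (0x40000ff000c1e) (0x2000102000d23) (Nat.ble 881 i)) (Bool.rec (motive := fun _ => Nat) (0x400010200059f) (0x103000a46) (Nat.ble 883 i)) (Nat.ble 882 i)) (Nat.ble 880 i)) (Nat.ble 876 i)) (Nat.ble 869 i)) (Bool.rec (motive := fun _ => Nat) (Bool.rec (motive := fun _ => Nat) (Bool.rec (motive := fun _ => Nat) (Bool.rec (motive := fun _ => Nat) (0x200010400038c) (Bool.rec (motive := fun _ => Nat) (0x1050004b5) (0x20001050004b8) (Nat.ble 886 i)) (Nat.ble 885 i)) (Bool.rec (motive := fun _ => Nat) (Bool.rec (motive := fun _ => Nat) (0x30001050004ba) (0x40001050004bc) (Nat.ble 888 i)) (Bool.rec (motive := fun _ => Nat) (0x1060001a5) (0x10001060000d7) (Nat.ble 890 i)) (Nat.ble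 889 i)) (Nat.ble 887 i)) (Bool.rec (motive := fun _ => Nat) (Bool.rec (motive := fun _ => Nat) (Bool.rec (motive := fun _ => Nat) (0x300010600015c) (0x1070004bd) (Nat.ble 892 i)) (Bool.rec (motive := fun _ => Nat) (0x3000107000ad7) (0x400010700042e) (Nat.ble 894 i)) (Nat.ble 893 i)) (Bool.rec (motive := fun _ => Nat) (Bool.rec (motive := fun _ => Nat) (0x108000cd2) (0x3000108000341) (Nat.ble 896 i)) (Bool.rec (motive := fun _ => Nat) (0x4000108000cd9) (0x30001090004d1) (Nat.ble 898 i)) (Nat.ble 897 i)) (Nat.ble 895 i)) (Nat.ble 891 i)) (Bool.rec (motive := fun _ => Nat) (Bool.rec (motive := fun _ => Nat) (Bool.rec (motive := fun _ => Nat) (Bool.rec (motive := fun _ => Nat) (0x10a0004bf) (0x100010a000a22) (Nat.ble 900 i)) (Bool.rec (motive := fun _ => Nat) (0x200010a000565) (0x300010a000e89) (Nat.ble 902 i)) (Nat.ble 901 i)) (Bool.rec (motive := fun _ => Nat) (Bool.rec (motive := fun _ => Nat) (0x400010a0003bf) (0x200010b000ace) (Nat.ble 904 i)) (Bool.rec (motive := fun _ => Nat) (0x400010b000514)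 (0x10c000443) (Nat.ble 906 i)) (Nat.ble 905 i)) (Nat.ble 903 i)) (Bool.rec (motive := fun _ => Nat) (Bool.rec (motive := fun _ => Nat) (Bool.rec (motive := fun _ => Nat) (0x300010c000920) (0x100010d000205) (Nat.ble 908 i)) (Bool.rec (motive := fun _ => Nat) (0x200010d0005c2) (0x200010e000806) (Nat.ble 910 i)) (Nat.ble 909 i)) (Bool.rec (motive := fun _ => Nat) (Bool.rec (motive := fun _ => Nat) (0x400010e000209) (0x200010f000342) (Nat.ble 912 i)) (Bool.rec (motive := fun _ => Nat) (0x300010f000a45) (0x400010f0000b4) (Nat.ble 914 i)) (Nat.ble 913 i)) (Nat.ble 911 i)) (Nat.ble 907 i)) (Nat.ble 899 i)) (Nat.ble 884 i))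
noncomputable def CA0P_15 (i : Nat) : Nat := (Bool.rec (motive := fun _ => Nat) (Bool.rec (motive := fun _ => Nat) (Bool.rec (motive := fun _ => Nat) (Bool.rec (motive := fun _ => Nat) (Bool.rec (motive := fun _ => Nat) (0x110000a49) (Bool.rec (motive := fun _ => Nat) (0x20001100007ac) (0x400011000019e) (Nat.ble 917 i)) (Nat.ble 916 i)) (Bool.rec (motive := fun _ => Nat) (Bool.rec (motive := fun _ => Nat) (0x1110004d2) (0x2000111000803) (Nat.ble 919 i)) (Bool.rec (motive := fun _ => Nat) (0x3000111000340) (0x4000111000dfa) (Nat.ble 921 i)) (Nat.ble 920 i)) (Nat.ble 918 i)) (Bool.rec (motive := fun _ => Nat) (Bool.rec (motive := fun _ => Nat) (Bool.rec (motive := fun _ => Nat) (0x11200051a) (0x10001120003cb) (Nat.ble 923 i)) (Bool.rec (motive := fun _ => Nat) (0x3000112000c93) (0x40001120005ed) (Nat.ble 925 i)) (Nat.ble 924 i)) (Bool.rec (motive := fun _ => Nat) (Bool.rec (motive := fun _ => Nat) (0x113000595) (0x30001130009fc) (Nat.ble 927 i)) (Bool.rec (motive := fun _ => Nat) (0x1140001aa)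 (0x2000114000376) (Nat.ble 929 i)) (Nat.ble 928 i)) (Nat.ble 926 i)) (Nat.ble 922 i)) (Bool.rec (motive := fun _ => Nat) (Bool.rec (motive := fun _ => Nat) (Bool.rec (motive := fun _ => Nat) (0x30001140009dd) (Bool.rec (motive := fun _ => Nat) (0x4000114000099) (0x115000e12) (Nat.ble 932 i)) (Nat.ble 931 i)) (Bool.rec (motive := fun _ => Nat) (Bool.rec (motive := fun _ => Nat) (0x10001150009f9) (0x20001150009bc) (Nat.ble 934 i)) (Bool.rec (motive := fun _ => Nat) (0x3000115000598) (0x4000115000371) (Nat.ble 936 i)) (Nat.ble 935 i)) (Nat.ble 933 i)) (Bool.rec (motive := fun _ => Nat) (Bool.rec (motive := fun _ => Nat) (Bool.rec (motive := fun _ => Nat) (0x2000116000f1e) (0x40001160008ec) (Nat.ble 938 i)) (Bool.rec (motive := fun _ => Nat) (0x117000d0e) (0x1000117000142) (Nat.ble 940 i)) (Nat.ble 939 i)) (Bool.rec (motive := fun _ => Nat) (Bool.rec (motive := fun _ => Nat) (0x2000119000c24) (0x40001190006d5) (Nat.ble 942 i)) (Bool.rec (motive := fun _ => Nat) (0x11a000df0) (0x100011a00031b) (Nat.ble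 944 i)) (Nat.ble 943 i)) (Nat.ble 941 i)) (Nat.ble 937 i)) (Nat.ble 930 i)) (Bool.rec (motive := fun _ => Nat) (Bool.rec (motive := fun _ => Nat) (Bool.rec (motive := fun _ => Nat) (Bool.rec (motive := fun _ => Nat) (0x300011a0000ec) (Bool.rec (motive := fun _ => Nat) (0x400011b00049a) (0x11c000a1c) (Nat.ble 947 i)) (Nat.ble 946 i)) (Bool.rec (motive := fun _ => Nat) (Bool.rec (motive := fun _ => Nat) (0x200011c0009fe) (0x300011e00015e) (Nat.ble 949 i)) (Bool.rec (motive := fun _ => Nat) (0x11f0003d7) (0x200011f000549) (Nat.ble 951 i)) (Nat.ble 950 i)) (Nat.ble 948 i)) (Bool.rec (motive := fun _ => Nat) (Bool.rec (motive := fun _ => Nat) (Bool.rec (motive := fun _ => Nat) (0x400011f00054c) (0x120000138) (Nat.ble 953 i)) (Bool.rec (motive := fun _ => Nat) (0x2000120000301) (0x40001200006b2) (Nat.ble 955 i)) (Nat.ble 954 i)) (Bool.rec (motive := fun _ => Nat) (Bool.rec (motive := fun _ => Nat) (0x121000022) (0x100012100085a) (Nat.ble 957 i)) (Bool.rec (motive := fun _ => Nat) (0x2000121000868)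 (0x400012100076b) (Nat.ble 959 i)) (Nat.ble 958 i)) (Nat.ble 956 i)) (Nat.ble 952 i)) (Bool.rec (motive := fun _ => Nat) (Bool.rec (motive := fun _ => Nat) (Bool.rec (motive := fun _ => Nat) (Bool.rec (motive := fun _ => Nat) (0x122000871) (0x1000122000873) (Nat.ble 961 i)) (Bool.rec (motive := fun _ => Nat) (0x200012200061a) (0x3000122000875) (Nat.ble 963 i)) (Nat.ble 962 i)) (Bool.rec (motive := fun _ => Nat) (Bool.rec (motive := fun _ => Nat) (0x12300038e) (0x1000123000122) (Nat.ble 965 i)) (Bool.rec (motive := fun _ => Nat) (0x2000123000400) (0x3000123000324) (Nat.ble 967 i)) (Nat.ble 966 i)) (Nat.ble 964 i)) (Bool.rec (motive := fun _ => Nat) (Bool.rec (motive := fun _ => Nat) (Bool.rec (motive := fun _ => Nat) (0x40001230005e1) (0x1000124000bae) (Nat.ble 969 i)) (Bool.rec (motive := fun _ => Nat) (0x1000125000244) (0x2000125000274) (Nat.ble 971 i)) (Nat.ble 970 i)) (Bool.rec (motive := fun _ => Nat) (Bool.rec (motive := fun _ => Nat) (0x4000125000276) (0x10001260006cb) (Nat.ble 973 i))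 (Bool.rec (motive := fun _ => Nat) (0x2000126000214) (0x30001260006c8) (Nat.ble 975 i)) (Nat.ble 974 i)) (Nat.ble 972 i)) (Nat.ble 968 i)) (Nat.ble 960 i)) (Nat.ble 945 i))
noncomputable def CA0P_16 (i : Nat) : Nat := (Bool.rec (motive := fun _ => Nat) (Bool.rec (motive := fun _ => Nat) (Bool.rec (motive := fun _ => Nat) (Bool.rec (motive := fun _ => Nat) (Bool.rec (motive := fun _ => Nat) (0x10001270001b9) (Bool.rec (motive := fun _ => Nat) (0x2000127000488) (0x3000127000826) (Nat.ble 978 i)) (Nat.ble 977 i)) (Bool.rec (motive := fun _ => Nat) (Bool.rec (motive := fun _ => Nat) (0x20001280003a4) (0x30001280002be) (Nat.ble 980 i)) (Bool.rec (motive := fun _ => Nat) (0x40001280004e9) (0x129000237) (Nat.ble 982 i)) (Nat.ble 981 i)) (Nat.ble 979 i)) (Bool.rec (motive := fun _ => Nat) (Bool.rec (motive := fun _ => Nat) (Bool.rec (motive := fun _ => Nat) (0x2000129000a41) (0x30001290001c5) (Nat.ble 984 i)) (Bool.rec (motive := fun _ => Nat) (0x40001290007fa) (0x12a0006e7) (Nat.ble 986 i)) (Nat.ble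 985 i)) (Bool.rec (motive := fun _ => Nat) (Bool.rec (motive := fun _ => Nat) (0x100012a000be0) (0x200012a000b36) (Nat.ble 988 i)) (Bool.rec (motive := fun _ => Nat) (0x300012a0007b2) (0x400012a0008da) (Nat.ble 990 i)) (Nat.ble 989 i)) (Nat.ble 987 i)) (Nat.ble 983 i)) (Bool.rec (motive := fun _ => Nat) (Bool.rec (motive := fun _ => Nat) (Bool.rec (motive := fun _ => Nat) (0x12b000b0a) (Bool.rec (motive := fun _ => Nat) (0x12c000132) (0x100012c00003b) (Nat.ble 993 i)) (Nat.ble 992 i)) (Bool.rec (motive := fun _ => Nat) (Bool.rec (motive := fun _ => Nat) (0x200012c0002a7) (0x400012c000b4e) (Nat.ble 995 i)) (Bool.rec (motive := fun _ => Nat) (0x12d000269) (0x100012d000157) (Nat.ble 997 i)) (Nat.ble 996 i)) (Nat.ble 994 i)) (Bool.rec (motive := fun _ => Nat) (Bool.rec (motive := fun _ => Nat) (Bool.rec (motive := fun _ => Nat) (0x300012d0008f2) (0x400012d000e38) (Nat.ble 999 i)) (Bool.rec (motive := fun _ => Nat) (0x200012e00022e) (0x400012e0003a1) (Nat.ble 1001 i)) (Nat.ble 1000 i)) (Bool.rec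 (motive := fun _ => Nat) (Bool.rec (motive := fun _ => Nat) (0x12f00066e) (0x100012f000aac) (Nat.ble 1003 i)) (Bool.rec (motive := fun _ => Nat) (0x200012f0006dc) (0x300012f000907) (Nat.ble 1005 i)) (Nat.ble 1004 i)) (Nat.ble 1002 i)) (Nat.ble 998 i)) (Nat.ble 991 i)) (Bool.rec (motive := fun _ => Nat) (Bool.rec (motive := fun _ => Nat) (Bool.rec (motive := fun _ => Nat) (Bool.rec (motive := fun _ => Nat) (0x2000130000ba2) (Bool.rec (motive := fun _ => Nat) (0x400013000021d) (0x200013100006b) (Nat.ble 1008 i)) (Nat.ble 1007 i)) (Bool.rec (motive := fun _ => Nat) (Bool.rec (motive := fun _ => Nat) (0x4000131000119) (0x1320008a4) (Nat.ble 1010 i)) (Bool.rec (motive := fun _ => Nat) (0x2000132000404) (0x300013200057b) (Nat.ble 1012 i)) (Nat.ble 1011 i)) (Nat.ble 1009 i)) (Bool.rec (motive := fun _ => Nat) (Bool.rec (motive := fun _ => Nat) (Bool.rec (motive := fun _ => Nat) (0x133000720) (0x1000133000212) (Nat.ble 1014 i)) (Bool.rec (motive := fun _ => Nat) (0x2000133000876) (0x300013300033c) (Nat.ble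 1016 i)) (Nat.ble 1015 i)) (Bool.rec (motive := fun _ => Nat) (Bool.rec (motive := fun _ => Nat) (0x40001330003b5) (0x134000185) (Nat.ble 1018 i)) (Bool.rec (motive := fun _ => Nat) (0x1000134000b45) (0x2000134000a8f) (Nat.ble 1020 i)) (Nat.ble 1019 i)) (Nat.ble 1017 i)) (Nat.ble 1013 i)) (Bool.rec (motive := fun _ => Nat) (Bool.rec (motive := fun _ => Nat) (Bool.rec (motive := fun _ => Nat) (Bool.rec (motive := fun _ => Nat) (0x30001340004ad) (0x40001340002a9) (Nat.ble 1022 i)) (Bool.rec (motive := fun _ => Nat) (0x135000eb5) (0x1000135000261) (Nat.ble 1024 i)) (Nat.ble 1023 i)) (Bool.rec (motive := fun _ => Nat) (Bool.rec (motive := fun _ => Nat) (0x3000135000bc6) (0x4000135000ab1) (Nat.ble 1026 i)) (Bool.rec (motive := fun _ => Nat) (0x20001360004b1) (0x3000136000c56) (Nat.ble 1028 i)) (Nat.ble 1027 i)) (Nat.ble 1025 i)) (Bool.rec (motive := fun _ => Nat) (Bool.rec (motive := fun _ => Nat) (Bool.rec (motive := fun _ => Nat) (0x4000136000e15) (0x13700015f) (Nat.ble 1030 i)) (Bool.rec (motive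 := fun _ => Nat) (0x10001370003a7) (0x2000137000134) (Nat.ble 1032 i)) (Nat.ble 1031 i)) (Bool.rec (motive := fun _ => Nat) (Bool.rec (motive := fun _ => Nat) (0x30001370005f1) (0x4000137000c9e) (Nat.ble 1034 i)) (Bool.rec (motive := fun _ => Nat) (0x1380008c0) (0x2000138000bf8) (Nat.ble 1036 i)) (Nat.ble 1035 i)) (Nat.ble 1033 i)) (Nat.ble 1029 i)) (Nat.ble 1021 i)) (Nat.ble 1006 i))
noncomputable def CA0P_17 (i : Nat) : Nat := (Bool.rec (motive := fun _ => Nat) (Bool.rec (motive := fun _ => Nat) (Bool.rec (motive := fun _ => Nat) (Bool.rec (motive := fun _ => Nat) (Bool.rec (motive := fun _ => Nat) (0x30001380001f8) (Bool.rec (motive := fun _ => Nat) (0x40001380006fd) (0x139000577) (Nat.ble 1039 i)) (Nat.ble 1038 i)) (Bool.rec (motive := fun _ => Nat) (Bool.rec (motive := fun _ => Nat) (0x10001390008de) (0x200013900012b) (Nat.ble 1041 i)) (Bool.rec (motive := fun _ => Nat) (0x400013900090e) (0x200013a000ac1) (Nat.ble 1043 i)) (Nat.ble 1042 i)) (Nat.ble 1040 i)) (Bool.rec (motive := fun _ =>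 Nat) (Bool.rec (motive := fun _ => Nat) (Bool.rec (motive := fun _ => Nat) (0x300013a0000ae) (0x400013a00017b) (Nat.ble 1045 i)) (Bool.rec (motive := fun _ => Nat) (0x13b0002ba) (0x200013b00028e) (Nat.ble 1047 i)) (Nat.ble 1046 i)) (Bool.rec (motive := fun _ => Nat) (Bool.rec (motive := fun _ => Nat) (0x300013b000963) (0x100013c000e46) (Nat.ble 1049 i)) (Bool.rec (motive := fun _ => Nat) (0x200013c000b8f) (0x400013c00090c) (Nat.ble 1051 i)) (Nat.ble 1050 i)) (Nat.ble 1048 i)) (Nat.ble 1044 i)) (Bool.rec (motive := fun _ => Nat) (Bool.rec (motive := fun _ => Nat) (Bool.rec (motive := fun _ => Nat) (0x100013d0000de) (Bool.rec (motive := fun _ => Nat) (0x13e000f12) (0x100013e000b93) (Nat.ble 1054 i)) (Nat.ble 1053 i)) (Bool.rec (motive := fun _ => Nat) (Bool.rec (motive := fun _ => Nat) (0x200013e000e32) (0x300013e00086d) (Nat.ble 1056 i)) (Bool.rec (motive := fun _ => Nat) (0x300013f0002c3) (0x1000140000efc) (Nat.ble 1058 i)) (Nat.ble 1057 i)) (Nat.ble 1055 i)) (Bool.rec (motive := fun _ => Nat)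 (Bool.rec (motive := fun _ => Nat) (Bool.rec (motive := fun _ => Nat) (0x200014000051b) (0x3000140000c97) (Nat.ble 1060 i)) (Bool.rec (motive := fun _ => Nat) (0x4000140000d8a) (0x141000656) (Nat.ble 1062 i)) (Nat.ble 1061 i)) (Bool.rec (motive := fun _ => Nat) (Bool.rec (motive := fun _ => Nat) (0x2000141000c31) (0x3000141000696) (Nat.ble 1064 i)) (Bool.rec (motive := fun _ => Nat) (0x40001410007f9) (0x142000630) (Nat.ble 1066 i)) (Nat.ble 1065 i)) (Nat.ble 1063 i)) (Nat.ble 1059 i)) (Nat.ble 1052 i)) (Bool.rec (motive := fun _ => Nat) (Bool.rec (motive := fun _ => Nat) (Bool.rec (motive := fun _ => Nat) (Bool.rec (motive := fun _ => Nat) (0x200014200003d) (Bool.rec (motive := fun _ => Nat) (0x1430000e5) (0x300014300014f) (Nat.ble 1069 i)) (Nat.ble 1068 i)) (Bool.rec (motive := fun _ => Nat) (Bool.rec (motive := fun _ => Nat) (0x14400034a) (0x1000144000461) (Nat.ble 1071 i)) (Bool.rec (motive := fun _ => Nat) (0x2000144000463) (0x30001440000da) (Nat.ble 1073 i)) (Nat.ble 1072 i)) (Nat.ble 1070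 i)) (Bool.rec (motive := fun _ => Nat) (Bool.rec (motive := fun _ => Nat) (Bool.rec (motive := fun _ => Nat) (0x145000464) (0x2000145000521) (Nat.ble 1075 i)) (Bool.rec (motive := fun _ => Nat) (0x400014500005d) (0x40001460002da) (Nat.ble 1077 i)) (Nat.ble 1076 i)) (Bool.rec (motive := fun _ => Nat) (Bool.rec (motive := fun _ => Nat) (0x14700080c) (0x1000147000107) (Nat.ble 1079 i)) (Bool.rec (motive := fun _ => Nat) (0x20001470007b4) (0x148000e87) (Nat.ble 1081 i)) (Nat.ble 1080 i)) (Nat.ble 1078 i)) (Nat.ble 1074 i)) (Bool.rec (motive := fun _ => Nat) (Bool.rec (motive := fun _ => Nat) (Bool.rec (motive := fun _ => Nat) (Bool.rec (motive := fun _ => Nat) (0x1000148000ca8) (0x200014800090f) (Nat.ble 1083 i)) (Bool.rec (motive := fun _ => Nat) (0x3000148000c65) (0x4000148000420) (Nat.ble 1085 i)) (Nat.ble 1084 i)) (Bool.rec (motive := fun _ => Nat) (Bool.rec (motive := fun _ => Nat) (0x149000d58) (0x2000149000155) (Nat.ble 1087 i)) (Bool.rec (motive := fun _ => Nat) (0x300014900017c) (0x4000149000b76)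 (Nat.ble 1089 i)) (Nat.ble 1088 i)) (Nat.ble 1086 i)) (Bool.rec (motive := fun _ => Nat) (Bool.rec (motive := fun _ => Nat) (Bool.rec (motive := fun _ => Nat) (0x100014a000631) (0x200014a000665) (Nat.ble 1091 i)) (Bool.rec (motive := fun _ => Nat) (0x300014a0005e2) (0x14b0007d6) (Nat.ble 1093 i)) (Nat.ble 1092 i)) (Bool.rec (motive := fun _ => Nat) (Bool.rec (motive := fun _ => Nat) (0x200014b0009a1) (0x300014b000baf) (Nat.ble 1095 i)) (Bool.rec (motive := fun _ => Nat) (0x200014c00033b) (0x100014d00033f) (Nat.ble 1097 i)) (Nat.ble 1096 i)) (Nat.ble 1094 i)) (Nat.ble 1090 i)) (Nat.ble 1082 i)) (Nat.ble 1067 i))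
noncomputable def CA0P_18 (i : Nat) : Nat := (Bool.rec (motive := fun _ => Nat) (Bool.rec (motive := fun _ => Nat) (Bool.rec (motive := fun _ => Nat) (Bool.rec (motive := fun _ => Nat) (Bool.rec (motive := fun _ => Nat) (0x400014d00016f) (Bool.rec (motive := fun _ => Nat) (0x14e0005d8) (0x100014e0004ec) (Nat.ble 1100 i)) (Nat.ble 1099 i)) (Bool.rec (motive := fun _ => Nat) (Bool.rec (motive := fun _ => Nat) (0x200014e0001e9) (0x300014e0005db) (Nat.ble 1102 i)) (Bool.rec (motive := fun _ => Nat) (0x14f0005df) (0x300014f0005bf) (Nat.ble 1104 i)) (Nat.ble 1103 i)) (Nat.ble 1101 i)) (Bool.rec (motive := fun _ => Nat) (Bool.rec (motive := fun _ => Nat) (Bool.rec (motive := fun _ => Nat) (0x20001500005d7) (0x40001500001eb) (Nat.ble 1106 i)) (Bool.rec (motive := fun _ => Nat) (0x20001510000d2) (0x4000151000c49) (Nat.ble 1108 i)) (Nat.ble 1107 i)) (Bool.rec (motive := fun _ => Nat) (Bool.rec (motive := fun _ => Nat) (0x15200079c) (0x200015200058e) (Nat.ble 1110 i)) (Bool.rec (motive := fun _ => Nat)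 (0x3000152000275) (0x40001520005cd) (Nat.ble 1112 i)) (Nat.ble 1111 i)) (Nat.ble 1109 i)) (Nat.ble 1105 i)) (Bool.rec (motive := fun _ => Nat) (Bool.rec (motive := fun _ => Nat) (Bool.rec (motive := fun _ => Nat) (0x15300029d) (Bool.rec (motive := fun _ => Nat) (0x100015300099d) (0x2000153000cb5) (Nat.ble 1115 i)) (Nat.ble 1114 i)) (Bool.rec (motive := fun _ => Nat) (Bool.rec (motive := fun _ => Nat) (0x3000153000e9a) (0x1540000ad) (Nat.ble 1117 i)) (Bool.rec (motive := fun _ => Nat) (0x10001540002c2) (0x3000154000265) (Nat.ble 1119 i)) (Nat.ble 1118 i)) (Nat.ble 1116 i)) (Bool.rec (motive := fun _ => Nat) (Bool.rec (motive := fun _ => Nat) (Bool.rec (motive := fun _ => Nat) (0x40001540002d4) (0x1550002df) (Nat.ble 1121 i)) (Bool.rec (motive := fun _ => Nat) (0x20001550002e2) (0x30001550002e4) (Nat.ble 1123 i)) (Nat.ble 1122 i)) (Bool.rec (motive := fun _ => Nat) (Bool.rec (motive := fun _ => Nat) (0x1000156000b77) (0x2000156000a6a) (Nat.ble 1125 i)) (Bool.rec (motive := fun _ => Nat) (0x30001560009ad)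 (0x400015600035e) (Nat.ble 1127 i)) (Nat.ble 1126 i)) (Nat.ble 1124 i)) (Nat.ble 1120 i)) (Nat.ble 1113 i)) (Bool.rec (motive := fun _ => Nat) (Bool.rec (motive := fun _ => Nat) (Bool.rec (motive := fun _ => Nat) (Bool.rec (motive := fun _ => Nat) (0x1570003de) (Bool.rec (motive := fun _ => Nat) (0x100015700012a) (0x200015700001b) (Nat.ble 1130 i)) (Nat.ble 1129 i)) (Bool.rec (motive := fun _ => Nat) (Bool.rec (motive := fun _ => Nat) (0x3000157000126) (0x1580005da) (Nat.ble 1132 i)) (Bool.rec (motive := fun _ => Nat) (0x100015800071a) (0x20001580009c5) (Nat.ble 1134 i)) (Nat.ble 1133 i)) (Nat.ble 1131 i)) (Bool.rec (motive := fun _ => Nat) (Bool.rec (motive := fun _ => Nat) (Bool.rec (motive := fun _ => Nat) (0x3000158000d21) (0x159000b54) (Nat.ble 1136 i)) (Bool.rec (motive := fun _ => Nat) (0x30001590009ba) (0x4000159000902) (Nat.ble 1138 i)) (Nat.ble 1137 i)) (Bool.rec (motive := fun _ => Nat) (Bool.rec (motive := fun _ => Nat) (0x15a000a75) (0x100015a0005cc) (Nat.ble 1140 i)) (Bool.rec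 (motive := fun _ => Nat) (0x200015a000b79) (0x400015a0004f7) (Nat.ble 1142 i)) (Nat.ble 1141 i)) (Nat.ble 1139 i)) (Nat.ble 1135 i)) (Bool.rec (motive := fun _ => Nat) (Bool.rec (motive := fun _ => Nat) (Bool.rec (motive := fun _ => Nat) (Bool.rec (motive := fun _ => Nat) (0x15c0005d9) (0x100015c0005b3) (Nat.ble 1144 i)) (Bool.rec (motive := fun _ => Nat) (0x200015c00006a) (0x300015c000756) (Nat.ble 1146 i)) (Nat.ble 1145 i)) (Bool.rec (motive := fun _ => Nat) (Bool.rec (motive := fun _ => Nat) (0x15d000283) (0x200015d0003ae) (Nat.ble 1148 i)) (Bool.rec (motive := fun _ => Nat) (0x300015d000716) (0x400015d0004ea) (Nat.ble 1150 i)) (Nat.ble 1149 i)) (Nat.ble 1147 i)) (Bool.rec (motive := fun _ => Nat) (Bool.rec (motive := fun _ => Nat) (Bool.rec (motive := fun _ => Nat) (0x15e000a32) (0x100015e00067e) (Nat.ble 1152 i)) (Bool.rec (motive := fun _ => Nat) (0x200015e00056f) (0x300015e00039e) (Nat.ble 1154 i)) (Nat.ble 1153 i)) (Bool.rec (motive := fun _ => Nat) (Bool.rec (motive := fun _ => Nat)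 (0x100015f000988) (0x200015f000929) (Nat.ble 1156 i)) (Bool.rec (motive := fun _ => Nat) (0x300015f000437) (0x400015f000f0a) (Nat.ble 1158 i)) (Nat.ble 1157 i)) (Nat.ble 1155 i)) (Nat.ble 1151 i)) (Nat.ble 1143 i)) (Nat.ble 1128 i))
noncomputable def CA0P_19 (i : Nat) : Nat := (Bool.rec (motive := fun _ => Nat) (Bool.rec (motive := fun _ => Nat) (Bool.rec (motive := fun _ => Nat) (Bool.rec (motive := fun _ => Nat) (Bool.rec (motive := fun _ => Nat) (0x1600006b6) (Bool.rec (motive := fun _ => Nat) (0x1000160000bb2) (0x3000160000dc1) (Nat.ble 1161 i)) (Nat.ble 1160 i)) (Bool.rec (motive := fun _ => Nat) (Bool.rec (motive := fun _ => Nat) (0x16100092e) (0x1000161000676) (Nat.ble 1163 i)) (Bool.rec (motive := fun _ => Nat) (0x2000161000953) (0x3000161000879) (Nat.ble 1165 i)) (Nat.ble 1164 i)) (Nat.ble 1162 i)) (Bool.rec (motive := fun _ => Nat) (Bool.rec (motive := fun _ => Nat) (Bool.rec (motive := fun _ => Nat) (0x20001620005e9) (0x1630007d9) (Nat.ble 1167 i)) (Bool.rec (motive := fun _ => Nat)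 (0x1000163000c0c) (0x3000163000191) (Nat.ble 1169 i)) (Nat.ble 1168 i)) (Bool.rec (motive := fun _ => Nat) (Bool.rec (motive := fun _ => Nat) (0x16400085b) (0x2000164000178) (Nat.ble 1171 i)) (Bool.rec (motive := fun _ => Nat) (0x165000e93) (0x300016500040f) (Nat.ble 1173 i)) (Nat.ble 1172 i)) (Nat.ble 1170 i)) (Nat.ble 1166 i)) (Bool.rec (motive := fun _ => Nat) (Bool.rec (motive := fun _ => Nat) (Bool.rec (motive := fun _ => Nat) (0x4000165000bc5) (Bool.rec (motive := fun _ => Nat) (0x166000d17) (0x1000166000c32) (Nat.ble 1176 i)) (Nat.ble 1175 i)) (Bool.rec (motive := fun _ => Nat) (Bool.rec (motive := fun _ => Nat) (0x2000166000bb6) (0x3000166000b60) (Nat.ble 1178 i)) (Bool.rec (motive := fun _ => Nat) (0x4000166000786) (0x167000204) (Nat.ble 1180 i)) (Nat.ble 1179 i)) (Nat.ble 1177 i)) (Bool.rec (motive := fun _ => Nat) (Bool.rec (motive := fun _ => Nat) (Bool.rec (motive := fun _ => Nat) (0x2000167000751) (0x16800098d) (Nat.ble 1182 i)) (Bool.rec (motive := fun _ => Nat) (0x169000271)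 (0x100016900048c) (Nat.ble 1184 i)) (Nat.ble 1183 i)) (Bool.rec (motive := fun _ => Nat) (Bool.rec (motive := fun _ => Nat) (0x40001690005b5) (0x400016a000ca3) (Nat.ble 1186 i)) (Bool.rec (motive := fun _ => Nat) (0x16b000ed5) (0x200016b00018e) (Nat.ble 1188 i)) (Nat.ble 1187 i)) (Nat.ble 1185 i)) (Nat.ble 1181 i)) (Nat.ble 1174 i)) (Bool.rec (motive := fun _ => Nat) (Bool.rec (motive := fun _ => Nat) (Bool.rec (motive := fun _ => Nat) (Bool.rec (motive := fun _ => Nat) (0x100016c0002c8) (Bool.rec (motive := fun _ => Nat) (0x400016c000c38) (0x16d0003df) (Nat.ble 1191 i)) (Nat.ble 1190 i)) (Bool.rec (motive := fun _ => Nat) (Bool.rec (motive := fun _ => Nat) (0x200016d00016d) (0x300016d000498) (Nat.ble 1193 i)) (Bool.rec (motive := fun _ => Nat) (0x16e000752) (0x100016e000baa) (Nat.ble 1195 i)) (Nat.ble 1194 i)) (Nat.ble 1192 i)) (Bool.rec (motive := fun _ => Nat) (Bool.rec (motive := fun _ => Nat) (Bool.rec (motive := fun _ => Nat) (0x200016e000980) (0x300016e000bdc) (Nat.ble 1197 i)) (Bool.rec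 (motive := fun _ => Nat) (0x300016f000382) (0x2000170000795) (Nat.ble 1199 i)) (Nat.ble 1198 i)) (Bool.rec (motive := fun _ => Nat) (Bool.rec (motive := fun _ => Nat) (0x3000170000867) (0x4000170000d83) (Nat.ble 1201 i)) (Bool.rec (motive := fun _ => Nat) (0x1000171000a78) (0x200017100034b) (Nat.ble 1203 i)) (Nat.ble 1202 i)) (Nat.ble 1200 i)) (Nat.ble 1196 i)) (Bool.rec (motive := fun _ => Nat) (Bool.rec (motive := fun _ => Nat) (Bool.rec (motive := fun _ => Nat) (Bool.rec (motive := fun _ => Nat) (0x30001710004e7) (0x2000172000c1b) (Nat.ble 1205 i)) (Bool.rec (motive := fun _ => Nat) (0x40001720005af) (0x173000466) (Nat.ble 1207 i)) (Nat.ble 1206 i)) (Bool.rec (motive := fun _ => Nat) (Bool.rec (motive := fun _ => Nat) (0x3000173000797) (0x1740001cb) (Nat.ble 1209 i)) (Bool.rec (motive := fun _ => Nat) (0x1000177000d6b) (0x20001770009f8) (Nat.ble 1211 i)) (Nat.ble 1210 i)) (Nat.ble 1208 i)) (Bool.rec (motive := fun _ => Nat) (Bool.rec (motive := fun _ => Nat) (Bool.rec (motive := fun _ =>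 Nat) (0x4000177000981) (0x1000178000d2d) (Nat.ble 1213 i)) (Bool.rec (motive := fun _ => Nat) (0x200017800018f) (0x40001780003af) (Nat.ble 1215 i)) (Nat.ble 1214 i)) (Bool.rec (motive := fun _ => Nat) (Bool.rec (motive := fun _ => Nat) (0x200017900016a) (0x4000179000189) (Nat.ble 1217 i)) (Bool.rec (motive := fun _ => Nat) (0x17a000a4c) (0x200017a000221) (Nat.ble 1219 i)) (Nat.ble 1218 i)) (Nat.ble 1216 i)) (Nat.ble 1212 i)) (Nat.ble 1204 i)) (Nat.ble 1189 i))
noncomputable def CA0P_20 (i : Nat) : Nat := (Bool.rec (motive := fun _ => Nat) (Bool.rec (motive := fun _ => Nat) (Bool.rec (motive := fun _ => Nat) (Bool.rec (motive := fun _ => Nat) (Bool.rec (motive := fun _ => Nat) (0x200017b0002a3) (Bool.rec (motive := fun _ => Nat) (0x400017b0002a5) (0x17c000bed) (Nat.ble 1222 i)) (Nat.ble 1221 i)) (Bool.rec (motive := fun _ => Nat) (Bool.rec (motive := fun _ => Nat) (0x100017c0002a6) (0x200017c000a87) (Nat.ble 1224 i)) (Bool.rec (motive := fun _ => Nat) (0x400017c000e1c) (0x300017d0003dc) (Nat.ble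 1226 i)) (Nat.ble 1225 i)) (Nat.ble 1223 i)) (Bool.rec (motive := fun _ => Nat) (Bool.rec (motive := fun _ => Nat) (Bool.rec (motive := fun _ => Nat) (0x200017e000b1a) (0x400017e000914) (Nat.ble 1228 i)) (Bool.rec (motive := fun _ => Nat) (0x200017f00006e) (0x400017f000072) (Nat.ble 1230 i)) (Nat.ble 1229 i)) (Bool.rec (motive := fun _ => Nat) (Bool.rec (motive := fun _ => Nat) (0x180000326) (0x1000180000073) (Nat.ble 1232 i)) (Bool.rec (motive := fun _ => Nat) (0x2000180000a25) (0x3000180000b9c) (Nat.ble 1234 i)) (Nat.ble 1233 i)) (Nat.ble 1231 i)) (Nat.ble 1227 i)) (Bool.rec (motive := fun _ => Nat) (Bool.rec (motive := fun _ => Nat) (Bool.rec (motive := fun _ => Nat) (0x1810005f2) (Bool.rec (motive := fun _ => Nat) (0x3000181000836) (0x182000777) (Nat.ble 1237 i)) (Nat.ble 1236 i)) (Bool.rec (motive := fun _ => Nat) (Bool.rec (motive := fun _ => Nat) (0x1000182000470) (0x2000182000e5f) (Nat.ble 1239 i)) (Bool.rec (motive := fun _ => Nat) (0x3000182000e37) (0x4000182000d8f) (Nat.ble 1241 i))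 (Nat.ble 1240 i)) (Nat.ble 1238 i)) (Bool.rec (motive := fun _ => Nat) (Bool.rec (motive := fun _ => Nat) (Bool.rec (motive := fun _ => Nat) (0x1830006d2) (0x10001830009b1) (Nat.ble 1243 i)) (Bool.rec (motive := fun _ => Nat) (0x20001830007d1) (0x184000616) (Nat.ble 1245 i)) (Nat.ble 1244 i)) (Bool.rec (motive := fun _ => Nat) (Bool.rec (motive := fun _ => Nat) (0x1000184000bcc) (0x2000184000350) (Nat.ble 1247 i)) (Bool.rec (motive := fun _ => Nat) (0x3000184000bcd) (0x18500095b) (Nat.ble 1249 i)) (Nat.ble 1248 i)) (Nat.ble 1246 i)) (Nat.ble 1242 i)) (Nat.ble 1235 i)) (Bool.rec (motive := fun _ => Nat) (Bool.rec (motive := fun _ => Nat) (Bool.rec (motive := fun _ => Nat) (Bool.rec (motive := fun _ => Nat) (0x2000185000eff) (Bool.rec (motive := fun _ => Nat) (0x4000185000417) (0x186000e13) (Nat.ble 1252 i)) (Nat.ble 1251 i)) (Bool.rec (motive := fun _ => Nat) (Bool.rec (motive := fun _ => Nat) (0x20001860008b7) (0x3000186000999) (Nat.ble 1254 i)) (Bool.rec (motive := fun _ => Nat) (0x187000d2b)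 (0x2000187000468) (Nat.ble 1256 i)) (Nat.ble 1255 i)) (Nat.ble 1253 i)) (Bool.rec (motive := fun _ => Nat) (Bool.rec (motive := fun _ => Nat) (Bool.rec (motive := fun _ => Nat) (0x3000187000835) (0x4000187000b15) (Nat.ble 1258 i)) (Bool.rec (motive := fun _ => Nat) (0x1880003d5) (0x200018800096a) (Nat.ble 1260 i)) (Nat.ble 1259 i)) (Bool.rec (motive := fun _ => Nat) (Bool.rec (motive := fun _ => Nat) (0x189000ee8) (0x18a00039b) (Nat.ble 1262 i)) (Bool.rec (motive := fun _ => Nat) (0x100018a00077a) (0x300018a0008e8) (Nat.ble 1264 i)) (Nat.ble 1263 i)) (Nat.ble 1261 i)) (Nat.ble 1257 i)) (Bool.rec (motive := fun _ => Nat) (Bool.rec (motive := fun _ => Nat) (Bool.rec (motive := fun _ => Nat) (Bool.rec (motive := fun _ => Nat) (0x100018b000689) (0x200018b000b11) (Nat.ble 1266 i)) (Bool.rec (motive := fun _ => Nat) (0x300018b000e88) (0x18c000c0a) (Nat.ble 1268 i)) (Nat.ble 1267 i)) (Bool.rec (motive := fun _ => Nat) (Bool.rec (motive := fun _ => Nat) (0x200018c000a7f) (0x300018c000ec4) (Nat.ble 1270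 i)) (Bool.rec (motive := fun _ => Nat) (0x200018d000e8c) (0x300018d000387) (Nat.ble 1272 i)) (Nat.ble 1271 i)) (Nat.ble 1269 i)) (Bool.rec (motive := fun _ => Nat) (Bool.rec (motive := fun _ => Nat) (Bool.rec (motive := fun _ => Nat) (0x400018d0004f6) (0x18e000bfc) (Nat.ble 1274 i)) (Bool.rec (motive := fun _ => Nat) (0x100018e000b27) (0x300018e000ac9) (Nat.ble 1276 i)) (Nat.ble 1275 i)) (Bool.rec (motive := fun _ => Nat) (Bool.rec (motive := fun _ => Nat) (0x100018f00010d) (0x300018f000882) (Nat.ble 1278 i)) (Bool.rec (motive := fun _ => Nat) (0x190000de6) (0x2000190000402) (Nat.ble 1280 i)) (Nat.ble 1279 i)) (Nat.ble 1277 i)) (Nat.ble 1273 i)) (Nat.ble 1265 i)) (Nat.ble 1250 i))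
noncomputable def CA0P_21 (i : Nat) : Nat := (Bool.rec (motive := fun _ => Nat) (Bool.rec (motive := fun _ => Nat) (Bool.rec (motive := fun _ => Nat) (Bool.rec (motive := fun _ => Nat) (Bool.rec (motive := fun _ => Nat) (0x30001900004f8) (Bool.rec (motive := fun _ => Nat) (0x19100095c) (0x2000191000d5f) (Nat.ble 1283 i)) (Nat.ble 1282 i)) (Bool.rec (motive := fun _ => Nat) (Bool.rec (motive := fun _ => Nat) (0x40001910006d1) (0x192000d1f) (Nat.ble 1285 i)) (Bool.rec (motive := fun _ => Nat) (0x100019200067f) (0x20001920008b5) (Nat.ble 1287 i)) (Nat.ble 1286 i)) (Nat.ble 1284 i)) (Bool.rec (motive := fun _ => Nat) (Bool.rec (motive := fun _ => Nat) (Bool.rec (motive := fun _ => Nat) (0x1000193000593) (0x2000193000a84) (Nat.ble 1289 i)) (Bool.rec (motive := fun _ => Nat) (0x4000193000f3b) (0x194000590) (Nat.ble 1291 i)) (Nat.ble 1290 i)) (Bool.rec (motive := fun _ => Nat) (Bool.rec (motive := fun _ => Nat) (0x195000d00) (0x1000195000596) (Nat.ble 1293 i)) (Bool.rec (motive := fun _ => Nat) (0x3000195000af9)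 (0x40001950005aa) (Nat.ble 1295 i)) (Nat.ble 1294 i)) (Nat.ble 1292 i)) (Nat.ble 1288 i)) (Bool.rec (motive := fun _ => Nat) (Bool.rec (motive := fun _ => Nat) (Bool.rec (motive := fun _ => Nat) (0x196000226) (Bool.rec (motive := fun _ => Nat) (0x1000196000a82) (0x1970006a8) (Nat.ble 1298 i)) (Nat.ble 1297 i)) (Bool.rec (motive := fun _ => Nat) (Bool.rec (motive := fun _ => Nat) (0x300019700032a) (0x4000197000156) (Nat.ble 1300 i)) (Bool.rec (motive := fun _ => Nat) (0x2000198000d29) (0x40001980008e6) (Nat.ble 1302 i)) (Nat.ble 1301 i)) (Nat.ble 1299 i)) (Bool.rec (motive := fun _ => Nat) (Bool.rec (motive := fun _ => Nat) (Bool.rec (motive := fun _ => Nat) (0x19a00074a) (0x200019a000e74) (Nat.ble 1304 i)) (Bool.rec (motive := fun _ => Nat) (0x300019a000bcb) (0x400019c0004d5) (Nat.ble 1306 i)) (Nat.ble 1305 i)) (Bool.rec (motive := fun _ => Nat) (Bool.rec (motive := fun _ => Nat) (0x19d00020f) (0x100019d0001a0) (Nat.ble 1308 i)) (Bool.rec (motive := fun _ => Nat) (0x19e000e17) (0x100019e000217)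 (Nat.ble 1310 i)) (Nat.ble 1309 i)) (Nat.ble 1307 i)) (Nat.ble 1303 i)) (Nat.ble 1296 i)) (Bool.rec (motive := fun _ => Nat) (Bool.rec (motive := fun _ => Nat) (Bool.rec (motive := fun _ => Nat) (Bool.rec (motive := fun _ => Nat) (0x300019e000ed7) (Bool.rec (motive := fun _ => Nat) (0x19f000a5d) (0x100019f0009cb) (Nat.ble 1313 i)) (Nat.ble 1312 i)) (Bool.rec (motive := fun _ => Nat) (Bool.rec (motive := fun _ => Nat) (0x200019f000a96) (0x300019f000890) (Nat.ble 1315 i)) (Bool.rec (motive := fun _ => Nat) (0x1a0000386) (0x10001a00001e8) (Nat.ble 1317 i)) (Nat.ble 1316 i)) (Nat.ble 1314 i)) (Bool.rec (motive := fun _ => Nat) (Bool.rec (motive := fun _ => Nat) (Bool.rec (motive := fun _ => Nat) (0x20001a0000396) (0x30001a0000336) (Nat.ble 1319 i)) (Bool.rec (motive := fun _ => Nat) (0x10001a2000533) (0x20001a2000534) (Nat.ble 1321 i)) (Nat.ble 1320 i)) (Bool.rec (motive := fun _ => Nat) (Bool.rec (motive := fun _ => Nat) (0x30001a2000536) (0x40001a2000538) (Nat.ble 1323 i)) (Bool.rec (motive :=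 fun _ => Nat) (0x30001a3000a99) (0x40001a3000d20) (Nat.ble 1325 i)) (Nat.ble 1324 i)) (Nat.ble 1322 i)) (Nat.ble 1318 i)) (Bool.rec (motive := fun _ => Nat) (Bool.rec (motive := fun _ => Nat) (Bool.rec (motive := fun _ => Nat) (Bool.rec (motive := fun _ => Nat) (0x1a4000539) (0x30001a400087d) (Nat.ble 1327 i)) (Bool.rec (motive := fun _ => Nat) (0x1a5000937) (0x20001a50009ac) (Nat.ble 1329 i)) (Nat.ble 1328 i)) (Bool.rec (motive := fun _ => Nat) (Bool.rec (motive := fun _ => Nat) (0x30001a500087e) (0x40001a5000799) (Nat.ble 1331 i)) (Bool.rec (motive := fun _ => Nat) (0x40001a600001e) (0x1a700027b) (Nat.ble 1333 i)) (Nat.ble 1332 i)) (Nat.ble 1330 i)) (Bool.rec (motive := fun _ => Nat) (Bool.rec (motive := fun _ => Nat) (Bool.rec (motive := fun _ => Nat) (0x20001a70003e1) (0x40001a80006a3) (Nat.ble 1335 i)) (Bool.rec (motive := fun _ => Nat) (0x1a900004d) (0x10001a900079e) (Nat.ble 1337 i)) (Nat.ble 1336 i)) (Bool.rec (motive := fun _ => Nat) (Bool.rec (motive := fun _ => Nat) (0x30001a900034c)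 (0x20001aa000aa2) (Nat.ble 1339 i)) (Bool.rec (motive := fun _ => Nat) (0x30001aa000ce5) (0x40001aa000710) (Nat.ble 1341 i)) (Nat.ble 1340 i)) (Nat.ble 1338 i)) (Nat.ble 1334 i)) (Nat.ble 1326 i)) (Nat.ble 1311 i))
noncomputable def CA0P_22 (i : Nat) : Nat := (Bool.rec (motive := fun _ => Nat) (Bool.rec (motive := fun _ => Nat) (Bool.rec (motive := fun _ => Nat) (Bool.rec (motive := fun _ => Nat) (Bool.rec (motive := fun _ => Nat) (0x20001ab000079) (Bool.rec (motive := fun _ => Nat) (0x40001ab000ce6) (0x1ac000834) (Nat.ble 1344 i)) (Nat.ble 1343 i)) (Bool.rec (motive := fun _ => Nat) (Bool.rec (motive := fun _ => Nat) (0x10001ac000169) (0x20001ac000a74) (Nat.ble 1346 i)) (Bool.rec (motive := fun _ => Nat) (0x10001ad000a38) (0x20001ad0003a6) (Nat.ble 1348 i)) (Nat.ble 1347 i)) (Nat.ble 1345 i)) (Bool.rec (motive := fun _ => Nat) (Bool.rec (motive := fun _ => Nat) (Bool.rec (motive := fun _ => Nat) (0x30001ad000638) (0x40001ad000a71) (Nat.ble 1350 i)) (Bool.rec (motive := fun _ => Nat) (0x1ae0008aa)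 (0x20001ae0000c2) (Nat.ble 1352 i)) (Nat.ble 1351 i)) (Bool.rec (motive := fun _ => Nat) (Bool.rec (motive := fun _ => Nat) (0x30001ae0002cc) (0x40001ae000db2) (Nat.ble 1354 i)) (Bool.rec (motive := fun _ => Nat) (0x10001af0008a9) (0x20001af000628) (Nat.ble 1356 i)) (Nat.ble 1355 i)) (Nat.ble 1353 i)) (Nat.ble 1349 i)) (Bool.rec (motive := fun _ => Nat) (Bool.rec (motive := fun _ => Nat) (Bool.rec (motive := fun _ => Nat) (0x1b0000915) (Bool.rec (motive := fun _ => Nat) (0x20001b00002d1) (0x30001b000063a) (Nat.ble 1359 i)) (Nat.ble 1358 i)) (Bool.rec (motive := fun _ => Nat) (Bool.rec (motive := fun _ => Nat) (0x40001b00000e9) (0x20001b2000547) (Nat.ble 1361 i)) (Bool.rec (motive := fun _ => Nat) (0x40001b2000ae0) (0x1b300069b) (Nat.ble 1363 i)) (Nat.ble 1362 i)) (Nat.ble 1360 i)) (Bool.rec (motive := fun _ => Nat) (Bool.rec (motive := fun _ => Nat) (Bool.rec (motive := fun _ => Nat) (0x10001b3000a0e) (0x20001b3000706) (Nat.ble 1365 i)) (Bool.rec (motive := fun _ => Nat) (0x40001b3000d11) (0x20001b40005c1)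 (Nat.ble 1367 i)) (Nat.ble 1366 i)) (Bool.rec (motive := fun _ => Nat) (Bool.rec (motive := fun _ => Nat) (0x40001b40000f9) (0x1b500043c) (Nat.ble 1369 i)) (Bool.rec (motive := fun _ => Nat) (0x10001b5000773) (0x20001b50002e7) (Nat.ble 1371 i)) (Nat.ble 1370 i)) (Nat.ble 1368 i)) (Nat.ble 1364 i)) (Nat.ble 1357 i)) (Bool.rec (motive := fun _ => Nat) (Bool.rec (motive := fun _ => Nat) (Bool.rec (motive := fun _ => Nat) (Bool.rec (motive := fun _ => Nat) (0x30001b5000403) (Bool.rec (motive := fun _ => Nat) (0x10001b60002ab) (0x20001b6000501) (Nat.ble 1374 i)) (Nat.ble 1373 i)) (Bool.rec (motive := fun _ => Nat) (Bool.rec (motive := fun _ => Nat) (0x40001b6000552) (0x10001b700024f) (Nat.ble 1376 i)) (Bool.rec (motive := fun _ => Nat) (0x20001b7000e36) (0x1b8000139) (Nat.ble 1378 i)) (Nat.ble 1377 i)) (Nat.ble 1375 i)) (Bool.rec (motive := fun _ => Nat) (Bool.rec (motive := fun _ => Nat) (Bool.rec (motive := fun _ => Nat) (0x40001b8000bc0) (0x1b90002c0) (Nat.ble 1380 i)) (Bool.rec (motive := fun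 _ => Nat) (0x10001b9000cd6) (0x20001b9000e3e) (Nat.ble 1382 i)) (Nat.ble 1381 i)) (Bool.rec (motive := fun _ => Nat) (Bool.rec (motive := fun _ => Nat) (0x10001ba0000d4) (0x20001ba0000d6) (Nat.ble 1384 i)) (Bool.rec (motive := fun _ => Nat) (0x40001ba0000d9) (0x1bb000ab5) (Nat.ble 1386 i)) (Nat.ble 1385 i)) (Nat.ble 1383 i)) (Nat.ble 1379 i)) (Bool.rec (motive := fun _ => Nat) (Bool.rec (motive := fun _ => Nat) (Bool.rec (motive := fun _ => Nat) (Bool.rec (motive := fun _ => Nat) (0x10001bb000554) (0x20001bb000550) (Nat.ble 1388 i)) (Bool.rec (motive := fun _ => Nat) (0x30001bb000a24) (0x40001bb000ce8) (Nat.ble 1390 i)) (Nat.ble 1389 i)) (Bool.rec (motive := fun _ => Nat) (Bool.rec (motive := fun _ => Nat) (0x10001bc0003a8) (0x20001bc000512) (Nat.ble 1392 i)) (Bool.rec (motive := fun _ => Nat) (0x1bd000603) (0x40001bd000109) (Nat.ble 1394 i)) (Nat.ble 1393 i)) (Nat.ble 1391 i)) (Bool.rec (motive := fun _ => Nat) (Bool.rec (motive := fun _ => Nat) (Bool.rec (motive := fun _ => Nat) (0x1be0002d0)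 (0x10001be0002f2) (Nat.ble 1396 i)) (Bool.rec (motive := fun _ => Nat) (0x20001be000d6f) (0x30001be00061d) (Nat.ble 1398 i)) (Nat.ble 1397 i)) (Bool.rec (motive := fun _ => Nat) (Bool.rec (motive := fun _ => Nat) (0x10001bf0000b8) (0x20001bf000589) (Nat.ble 1400 i)) (Bool.rec (motive := fun _ => Nat) (0x30001bf000771) (0x40001bf0006ca) (Nat.ble 1402 i)) (Nat.ble 1401 i)) (Nat.ble 1399 i)) (Nat.ble 1395 i)) (Nat.ble 1387 i)) (Nat.ble 1372 i))
noncomputable def CA0P_23 (i : Nat) : Nat := (Bool.rec (motive := fun _ => Nat) (Bool.rec (motive := fun _ => Nat) (Bool.rec (motive := fun _ => Nat) (Bool.rec (motive := fun _ => Nat) (Bool.rec (motive := fun _ => Nat) (0x1c00007ee) (Bool.rec (motive := fun _ => Nat) (0x10001c0000337) (0x30001c0000551) (Nat.ble 1405 i)) (Nat.ble 1404 i)) (Bool.rec (motive := fun _ => Nat) (Bool.rec (motive := fun _ => Nat) (0x1c1000ccc) (0x30001c1000c6a) (Nat.ble 1407 i)) (Bool.rec (motive := fun _ => Nat) (0x40001c1000d50) (0x20001c2000e83) (Nat.ble 1409 i)) (Nat.ble 1408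 i)) (Nat.ble 1406 i)) (Bool.rec (motive := fun _ => Nat) (Bool.rec (motive := fun _ => Nat) (Bool.rec (motive := fun _ => Nat) (0x30001c2000b18) (0x40001c2000e84) (Nat.ble 1411 i)) (Bool.rec (motive := fun _ => Nat) (0x1c3000e7e) (0x10001c3000e86) (Nat.ble 1413 i)) (Nat.ble 1412 i)) (Bool.rec (motive := fun _ => Nat) (Bool.rec (motive := fun _ => Nat) (0x20001c3000541) (0x1c4000bac) (Nat.ble 1415 i)) (Bool.rec (motive := fun _ => Nat) (0x20001c40009b8) (0x30001c4000e8e) (Nat.ble 1417 i)) (Nat.ble 1416 i)) (Nat.ble 1414 i)) (Nat.ble 1410 i)) (Bool.rec (motive := fun _ => Nat) (Bool.rec (motive := fun _ => Nat) (Bool.rec (motive := fun _ => Nat) (0x40001c4000bd1) (Bool.rec (motive := fun _ => Nat) (0x1c5000058) (0x30001c5000c96) (Nat.ble 1420 i)) (Nat.ble 1419 i)) (Bool.rec (motive := fun _ => Nat) (Bool.rec (motive := fun _ => Nat) (0x20001c6000489) (0x10001c7000075) (Nat.ble 1422 i)) (Bool.rec (motive := fun _ => Nat) (0x20001c700041d) (0x1c80009d6) (Nat.ble 1424 i)) (Nat.ble 1423 i)) (Nat.ble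 1421 i)) (Bool.rec (motive := fun _ => Nat) (Bool.rec (motive := fun _ => Nat) (Bool.rec (motive := fun _ => Nat) (0x20001c800077b) (0x30001c8000d2e) (Nat.ble 1426 i)) (Bool.rec (motive := fun _ => Nat) (0x40001c80001af) (0x1c90004b2) (Nat.ble 1428 i)) (Nat.ble 1427 i)) (Bool.rec (motive := fun _ => Nat) (Bool.rec (motive := fun _ => Nat) (0x10001c900020d) (0x10001ca000a6d) (Nat.ble 1430 i)) (Bool.rec (motive := fun _ => Nat) (0x20001ca000257) (0x30001ca000ce4) (Nat.ble 1432 i)) (Nat.ble 1431 i)) (Nat.ble 1429 i)) (Nat.ble 1425 i)) (Nat.ble 1418 i)) (Bool.rec (motive := fun _ => Nat) (Bool.rec (motive := fun _ => Nat) (Bool.rec (motive := fun _ => Nat) (Bool.rec (motive := fun _ => Nat) (0x40001ca000294) (Bool.rec (motive := fun _ => Nat) (0x1cb000dba) (0x10001cb000115) (Nat.ble 1435 i)) (Nat.ble 1434 i)) (Bool.rec (motive := fun _ => Nat) (Bool.rec (motive := fun _ => Nat) (0x30001cb000f36) (0x40001cb000a2c) (Nat.ble 1437 i)) (Bool.rec (motive := fun _ => Nat) (0x10001cc000776) (0x1cd00088b)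 (Nat.ble 1439 i)) (Nat.ble 1438 i)) (Nat.ble 1436 i)) (Bool.rec (motive := fun _ => Nat) (Bool.rec (motive := fun _ => Nat) (Bool.rec (motive := fun _ => Nat) (0x20001cd00071f) (0x40001cd000e8b) (Nat.ble 1441 i)) (Bool.rec (motive := fun _ => Nat) (0x1ce000a54) (0x10001ce00060d) (Nat.ble 1443 i)) (Nat.ble 1442 i)) (Bool.rec (motive := fun _ => Nat) (Bool.rec (motive := fun _ => Nat) (0x30001ce000136) (0x1cf0004d0) (Nat.ble 1445 i)) (Bool.rec (motive := fun _ => Nat) (0x20001cf000db0) (0x30001cf000def) (Nat.ble 1447 i)) (Nat.ble 1446 i)) (Nat.ble 1444 i)) (Nat.ble 1440 i)) (Bool.rec (motive := fun _ => Nat) (Bool.rec (motive := fun _ => Nat) (Bool.rec (motive := fun _ => Nat) (Bool.rec (motive := fun _ => Nat) (0x40001cf00045a) (0x20001d0000330) (Nat.ble 1449 i)) (Bool.rec (motive := fun _ => Nat) (0x10001d100073e) (0x20001d1000c16) (Nat.ble 1451 i)) (Nat.ble 1450 i)) (Bool.rec (motive := fun _ => Nat) (Bool.rec (motive := fun _ => Nat) (0x30001d1000d95) (0x40001d1000bf5) (Nat.ble 1453 i)) (Bool.rec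 (motive := fun _ => Nat) (0x10001d20005d2) (0x20001d20007ea) (Nat.ble 1455 i)) (Nat.ble 1454 i)) (Nat.ble 1452 i)) (Bool.rec (motive := fun _ => Nat) (Bool.rec (motive := fun _ => Nat) (Bool.rec (motive := fun _ => Nat) (0x30001d2000dbe) (0x1d3000373) (Nat.ble 1457 i)) (Bool.rec (motive := fun _ => Nat) (0x1d4000105) (0x20001d40000fd) (Nat.ble 1459 i)) (Nat.ble 1458 i)) (Bool.rec (motive := fun _ => Nat) (Bool.rec (motive := fun _ => Nat) (0x30001d4000bab) (0x40001d40008fc) (Nat.ble 1461 i)) (Bool.rec (motive := fun _ => Nat) (0x1d5000e0a) (0x10001d5000222) (Nat.ble 1463 i)) (Nat.ble 1462 i)) (Nat.ble 1460 i)) (Nat.ble 1456 i)) (Nat.ble 1448 i)) (Nat.ble 1433 i))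
noncomputable def CA0P_24 (i : Nat) : Nat := (Bool.rec (motive := fun _ => Nat) (Bool.rec (motive := fun _ => Nat) (Bool.rec (motive := fun _ => Nat) (Bool.rec (motive := fun _ => Nat) (Bool.rec (motive := fun _ => Nat) (0x30001d5000dd7) (Bool.rec (motive := fun _ => Nat) (0x40001d500074c) (0x1d6000cf2) (Nat.ble 1466 i)) (Nat.ble 1465 i)) (Bool.rec (motive := fun _ => Nat) (Bool.rec (motive := fun _ => Nat) (0x10001d6000c7e) (0x20001d6000e09) (Nat.ble 1468 i)) (Bool.rec (motive := fun _ => Nat) (0x30001d60000dc) (0x40001d6000f08) (Nat.ble 1470 i)) (Nat.ble 1469 i)) (Nat.ble 1467 i)) (Bool.rec (motive := fun _ => Nat) (Bool.rec (motive := fun _ => Nat) (Bool.rec (motive := fun _ => Nat) (0x1d70000f4) (0x10001d7000a4f) (Nat.ble 1472 i)) (Bool.rec (motive := fun _ => Nat) (0x30001d7000a4d) (0x1d8000567) (Nat.ble 1474 i)) (Nat.ble 1473 i)) (Bool.rec (motive := fun _ => Nat) (Bool.rec (motive := fun _ => Nat) (0x30001d8000e1a) (0x40001d800046f) (Nat.ble 1476 i)) (Bool.rec (motive := fun _ => Nat)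 (0x10001d9000e21) (0x20001d9000e1d) (Nat.ble 1478 i)) (Nat.ble 1477 i)) (Nat.ble 1475 i)) (Nat.ble 1471 i)) (Bool.rec (motive := fun _ => Nat) (Bool.rec (motive := fun _ => Nat) (Bool.rec (motive := fun _ => Nat) (0x30001d9000977) (Bool.rec (motive := fun _ => Nat) (0x10001db000a19) (0x20001db000201) (Nat.ble 1481 i)) (Nat.ble 1480 i)) (Bool.rec (motive := fun _ => Nat) (Bool.rec (motive := fun _ => Nat) (0x40001db0003cc) (0x20001dc0009ca) (Nat.ble 1483 i)) (Bool.rec (motive := fun _ => Nat) (0x10001dd000df2) (0x20001dd000aed) (Nat.ble 1485 i)) (Nat.ble 1484 i)) (Nat.ble 1482 i)) (Bool.rec (motive := fun _ => Nat) (Bool.rec (motive := fun _ => Nat) (Bool.rec (motive := fun _ => Nat) (0x40001dd000d51) (0x1de000b95) (Nat.ble 1487 i)) (Bool.rec (motive := fun _ => Nat) (0x20001de000985) (0x40001de000b1b) (Nat.ble 1489 i)) (Nat.ble 1488 i)) (Bool.rec (motive := fun _ => Nat) (Bool.rec (motive := fun _ => Nat) (0x1df000844) (0x30001df000d02) (Nat.ble 1491 i)) (Bool.rec (motive := fun _ => Nat) (0x1e0000d8d)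 (0x10001e0000e25) (Nat.ble 1493 i)) (Nat.ble 1492 i)) (Nat.ble 1490 i)) (Nat.ble 1486 i)) (Nat.ble 1479 i)) (Bool.rec (motive := fun _ => Nat) (Bool.rec (motive := fun _ => Nat) (Bool.rec (motive := fun _ => Nat) (Bool.rec (motive := fun _ => Nat) (0x20001e0000cdf) (Bool.rec (motive := fun _ => Nat) (0x30001e00004a8) (0x40001e0000aff) (Nat.ble 1496 i)) (Nat.ble 1495 i)) (Bool.rec (motive := fun _ => Nat) (Bool.rec (motive := fun _ => Nat) (0x20001e1000732) (0x40001e1000192) (Nat.ble 1498 i)) (Bool.rec (motive := fun _ => Nat) (0x20001e2000956) (0x20001e30005a5) (Nat.ble 1500 i)) (Nat.ble 1499 i)) (Nat.ble 1497 i)) (Bool.rec (motive := fun _ => Nat) (Bool.rec (motive := fun _ => Nat) (Bool.rec (motive := fun _ => Nat) (0x40001e4000597) (0x1e5000dc5) (Nat.ble 1502 i)) (Bool.rec (motive := fun _ => Nat) (0x10001e5000190) (0x30001e5000cf6) (Nat.ble 1504 i)) (Nat.ble 1503 i)) (Bool.rec (motive := fun _ => Nat) (Bool.rec (motive := fun _ => Nat) (0x30001e60009ce) (0x40001e6000477) (Nat.ble 1506 i))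 (Bool.rec (motive := fun _ => Nat) (0x1e70000d1) (0x20001e70005a6) (Nat.ble 1508 i)) (Nat.ble 1507 i)) (Nat.ble 1505 i)) (Nat.ble 1501 i)) (Bool.rec (motive := fun _ => Nat) (Bool.rec (motive := fun _ => Nat) (Bool.rec (motive := fun _ => Nat) (Bool.rec (motive := fun _ => Nat) (0x30001e7000caf) (0x1e8000197) (Nat.ble 1510 i)) (Bool.rec (motive := fun _ => Nat) (0x30001e8000edc) (0x40001e80007a6) (Nat.ble 1512 i)) (Nat.ble 1511 i)) (Bool.rec (motive := fun _ => Nat) (Bool.rec (motive := fun _ => Nat) (0x20001e9000d38) (0x1ea000dcb) (Nat.ble 1514 i)) (Bool.rec (motive := fun _ => Nat) (0x30001ea0000df) (0x1eb000173) (Nat.ble 1516 i)) (Nat.ble 1515 i)) (Nat.ble 1513 i)) (Bool.rec (motive := fun _ => Nat) (Bool.rec (motive := fun _ => Nat) (Bool.rec (motive := fun _ => Nat) (0x20001eb00098e) (0x40001ec000581) (Nat.ble 1518 i)) (Bool.rec (motive := fun _ => Nat) (0x1ed000272) (0x10001ee0001cd) (Nat.ble 1520 i)) (Nat.ble 1519 i)) (Bool.rec (motive := fun _ => Nat) (Bool.rec (motive := fun _ => Nat)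 (0x40001ee00047a) (0x30001ef000885) (Nat.ble 1522 i)) (Bool.rec (motive := fun _ => Nat) (0x40001ef0005d0) (0x1f0000300) (Nat.ble 1524 i)) (Nat.ble 1523 i)) (Nat.ble 1521 i)) (Nat.ble 1517 i)) (Nat.ble 1509 i)) (Nat.ble 1494 i))
noncomputable def CA0P_25 (i : Nat) : Nat := (Bool.rec (motive := fun _ => Nat) (Bool.rec (motive := fun _ => Nat) (Bool.rec (motive := fun _ => Nat) (Bool.rec (motive := fun _ => Nat) (Bool.rec (motive := fun _ => Nat) (0x20001f00002fb) (Bool.rec (motive := fun _ => Nat) (0x30001f00002b0) (0x40001f0000304) (Nat.ble 1527 i)) (Nat.ble 1526 i)) (Bool.rec (motive := fun _ => Nat) (Bool.rec (motive := fun _ => Nat) (0x1f100094c) (0x20001f1000719) (Nat.ble 1529 i)) (Bool.rec (motive := fun _ => Nat) (0x20001f20001d6) (0x1f3000d2c) (Nat.ble 1531 i)) (Nat.ble 1530 i)) (Nat.ble 1528 i)) (Bool.rec (motive := fun _ => Nat) (Bool.rec (motive := fun _ => Nat) (Bool.rec (motive := fun _ => Nat) (0x20001f4000692) (0x40001f4000850) (Nat.ble 1533 i)) (Bool.rec (motive := fun _ => Nat)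 (0x40001f50007bc) (0x40001f60003ca) (Nat.ble 1535 i)) (Nat.ble 1534 i)) (Bool.rec (motive := fun _ => Nat) (Bool.rec (motive := fun _ => Nat) (0x1f7000504) (0x10001f7000bda) (Nat.ble 1537 i)) (Bool.rec (motive := fun _ => Nat) (0x20001f70008c3) (0x30001f7000994) (Nat.ble 1539 i)) (Nat.ble 1538 i)) (Nat.ble 1536 i)) (Nat.ble 1532 i)) (Bool.rec (motive := fun _ => Nat) (Bool.rec (motive := fun _ => Nat) (Bool.rec (motive := fun _ => Nat) (0x1f80007f5) (Bool.rec (motive := fun _ => Nat) (0x10001f800048e) (0x20001f80005a1) (Nat.ble 1542 i)) (Nat.ble 1541 i)) (Bool.rec (motive := fun _ => Nat) (Bool.rec (motive := fun _ => Nat) (0x40001f80003a9) (0x1f9000284) (Nat.ble 1544 i)) (Bool.rec (motive := fun _ => Nat) (0x20001f900076d) (0x30001f900005c) (Nat.ble 1546 i)) (Nat.ble 1545 i)) (Nat.ble 1543 i)) (Bool.rec (motive := fun _ => Nat) (Bool.rec (motive := fun _ => Nat) (Bool.rec (motive := fun _ => Nat) (0x40001f9000a63) (0x20001fa0005f3) (Nat.ble 1548 i)) (Bool.rec (motive := fun _ => Nat) (0x40001fa000583)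 (0x30001fb0006f8) (Nat.ble 1550 i)) (Nat.ble 1549 i)) (Bool.rec (motive := fun _ => Nat) (Bool.rec (motive := fun _ => Nat) (0x40001fb000130) (0x1fc0008b1) (Nat.ble 1552 i)) (Bool.rec (motive := fun _ => Nat) (0x20001fc0008b8) (0x30001fc00019b) (Nat.ble 1554 i)) (Nat.ble 1553 i)) (Nat.ble 1551 i)) (Nat.ble 1547 i)) (Nat.ble 1540 i)) (Bool.rec (motive := fun _ => Nat) (Bool.rec (motive := fun _ => Nat) (Bool.rec (motive := fun _ => Nat) (Bool.rec (motive := fun _ => Nat) (0x40001fc0000f6) (Bool.rec (motive := fun _ => Nat) (0x1fd000827) (0x10001fd00096b) (Nat.ble 1557 i)) (Nat.ble 1556 i)) (Bool.rec (motive := fun _ => Nat) (Bool.rec (motive := fun _ => Nat) (0x20001fd00041e) (0x30001fd000b1c) (Nat.ble 1559 i)) (Bool.rec (motive := fun _ => Nat) (0x1fe000231) (0x10001fe00062e) (Nat.ble 1561 i)) (Nat.ble 1560 i)) (Nat.ble 1558 i)) (Bool.rec (motive := fun _ => Nat) (Bool.rec (motive := fun _ => Nat) (Bool.rec (motive := fun _ => Nat) (0x20001fe0005dc) (0x30001fe00022c) (Nat.ble 1563 i)) (Bool.rec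 (motive := fun _ => Nat) (0x10001ff000d67) (0x20001ff000150) (Nat.ble 1565 i)) (Nat.ble 1564 i)) (Bool.rec (motive := fun _ => Nat) (Bool.rec (motive := fun _ => Nat) (0x30001ff0008a3) (0x40001ff000c9d) (Nat.ble 1567 i)) (Bool.rec (motive := fun _ => Nat) (0x200000480) (0x1000200000029) (Nat.ble 1569 i)) (Nat.ble 1568 i)) (Nat.ble 1566 i)) (Nat.ble 1562 i)) (Bool.rec (motive := fun _ => Nat) (Bool.rec (motive := fun _ => Nat) (Bool.rec (motive := fun _ => Nat) (Bool.rec (motive := fun _ => Nat) (0x3000200000436) (0x4000200000482) (Nat.ble 1571 i)) (Bool.rec (motive := fun _ => Nat) (0x201000766) (0x100020100046e) (Nat.ble 1573 i)) (Nat.ble 1572 i)) (Bool.rec (motive := fun _ => Nat) (Bool.rec (motive := fun _ => Nat) (0x2000201000671) (0x3000201000024) (Nat.ble 1575 i)) (Bool.rec (motive := fun _ => Nat) (0x2000202000de2) (0x3000202000327) (Nat.ble 1577 i)) (Nat.ble 1576 i)) (Nat.ble 1574 i)) (Bool.rec (motive := fun _ => Nat) (Bool.rec (motive := fun _ => Nat) (Bool.rec (motive := fun _ =>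 Nat) (0x20300037b) (0x10002030009aa) (Nat.ble 1579 i)) (Bool.rec (motive := fun _ => Nat) (0x2000203000a21) (0x3000203000970) (Nat.ble 1581 i)) (Nat.ble 1580 i)) (Bool.rec (motive := fun _ => Nat) (Bool.rec (motive := fun _ => Nat) (0x4000203000d24) (0x2040007a9) (Nat.ble 1583 i)) (Bool.rec (motive := fun _ => Nat) (0x3000204000374) (0x40002040001e0) (Nat.ble 1585 i)) (Nat.ble 1584 i)) (Nat.ble 1582 i)) (Nat.ble 1578 i)) (Nat.ble 1570 i)) (Nat.ble 1555 i))
noncomputable def CA0P_26 (i : Nat) : Nat := (Bool.rec (motive := fun _ => Nat) (Bool.rec (motive := fun _ => Nat) (Bool.rec (motive := fun _ => Nat) (Bool.rec (motive := fun _ => Nat) (Bool.rec (motive := fun _ => Nat) (0x205000353) (Bool.rec (motive := fun _ => Nat) (0x1000205000b20) (0x3000205000d5a) (Nat.ble 1588 i)) (Nat.ble 1587 i)) (Bool.rec (motive := fun _ => Nat) (Bool.rec (motive := fun _ => Nat) (0x40002050005f0) (0x40002060001d5) (Nat.ble 1590 i)) (Bool.rec (motive := fun _ => Nat) (0x3000207000a18) (0x208000286) (Nat.ble 1592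 i)) (Nat.ble 1591 i)) (Nat.ble 1589 i)) (Bool.rec (motive := fun _ => Nat) (Bool.rec (motive := fun _ => Nat) (Bool.rec (motive := fun _ => Nat) (0x100020800011c) (0x30002080005ad) (Nat.ble 1594 i)) (Bool.rec (motive := fun _ => Nat) (0x4000208000563) (0x1000209000add) (Nat.ble 1596 i)) (Nat.ble 1595 i)) (Bool.rec (motive := fun _ => Nat) (Bool.rec (motive := fun _ => Nat) (0x2000209000e72) (0x4000209000e8d) (Nat.ble 1598 i)) (Bool.rec (motive := fun _ => Nat) (0x200020a0002ed) (0x400020a000409) (Nat.ble 1600 i)) (Nat.ble 1599 i)) (Nat.ble 1597 i)) (Nat.ble 1593 i)) (Bool.rec (motive := fun _ => Nat) (Bool.rec (motive := fun _ => Nat) (Bool.rec (motive := fun _ => Nat) (0x20b000170) (Bool.rec (motive := fun _ => Nat) (0x200020b000d5c) (0x300020b000069) (Nat.ble 1603 i)) (Nat.ble 1602 i)) (Bool.rec (motive := fun _ => Nat) (Bool.rec (motive := fun _ => Nat) (0x200020c0005d6) (0x20d000627) (Nat.ble 1605 i)) (Bool.rec (motive := fun _ => Nat) (0x200020d0005d3) (0x400020d0007bb) (Nat.ble 1607 i))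 (Nat.ble 1606 i)) (Nat.ble 1604 i)) (Bool.rec (motive := fun _ => Nat) (Bool.rec (motive := fun _ => Nat) (Bool.rec (motive := fun _ => Nat) (0x200020e0000db) (0x400020e0004f4) (Nat.ble 1609 i)) (Bool.rec (motive := fun _ => Nat) (0x20f000df4) (0x100020f000114) (Nat.ble 1611 i)) (Nat.ble 1610 i)) (Bool.rec (motive := fun _ => Nat) (Bool.rec (motive := fun _ => Nat) (0x300020f000d76) (0x1000210000e26) (Nat.ble 1613 i)) (Bool.rec (motive := fun _ => Nat) (0x2000210000e29) (0x30002100009a6) (Nat.ble 1615 i)) (Nat.ble 1614 i)) (Nat.ble 1612 i)) (Nat.ble 1608 i)) (Nat.ble 1601 i)) (Bool.rec (motive := fun _ => Nat) (Bool.rec (motive := fun _ => Nat) (Bool.rec (motive := fun _ => Nat) (Bool.rec (motive := fun _ => Nat) (0x4000210000d25) (Bool.rec (motive := fun _ => Nat) (0x2000211000230) (0x30002110007e1) (Nat.ble 1618 i)) (Nat.ble 1617 i)) (Bool.rec (motive := fun _ => Nat) (Bool.rec (motive := fun _ => Nat) (0x2120004c4) (0x3000212000c4c) (Nat.ble 1620 i)) (Bool.rec (motive := fun _ => Nat) (0x4000212000711)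 (0x300021300041b) (Nat.ble 1622 i)) (Nat.ble 1621 i)) (Nat.ble 1619 i)) (Bool.rec (motive := fun _ => Nat) (Bool.rec (motive := fun _ => Nat) (Bool.rec (motive := fun _ => Nat) (0x214000d9d) (0x300021400085c) (Nat.ble 1624 i)) (Bool.rec (motive := fun _ => Nat) (0x2150005c3) (0x10002150005fc) (Nat.ble 1626 i)) (Nat.ble 1625 i)) (Bool.rec (motive := fun _ => Nat) (Bool.rec (motive := fun _ => Nat) (0x2000215000447) (0x216000618) (Nat.ble 1628 i)) (Bool.rec (motive := fun _ => Nat) (0x1000216000a1b) (0x3000216000611) (Nat.ble 1630 i)) (Nat.ble 1629 i)) (Nat.ble 1627 i)) (Nat.ble 1623 i)) (Bool.rec (motive := fun _ => Nat) (Bool.rec (motive := fun _ => Nat) (Bool.rec (motive := fun _ => Nat) (Bool.rec (motive := fun _ => Nat) (0x20002170008c6) (0x4000217000389) (Nat.ble 1632 i)) (Bool.rec (motive := fun _ => Nat) (0x2180004be) (0x100021800080b) (Nat.ble 1634 i)) (Nat.ble 1633 i)) (Bool.rec (motive := fun _ => Nat) (Bool.rec (motive := fun _ => Nat) (0x2000218000e04) (0x1000219000025) (Nat.ble 1636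 i)) (Bool.rec (motive := fun _ => Nat) (0x30002190003f6) (0x100021a0007e0) (Nat.ble 1638 i)) (Nat.ble 1637 i)) (Nat.ble 1635 i)) (Bool.rec (motive := fun _ => Nat) (Bool.rec (motive := fun _ => Nat) (Bool.rec (motive := fun _ => Nat) (0x200021a0001fc) (0x400021a000497) (Nat.ble 1640 i)) (Bool.rec (motive := fun _ => Nat) (0x100021b000ae7) (0x200021b00060c) (Nat.ble 1642 i)) (Nat.ble 1641 i)) (Bool.rec (motive := fun _ => Nat) (Bool.rec (motive := fun _ => Nat) (0x21c000d07) (0x300021c0003f3) (Nat.ble 1644 i)) (Bool.rec (motive := fun _ => Nat) (0x100021d000ac0) (0x200021e000d4f) (Nat.ble 1646 i)) (Nat.ble 1645 i)) (Nat.ble 1643 i)) (Nat.ble 1639 i)) (Nat.ble 1631 i)) (Nat.ble 1616 i))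
noncomputable def CA0P_27 (i : Nat) : Nat := (Bool.rec (motive := fun _ => Nat) (Bool.rec (motive := fun _ => Nat) (Bool.rec (motive := fun _ => Nat) (Bool.rec (motive := fun _ => Nat) (Bool.rec (motive := fun _ => Nat) (0x400021e000c00) (Bool.rec (motive := fun _ => Nat) (0x21f00018b) (0x1000220000ebf) (Nat.ble 1649 i)) (Nat.ble 1648 i)) (Bool.rec (motive := fun _ => Nat) (Bool.rec (motive := fun _ => Nat) (0x2000220000aee) (0x3000220000b05) (Nat.ble 1651 i)) (Bool.rec (motive := fun _ => Nat) (0x4000220000b02) (0x221000a06) (Nat.ble 1653 i)) (Nat.ble 1652 i)) (Nat.ble 1650 i)) (Bool.rec (motive := fun _ => Nat) (Bool.rec (motive := fun _ => Nat) (Bool.rec (motive := fun _ => Nat) (0x10002210000c8) (0x2000221000492) (Nat.ble 1655 i)) (Bool.rec (motive := fun _ => Nat) (0x3000221000ae8) (0x400022100038a) (Nat.ble 1657 i)) (Nat.ble 1656 i)) (Bool.rec (motive := fun _ => Nat) (Bool.rec (motive := fun _ => Nat) (0x222000a31) (0x3000222000a3b) (Nat.ble 1659 i)) (Bool.rec (motive := fun _ => Nat)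 (0x223000e19) (0x2000223000e76) (Nat.ble 1661 i)) (Nat.ble 1660 i)) (Nat.ble 1658 i)) (Nat.ble 1654 i)) (Bool.rec (motive := fun _ => Nat) (Bool.rec (motive := fun _ => Nat) (Bool.rec (motive := fun _ => Nat) (0x3000223000d1d) (Bool.rec (motive := fun _ => Nat) (0x40002230006dd) (0x3000224000782) (Nat.ble 1664 i)) (Nat.ble 1663 i)) (Bool.rec (motive := fun _ => Nat) (Bool.rec (motive := fun _ => Nat) (0x225000abc) (0x1000225000a04) (Nat.ble 1666 i)) (Bool.rec (motive := fun _ => Nat) (0x20002250004a0) (0x20002260005f4) (Nat.ble 1668 i)) (Nat.ble 1667 i)) (Nat.ble 1665 i)) (Bool.rec (motive := fun _ => Nat) (Bool.rec (motive := fun _ => Nat) (Bool.rec (motive := fun _ => Nat) (0x40002260009ec) (0x2000227000252) (Nat.ble 1670 i)) (Bool.rec (motive := fun _ => Nat) (0x3000227000a1a) (0x22800089d) (Nat.ble 1672 i)) (Nat.ble 1671 i)) (Bool.rec (motive := fun _ => Nat) (Bool.rec (motive := fun _ => Nat) (0x1000228000584) (0x30002280002f1) (Nat.ble 1674 i)) (Bool.rec (motive := fun _ => Nat) (0x1000229000ebb)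 (0x2000229000bea) (Nat.ble 1676 i)) (Nat.ble 1675 i)) (Nat.ble 1673 i)) (Nat.ble 1669 i)) (Nat.ble 1662 i)) (Bool.rec (motive := fun _ => Nat) (Bool.rec (motive := fun _ => Nat) (Bool.rec (motive := fun _ => Nat) (Bool.rec (motive := fun _ => Nat) (0x200022a000eda) (Bool.rec (motive := fun _ => Nat) (0x300022a000986) (0x400022a000839) (Nat.ble 1679 i)) (Nat.ble 1678 i)) (Bool.rec (motive := fun _ => Nat) (Bool.rec (motive := fun _ => Nat) (0x22c000263) (0x100022c000dc4) (Nat.ble 1681 i)) (Bool.rec (motive := fun _ => Nat) (0x200022c000507) (0x100022d00093c) (Nat.ble 1683 i)) (Nat.ble 1682 i)) (Nat.ble 1680 i)) (Bool.rec (motive := fun _ => Nat) (Bool.rec (motive := fun _ => Nat) (Bool.rec (motive := fun _ => Nat) (0x100022e000124) (0x200022e000297) (Nat.ble 1685 i)) (Bool.rec (motive := fun _ => Nat) (0x22f000200) (0x200022f000223) (Nat.ble 1687 i)) (Nat.ble 1686 i)) (Bool.rec (motive := fun _ => Nat) (Bool.rec (motive := fun _ => Nat) (0x300022f000969) (0x400022f00007f) (Nat.ble 1689 i)) (Bool.rec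 (motive := fun _ => Nat) (0x2300004cb) (0x1000230000783) (Nat.ble 1691 i)) (Nat.ble 1690 i)) (Nat.ble 1688 i)) (Nat.ble 1684 i)) (Bool.rec (motive := fun _ => Nat) (Bool.rec (motive := fun _ => Nat) (Bool.rec (motive := fun _ => Nat) (Bool.rec (motive := fun _ => Nat) (0x3000230000e96) (0x23100083b) (Nat.ble 1693 i)) (Bool.rec (motive := fun _ => Nat) (0x20002310005a7) (0x3000231000260) (Nat.ble 1695 i)) (Nat.ble 1694 i)) (Bool.rec (motive := fun _ => Nat) (Bool.rec (motive := fun _ => Nat) (0x4000231000be3) (0x232000608) (Nat.ble 1697 i)) (Bool.rec (motive := fun _ => Nat) (0x2000232000d59) (0x400023200070b) (Nat.ble 1699 i)) (Nat.ble 1698 i)) (Nat.ble 1696 i)) (Bool.rec (motive := fun _ => Nat) (Bool.rec (motive := fun _ => Nat) (Bool.rec (motive := fun _ => Nat) (0x233000ac7) (0x4000234000175) (Nat.ble 1701 i)) (Bool.rec (motive := fun _ => Nat) (0x2350008c8) (0x10002350005d4) (Nat.ble 1703 i)) (Nat.ble 1702 i)) (Bool.rec (motive := fun _ => Nat) (Bool.rec (motive := fun _ => Nat) (0x20002350000ca)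 (0x3000235000a9f) (Nat.ble 1705 i)) (Bool.rec (motive := fun _ => Nat) (0x4000235000362) (0x2360003e5) (Nat.ble 1707 i)) (Nat.ble 1706 i)) (Nat.ble 1704 i)) (Nat.ble 1700 i)) (Nat.ble 1692 i)) (Nat.ble 1677 i))
noncomputable def CA0P_28 (i : Nat) : Nat := (Bool.rec (motive := fun _ => Nat) (Bool.rec (motive := fun _ => Nat) (Bool.rec (motive := fun _ => Nat) (Bool.rec (motive := fun _ => Nat) (Bool.rec (motive := fun _ => Nat) (0x10002360000b0) (Bool.rec (motive := fun _ => Nat) (0x237000dd6) (0x1000237000af8) (Nat.ble 1710 i)) (Nat.ble 1709 i)) (Bool.rec (motive := fun _ => Nat) (Bool.rec (motive := fun _ => Nat) (0x2000237000b0c) (0x4000237000ae6) (Nat.ble 1712 i)) (Bool.rec (motive := fun _ => Nat) (0x238000474) (0x100023800069f) (Nat.ble 1714 i)) (Nat.ble 1713 i)) (Nat.ble 1711 i)) (Bool.rec (motive := fun _ => Nat) (Bool.rec (motive := fun _ => Nat) (Bool.rec (motive := fun _ => Nat) (0x2000238000578) (0x3000238000860) (Nat.ble 1716 i)) (Bool.rec (motive := fun _ => Nat) (0x4000238000a27)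 (0x23a000ea2) (Nat.ble 1718 i)) (Nat.ble 1717 i)) (Bool.rec (motive := fun _ => Nat) (Bool.rec (motive := fun _ => Nat) (0x100023a000801) (0x200023a0000e6) (Nat.ble 1720 i)) (Bool.rec (motive := fun _ => Nat) (0x300023a000beb) (0x200023b0000f5) (Nat.ble 1722 i)) (Nat.ble 1721 i)) (Nat.ble 1719 i)) (Nat.ble 1715 i)) (Bool.rec (motive := fun _ => Nat) (Bool.rec (motive := fun _ => Nat) (Bool.rec (motive := fun _ => Nat) (0x300023b000290) (Bool.rec (motive := fun _ => Nat) (0x23c000d3a) (0x300023c000c7d) (Nat.ble 1725 i)) (Nat.ble 1724 i)) (Bool.rec (motive := fun _ => Nat) (Bool.rec (motive := fun _ => Nat) (0x23d000c9f) (0x200023d000305) (Nat.ble 1727 i)) (Bool.rec (motive := fun _ => Nat) (0x400023d000a3f) (0x200023e000cc8) (Nat.ble 1729 i)) (Nat.ble 1728 i)) (Nat.ble 1726 i)) (Bool.rec (motive := fun _ => Nat) (Bool.rec (motive := fun _ => Nat) (Bool.rec (motive := fun _ => Nat) (0x400023e000cd0) (0x23f000811) (Nat.ble 1731 i)) (Bool.rec (motive := fun _ => Nat) (0x200023f0005a0) (0x400023f000814)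 (Nat.ble 1733 i)) (Nat.ble 1732 i)) (Bool.rec (motive := fun _ => Nat) (Bool.rec (motive := fun _ => Nat) (0x100024000001c) (0x3000240000379) (Nat.ble 1735 i)) (Bool.rec (motive := fun _ => Nat) (0x40002410005c5) (0x2420008b2) (Nat.ble 1737 i)) (Nat.ble 1736 i)) (Nat.ble 1734 i)) (Nat.ble 1730 i)) (Nat.ble 1723 i)) (Bool.rec (motive := fun _ => Nat) (Bool.rec (motive := fun _ => Nat) (Bool.rec (motive := fun _ => Nat) (Bool.rec (motive := fun _ => Nat) (0x3000242000af2) (Bool.rec (motive := fun _ => Nat) (0x1000243000b23) (0x200024300028a) (Nat.ble 1740 i)) (Nat.ble 1739 i)) (Bool.rec (motive := fun _ => Nat) (Bool.rec (motive := fun _ => Nat) (0x244000aab) (0x1000244000dce) (Nat.ble 1742 i)) (Bool.rec (motive := fun _ => Nat) (0x20002440006b4) (0x3000244000db6) (Nat.ble 1744 i)) (Nat.ble 1743 i)) (Nat.ble 1741 i)) (Bool.rec (motive := fun _ => Nat) (Bool.rec (motive := fun _ => Nat) (Bool.rec (motive := fun _ => Nat) (0x4000244000e85) (0x245000bbb) (Nat.ble 1746 i)) (Bool.rec (motive := fun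 _ => Nat) (0x1000245000d6e) (0x2000245000da2) (Nat.ble 1748 i)) (Nat.ble 1747 i)) (Bool.rec (motive := fun _ => Nat) (Bool.rec (motive := fun _ => Nat) (0x3000245000ce7) (0x4000245000de5) (Nat.ble 1750 i)) (Bool.rec (motive := fun _ => Nat) (0x2000246000e59) (0x3000246000617) (Nat.ble 1752 i)) (Nat.ble 1751 i)) (Nat.ble 1749 i)) (Nat.ble 1745 i)) (Bool.rec (motive := fun _ => Nat) (Bool.rec (motive := fun _ => Nat) (Bool.rec (motive := fun _ => Nat) (Bool.rec (motive := fun _ => Nat) (0x400024600012d) (0x1000247000772) (Nat.ble 1754 i)) (Bool.rec (motive := fun _ => Nat) (0x2000247000725) (0x1000248000a67) (Nat.ble 1756 i)) (Nat.ble 1755 i)) (Bool.rec (motive := fun _ => Nat) (Bool.rec (motive := fun _ => Nat) (0x2000248000270) (0x300024800060b) (Nat.ble 1758 i)) (Bool.rec (motive := fun _ => Nat) (0x249000dcf) (0x100024900058f) (Nat.ble 1760 i)) (Nat.ble 1759 i)) (Nat.ble 1757 i)) (Bool.rec (motive := fun _ => Nat) (Bool.rec (motive := fun _ => Nat) (Bool.rec (motive := fun _ => Nat) (0x24a000673)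 (0x100024a000e77) (Nat.ble 1762 i)) (Bool.rec (motive := fun _ => Nat) (0x200024a000f23) (0x300024a0004b9) (Nat.ble 1764 i)) (Nat.ble 1763 i)) (Bool.rec (motive := fun _ => Nat) (Bool.rec (motive := fun _ => Nat) (0x400024a000f32) (0x100024b000aeb) (Nat.ble 1766 i)) (Bool.rec (motive := fun _ => Nat) (0x200024b000e92) (0x400024b000f17) (Nat.ble 1768 i)) (Nat.ble 1767 i)) (Nat.ble 1765 i)) (Nat.ble 1761 i)) (Nat.ble 1753 i)) (Nat.ble 1738 i))
noncomputable def CA0P_29 (i : Nat) : Nat := (Bool.rec (motive := fun _ => Nat) (Bool.rec (motive := fun _ => Nat) (Bool.rec (motive := fun _ => Nat) (Bool.rec (motive := fun _ => Nat) (Bool.rec (motive := fun _ => Nat) (0x100024c000759) (Bool.rec (motive := fun _ => Nat) (0x200024c0000ee) (0x400024c0007df) (Nat.ble 1771 i)) (Nat.ble 1770 i)) (Bool.rec (motive := fun _ => Nat) (Bool.rec (motive := fun _ => Nat) (0x200024d000e02) (0x300024d000c2d) (Nat.ble 1773 i)) (Bool.rec (motive := fun _ => Nat) (0x400024d000cfc) (0x100024e000854) (Nat.ble 1775 i)) (Nat.ble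 1774 i)) (Nat.ble 1772 i)) (Bool.rec (motive := fun _ => Nat) (Bool.rec (motive := fun _ => Nat) (Bool.rec (motive := fun _ => Nat) (0x200024e0009a2) (0x300024e000a05) (Nat.ble 1777 i)) (Bool.rec (motive := fun _ => Nat) (0x400024e000174) (0x24f00035d) (Nat.ble 1779 i)) (Nat.ble 1778 i)) (Bool.rec (motive := fun _ => Nat) (Bool.rec (motive := fun _ => Nat) (0x200024f000321) (0x2000250000a9c) (Nat.ble 1781 i)) (Bool.rec (motive := fun _ => Nat) (0x10002510008ce) (0x3000251000f16) (Nat.ble 1783 i)) (Nat.ble 1782 i)) (Nat.ble 1780 i)) (Nat.ble 1776 i)) (Bool.rec (motive := fun _ => Nat) (Bool.rec (motive := fun _ => Nat) (Bool.rec (motive := fun _ => Nat) (0x40002510002bb) (Bool.rec (motive := fun _ => Nat) (0x30002520002fe) (0x1000253000a59) (Nat.ble 1786 i)) (Nat.ble 1785 i)) (Bool.rec (motive := fun _ => Nat) (Bool.rec (motive := fun _ => Nat) (0x20002530007a3) (0x10002540001b3) (Nat.ble 1788 i)) (Bool.rec (motive := fun _ => Nat) (0x4000254000b16) (0x2550009f3) (Nat.ble 1790 i)) (Nat.ble 1789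 i)) (Nat.ble 1787 i)) (Bool.rec (motive := fun _ => Nat) (Bool.rec (motive := fun _ => Nat) (Bool.rec (motive := fun _ => Nat) (0x20002550003c5) (0x20002560006e1) (Nat.ble 1792 i)) (Bool.rec (motive := fun _ => Nat) (0x200025700050a) (0x2580003d6) (Nat.ble 1794 i)) (Nat.ble 1793 i)) (Bool.rec (motive := fun _ => Nat) (Bool.rec (motive := fun _ => Nat) (0x259000ac6) (0x3000259000485) (Nat.ble 1796 i)) (Bool.rec (motive := fun _ => Nat) (0x25a0009a5) (0x100025a000b78) (Nat.ble 1798 i)) (Nat.ble 1797 i)) (Nat.ble 1795 i)) (Nat.ble 1791 i)) (Nat.ble 1784 i)) (Bool.rec (motive := fun _ => Nat) (Bool.rec (motive := fun _ => Nat) (Bool.rec (motive := fun _ => Nat) (Bool.rec (motive := fun _ => Nat) (0x200025a000a01) (Bool.rec (motive := fun _ => Nat) (0x300025a000f09) (0x400025a0007d2) (Nat.ble 1801 i)) (Nat.ble 1800 i)) (Bool.rec (motive := fun _ => Nat) (Bool.rec (motive := fun _ => Nat) (0x25c0001ba) (0x200025c00020e) (Nat.ble 1803 i)) (Bool.rec (motive := fun _ => Nat) (0x400025c000793) (0x25d0009df)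 (Nat.ble 1805 i)) (Nat.ble 1804 i)) (Nat.ble 1802 i)) (Bool.rec (motive := fun _ => Nat) (Bool.rec (motive := fun _ => Nat) (Bool.rec (motive := fun _ => Nat) (0x200025d0009a4) (0x300025d00022a) (Nat.ble 1807 i)) (Bool.rec (motive := fun _ => Nat) (0x25e0003c7) (0x300025e00039a) (Nat.ble 1809 i)) (Nat.ble 1808 i)) (Bool.rec (motive := fun _ => Nat) (Bool.rec (motive := fun _ => Nat) (0x2600008af) (0x30002600004c9) (Nat.ble 1811 i)) (Bool.rec (motive := fun _ => Nat) (0x3000261000412) (0x262000116) (Nat.ble 1813 i)) (Nat.ble 1812 i)) (Nat.ble 1810 i)) (Nat.ble 1806 i)) (Bool.rec (motive := fun _ => Nat) (Bool.rec (motive := fun _ => Nat) (Bool.rec (motive := fun _ => Nat) (Bool.rec (motive := fun _ => Nat) (0x20002620003cf) (0x30002620008f1) (Nat.ble 1815 i)) (Bool.rec (motive := fun _ => Nat) (0x10002630009e0) (0x30002630005ac) (Nat.ble 1817 i)) (Nat.ble 1816 i)) (Bool.rec (motive := fun _ => Nat) (Bool.rec (motive := fun _ => Nat) (0x26400014a) (0x10002640005e5) (Nat.ble 1819 i)) (Bool.rec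 (motive := fun _ => Nat) (0x2000264000146) (0x3000265000983) (Nat.ble 1821 i)) (Nat.ble 1820 i)) (Nat.ble 1818 i)) (Bool.rec (motive := fun _ => Nat) (Bool.rec (motive := fun _ => Nat) (Bool.rec (motive := fun _ => Nat) (0x266000207) (0x3000266000d61) (Nat.ble 1823 i)) (Bool.rec (motive := fun _ => Nat) (0x2670002dd) (0x20002670004e2) (Nat.ble 1825 i)) (Nat.ble 1824 i)) (Bool.rec (motive := fun _ => Nat) (Bool.rec (motive := fun _ => Nat) (0x3000267000d44) (0x1000268000a2a) (Nat.ble 1827 i)) (Bool.rec (motive := fun _ => Nat) (0x20002680008a1) (0x30002680001df) (Nat.ble 1829 i)) (Nat.ble 1828 i)) (Nat.ble 1826 i)) (Nat.ble 1822 i)) (Nat.ble 1814 i)) (Nat.ble 1799 i))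
noncomputable def CA0P_30 (i : Nat) : Nat := (Bool.rec (motive := fun _ => Nat) (Bool.rec (motive := fun _ => Nat) (Bool.rec (motive := fun _ => Nat) (Bool.rec (motive := fun _ => Nat) (Bool.rec (motive := fun _ => Nat) (0x40002680000ef) (Bool.rec (motive := fun _ => Nat) (0x2000269000e03) (0x4000269000090) (Nat.ble 1832 i)) (Nat.ble 1831 i)) (Bool.rec (motive := fun _ => Nat) (Bool.rec (motive := fun _ => Nat) (0x400026a00018c) (0x26b000757) (Nat.ble 1834 i)) (Bool.rec (motive := fun _ => Nat) (0x100026b000e14) (0x200026b0007cc) (Nat.ble 1836 i)) (Nat.ble 1835 i)) (Nat.ble 1833 i)) (Bool.rec (motive := fun _ => Nat) (Bool.rec (motive := fun _ => Nat) (Bool.rec (motive := fun _ => Nat) (0x300026b00075c) (0x200026c000708) (Nat.ble 1838 i)) (Bool.rec (motive := fun _ => Nat) (0x300026c00016b) (0x400026c000ba0) (Nat.ble 1840 i)) (Nat.ble 1839 i)) (Bool.rec (motive := fun _ => Nat) (Bool.rec (motive := fun _ => Nat) (0x26d00097c) (0x100026d0003a2) (Nat.ble 1842 i)) (Bool.rec (motive := fun _ =>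 Nat) (0x300026d0007e5) (0x26e0009ab) (Nat.ble 1844 i)) (Nat.ble 1843 i)) (Nat.ble 1841 i)) (Nat.ble 1837 i)) (Bool.rec (motive := fun _ => Nat) (Bool.rec (motive := fun _ => Nat) (Bool.rec (motive := fun _ => Nat) (0x200026e000067) (Bool.rec (motive := fun _ => Nat) (0x300026e00080f) (0x200026f000784) (Nat.ble 1847 i)) (Nat.ble 1846 i)) (Bool.rec (motive := fun _ => Nat) (Bool.rec (motive := fun _ => Nat) (0x2700008c2) (0x10002700007fe) (Nat.ble 1849 i)) (Bool.rec (motive := fun _ => Nat) (0x20002700008e4) (0x3000270000255) (Nat.ble 1851 i)) (Nat.ble 1850 i)) (Nat.ble 1848 i)) (Bool.rec (motive := fun _ => Nat) (Bool.rec (motive := fun _ => Nat) (Bool.rec (motive := fun _ => Nat) (0x2710008eb) (0x1000271000d0c) (Nat.ble 1853 i)) (Bool.rec (motive := fun _ => Nat) (0x2000271000d0b) (0x3000271000c6d) (Nat.ble 1855 i)) (Nat.ble 1854 i)) (Bool.rec (motive := fun _ => Nat) (Bool.rec (motive := fun _ => Nat) (0x1000272000aad) (0x2000272000dca) (Nat.ble 1857 i)) (Bool.rec (motive := fun _ => Nat) (0x30002720006b9)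 (0x4000272000da1) (Nat.ble 1859 i)) (Nat.ble 1858 i)) (Nat.ble 1856 i)) (Nat.ble 1852 i)) (Nat.ble 1845 i)) (Bool.rec (motive := fun _ => Nat) (Bool.rec (motive := fun _ => Nat) (Bool.rec (motive := fun _ => Nat) (Bool.rec (motive := fun _ => Nat) (0x273000399) (Bool.rec (motive := fun _ => Nat) (0x3000273000935) (0x2740006ec) (Nat.ble 1862 i)) (Nat.ble 1861 i)) (Bool.rec (motive := fun _ => Nat) (Bool.rec (motive := fun _ => Nat) (0x100027400088d) (0x2000274000d43) (Nat.ble 1864 i)) (Bool.rec (motive := fun _ => Nat) (0x30002750009e3) (0x27600030b) (Nat.ble 1866 i)) (Nat.ble 1865 i)) (Nat.ble 1863 i)) (Bool.rec (motive := fun _ => Nat) (Bool.rec (motive := fun _ => Nat) (Bool.rec (motive := fun _ => Nat) (0x1000276000600) (0x277000cb9) (Nat.ble 1868 i)) (Bool.rec (motive := fun _ => Nat) (0x1000277000cf3) (0x2000277000dd3) (Nat.ble 1870 i)) (Nat.ble 1869 i)) (Bool.rec (motive := fun _ => Nat) (Bool.rec (motive := fun _ => Nat) (0x300027700064e) (0x4000277000838) (Nat.ble 1872 i)) (Bool.rec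 (motive := fun _ => Nat) (0x278000c67) (0x1000278000ce2) (Nat.ble 1874 i)) (Nat.ble 1873 i)) (Nat.ble 1871 i)) (Nat.ble 1867 i)) (Bool.rec (motive := fun _ => Nat) (Bool.rec (motive := fun _ => Nat) (Bool.rec (motive := fun _ => Nat) (Bool.rec (motive := fun _ => Nat) (0x2000278000eb0) (0x3000278000f25) (Nat.ble 1876 i)) (Bool.rec (motive := fun _ => Nat) (0x4000278000e7f) (0x2790005b1) (Nat.ble 1878 i)) (Nat.ble 1877 i)) (Bool.rec (motive := fun _ => Nat) (Bool.rec (motive := fun _ => Nat) (0x1000279000e95) (0x3000279000c34) (Nat.ble 1880 i)) (Bool.rec (motive := fun _ => Nat) (0x4000279000c26) (0x27a000f2d) (Nat.ble 1882 i)) (Nat.ble 1881 i)) (Nat.ble 1879 i)) (Bool.rec (motive := fun _ => Nat) (Bool.rec (motive := fun _ => Nat) (Bool.rec (motive := fun _ => Nat) (0x300027a000e6c) (0x100027b000183) (Nat.ble 1884 i)) (Bool.rec (motive := fun _ => Nat) (0x300027b000e3d) (0x27c00025f) (Nat.ble 1886 i)) (Nat.ble 1885 i)) (Bool.rec (motive := fun _ => Nat) (Bool.rec (motive := fun _ => Nat) (0x100027c000ecc)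 (0x300027c0006e6) (Nat.ble 1888 i)) (Bool.rec (motive := fun _ => Nat) (0x200027d000d7b) (0x300027d00036b) (Nat.ble 1890 i)) (Nat.ble 1889 i)) (Nat.ble 1887 i)) (Nat.ble 1883 i)) (Nat.ble 1875 i)) (Nat.ble 1860 i))
noncomputable def CA0P_31 (i : Nat) : Nat := (Bool.rec (motive := fun _ => Nat) (Bool.rec (motive := fun _ => Nat) (Bool.rec (motive := fun _ => Nat) (Bool.rec (motive := fun _ => Nat) (Bool.rec (motive := fun _ => Nat) (0x400027d00013b) (Bool.rec (motive := fun _ => Nat) (0x27e00058a) (0x200027e000df8) (Nat.ble 1893 i)) (Nat.ble 1892 i)) (Bool.rec (motive := fun _ => Nat) (Bool.rec (motive := fun _ => Nat) (0x300027e000ef7) (0x400027e0002fa) (Nat.ble 1895 i)) (Bool.rec (motive := fun _ => Nat) (0x27f000d9a) (0x100027f000a2e) (Nat.ble 1897 i)) (Nat.ble 1896 i)) (Nat.ble 1894 i)) (Bool.rec (motive := fun _ => Nat) (Bool.rec (motive := fun _ => Nat) (Bool.rec (motive := fun _ => Nat) (0x200027f000da0) (0x2000280000cac) (Nat.ble 1899 i)) (Bool.rec (motive := fun _ => Nat) (0x3000280000247)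 (0x2810006fb) (Nat.ble 1901 i)) (Nat.ble 1900 i)) (Bool.rec (motive := fun _ => Nat) (Bool.rec (motive := fun _ => Nat) (0x100028100010e) (0x3000281000714) (Nat.ble 1903 i)) (Bool.rec (motive := fun _ => Nat) (0x40002810001f7) (0x282000a90) (Nat.ble 1905 i)) (Nat.ble 1904 i)) (Nat.ble 1902 i)) (Nat.ble 1898 i)) (Bool.rec (motive := fun _ => Nat) (Bool.rec (motive := fun _ => Nat) (Bool.rec (motive := fun _ => Nat) (Bool.rec (motive := fun _ => Nat) (0x2000282000942) (0x300028200045f) (Nat.ble 1907 i)) (Bool.rec (motive := fun _ => Nat) (0x20002830009e5) (0x3000283000e54) (Nat.ble 1909 i)) (Nat.ble 1908 i)) (Bool.rec (motive := fun _ => Nat) (Bool.rec (motive := fun _ => Nat) (0x2000284000f26) (0x40002840007e7) (Nat.ble 1911 i)) (Bool.rec (motive := fun _ => Nat) (0x2850006d4) (0x2000285000181) (Nat.ble 1913 i)) (Nat.ble 1912 i)) (Nat.ble 1910 i)) (Bool.rec (motive := fun _ => Nat) (Bool.rec (motive := fun _ => Nat) (Bool.rec (motive := fun _ => Nat) (0x28700087a) (0x1000287000f0e) (Nat.ble 1915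 i)) (Bool.rec (motive := fun _ => Nat) (0x2000287000eb6) (0x30002870009ea) (Nat.ble 1917 i)) (Nat.ble 1916 i)) (Bool.rec (motive := fun _ => Nat) (Bool.rec (motive := fun _ => Nat) (0x4000287000d0d) (0x288000cb3) (Nat.ble 1919 i)) (Bool.rec (motive := fun _ => Nat) (0x10002880008a5) (0x200028800004c) (Nat.ble 1921 i)) (Nat.ble 1920 i)) (Nat.ble 1918 i)) (Nat.ble 1914 i)) (Nat.ble 1906 i)) (Bool.rec (motive := fun _ => Nat) (Bool.rec (motive := fun _ => Nat) (Bool.rec (motive := fun _ => Nat) (Bool.rec (motive := fun _ => Nat) (0x3000288000be8) (Bool.rec (motive := fun _ => Nat) (0x400028800058b) (0x20002890002cd) (Nat.ble 1924 i)) (Nat.ble 1923 i)) (Bool.rec (motive := fun _ => Nat) (Bool.rec (motive := fun _ => Nat) (0x400028900056a) (0x28a000c52) (Nat.ble 1926 i)) (Bool.rec (motive := fun _ => Nat) (0x200028a0003dd) (0x300028a00082a) (Nat.ble 1928 i)) (Nat.ble 1927 i)) (Nat.ble 1925 i)) (Bool.rec (motive := fun _ => Nat) (Bool.rec (motive := fun _ => Nat) (Bool.rec (motive := fun _ => Nat)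 (0x200028b00081e) (0x400028c000325) (Nat.ble 1930 i)) (Bool.rec (motive := fun _ => Nat) (0x28d000491) (0x28e000a5b) (Nat.ble 1932 i)) (Nat.ble 1931 i)) (Bool.rec (motive := fun _ => Nat) (Bool.rec (motive := fun _ => Nat) (0x300028e000235) (0x100028f0009bb) (Nat.ble 1934 i)) (Bool.rec (motive := fun _ => Nat) (0x290000957) (0x2000290000954) (Nat.ble 1936 i)) (Nat.ble 1935 i)) (Nat.ble 1933 i)) (Nat.ble 1929 i)) (Bool.rec (motive := fun _ => Nat) (Bool.rec (motive := fun _ => Nat) (Bool.rec (motive := fun _ => Nat) (Bool.rec (motive := fun _ => Nat) (0x300029000027f) (0x4000290000585) (Nat.ble 1938 i)) (Bool.rec (motive := fun _ => Nat) (0x30002910009f6) (0x293000a2d) (Nat.ble 1940 i)) (Nat.ble 1939 i)) (Bool.rec (motive := fun _ => Nat) (Bool.rec (motive := fun _ => Nat) (0x2000293000f0b) (0x30002930009fa) (Nat.ble 1942 i)) (Bool.rec (motive := fun _ => Nat) (0x400029300078c) (0x29400024a) (Nat.ble 1944 i)) (Nat.ble 1943 i)) (Nat.ble 1941 i)) (Bool.rec (motive := fun _ => Nat) (Bool.rec (motive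 := fun _ => Nat) (Bool.rec (motive := fun _ => Nat) (0x3000294000aba) (0x2950003ed) (Nat.ble 1946 i)) (Bool.rec (motive := fun _ => Nat) (0x1000295000b30) (0x2000295000c79) (Nat.ble 1948 i)) (Nat.ble 1947 i)) (Bool.rec (motive := fun _ => Nat) (Bool.rec (motive := fun _ => Nat) (0x3000295000828) (0x4000295000ef9) (Nat.ble 1950 i)) (Bool.rec (motive := fun _ => Nat) (0x2000296000036) (0x297000310) (Nat.ble 1952 i)) (Nat.ble 1951 i)) (Nat.ble 1949 i)) (Nat.ble 1945 i)) (Nat.ble 1937 i)) (Nat.ble 1922 i))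
noncomputable def CA0P_32 (i : Nat) : Nat := (Bool.rec (motive := fun _ => Nat) (Bool.rec (motive := fun _ => Nat) (Bool.rec (motive := fun _ => Nat) (Bool.rec (motive := fun _ => Nat) (Bool.rec (motive := fun _ => Nat) (0x1000297000717) (Bool.rec (motive := fun _ => Nat) (0x2000297000481) (0x300029700019c) (Nat.ble 1955 i)) (Nat.ble 1954 i)) (Bool.rec (motive := fun _ => Nat) (Bool.rec (motive := fun _ => Nat) (0x10002980009fd) (0x40002980006a7) (Nat.ble 1957 i)) (Bool.rec (motive := fun _ => Nat) (0x2990003fa) (0x100029900010c) (Nat.ble 1959 i)) (Nat.ble 1958 i)) (Nat.ble 1956 i)) (Bool.rec (motive := fun _ => Nat) (Bool.rec (motive := fun _ => Nat) (Bool.rec (motive := fun _ => Nat) (0x400029a000b66) (0x400029b0003e3) (Nat.ble 1961 i)) (Bool.rec (motive := fun _ => Nat) (0x200029c00076f) (0x100029d0007cd) (Nat.ble 1963 i)) (Nat.ble 1962 i)) (Bool.rec (motive := fun _ => Nat) (Bool.rec (motive := fun _ => Nat) (0x400029d000388) (0x29e0005e8) (Nat.ble 1965 i)) (Bool.rec (motive := fun _ =>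 Nat) (0x300029e00050e) (0x200029f0003b8) (Nat.ble 1967 i)) (Nat.ble 1966 i)) (Nat.ble 1964 i)) (Nat.ble 1960 i)) (Bool.rec (motive := fun _ => Nat) (Bool.rec (motive := fun _ => Nat) (Bool.rec (motive := fun _ => Nat) (0x2a0000c6e) (Bool.rec (motive := fun _ => Nat) (0x20002a00001f2) (0x30002a0000d01) (Nat.ble 1970 i)) (Nat.ble 1969 i)) (Bool.rec (motive := fun _ => Nat) (Bool.rec (motive := fun _ => Nat) (0x10002a1000438) (0x40002a1000292) (Nat.ble 1972 i)) (Bool.rec (motive := fun _ => Nat) (0x2a200043a) (0x40002a2000453) (Nat.ble 1974 i)) (Nat.ble 1973 i)) (Nat.ble 1971 i)) (Bool.rec (motive := fun _ => Nat) (Bool.rec (motive := fun _ => Nat) (Bool.rec (motive := fun _ => Nat) (0x40002a300040a) (0x2a4000817) (Nat.ble 1976 i)) (Bool.rec (motive := fun _ => Nat) (0x30002a4000eaf) (0x2a50003db) (Nat.ble 1978 i)) (Nat.ble 1977 i)) (Bool.rec (motive := fun _ => Nat) (Bool.rec (motive := fun _ => Nat) (0x10002a5000076) (0x30002a5000b52) (Nat.ble 1980 i)) (Bool.rec (motive := fun _ => Nat) (0x2a6000bf2)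 (0x10002a6000a95) (Nat.ble 1982 i)) (Nat.ble 1981 i)) (Nat.ble 1979 i)) (Nat.ble 1975 i)) (Nat.ble 1968 i)) (Bool.rec (motive := fun _ => Nat) (Bool.rec (motive := fun _ => Nat) (Bool.rec (motive := fun _ => Nat) (Bool.rec (motive := fun _ => Nat) (0x20002a6000ae5) (Bool.rec (motive := fun _ => Nat) (0x30002a6000dbb) (0x2a7000d65) (Nat.ble 1985 i)) (Nat.ble 1984 i)) (Bool.rec (motive := fun _ => Nat) (Bool.rec (motive := fun _ => Nat) (0x20002a7000ea7) (0x10002a8000a83) (Nat.ble 1987 i)) (Bool.rec (motive := fun _ => Nat) (0x20002a8000177) (0x30002a8000eef) (Nat.ble 1989 i)) (Nat.ble 1988 i)) (Nat.ble 1986 i)) (Bool.rec (motive := fun _ => Nat) (Bool.rec (motive := fun _ => Nat) (Bool.rec (motive := fun _ => Nat) (0x40002a9000658) (0x20002ab0000bc) (Nat.ble 1991 i)) (Bool.rec (motive := fun _ => Nat) (0x30002ab000849) (0x10002ac000225) (Nat.ble 1993 i)) (Nat.ble 1992 i)) (Bool.rec (motive := fun _ => Nat) (Bool.rec (motive := fun _ => Nat) (0x20002ac0005d5) (0x30002ac00028b) (Nat.ble 1995 i))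 (Bool.rec (motive := fun _ => Nat) (0x20002ad00040c) (0x2ae0008cc) (Nat.ble 1997 i)) (Nat.ble 1996 i)) (Nat.ble 1994 i)) (Nat.ble 1990 i)) (Bool.rec (motive := fun _ => Nat) (Bool.rec (motive := fun _ => Nat) (Bool.rec (motive := fun _ => Nat) (Bool.rec (motive := fun _ => Nat) (0x40002ae000ec6) (0x30002af000d94) (Nat.ble 1999 i)) (Bool.rec (motive := fun _ => Nat) (0x30002b0000ade) (0x40002b000011e) (Nat.ble 2001 i)) (Nat.ble 2000 i)) (Bool.rec (motive := fun _ => Nat) (Bool.rec (motive := fun _ => Nat) (0x2b10005e4) (0x10002b100014d) (Nat.ble 2003 i)) (Bool.rec (motive := fun _ => Nat) (0x30002b1000f0c) (0x2b200097f) (Nat.ble 2005 i)) (Nat.ble 2004 i)) (Nat.ble 2002 i)) (Bool.rec (motive := fun _ => Nat) (Bool.rec (motive := fun _ => Nat) (Bool.rec (motive := fun _ => Nat) (0x20002b20001be) (0x40002b2000475) (Nat.ble 2007 i)) (Bool.rec (motive := fun _ => Nat) (0x2b30006b7) (0x40002b30008ef) (Nat.ble 2009 i)) (Nat.ble 2008 i)) (Bool.rec (motive := fun _ => Nat) (Bool.rec (motive := fun _ =>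 Nat) (0x10002b4000d66) (0x20002b4000425) (Nat.ble 2011 i)) (Bool.rec (motive := fun _ => Nat) (0x2b5000872) (0x20002b500035a) (Nat.ble 2013 i)) (Nat.ble 2012 i)) (Nat.ble 2010 i)) (Nat.ble 2006 i)) (Nat.ble 1998 i)) (Nat.ble 1983 i))
noncomputable def CA0P_33 (i : Nat) : Nat := (Bool.rec (motive := fun _ => Nat) (Bool.rec (motive := fun _ => Nat) (Bool.rec (motive := fun _ => Nat) (Bool.rec (motive := fun _ => Nat) (Bool.rec (motive := fun _ => Nat) (0x30002b5000211) (Bool.rec (motive := fun _ => Nat) (0x40002b5000bf9) (0x10002b6000a10) (Nat.ble 2016 i)) (Nat.ble 2015 i)) (Bool.rec (motive := fun _ => Nat) (Bool.rec (motive := fun _ => Nat) (0x20002b6000b70) (0x40002b6000b7b) (Nat.ble 2018 i)) (Bool.rec (motive := fun _ => Nat) (0x2b8000d31) (0x10002b8000c9a) (Nat.ble 2020 i)) (Nat.ble 2019 i)) (Nat.ble 2017 i)) (Bool.rec (motive := fun _ => Nat) (Bool.rec (motive := fun _ => Nat) (Bool.rec (motive := fun _ => Nat) (0x30002b8000ef0) (0x20002b9000deb) (Nat.ble 2022 i)) (Bool.rec (motive := fun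 _ => Nat) (0x40002b9000cbc) (0x30002ba00027a) (Nat.ble 2024 i)) (Nat.ble 2023 i)) (Bool.rec (motive := fun _ => Nat) (Bool.rec (motive := fun _ => Nat) (0x2bb000b8c) (0x20002bb0005b2) (Nat.ble 2026 i)) (Bool.rec (motive := fun _ => Nat) (0x30002bb000636) (0x20002bc000653) (Nat.ble 2028 i)) (Nat.ble 2027 i)) (Nat.ble 2025 i)) (Nat.ble 2021 i)) (Bool.rec (motive := fun _ => Nat) (Bool.rec (motive := fun _ => Nat) (Bool.rec (motive := fun _ => Nat) (0x2bd000236) (Bool.rec (motive := fun _ => Nat) (0x40002bd0002b6) (0x2be000b2c) (Nat.ble 2031 i)) (Nat.ble 2030 i)) (Bool.rec (motive := fun _ => Nat) (Bool.rec (motive := fun _ => Nat) (0x10002be000bb7) (0x30002be000ebe) (Nat.ble 2033 i)) (Bool.rec (motive := fun _ => Nat) (0x40002be0002bc) (0x2bf0006fa) (Nat.ble 2035 i)) (Nat.ble 2034 i)) (Nat.ble 2032 i)) (Bool.rec (motive := fun _ => Nat) (Bool.rec (motive := fun _ => Nat) (Bool.rec (motive := fun _ => Nat) (0x10002bf000ee3) (0x20002bf000293) (Nat.ble 2037 i)) (Bool.rec (motive := fun _ => Nat)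 (0x20002c0000b41) (0x30002c000005e) (Nat.ble 2039 i)) (Nat.ble 2038 i)) (Bool.rec (motive := fun _ => Nat) (Bool.rec (motive := fun _ => Nat) (0x2c1000469) (0x40002c1000233) (Nat.ble 2041 i)) (Bool.rec (motive := fun _ => Nat) (0x2c2000d60) (0x10002c200046c) (Nat.ble 2043 i)) (Nat.ble 2042 i)) (Nat.ble 2040 i)) (Nat.ble 2036 i)) (Nat.ble 2029 i)) (Bool.rec (motive := fun _ => Nat) (Bool.rec (motive := fun _ => Nat) (Bool.rec (motive := fun _ => Nat) (Bool.rec (motive := fun _ => Nat) (0x20002c2000c3b) (Bool.rec (motive := fun _ => Nat) (0x30002c2000dc6) (0x2c30001c1) (Nat.ble 2046 i)) (Nat.ble 2045 i)) (Bool.rec (motive := fun _ => Nat) (Bool.rec (motive := fun _ => Nat) (0x30002c3000a58) (0x10002c400040b) (Nat.ble 2048 i)) (Bool.rec (motive := fun _ => Nat) (0x30002c400067c) (0x40002c4000809) (Nat.ble 2050 i)) (Nat.ble 2049 i)) (Nat.ble 2047 i)) (Bool.rec (motive := fun _ => Nat) (Bool.rec (motive := fun _ => Nat) (Bool.rec (motive := fun _ => Nat) (0x10002c60001fe) (0x40002c600039f) (Nat.ble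 2052 i)) (Bool.rec (motive := fun _ => Nat) (0x2c7000366) (0x30002c7000991) (Nat.ble 2054 i)) (Nat.ble 2053 i)) (Bool.rec (motive := fun _ => Nat) (Bool.rec (motive := fun _ => Nat) (0x20002c8000c2a) (0x30002c8000045) (Nat.ble 2056 i)) (Bool.rec (motive := fun _ => Nat) (0x40002c8000545) (0x2c900075f) (Nat.ble 2058 i)) (Nat.ble 2057 i)) (Nat.ble 2055 i)) (Nat.ble 2051 i)) (Bool.rec (motive := fun _ => Nat) (Bool.rec (motive := fun _ => Nat) (Bool.rec (motive := fun _ => Nat) (Bool.rec (motive := fun _ => Nat) (0x20002c9000d91) (0x30002c9000cea) (Nat.ble 2060 i)) (Bool.rec (motive := fun _ => Nat) (0x40002c9000c5a) (0x2ca000996) (Nat.ble 2062 i)) (Nat.ble 2061 i)) (Bool.rec (motive := fun _ => Nat) (Bool.rec (motive := fun _ => Nat) (0x20002ca00034d) (0x30002ca000352) (Nat.ble 2064 i)) (Bool.rec (motive := fun _ => Nat) (0x2cb000979) (0x10002cb0007c6) (Nat.ble 2066 i)) (Nat.ble 2065 i)) (Nat.ble 2063 i)) (Bool.rec (motive := fun _ => Nat) (Bool.rec (motive := fun _ => Nat) (Bool.rec (motive :=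 fun _ => Nat) (0x20002cb00054e) (0x30002cb000c7a) (Nat.ble 2068 i)) (Bool.rec (motive := fun _ => Nat) (0x10002cc00071d) (0x20002cc000e65) (Nat.ble 2070 i)) (Nat.ble 2069 i)) (Bool.rec (motive := fun _ => Nat) (Bool.rec (motive := fun _ => Nat) (0x40002cc000d7e) (0x2cd000128) (Nat.ble 2072 i)) (Bool.rec (motive := fun _ => Nat) (0x30002cd000195) (0x40002cd0009c2) (Nat.ble 2074 i)) (Nat.ble 2073 i)) (Nat.ble 2071 i)) (Nat.ble 2067 i)) (Nat.ble 2059 i)) (Nat.ble 2044 i))
noncomputable def CA0P_34 (i : Nat) : Nat := (Bool.rec (motive := fun _ => Nat) (Bool.rec (motive := fun _ => Nat) (Bool.rec (motive := fun _ => Nat) (Bool.rec (motive := fun _ => Nat) (Bool.rec (motive := fun _ => Nat) (0x2ce000cc9) (Bool.rec (motive := fun _ => Nat) (0x10002ce000a3c) (0x20002ce0000fe) (Nat.ble 2077 i)) (Nat.ble 2076 i)) (Bool.rec (motive := fun _ => Nat) (Bool.rec (motive := fun _ => Nat) (0x2cf000810) (0x30002cf000bad) (Nat.ble 2079 i)) (Bool.rec (motive := fun _ => Nat) (0x40002cf00036a) (0x2d00009bf) (Nat.ble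 2081 i)) (Nat.ble 2080 i)) (Nat.ble 2078 i)) (Bool.rec (motive := fun _ => Nat) (Bool.rec (motive := fun _ => Nat) (Bool.rec (motive := fun _ => Nat) (0x10002d00000ce) (0x30002d00003f7) (Nat.ble 2083 i)) (Bool.rec (motive := fun _ => Nat) (0x2d2000b8e) (0x20002d2000b03) (Nat.ble 2085 i)) (Nat.ble 2084 i)) (Bool.rec (motive := fun _ => Nat) (Bool.rec (motive := fun _ => Nat) (0x30002d2000a6e) (0x20002d300073c) (Nat.ble 2087 i)) (Bool.rec (motive := fun _ => Nat) (0x40002d30008ff) (0x2d40005ef) (Nat.ble 2089 i)) (Nat.ble 2088 i)) (Nat.ble 2086 i)) (Nat.ble 2082 i)) (Bool.rec (motive := fun _ => Nat) (Bool.rec (motive := fun _ => Nat) (Bool.rec (motive := fun _ => Nat) (0x10002d50000a9) (Bool.rec (motive := fun _ => Nat) (0x20002d5000654) (0x40002d5000e63) (Nat.ble 2092 i)) (Nat.ble 2091 i)) (Bool.rec (motive := fun _ => Nat) (Bool.rec (motive := fun _ => Nat) (0x2d600041a) (0x10002d6000dcd) (Nat.ble 2094 i)) (Bool.rec (motive := fun _ => Nat) (0x20002d6000529) (0x40002d6000c6c) (Nat.ble 2096 i))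 (Nat.ble 2095 i)) (Nat.ble 2093 i)) (Bool.rec (motive := fun _ => Nat) (Bool.rec (motive := fun _ => Nat) (Bool.rec (motive := fun _ => Nat) (0x2d8000f04) (0x20002d8000947) (Nat.ble 2098 i)) (Bool.rec (motive := fun _ => Nat) (0x2da00020a) (0x30002da000aec) (Nat.ble 2100 i)) (Nat.ble 2099 i)) (Bool.rec (motive := fun _ => Nat) (Bool.rec (motive := fun _ => Nat) (0x20002db000e94) (0x40002db000841) (Nat.ble 2102 i)) (Bool.rec (motive := fun _ => Nat) (0x2dc000166) (0x10002dc000ab6) (Nat.ble 2104 i)) (Nat.ble 2103 i)) (Nat.ble 2101 i)) (Nat.ble 2097 i)) (Nat.ble 2090 i)) (Bool.rec (motive := fun _ => Nat) (Bool.rec (motive := fun _ => Nat) (Bool.rec (motive := fun _ => Nat) (Bool.rec (motive := fun _ => Nat) (0x10002dd00055d) (Bool.rec (motive := fun _ => Nat) (0x30002dd000c51) (0x40002de000aef) (Nat.ble 2107 i)) (Nat.ble 2106 i)) (Bool.rec (motive := fun _ => Nat) (Bool.rec (motive := fun _ => Nat) (0x2df000d88) (0x30002e200056b) (Nat.ble 2109 i)) (Bool.rec (motive := fun _ => Nat) (0x40002e20002b7)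 (0x40002e3000484) (Nat.ble 2111 i)) (Nat.ble 2110 i)) (Nat.ble 2108 i)) (Bool.rec (motive := fun _ => Nat) (Bool.rec (motive := fun _ => Nat) (Bool.rec (motive := fun _ => Nat) (0x30002e4000d22) (0x10002e5000639) (Nat.ble 2113 i)) (Bool.rec (motive := fun _ => Nat) (0x20002e5000674) (0x10002e600047c) (Nat.ble 2115 i)) (Nat.ble 2114 i)) (Bool.rec (motive := fun _ => Nat) (Bool.rec (motive := fun _ => Nat) (0x10002e7000c62) (0x20002e7000ca7) (Nat.ble 2117 i)) (Bool.rec (motive := fun _ => Nat) (0x30002e7000722) (0x40002e7000ee1) (Nat.ble 2119 i)) (Nat.ble 2118 i)) (Nat.ble 2116 i)) (Nat.ble 2112 i)) (Bool.rec (motive := fun _ => Nat) (Bool.rec (motive := fun _ => Nat) (Bool.rec (motive := fun _ => Nat) (Bool.rec (motive := fun _ => Nat) (0x10002e8000113) (0x30002e8000bbf) (Nat.ble 2121 i)) (Bool.rec (motive := fun _ => Nat) (0x30002e900017f) (0x2ea0008fa) (Nat.ble 2123 i)) (Nat.ble 2122 i)) (Bool.rec (motive := fun _ => Nat) (Bool.rec (motive := fun _ => Nat) (0x20002ea000ed2) (0x30002ea0000fb)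 (Nat.ble 2125 i)) (Bool.rec (motive := fun _ => Nat) (0x40002eb000936) (0x10002ec000458) (Nat.ble 2127 i)) (Nat.ble 2126 i)) (Nat.ble 2124 i)) (Bool.rec (motive := fun _ => Nat) (Bool.rec (motive := fun _ => Nat) (Bool.rec (motive := fun _ => Nat) (0x30002ee000c46) (0x2f00009a7) (Nat.ble 2129 i)) (Bool.rec (motive := fun _ => Nat) (0x20002f0000b72) (0x30002f00008a8) (Nat.ble 2131 i)) (Nat.ble 2130 i)) (Bool.rec (motive := fun _ => Nat) (Bool.rec (motive := fun _ => Nat) (0x40002f00002fd) (0x20002f1000f18) (Nat.ble 2133 i)) (Bool.rec (motive := fun _ => Nat) (0x40002f2000296) (0x20002f3000f28) (Nat.ble 2135 i)) (Nat.ble 2134 i)) (Nat.ble 2132 i)) (Nat.ble 2128 i)) (Nat.ble 2120 i)) (Nat.ble 2105 i))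
noncomputable def CA0P_35 (i : Nat) : Nat := (Bool.rec (motive := fun _ => Nat) (Bool.rec (motive := fun _ => Nat) (Bool.rec (motive := fun _ => Nat) (Bool.rec (motive := fun _ => Nat) (Bool.rec (motive := fun _ => Nat) (0x30002f3000efd) (Bool.rec (motive := fun _ => Nat) (0x2f40008fd) (0x10002f40005b4) (Nat.ble 2138 i)) (Nat.ble 2137 i)) (Bool.rec (motive := fun _ => Nat) (Bool.rec (motive := fun _ => Nat) (0x30002f40006bd) (0x20002f500091d) (Nat.ble 2140 i)) (Bool.rec (motive := fun _ => Nat) (0x40002f5000e47) (0x10002f6000562) (Nat.ble 2142 i)) (Nat.ble 2141 i)) (Nat.ble 2139 i)) (Bool.rec (motive := fun _ => Nat) (Bool.rec (motive := fun _ => Nat) (Bool.rec (motive := fun _ => Nat) (0x30002f6000b43) (0x40002f60000ff) (Nat.ble 2144 i)) (Bool.rec (motive := fun _ => Nat) (0x30002f7000302) (0x40002f7000a2f) (Nat.ble 2146 i)) (Nat.ble 2145 i)) (Bool.rec (motive := fun _ => Nat) (Bool.rec (motive := fun _ => Nat) (0x20002f8000b47) (0x30002f800048b) (Nat.ble 2148 i)) (Bool.rec (motive := fun _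 => Nat) (0x40002f8000758) (0x2f90007aa) (Nat.ble 2150 i)) (Nat.ble 2149 i)) (Nat.ble 2147 i)) (Nat.ble 2143 i)) (Bool.rec (motive := fun _ => Nat) (Bool.rec (motive := fun _ => Nat) (Bool.rec (motive := fun _ => Nat) (0x30002fa000a5c) (Bool.rec (motive := fun _ => Nat) (0x2fc0003b0) (0x30002fc000c75) (Nat.ble 2153 i)) (Nat.ble 2152 i)) (Bool.rec (motive := fun _ => Nat) (Bool.rec (motive := fun _ => Nat) (0x20002fd0001c0) (0x40002fd00047d) (Nat.ble 2155 i)) (Bool.rec (motive := fun _ => Nat) (0x40002fe000911) (0x2ff00031a) (Nat.ble 2157 i)) (Nat.ble 2156 i)) (Nat.ble 2154 i)) (Bool.rec (motive := fun _ => Nat) (Bool.rec (motive := fun _ => Nat) (Bool.rec (motive := fun _ => Nat) (0x10002ff0001f1) (0x30002ff000335) (Nat.ble 2159 i)) (Bool.rec (motive := fun _ => Nat) (0x200030000061c) (0x30003000001b4) (Nat.ble 2161 i)) (Nat.ble 2160 i)) (Bool.rec (motive := fun _ => Nat) (Bool.rec (motive := fun _ => Nat) (0x4000300000e73) (0x3010003e7) (Nat.ble 2163 i)) (Bool.rec (motive := fun _ => Nat) (0x3000301000580)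 (0x400030200000d) (Nat.ble 2165 i)) (Nat.ble 2164 i)) (Nat.ble 2162 i)) (Nat.ble 2158 i)) (Nat.ble 2151 i)) (Bool.rec (motive := fun _ => Nat) (Bool.rec (motive := fun _ => Nat) (Bool.rec (motive := fun _ => Nat) (Bool.rec (motive := fun _ => Nat) (0x2000303000520) (Bool.rec (motive := fun _ => Nat) (0x1000304000c68) (0x2000304000c64) (Nat.ble 2168 i)) (Nat.ble 2167 i)) (Bool.rec (motive := fun _ => Nat) (Bool.rec (motive := fun _ => Nat) (0x3050000fc) (0x4000305000103) (Nat.ble 2170 i)) (Bool.rec (motive := fun _ => Nat) (0x306000333) (0x3070003c2) (Nat.ble 2172 i)) (Nat.ble 2171 i)) (Nat.ble 2169 i)) (Bool.rec (motive := fun _ => Nat) (Bool.rec (motive := fun _ => Nat) (Bool.rec (motive := fun _ => Nat) (0x308000765) (0x1000308000427) (Nat.ble 2174 i)) (Bool.rec (motive := fun _ => Nat) (0x4000309000068) (0x100030a000112) (Nat.ble 2176 i)) (Nat.ble 2175 i)) (Bool.rec (motive := fun _ => Nat) (Bool.rec (motive := fun _ => Nat) (0x300030a000637) (0x30b000802) (Nat.ble 2178 i)) (Bool.rec (motive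 := fun _ => Nat) (0x100030b000372) (0x200030b0005a4) (Nat.ble 2180 i)) (Nat.ble 2179 i)) (Nat.ble 2177 i)) (Nat.ble 2173 i)) (Bool.rec (motive := fun _ => Nat) (Bool.rec (motive := fun _ => Nat) (Bool.rec (motive := fun _ => Nat) (Bool.rec (motive := fun _ => Nat) (0x100030c0006e8) (0x200030c0009d4) (Nat.ble 2182 i)) (Bool.rec (motive := fun _ => Nat) (0x300030c000311) (0x400030c000576) (Nat.ble 2184 i)) (Nat.ble 2183 i)) (Bool.rec (motive := fun _ => Nat) (Bool.rec (motive := fun _ => Nat) (0x30d00052b) (0x100030d000c44) (Nat.ble 2186 i)) (Bool.rec (motive := fun _ => Nat) (0x200030d000523) (0x300030d000401) (Nat.ble 2188 i)) (Nat.ble 2187 i)) (Nat.ble 2185 i)) (Bool.rec (motive := fun _ => Nat) (Bool.rec (motive := fun _ => Nat) (Bool.rec (motive := fun _ => Nat) (0x400030d000912) (0x30e0003ea) (Nat.ble 2190 i)) (Bool.rec (motive := fun _ => Nat) (0x300030e000675) (0x30f0002bd) (Nat.ble 2192 i)) (Nat.ble 2191 i)) (Bool.rec (motive := fun _ => Nat) (Bool.rec (motive := fun _ => Nat) (0x200030f00042f)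 (0x300030f000313) (Nat.ble 2194 i)) (Bool.rec (motive := fun _ => Nat) (0x3110006aa) (0x2000311000f22) (Nat.ble 2196 i)) (Nat.ble 2195 i)) (Nat.ble 2193 i)) (Nat.ble 2189 i)) (Nat.ble 2181 i)) (Nat.ble 2166 i))
noncomputable def CA0P_36 (i : Nat) : Nat := (Bool.rec (motive := fun _ => Nat) (Bool.rec (motive := fun _ => Nat) (Bool.rec (motive := fun _ => Nat) (Bool.rec (motive := fun _ => Nat) (Bool.rec (motive := fun _ => Nat) (0x312000aa5) (Bool.rec (motive := fun _ => Nat) (0x2000312000949) (0x3000312000d39) (Nat.ble 2199 i)) (Nat.ble 2198 i)) (Bool.rec (motive := fun _ => Nat) (Bool.rec (motive := fun _ => Nat) (0x4000312000c0d) (0x31300085e) (Nat.ble 2201 i)) (Bool.rec (motive := fun _ => Nat) (0x10003130006f2) (0x300031300092f) (Nat.ble 2203 i)) (Nat.ble 2202 i)) (Nat.ble 2200 i)) (Bool.rec (motive := fun _ => Nat) (Bool.rec (motive := fun _ => Nat) (Bool.rec (motive := fun _ => Nat) (0x40003130002f4) (0x3140006b3) (Nat.ble 2205 i)) (Bool.rec (motive := fun _ => Nat) (0x2000314000978) (0x3000314000b12)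 (Nat.ble 2207 i)) (Nat.ble 2206 i)) (Bool.rec (motive := fun _ => Nat) (Bool.rec (motive := fun _ => Nat) (0x4000314000e60) (0x4000316000af0) (Nat.ble 2209 i)) (Bool.rec (motive := fun _ => Nat) (0x20003170004fd) (0x30003170003b2) (Nat.ble 2211 i)) (Nat.ble 2210 i)) (Nat.ble 2208 i)) (Nat.ble 2204 i)) (Bool.rec (motive := fun _ => Nat) (Bool.rec (motive := fun _ => Nat) (Bool.rec (motive := fun _ => Nat) (0x10003180006db) (Bool.rec (motive := fun _ => Nat) (0x3000318000421) (0x4000318000cec) (Nat.ble 2214 i)) (Nat.ble 2213 i)) (Bool.rec (motive := fun _ => Nat) (Bool.rec (motive := fun _ => Nat) (0x31b000b26) (0x100031b000927) (Nat.ble 2216 i)) (Bool.rec (motive := fun _ => Nat) (0x400031b000c60) (0x100031c0008c1) (Nat.ble 2218 i)) (Nat.ble 2217 i)) (Nat.ble 2215 i)) (Bool.rec (motive := fun _ => Nat) (Bool.rec (motive := fun _ => Nat) (Bool.rec (motive := fun _ => Nat) (0x200031c00081a) (0x400031c0008d8) (Nat.ble 2220 i)) (Bool.rec (motive := fun _ => Nat) (0x31d000500) (0x400031d0003ee) (Nat.ble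 2222 i)) (Nat.ble 2221 i)) (Bool.rec (motive := fun _ => Nat) (Bool.rec (motive := fun _ => Nat) (0x31e000c8c) (0x100031e000cd1) (Nat.ble 2224 i)) (Bool.rec (motive := fun _ => Nat) (0x200031e000a68) (0x300031e000b51) (Nat.ble 2226 i)) (Nat.ble 2225 i)) (Nat.ble 2223 i)) (Nat.ble 2219 i)) (Nat.ble 2212 i)) (Bool.rec (motive := fun _ => Nat) (Bool.rec (motive := fun _ => Nat) (Bool.rec (motive := fun _ => Nat) (Bool.rec (motive := fun _ => Nat) (0x400031e0008d7) (Bool.rec (motive := fun _ => Nat) (0x31f000943) (0x300031f000877) (Nat.ble 2229 i)) (Nat.ble 2228 i)) (Bool.rec (motive := fun _ => Nat) (Bool.rec (motive := fun _ => Nat) (0x320000032) (0x20003200009f1) (Nat.ble 2231 i)) (Bool.rec (motive := fun _ => Nat) (0x30003200009ff) (0x4000320000746) (Nat.ble 2233 i)) (Nat.ble 2232 i)) (Nat.ble 2230 i)) (Bool.rec (motive := fun _ => Nat) (Bool.rec (motive := fun _ => Nat) (Bool.rec (motive := fun _ => Nat) (0x321000938) (0x2000321000339) (Nat.ble 2235 i)) (Bool.rec (motive := fun _ => Nat) (0x322000eca)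 (0x100032200069a) (Nat.ble 2237 i)) (Nat.ble 2236 i)) (Bool.rec (motive := fun _ => Nat) (Bool.rec (motive := fun _ => Nat) (0x2000322000de7) (0x30003220008e1) (Nat.ble 2239 i)) (Bool.rec (motive := fun _ => Nat) (0x4000322000995) (0x1000323000472) (Nat.ble 2241 i)) (Nat.ble 2240 i)) (Nat.ble 2238 i)) (Nat.ble 2234 i)) (Bool.rec (motive := fun _ => Nat) (Bool.rec (motive := fun _ => Nat) (Bool.rec (motive := fun _ => Nat) (Bool.rec (motive := fun _ => Nat) (0x20003230002f3) (0x4000323000c57) (Nat.ble 2243 i)) (Bool.rec (motive := fun _ => Nat) (0x2000324000794) (0x3000324000e8a) (Nat.ble 2245 i)) (Nat.ble 2244 i)) (Bool.rec (motive := fun _ => Nat) (Bool.rec (motive := fun _ => Nat) (0x4000324000bdb) (0x30003250008be) (Nat.ble 2247 i)) (Bool.rec (motive := fun _ => Nat) (0x4000325000410) (0x327000745) (Nat.ble 2249 i)) (Nat.ble 2248 i)) (Nat.ble 2246 i)) (Bool.rec (motive := fun _ => Nat) (Bool.rec (motive := fun _ => Nat) (Bool.rec (motive := fun _ => Nat) (0x3000327000747) (0x2000328000913)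 (Nat.ble 2251 i)) (Bool.rec (motive := fun _ => Nat) (0x400032800089b) (0x3000329000da4) (Nat.ble 2253 i)) (Nat.ble 2252 i)) (Bool.rec (motive := fun _ => Nat) (Bool.rec (motive := fun _ => Nat) (0x100032a000900) (0x200032a000663) (Nat.ble 2255 i)) (Bool.rec (motive := fun _ => Nat) (0x300032a00046a) (0x400032a000df9) (Nat.ble 2257 i)) (Nat.ble 2256 i)) (Nat.ble 2254 i)) (Nat.ble 2250 i)) (Nat.ble 2242 i)) (Nat.ble 2227 i))
noncomputable def CA0P_37 (i : Nat) : Nat := (Bool.rec (motive := fun _ => Nat) (Bool.rec (motive := fun _ => Nat) (Bool.rec (motive := fun _ => Nat) (Bool.rec (motive := fun _ => Nat) (Bool.rec (motive := fun _ => Nat) (0x32b00037d) (Bool.rec (motive := fun _ => Nat) (0x100032b0003c8) (0x32c00053a) (Nat.ble 2260 i)) (Nat.ble 2259 i)) (Bool.rec (motive := fun _ => Nat) (Bool.rec (motive := fun _ => Nat) (0x300032c000bce) (0x400032c000a37) (Nat.ble 2262 i)) (Bool.rec (motive := fun _ => Nat) (0x400032e0009dc) (0x300032f00067b) (Nat.ble 2264 i)) (Nat.ble 2263 i)) (Nat.ble 2261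 i)) (Bool.rec (motive := fun _ => Nat) (Bool.rec (motive := fun _ => Nat) (Bool.rec (motive := fun _ => Nat) (0x20003300001ff) (0x4000330000a53) (Nat.ble 2266 i)) (Bool.rec (motive := fun _ => Nat) (0x4000331000ad0) (0x1000332000604) (Nat.ble 2268 i)) (Nat.ble 2267 i)) (Bool.rec (motive := fun _ => Nat) (Bool.rec (motive := fun _ => Nat) (0x2000333000640) (0x4000333000645) (Nat.ble 2270 i)) (Bool.rec (motive := fun _ => Nat) (0x334000918) (0x10003350002c9) (Nat.ble 2272 i)) (Nat.ble 2271 i)) (Nat.ble 2269 i)) (Nat.ble 2265 i)) (Bool.rec (motive := fun _ => Nat) (Bool.rec (motive := fun _ => Nat) (Bool.rec (motive := fun _ => Nat) (0x20003350003f5) (Bool.rec (motive := fun _ => Nat) (0x40003350007c5) (0x337000433) (Nat.ble 2275 i)) (Nat.ble 2274 i)) (Bool.rec (motive := fun _ => Nat) (Bool.rec (motive := fun _ => Nat) (0x20003370003fc) (0x3000337000435) (Nat.ble 2277 i)) (Bool.rec (motive := fun _ => Nat) (0x100033800036e) (0x30003380005b9) (Nat.ble 2279 i)) (Nat.ble 2278 i)) (Nat.ble 2276 i))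 (Bool.rec (motive := fun _ => Nat) (Bool.rec (motive := fun _ => Nat) (Bool.rec (motive := fun _ => Nat) (0x40003380005e3) (0x3390008ae) (Nat.ble 2281 i)) (Bool.rec (motive := fun _ => Nat) (0x1000339000734) (0x3000339000693) (Nat.ble 2283 i)) (Nat.ble 2282 i)) (Bool.rec (motive := fun _ => Nat) (Bool.rec (motive := fun _ => Nat) (0x200033a000e91) (0x400033a000b0b) (Nat.ble 2285 i)) (Bool.rec (motive := fun _ => Nat) (0x33b000974) (0x100033b000a94) (Nat.ble 2287 i)) (Nat.ble 2286 i)) (Nat.ble 2284 i)) (Nat.ble 2280 i)) (Nat.ble 2273 i)) (Bool.rec (motive := fun _ => Nat) (Bool.rec (motive := fun _ => Nat) (Bool.rec (motive := fun _ => Nat) (Bool.rec (motive := fun _ => Nat) (0x200033b000abf) (Bool.rec (motive := fun _ => Nat) (0x200033c000e11) (0x400033c000edf) (Nat.ble 2290 i)) (Nat.ble 2289 i)) (Bool.rec (motive := fun _ => Nat) (Bool.rec (motive := fun _ => Nat) (0x200033d000487) (0x300033d000328) (Nat.ble 2292 i)) (Bool.rec (motive := fun _ => Nat) (0x400033d00000c) (0x400033e0009c9) (Nat.ble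 2294 i)) (Nat.ble 2293 i)) (Nat.ble 2291 i)) (Bool.rec (motive := fun _ => Nat) (Bool.rec (motive := fun _ => Nat) (Bool.rec (motive := fun _ => Nat) (0x33f000ddf) (0x300034000092c) (Nat.ble 2296 i)) (Bool.rec (motive := fun _ => Nat) (0x1000341000e23) (0x2000342000314) (Nat.ble 2298 i)) (Nat.ble 2297 i)) (Bool.rec (motive := fun _ => Nat) (Bool.rec (motive := fun _ => Nat) (0x34400059c) (0x1000344000d5e) (Nat.ble 2300 i)) (Bool.rec (motive := fun _ => Nat) (0x200034500040e) (0x30003480002b4) (Nat.ble 2302 i)) (Nat.ble 2301 i)) (Nat.ble 2299 i)) (Nat.ble 2295 i)) (Bool.rec (motive := fun _ => Nat) (Bool.rec (motive := fun _ => Nat) (Bool.rec (motive := fun _ => Nat) (Bool.rec (motive := fun _ => Nat) (0x200034b000aa1) (0x400034b000a61) (Nat.ble 2304 i)) (Bool.rec (motive := fun _ => Nat) (0x200034d0007b0) (0x400034d00071b) (Nat.ble 2306 i)) (Nat.ble 2305 i)) (Bool.rec (motive := fun _ => Nat) (Bool.rec (motive := fun _ => Nat) (0x200034e000b8a) (0x400034e000dc9) (Nat.ble 2308 i)) (Bool.rec (motive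 := fun _ => Nat) (0x34f0004d6) (0x200035000078a) (Nat.ble 2310 i)) (Nat.ble 2309 i)) (Nat.ble 2307 i)) (Bool.rec (motive := fun _ => Nat) (Bool.rec (motive := fun _ => Nat) (Bool.rec (motive := fun _ => Nat) (0x30003500002d7) (0x2000351000a70) (Nat.ble 2312 i)) (Bool.rec (motive := fun _ => Nat) (0x10003520001d1) (0x20003520005b7) (Nat.ble 2314 i)) (Nat.ble 2313 i)) (Bool.rec (motive := fun _ => Nat) (Bool.rec (motive := fun _ => Nat) (0x3530001f9) (0x10003530009ae) (Nat.ble 2316 i)) (Bool.rec (motive := fun _ => Nat) (0x3000353000a9a) (0x400035300074f) (Nat.ble 2318 i)) (Nat.ble 2317 i)) (Nat.ble 2315 i)) (Nat.ble 2311 i)) (Nat.ble 2303 i)) (Nat.ble 2288 i))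
noncomputable def CA0P_38 (i : Nat) : Nat := (Bool.rec (motive := fun _ => Nat) (Bool.rec (motive := fun _ => Nat) (Bool.rec (motive := fun _ => Nat) (Bool.rec (motive := fun _ => Nat) (Bool.rec (motive := fun _ => Nat) (0x354000483) (Bool.rec (motive := fun _ => Nat) (0x100035400059e) (0x300035500085d) (Nat.ble 2321 i)) (Nat.ble 2320 i)) (Bool.rec (motive := fun _ => Nat) (Bool.rec (motive := fun _ => Nat) (0x4000355000950) (0x2000357000ab4) (Nat.ble 2323 i)) (Bool.rec (motive := fun _ => Nat) (0x2000359000e2d) (0x4000359000c3f) (Nat.ble 2325 i)) (Nat.ble 2324 i)) (Nat.ble 2322 i)) (Bool.rec (motive := fun _ => Nat) (Bool.rec (motive := fun _ => Nat) (Bool.rec (motive := fun _ => Nat) (0x200035a00070e) (0x300035b00093b) (Nat.ble 2327 i)) (Bool.rec (motive := fun _ => Nat) (0x35d0001a9) (0x400035f000d97) (Nat.ble 2329 i)) (Nat.ble 2328 i)) (Bool.rec (motive := fun _ => Nat) (Bool.rec (motive := fun _ => Nat) (0x20003600002a8) (0x4000360000894) (Nat.ble 2331 i)) (Bool.rec (motive := fun _ =>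 Nat) (0x36100054a) (0x3000361000833) (Nat.ble 2333 i)) (Nat.ble 2332 i)) (Nat.ble 2330 i)) (Nat.ble 2326 i)) (Bool.rec (motive := fun _ => Nat) (Bool.rec (motive := fun _ => Nat) (Bool.rec (motive := fun _ => Nat) (0x40003610008ed) (Bool.rec (motive := fun _ => Nat) (0x2000365000338) (0x4000366000c12) (Nat.ble 2336 i)) (Nat.ble 2335 i)) (Bool.rec (motive := fun _ => Nat) (Bool.rec (motive := fun _ => Nat) (0x3670004de) (0x100036700083f) (Nat.ble 2338 i)) (Bool.rec (motive := fun _ => Nat) (0x2000367000e4c) (0x3000367000728) (Nat.ble 2340 i)) (Nat.ble 2339 i)) (Nat.ble 2337 i)) (Bool.rec (motive := fun _ => Nat) (Bool.rec (motive := fun _ => Nat) (Bool.rec (motive := fun _ => Nat) (0x40003670007c8) (0x368000dd4) (Nat.ble 2342 i)) (Bool.rec (motive := fun _ => Nat) (0x1000368000e61) (0x3000368000eb9) (Nat.ble 2344 i)) (Nat.ble 2343 i)) (Bool.rec (motive := fun _ => Nat) (Bool.rec (motive := fun _ => Nat) (0x10003690001db) (0x300036900043f) (Nat.ble 2346 i)) (Bool.rec (motive := fun _ => Nat) (0x200036a00096e)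 (0x100036c000bfa) (Nat.ble 2348 i)) (Nat.ble 2347 i)) (Nat.ble 2345 i)) (Nat.ble 2341 i)) (Nat.ble 2334 i)) (Bool.rec (motive := fun _ => Nat) (Bool.rec (motive := fun _ => Nat) (Bool.rec (motive := fun _ => Nat) (Bool.rec (motive := fun _ => Nat) (0x200036c000bc4) (Bool.rec (motive := fun _ => Nat) (0x400036c0008ee) (0x36d000d06) (Nat.ble 2351 i)) (Nat.ble 2350 i)) (Bool.rec (motive := fun _ => Nat) (Bool.rec (motive := fun _ => Nat) (0x100036d0007a8) (0x36e000d35) (Nat.ble 2353 i)) (Bool.rec (motive := fun _ => Nat) (0x200036e00035c) (0x300036e0009d5) (Nat.ble 2355 i)) (Nat.ble 2354 i)) (Nat.ble 2352 i)) (Bool.rec (motive := fun _ => Nat) (Bool.rec (motive := fun _ => Nat) (Bool.rec (motive := fun _ => Nat) (0x36f000d15) (0x200036f0007b5) (Nat.ble 2357 i)) (Bool.rec (motive := fun _ => Nat) (0x300036f000306) (0x400036f000855) (Nat.ble 2359 i)) (Nat.ble 2358 i)) (Bool.rec (motive := fun _ => Nat) (Bool.rec (motive := fun _ => Nat) (0x2000370000d46) (0x3000371000f27) (Nat.ble 2361 i)) (Bool.rec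 (motive := fun _ => Nat) (0x3720007bf) (0x3000372000ced) (Nat.ble 2363 i)) (Nat.ble 2362 i)) (Nat.ble 2360 i)) (Nat.ble 2356 i)) (Bool.rec (motive := fun _ => Nat) (Bool.rec (motive := fun _ => Nat) (Bool.rec (motive := fun _ => Nat) (Bool.rec (motive := fun _ => Nat) (0x40003730007db) (0x374000064) (Nat.ble 2365 i)) (Bool.rec (motive := fun _ => Nat) (0x30003740008f0) (0x40003740008c9) (Nat.ble 2367 i)) (Nat.ble 2366 i)) (Bool.rec (motive := fun _ => Nat) (Bool.rec (motive := fun _ => Nat) (0x3750004c8) (0x3000375000acf) (Nat.ble 2369 i)) (Bool.rec (motive := fun _ => Nat) (0x1000376000b01) (0x2000376000daf) (Nat.ble 2371 i)) (Nat.ble 2370 i)) (Nat.ble 2368 i)) (Bool.rec (motive := fun _ => Nat) (Bool.rec (motive := fun _ => Nat) (Bool.rec (motive := fun _ => Nat) (0x3000376000e18) (0x4000376000e10) (Nat.ble 2373 i)) (Bool.rec (motive := fun _ => Nat) (0x3770002ad) (0x2000377000c74) (Nat.ble 2375 i)) (Nat.ble 2374 i)) (Bool.rec (motive := fun _ => Nat) (Bool.rec (motive := fun _ => Nat) (0x4000377000c81)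 (0x1000378000e0b) (Nat.ble 2377 i)) (Bool.rec (motive := fun _ => Nat) (0x3000378000d99) (0x3000379000642) (Nat.ble 2379 i)) (Nat.ble 2378 i)) (Nat.ble 2376 i)) (Nat.ble 2372 i)) (Nat.ble 2364 i)) (Nat.ble 2349 i))
noncomputable def CA0P_39 (i : Nat) : Nat := (Bool.rec (motive := fun _ => Nat) (Bool.rec (motive := fun _ => Nat) (Bool.rec (motive := fun _ => Nat) (Bool.rec (motive := fun _ => Nat) (Bool.rec (motive := fun _ => Nat) (0x300037a000023) (Bool.rec (motive := fun _ => Nat) (0x37b000919) (0x200037b00091b) (Nat.ble 2382 i)) (Nat.ble 2381 i)) (Bool.rec (motive := fun _ => Nat) (Bool.rec (motive := fun _ => Nat) (0x200037c000e1e) (0x300037c000c10) (Nat.ble 2384 i)) (Bool.rec (motive := fun _ => Nat) (0x400037c000e1f) (0x200037d000769) (Nat.ble 2386 i)) (Nat.ble 2385 i)) (Nat.ble 2383 i)) (Bool.rec (motive := fun _ => Nat) (Bool.rec (motive := fun _ => Nat) (Bool.rec (motive := fun _ => Nat) (0x37e000430) (0x300037e000308) (Nat.ble 2388 i)) (Bool.rec (motive := fun _ => Nat) (0x200037f0006b8)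 (0x400037f000e3f) (Nat.ble 2390 i)) (Nat.ble 2389 i)) (Bool.rec (motive := fun _ => Nat) (Bool.rec (motive := fun _ => Nat) (0x1000381000699) (0x2000381000cc6) (Nat.ble 2392 i)) (Bool.rec (motive := fun _ => Nat) (0x3000381000de9) (0x20003830004b7) (Nat.ble 2394 i)) (Nat.ble 2393 i)) (Nat.ble 2391 i)) (Nat.ble 2387 i)) (Bool.rec (motive := fun _ => Nat) (Bool.rec (motive := fun _ => Nat) (Bool.rec (motive := fun _ => Nat) (0x385000e20) (Bool.rec (motive := fun _ => Nat) (0x4000385000473) (0x4000386000525) (Nat.ble 2397 i)) (Nat.ble 2396 i)) (Bool.rec (motive := fun _ => Nat) (Bool.rec (motive := fun _ => Nat) (0x38700038f) (0x3000387000d42) (Nat.ble 2399 i)) (Bool.rec (motive := fun _ => Nat) (0x388000789) (0x1000388000da6) (Nat.ble 2401 i)) (Nat.ble 2400 i)) (Nat.ble 2398 i)) (Bool.rec (motive := fun _ => Nat) (Bool.rec (motive := fun _ => Nat) (Bool.rec (motive := fun _ => Nat) (0x2000388000d0f) (0x400038800072a) (Nat.ble 2403 i)) (Bool.rec (motive := fun _ => Nat) (0x389000c1f) (0x10003890008df)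 (Nat.ble 2405 i)) (Nat.ble 2404 i)) (Bool.rec (motive := fun _ => Nat) (Bool.rec (motive := fun _ => Nat) (0x2000389000e6e) (0x30003890000a0) (Nat.ble 2407 i)) (Bool.rec (motive := fun _ => Nat) (0x200038a0008e3) (0x300038a00057d) (Nat.ble 2409 i)) (Nat.ble 2408 i)) (Nat.ble 2406 i)) (Nat.ble 2402 i)) (Nat.ble 2395 i)) (Bool.rec (motive := fun _ => Nat) (Bool.rec (motive := fun _ => Nat) (Bool.rec (motive := fun _ => Nat) (Bool.rec (motive := fun _ => Nat) (0x400038a000cee) (Bool.rec (motive := fun _ => Nat) (0x38b00092b) (0x300038b000429) (Nat.ble 2412 i)) (Nat.ble 2411 i)) (Bool.rec (motive := fun _ => Nat) (Bool.rec (motive := fun _ => Nat) (0x200038c000033) (0x400038d00018a) (Nat.ble 2414 i)) (Bool.rec (motive := fun _ => Nat) (0x38e000cf5) (0x300038e00095d) (Nat.ble 2416 i)) (Nat.ble 2415 i)) (Nat.ble 2413 i)) (Bool.rec (motive := fun _ => Nat) (Bool.rec (motive := fun _ => Nat) (Bool.rec (motive := fun _ => Nat) (0x400039000053e) (0x2000391000b32) (Nat.ble 2418 i)) (Bool.rec (motive :=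 fun _ => Nat) (0x2000392000144) (0x10003940002e6) (Nat.ble 2420 i)) (Nat.ble 2419 i)) (Bool.rec (motive := fun _ => Nat) (Bool.rec (motive := fun _ => Nat) (0x2000394000c02) (0x2000397000262) (Nat.ble 2422 i)) (Bool.rec (motive := fun _ => Nat) (0x300039700019a) (0x2000398000aa3) (Nat.ble 2424 i)) (Nat.ble 2423 i)) (Nat.ble 2421 i)) (Nat.ble 2417 i)) (Bool.rec (motive := fun _ => Nat) (Bool.rec (motive := fun _ => Nat) (Bool.rec (motive := fun _ => Nat) (Bool.rec (motive := fun _ => Nat) (0x4000398000ae2) (0x1000399000683) (Nat.ble 2426 i)) (Bool.rec (motive := fun _ => Nat) (0x2000399000b3e) (0x39a00096f) (Nat.ble 2428 i)) (Nat.ble 2427 i)) (Bool.rec (motive := fun _ => Nat) (Bool.rec (motive := fun _ => Nat) (0x100039a000bc9) (0x200039a000846) (Nat.ble 2430 i)) (Bool.rec (motive := fun _ => Nat) (0x300039a0007ba) (0x400039a000537) (Nat.ble 2432 i)) (Nat.ble 2431 i)) (Nat.ble 2429 i)) (Bool.rec (motive := fun _ => Nat) (Bool.rec (motive := fun _ => Nat) (Bool.rec (motive := fun _ => Nat) (0x39c000d8e)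 (0x200039c000c4d) (Nat.ble 2434 i)) (Bool.rec (motive := fun _ => Nat) (0x39d0008cd) (0x300039e000a1f) (Nat.ble 2436 i)) (Nat.ble 2435 i)) (Bool.rec (motive := fun _ => Nat) (Bool.rec (motive := fun _ => Nat) (0x200039f0003b1) (0x400039f000454) (Nat.ble 2438 i)) (Bool.rec (motive := fun _ => Nat) (0x30003a00002ac) (0x30003a1000740) (Nat.ble 2440 i)) (Nat.ble 2439 i)) (Nat.ble 2437 i)) (Nat.ble 2433 i)) (Nat.ble 2425 i)) (Nat.ble 2410 i))
noncomputable def CA0P_40 (i : Nat) : Nat := (Bool.rec (motive := fun _ => Nat) (Bool.rec (motive := fun _ => Nat) (Bool.rec (motive := fun _ => Nat) (Bool.rec (motive := fun _ => Nat) (Bool.rec (motive := fun _ => Nat) (0x20003a2000866) (Bool.rec (motive := fun _ => Nat) (0x3a6000f37) (0x30003a60006d8) (Nat.ble 2443 i)) (Nat.ble 2442 i)) (Bool.rec (motive := fun _ => Nat) (Bool.rec (motive := fun _ => Nat) (0x3a700066a) (0x30003a70007b1) (Nat.ble 2445 i)) (Bool.rec (motive := fun _ => Nat) (0x3a8000357) (0x30003a8000bd2) (Nat.ble 2447 i)) (Nat.ble 2446 i))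 (Nat.ble 2444 i)) (Bool.rec (motive := fun _ => Nat) (Bool.rec (motive := fun _ => Nat) (Bool.rec (motive := fun _ => Nat) (0x10003a9000dfd) (0x20003a9000eaa) (Nat.ble 2449 i)) (Bool.rec (motive := fun _ => Nat) (0x40003a9000ca5) (0x3aa0006e2) (Nat.ble 2451 i)) (Nat.ble 2450 i)) (Bool.rec (motive := fun _ => Nat) (Bool.rec (motive := fun _ => Nat) (0x10003aa000c8e) (0x30003aa000c41) (Nat.ble 2453 i)) (Bool.rec (motive := fun _ => Nat) (0x10003ab000594) (0x20003ab000ee0) (Nat.ble 2455 i)) (Nat.ble 2454 i)) (Nat.ble 2452 i)) (Nat.ble 2448 i)) (Bool.rec (motive := fun _ => Nat) (Bool.rec (motive := fun _ => Nat) (Bool.rec (motive := fun _ => Nat) (0x20003ac000460) (Bool.rec (motive := fun _ => Nat) (0x40003ac0008a6) (0x10003ad000b73) (Nat.ble 2458 i)) (Nat.ble 2457 i)) (Bool.rec (motive := fun _ => Nat) (Bool.rec (motive := fun _ => Nat) (0x30003ad000848) (0x40003ad000b59) (Nat.ble 2460 i)) (Bool.rec (motive := fun _ => Nat) (0x20003ae000c04) (0x30003af0006cf) (Nat.ble 2462 i)) (Nat.ble 2461 i))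 (Nat.ble 2459 i)) (Bool.rec (motive := fun _ => Nat) (Bool.rec (motive := fun _ => Nat) (Bool.rec (motive := fun _ => Nat) (0x40003af000971) (0x30003b0000694) (Nat.ble 2464 i)) (Bool.rec (motive := fun _ => Nat) (0x3b1000253) (0x40003b10004e8) (Nat.ble 2466 i)) (Nat.ble 2465 i)) (Bool.rec (motive := fun _ => Nat) (Bool.rec (motive := fun _ => Nat) (0x10003b300099e) (0x30003b40006ac) (Nat.ble 2468 i)) (Bool.rec (motive := fun _ => Nat) (0x40003b60002e8) (0x3b7000450) (Nat.ble 2470 i)) (Nat.ble 2469 i)) (Nat.ble 2467 i)) (Nat.ble 2463 i)) (Nat.ble 2456 i)) (Bool.rec (motive := fun _ => Nat) (Bool.rec (motive := fun _ => Nat) (Bool.rec (motive := fun _ => Nat) (Bool.rec (motive := fun _ => Nat) (0x10003b7000e39) (Bool.rec (motive := fun _ => Nat) (0x30003b7000eb2) (0x3b8000eb3) (Nat.ble 2473 i)) (Nat.ble 2472 i)) (Bool.rec (motive := fun _ => Nat) (Bool.rec (motive := fun _ => Nat) (0x20003b8000eb4) (0x30003b8000b96) (Nat.ble 2475 i)) (Bool.rec (motive := fun _ => Nat) (0x40003b9000884) (0x40003ba000cd4)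 (Nat.ble 2477 i)) (Nat.ble 2476 i)) (Nat.ble 2474 i)) (Bool.rec (motive := fun _ => Nat) (Bool.rec (motive := fun _ => Nat) (Bool.rec (motive := fun _ => Nat) (0x3bb000c1d) (0x20003bb000ecf) (Nat.ble 2479 i)) (Bool.rec (motive := fun _ => Nat) (0x20003bc000046) (0x40003bc000153) (Nat.ble 2481 i)) (Nat.ble 2480 i)) (Bool.rec (motive := fun _ => Nat) (Bool.rec (motive := fun _ => Nat) (0x10003bd0006ab) (0x20003bd000bca) (Nat.ble 2483 i)) (Bool.rec (motive := fun _ => Nat) (0x3be000154) (0x10003be000d73) (Nat.ble 2485 i)) (Nat.ble 2484 i)) (Nat.ble 2482 i)) (Nat.ble 2478 i)) (Bool.rec (motive := fun _ => Nat) (Bool.rec (motive := fun _ => Nat) (Bool.rec (motive := fun _ => Nat) (Bool.rec (motive := fun _ => Nat) (0x30003be000d87) (0x40003be0005ff) (Nat.ble 2487 i)) (Bool.rec (motive := fun _ => Nat) (0x10003bf000e4d) (0x20003bf00088a) (Nat.ble 2489 i)) (Nat.ble 2488 i)) (Bool.rec (motive := fun _ => Nat) (Bool.rec (motive := fun _ => Nat) (0x30003bf000f2c) (0x3c0000687) (Nat.ble 2491 i)) (Bool.rec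 (motive := fun _ => Nat) (0x20003c0000819) (0x40003c0000cc2) (Nat.ble 2493 i)) (Nat.ble 2492 i)) (Nat.ble 2490 i)) (Bool.rec (motive := fun _ => Nat) (Bool.rec (motive := fun _ => Nat) (Bool.rec (motive := fun _ => Nat) (0x10003c1000b39) (0x20003c1000555) (Nat.ble 2495 i)) (Bool.rec (motive := fun _ => Nat) (0x40003c10008b0) (0x10003c2000c9b) (Nat.ble 2497 i)) (Nat.ble 2496 i)) (Bool.rec (motive := fun _ => Nat) (Bool.rec (motive := fun _ => Nat) (0x20003c2000ef4) (0x30003c2000e30) (Nat.ble 2499 i)) (Bool.rec (motive := fun _ => Nat) (0x3c30008a7) (0x30003c3000dc8) (Nat.ble 2501 i)) (Nat.ble 2500 i)) (Nat.ble 2498 i)) (Nat.ble 2494 i)) (Nat.ble 2486 i)) (Nat.ble 2471 i))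
noncomputable def CA0P_41 (i : Nat) : Nat := (Bool.rec (motive := fun _ => Nat) (Bool.rec (motive := fun _ => Nat) (Bool.rec (motive := fun _ => Nat) (Bool.rec (motive := fun _ => Nat) (Bool.rec (motive := fun _ => Nat) (0x3c5000818) (Bool.rec (motive := fun _ => Nat) (0x40003c50005f8) (0x3c6000395) (Nat.ble 2504 i)) (Nat.ble 2503 i)) (Bool.rec (motive := fun _ => Nat) (Bool.rec (motive := fun _ => Nat) (0x40003c7000059) (0x20003c800083a) (Nat.ble 2506 i)) (Bool.rec (motive := fun _ => Nat) (0x30003c8000df3) (0x10003c9000465) (Nat.ble 2508 i)) (Nat.ble 2507 i)) (Nat.ble 2505 i)) (Bool.rec (motive := fun _ => Nat) (Bool.rec (motive := fun _ => Nat) (Bool.rec (motive := fun _ => Nat) (0x40003ca000081) (0x10003cb00055e) (Nat.ble 2510 i)) (Bool.rec (motive := fun _ => Nat) (0x30003cb000ba4) (0x40003cb0004e1) (Nat.ble 2512 i)) (Nat.ble 2511 i)) (Bool.rec (motive := fun _ => Nat) (Bool.rec (motive := fun _ => Nat) (0x3cc000b91) (0x3cd000d4a) (Nat.ble 2514 i)) (Bool.rec (motive := fun _ => Nat) (0x20003cd0004e3)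 (0x30003cd0000e7) (Nat.ble 2516 i)) (Nat.ble 2515 i)) (Nat.ble 2513 i)) (Nat.ble 2509 i)) (Bool.rec (motive := fun _ => Nat) (Bool.rec (motive := fun _ => Nat) (Bool.rec (motive := fun _ => Nat) (0x40003cd0005c6) (Bool.rec (motive := fun _ => Nat) (0x3ce00026a) (0x20003cf000e98) (Nat.ble 2519 i)) (Nat.ble 2518 i)) (Bool.rec (motive := fun _ => Nat) (Bool.rec (motive := fun _ => Nat) (0x40003cf0004fa) (0x30003d0000a1e) (Nat.ble 2521 i)) (Bool.rec (motive := fun _ => Nat) (0x10003d10007b9) (0x30003d1000ae1) (Nat.ble 2523 i)) (Nat.ble 2522 i)) (Nat.ble 2520 i)) (Bool.rec (motive := fun _ => Nat) (Bool.rec (motive := fun _ => Nat) (Bool.rec (motive := fun _ => Nat) (0x20003d2000ec3) (0x20003d40006f4) (Nat.ble 2525 i)) (Bool.rec (motive := fun _ => Nat) (0x40003d4000c37) (0x3d5000788) (Nat.ble 2527 i)) (Nat.ble 2526 i)) (Bool.rec (motive := fun _ => Nat) (Bool.rec (motive := fun _ => Nat) (0x20003d500047b) (0x20003d6000895) (Nat.ble 2529 i)) (Bool.rec (motive := fun _ => Nat) (0x40003d6000574) (0x3d7000b10)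 (Nat.ble 2531 i)) (Nat.ble 2530 i)) (Nat.ble 2528 i)) (Nat.ble 2524 i)) (Nat.ble 2517 i)) (Bool.rec (motive := fun _ => Nat) (Bool.rec (motive := fun _ => Nat) (Bool.rec (motive := fun _ => Nat) (Bool.rec (motive := fun _ => Nat) (0x40003d70002e1) (Bool.rec (motive := fun _ => Nat) (0x10003d9000944) (0x30003d9000edb) (Nat.ble 2534 i)) (Nat.ble 2533 i)) (Bool.rec (motive := fun _ => Nat) (Bool.rec (motive := fun _ => Nat) (0x3da000acd) (0x10003da000649) (Nat.ble 2536 i)) (Bool.rec (motive := fun _ => Nat) (0x30003da000916) (0x40003da0000ea) (Nat.ble 2538 i)) (Nat.ble 2537 i)) (Nat.ble 2535 i)) (Bool.rec (motive := fun _ => Nat) (Bool.rec (motive := fun _ => Nat) (Bool.rec (motive := fun _ => Nat) (0x3db000c5f) (0x40003db0006fc) (Nat.ble 2540 i)) (Bool.rec (motive := fun _ => Nat) (0x10003dc000715) (0x20003dc000b2e) (Nat.ble 2542 i)) (Nat.ble 2541 i)) (Bool.rec (motive := fun _ => Nat) (Bool.rec (motive := fun _ => Nat) (0x40003dc0002a0) (0x3dd000c76) (Nat.ble 2544 i)) (Bool.rec (motive := fun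 _ => Nat) (0x40003dd000e4b) (0x3de000dbd) (Nat.ble 2546 i)) (Nat.ble 2545 i)) (Nat.ble 2543 i)) (Nat.ble 2539 i)) (Bool.rec (motive := fun _ => Nat) (Bool.rec (motive := fun _ => Nat) (Bool.rec (motive := fun _ => Nat) (Bool.rec (motive := fun _ => Nat) (0x10003de000b42) (0x20003de000b8b) (Nat.ble 2548 i)) (Bool.rec (motive := fun _ => Nat) (0x30003de00088c) (0x10003df000cdb) (Nat.ble 2550 i)) (Nat.ble 2549 i)) (Bool.rec (motive := fun _ => Nat) (Bool.rec (motive := fun _ => Nat) (0x40003e000085f) (0x20003e1000250) (Nat.ble 2552 i)) (Bool.rec (motive := fun _ => Nat) (0x10003e2000256) (0x20003e2000678) (Nat.ble 2554 i)) (Nat.ble 2553 i)) (Nat.ble 2551 i)) (Bool.rec (motive := fun _ => Nat) (Bool.rec (motive := fun _ => Nat) (Bool.rec (motive := fun _ => Nat) (0x3e3000961) (0x10003e300059d) (Nat.ble 2556 i)) (Bool.rec (motive := fun _ => Nat) (0x10003e4000b40) (0x30003e4000455) (Nat.ble 2558 i)) (Nat.ble 2557 i)) (Bool.rec (motive := fun _ => Nat) (Bool.rec (motive := fun _ => Nat) (0x40003e4000741)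 (0x30003e50006f1) (Nat.ble 2560 i)) (Bool.rec (motive := fun _ => Nat) (0x40003e5000354) (0x3e6000ea8) (Nat.ble 2562 i)) (Nat.ble 2561 i)) (Nat.ble 2559 i)) (Nat.ble 2555 i)) (Nat.ble 2547 i)) (Nat.ble 2532 i))
noncomputable def CA0P_42 (i : Nat) : Nat := (Bool.rec (motive := fun _ => Nat) (Bool.rec (motive := fun _ => Nat) (Bool.rec (motive := fun _ => Nat) (Bool.rec (motive := fun _ => Nat) (Bool.rec (motive := fun _ => Nat) (0x20003e6000c42) (Bool.rec (motive := fun _ => Nat) (0x30003e60006ed) (0x3e7000a79) (Nat.ble 2565 i)) (Nat.ble 2564 i)) (Bool.rec (motive := fun _ => Nat) (Bool.rec (motive := fun _ => Nat) (0x30003e7000a77) (0x10003e8000037) (Nat.ble 2567 i)) (Bool.rec (motive := fun _ => Nat) (0x30003e800044c) (0x30003e9000d14) (Nat.ble 2569 i)) (Nat.ble 2568 i)) (Nat.ble 2566 i)) (Bool.rec (motive := fun _ => Nat) (Bool.rec (motive := fun _ => Nat) (Bool.rec (motive := fun _ => Nat) (0x3ea00052f) (0x10003ea000152) (Nat.ble 2571 i)) (Bool.rec (motive := fun _ => Nat) (0x30003ea000c3a)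 (0x10003eb000896) (Nat.ble 2573 i)) (Nat.ble 2572 i)) (Bool.rec (motive := fun _ => Nat) (Bool.rec (motive := fun _ => Nat) (0x20003ec000a69) (0x3ed000859) (Nat.ble 2575 i)) (Bool.rec (motive := fun _ => Nat) (0x30003ed000ccb) (0x40003f00003d8) (Nat.ble 2577 i)) (Nat.ble 2576 i)) (Nat.ble 2574 i)) (Nat.ble 2570 i)) (Bool.rec (motive := fun _ => Nat) (Bool.rec (motive := fun _ => Nat) (Bool.rec (motive := fun _ => Nat) (0x30003f2000ce0) (Bool.rec (motive := fun _ => Nat) (0x40003f20007c4) (0x3f4000b50) (Nat.ble 2580 i)) (Nat.ble 2579 i)) (Bool.rec (motive := fun _ => Nat) (Bool.rec (motive := fun _ => Nat) (0x20003f4000921) (0x30003f40000b2) (Nat.ble 2582 i)) (Bool.rec (motive := fun _ => Nat) (0x40003f40009eb) (0x40003f5000df6) (Nat.ble 2584 i)) (Nat.ble 2583 i)) (Nat.ble 2581 i)) (Bool.rec (motive := fun _ => Nat) (Bool.rec (motive := fun _ => Nat) (Bool.rec (motive := fun _ => Nat) (0x3f600093a) (0x10003f60009e2) (Nat.ble 2586 i)) (Bool.rec (motive := fun _ => Nat) (0x40003f6000ac8) (0x10003f7000aca)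 (Nat.ble 2588 i)) (Nat.ble 2587 i)) (Bool.rec (motive := fun _ => Nat) (Bool.rec (motive := fun _ => Nat) (0x20003f7000ab7) (0x3f80004c3) (Nat.ble 2590 i)) (Bool.rec (motive := fun _ => Nat) (0x30003f8000851) (0x10003f9000503) (Nat.ble 2592 i)) (Nat.ble 2591 i)) (Nat.ble 2589 i)) (Nat.ble 2585 i)) (Nat.ble 2578 i)) (Bool.rec (motive := fun _ => Nat) (Bool.rec (motive := fun _ => Nat) (Bool.rec (motive := fun _ => Nat) (Bool.rec (motive := fun _ => Nat) (0x20003f900066f) (Bool.rec (motive := fun _ => Nat) (0x10003fb00024b) (0x20003fb000d32) (Nat.ble 2595 i)) (Nat.ble 2594 i)) (Bool.rec (motive := fun _ => Nat) (Bool.rec (motive := fun _ => Nat) (0x3fc0009a8) (0x10003fc000d62) (Nat.ble 2597 i)) (Bool.rec (motive := fun _ => Nat) (0x30003fd000812) (0x10003fe000b2a) (Nat.ble 2599 i)) (Nat.ble 2598 i)) (Nat.ble 2596 i)) (Bool.rec (motive := fun _ => Nat) (Bool.rec (motive := fun _ => Nat) (Bool.rec (motive := fun _ => Nat) (0x20003fe00067a) (0x10003ff0006a6) (Nat.ble 2601 i)) (Bool.rec (motive :=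 fun _ => Nat) (0x20003ff00098c) (0x40003ff000d89) (Nat.ble 2603 i)) (Nat.ble 2602 i)) (Bool.rec (motive := fun _ => Nat) (Bool.rec (motive := fun _ => Nat) (0x2000400000b5c) (0x3000400000b87) (Nat.ble 2605 i)) (Bool.rec (motive := fun _ => Nat) (0x401000289) (0x2000401000a7a) (Nat.ble 2607 i)) (Nat.ble 2606 i)) (Nat.ble 2604 i)) (Nat.ble 2600 i)) (Bool.rec (motive := fun _ => Nat) (Bool.rec (motive := fun _ => Nat) (Bool.rec (motive := fun _ => Nat) (Bool.rec (motive := fun _ => Nat) (0x3000401000bd9) (0x4000401000928) (Nat.ble 2609 i)) (Bool.rec (motive := fun _ => Nat) (0x402000cd8) (0x1000402000619) (Nat.ble 2611 i)) (Nat.ble 2610 i)) (Bool.rec (motive := fun _ => Nat) (Bool.rec (motive := fun _ => Nat) (0x300040200029e) (0x1000403000c03) (Nat.ble 2613 i)) (Bool.rec (motive := fun _ => Nat) (0x20004030004c1) (0x40004040002de) (Nat.ble 2615 i)) (Nat.ble 2614 i)) (Nat.ble 2612 i)) (Bool.rec (motive := fun _ => Nat) (Bool.rec (motive := fun _ => Nat) (Bool.rec (motive := fun _ => Nat) (0x405000abe)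 (0x407000c47) (Nat.ble 2617 i)) (Bool.rec (motive := fun _ => Nat) (0x4000407000d26) (0x100040a000d4d) (Nat.ble 2619 i)) (Nat.ble 2618 i)) (Bool.rec (motive := fun _ => Nat) (Bool.rec (motive := fun _ => Nat) (0x400040b0003cd) (0x40c000efb) (Nat.ble 2621 i)) (Bool.rec (motive := fun _ => Nat) (0x100040c000aae) (0x300040c000b7c) (Nat.ble 2623 i)) (Nat.ble 2622 i)) (Nat.ble 2620 i)) (Nat.ble 2616 i)) (Nat.ble 2608 i)) (Nat.ble 2593 i))
noncomputable def CA0P_43 (i : Nat) : Nat := (Bool.rec (motive := fun _ => Nat) (Bool.rec (motive := fun _ => Nat) (Bool.rec (motive := fun _ => Nat) (Bool.rec (motive := fun _ => Nat) (Bool.rec (motive := fun _ => Nat) (0x40d000a9d) (Bool.rec (motive := fun _ => Nat) (0x300040d000575) (0x400040d0003c3) (Nat.ble 2626 i)) (Nat.ble 2625 i)) (Bool.rec (motive := fun _ => Nat) (Bool.rec (motive := fun _ => Nat) (0x40e000cad) (0x100040e000c72) (Nat.ble 2628 i)) (Bool.rec (motive := fun _ => Nat) (0x200040e000264) (0x300040e00030e) (Nat.ble 2630 i)) (Nat.ble 2629 i))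 (Nat.ble 2627 i)) (Bool.rec (motive := fun _ => Nat) (Bool.rec (motive := fun _ => Nat) (Bool.rec (motive := fun _ => Nat) (0x40f0006a5) (0x200040f0006a1) (Nat.ble 2632 i)) (Bool.rec (motive := fun _ => Nat) (0x300040f000b5b) (0x400040f000e57) (Nat.ble 2634 i)) (Nat.ble 2633 i)) (Bool.rec (motive := fun _ => Nat) (Bool.rec (motive := fun _ => Nat) (0x4000410000afd) (0x411000143) (Nat.ble 2636 i)) (Bool.rec (motive := fun _ => Nat) (0x100041100083d) (0x300041100083e) (Nat.ble 2638 i)) (Nat.ble 2637 i)) (Nat.ble 2635 i)) (Nat.ble 2631 i)) (Bool.rec (motive := fun _ => Nat) (Bool.rec (motive := fun _ => Nat) (Bool.rec (motive := fun _ => Nat) (0x400041100028f) (Bool.rec (motive := fun _ => Nat) (0x412000682) (0x1000412000b48) (Nat.ble 2641 i)) (Nat.ble 2640 i)) (Bool.rec (motive := fun _ => Nat) (Bool.rec (motive := fun _ => Nat) (0x300041200093d) (0x41500098f) (Nat.ble 2643 i)) (Bool.rec (motive := fun _ => Nat) (0x1000415000375) (0x3000415000755) (Nat.ble 2645 i)) (Nat.ble 2644 i)) (Nat.ble 2642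 i)) (Bool.rec (motive := fun _ => Nat) (Bool.rec (motive := fun _ => Nat) (Bool.rec (motive := fun _ => Nat) (0x2000416000c2f) (0x417000bd0) (Nat.ble 2647 i)) (Bool.rec (motive := fun _ => Nat) (0x3000417000bd3) (0x4000417000bd4) (Nat.ble 2649 i)) (Nat.ble 2648 i)) (Bool.rec (motive := fun _ => Nat) (Bool.rec (motive := fun _ => Nat) (0x418000d3f) (0x4000418000973) (Nat.ble 2651 i)) (Bool.rec (motive := fun _ => Nat) (0x1000419000668) (0x100041a0008e5) (Nat.ble 2653 i)) (Nat.ble 2652 i)) (Nat.ble 2650 i)) (Nat.ble 2646 i)) (Nat.ble 2639 i)) (Bool.rec (motive := fun _ => Nat) (Bool.rec (motive := fun _ => Nat) (Bool.rec (motive := fun _ => Nat) (Bool.rec (motive := fun _ => Nat) (0x200041a0007ad) (Bool.rec (motive := fun _ => Nat) (0x300041a000dab) (0x400041a000677) (Nat.ble 2656 i)) (Nat.ble 2655 i)) (Bool.rec (motive := fun _ => Nat) (Bool.rec (motive := fun _ => Nat) (0x300041b000774) (0x100041c000258) (Nat.ble 2658 i)) (Bool.rec (motive := fun _ => Nat) (0x200041c00067d) (0x100041d000f06)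 (Nat.ble 2660 i)) (Nat.ble 2659 i)) (Nat.ble 2657 i)) (Bool.rec (motive := fun _ => Nat) (Bool.rec (motive := fun _ => Nat) (Bool.rec (motive := fun _ => Nat) (0x200041d000bf0) (0x300041d000be2) (Nat.ble 2662 i)) (Bool.rec (motive := fun _ => Nat) (0x400041d000d82) (0x200041e000266) (Nat.ble 2664 i)) (Nat.ble 2663 i)) (Bool.rec (motive := fun _ => Nat) (Bool.rec (motive := fun _ => Nat) (0x300041e000591) (0x400041e000b4d) (Nat.ble 2666 i)) (Bool.rec (motive := fun _ => Nat) (0x300041f000a80) (0x420000bc2) (Nat.ble 2668 i)) (Nat.ble 2667 i)) (Nat.ble 2665 i)) (Nat.ble 2661 i)) (Bool.rec (motive := fun _ => Nat) (Bool.rec (motive := fun _ => Nat) (Bool.rec (motive := fun _ => Nat) (Bool.rec (motive := fun _ => Nat) (0x2000420000f40) (0x3000420000aa9) (Nat.ble 2670 i)) (Bool.rec (motive := fun _ => Nat) (0x2000421000c48) (0x4000421000162) (Nat.ble 2672 i)) (Nat.ble 2671 i)) (Bool.rec (motive := fun _ => Nat) (Bool.rec (motive := fun _ => Nat) (0x2000422000c06) (0x3000422000d3e) (Nat.ble 2674 i))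 (Bool.rec (motive := fun _ => Nat) (0x4230002d9) (0x20004230000a8) (Nat.ble 2676 i)) (Nat.ble 2675 i)) (Nat.ble 2673 i)) (Bool.rec (motive := fun _ => Nat) (Bool.rec (motive := fun _ => Nat) (Bool.rec (motive := fun _ => Nat) (0x3000423000cf9) (0x4000423000c55) (Nat.ble 2678 i)) (Bool.rec (motive := fun _ => Nat) (0x424000686) (0x20004240006e3) (Nat.ble 2680 i)) (Nat.ble 2679 i)) (Bool.rec (motive := fun _ => Nat) (Bool.rec (motive := fun _ => Nat) (0x3000424000511) (0x425000cf8) (Nat.ble 2682 i)) (Bool.rec (motive := fun _ => Nat) (0x1000425000b0e) (0x3000426000d12) (Nat.ble 2684 i)) (Nat.ble 2683 i)) (Nat.ble 2681 i)) (Nat.ble 2677 i)) (Nat.ble 2669 i)) (Nat.ble 2654 i))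
noncomputable def CA0P_44 (i : Nat) : Nat := (Bool.rec (motive := fun _ => Nat) (Bool.rec (motive := fun _ => Nat) (Bool.rec (motive := fun _ => Nat) (Bool.rec (motive := fun _ => Nat) (Bool.rec (motive := fun _ => Nat) (0x4000426000b5d) (Bool.rec (motive := fun _ => Nat) (0x427000dae) (0x1000427000b9d) (Nat.ble 2687 i)) (Nat.ble 2686 i)) (Bool.rec (motive := fun _ => Nat) (Bool.rec (motive := fun _ => Nat) (0x2000427000571) (0x3000427000bd5) (Nat.ble 2689 i)) (Bool.rec (motive := fun _ => Nat) (0x4280000e2) (0x2000428000ec2) (Nat.ble 2691 i)) (Nat.ble 2690 i)) (Nat.ble 2688 i)) (Bool.rec (motive := fun _ => Nat) (Bool.rec (motive := fun _ => Nat) (Bool.rec (motive := fun _ => Nat) (0x30004280008d1) (0x429000176) (Nat.ble 2693 i)) (Bool.rec (motive := fun _ => Nat) (0x1000429000b46) (0x2000429000be6) (Nat.ble 2695 i)) (Nat.ble 2694 i)) (Bool.rec (motive := fun _ => Nat) (Bool.rec (motive := fun _ => Nat) (0x200042a000516) (0x400042a000dff) (Nat.ble 2697 i)) (Bool.rec (motive := fun _ => Nat)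 (0x42b00013e) (0x100042b000249) (Nat.ble 2699 i)) (Nat.ble 2698 i)) (Nat.ble 2696 i)) (Nat.ble 2692 i)) (Bool.rec (motive := fun _ => Nat) (Bool.rec (motive := fun _ => Nat) (Bool.rec (motive := fun _ => Nat) (0x42c000513) (Bool.rec (motive := fun _ => Nat) (0x100042c000691) (0x300042c000018) (Nat.ble 2702 i)) (Nat.ble 2701 i)) (Bool.rec (motive := fun _ => Nat) (Bool.rec (motive := fun _ => Nat) (0x400042c0006b5) (0x400042d0003ba) (Nat.ble 2704 i)) (Bool.rec (motive := fun _ => Nat) (0x200042e0005cf) (0x400042e0009af) (Nat.ble 2706 i)) (Nat.ble 2705 i)) (Nat.ble 2703 i)) (Bool.rec (motive := fun _ => Nat) (Bool.rec (motive := fun _ => Nat) (Bool.rec (motive := fun _ => Nat) (0x42f000a9e) (0x300042f00065b) (Nat.ble 2708 i)) (Bool.rec (motive := fun _ => Nat) (0x43000051e) (0x400043100065d) (Nat.ble 2710 i)) (Nat.ble 2709 i)) (Bool.rec (motive := fun _ => Nat) (Bool.rec (motive := fun _ => Nat) (0x100043200056e) (0x4000433000588) (Nat.ble 2712 i)) (Bool.rec (motive := fun _ => Nat) (0x2000434000332)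 (0x437000798) (Nat.ble 2714 i)) (Nat.ble 2713 i)) (Nat.ble 2711 i)) (Nat.ble 2707 i)) (Nat.ble 2700 i)) (Bool.rec (motive := fun _ => Nat) (Bool.rec (motive := fun _ => Nat) (Bool.rec (motive := fun _ => Nat) (Bool.rec (motive := fun _ => Nat) (0x10004370004eb) (Bool.rec (motive := fun _ => Nat) (0x4380003e6) (0x3000438000958) (Nat.ble 2717 i)) (Nat.ble 2716 i)) (Bool.rec (motive := fun _ => Nat) (Bool.rec (motive := fun _ => Nat) (0x439000e6a) (0x1000439000dd0) (Nat.ble 2719 i)) (Bool.rec (motive := fun _ => Nat) (0x2000439000de3) (0x4000439000b63) (Nat.ble 2721 i)) (Nat.ble 2720 i)) (Nat.ble 2718 i)) (Bool.rec (motive := fun _ => Nat) (Bool.rec (motive := fun _ => Nat) (Bool.rec (motive := fun _ => Nat) (0x100043a000c8b) (0x100043b0002ec) (Nat.ble 2723 i)) (Bool.rec (motive := fun _ => Nat) (0x300043d0007f1) (0x300043e0003c9) (Nat.ble 2725 i)) (Nat.ble 2724 i)) (Bool.rec (motive := fun _ => Nat) (Bool.rec (motive := fun _ => Nat) (0x43f0008f5) (0x100043f0008f6) (Nat.ble 2727 i)) (Bool.rec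 (motive := fun _ => Nat) (0x300043f0006e0) (0x400043f0008f7) (Nat.ble 2729 i)) (Nat.ble 2728 i)) (Nat.ble 2726 i)) (Nat.ble 2722 i)) (Bool.rec (motive := fun _ => Nat) (Bool.rec (motive := fun _ => Nat) (Bool.rec (motive := fun _ => Nat) (Bool.rec (motive := fun _ => Nat) (0x440000990) (0x30004400006df) (Nat.ble 2731 i)) (Bool.rec (motive := fun _ => Nat) (0x441000987) (0x30004410002d3) (Nat.ble 2733 i)) (Nat.ble 2732 i)) (Bool.rec (motive := fun _ => Nat) (Bool.rec (motive := fun _ => Nat) (0x2000442000762) (0x3000442000a4b) (Nat.ble 2735 i)) (Bool.rec (motive := fun _ => Nat) (0x40004420004bb) (0x2000443000ede) (Nat.ble 2737 i)) (Nat.ble 2736 i)) (Nat.ble 2734 i)) (Bool.rec (motive := fun _ => Nat) (Bool.rec (motive := fun _ => Nat) (Bool.rec (motive := fun _ => Nat) (0x3000443000975) (0x445000daa) (Nat.ble 2739 i)) (Bool.rec (motive := fun _ => Nat) (0x1000445000351) (0x2000445000e69) (Nat.ble 2741 i)) (Nat.ble 2740 i)) (Bool.rec (motive := fun _ => Nat) (Bool.rec (motive := fun _ => Nat)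 (0x446000837) (0x1000446000194) (Nat.ble 2743 i)) (Bool.rec (motive := fun _ => Nat) (0x20004460003a0) (0x300044600082d) (Nat.ble 2745 i)) (Nat.ble 2744 i)) (Nat.ble 2742 i)) (Nat.ble 2738 i)) (Nat.ble 2730 i)) (Nat.ble 2715 i))
noncomputable def CA0P_45 (i : Nat) : Nat := (Bool.rec (motive := fun _ => Nat) (Bool.rec (motive := fun _ => Nat) (Bool.rec (motive := fun _ => Nat) (Bool.rec (motive := fun _ => Nat) (Bool.rec (motive := fun _ => Nat) (0x300044a00079a) (Bool.rec (motive := fun _ => Nat) (0x44b0000fa) (0x100044b000705) (Nat.ble 2748 i)) (Nat.ble 2747 i)) (Bool.rec (motive := fun _ => Nat) (Bool.rec (motive := fun _ => Nat) (0x200044b0007f0) (0x400044b000721) (Nat.ble 2750 i)) (Bool.rec (motive := fun _ => Nat) (0x100044c0004e6) (0x400044c000206) (Nat.ble 2752 i)) (Nat.ble 2751 i)) (Nat.ble 2749 i)) (Bool.rec (motive := fun _ => Nat) (Bool.rec (motive := fun _ => Nat) (Bool.rec (motive := fun _ => Nat) (0x44d00094f) (0x200044e000a86) (Nat.ble 2754 i)) (Bool.rec (motive := fun _ => Nat)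 (0x400044e000ee5) (0x44f0009d9) (Nat.ble 2756 i)) (Nat.ble 2755 i)) (Bool.rec (motive := fun _ => Nat) (Bool.rec (motive := fun _ => Nat) (0x300044f000edd) (0x400044f00097e) (Nat.ble 2758 i)) (Bool.rec (motive := fun _ => Nat) (0x45000016e) (0x2000450000702) (Nat.ble 2760 i)) (Nat.ble 2759 i)) (Nat.ble 2757 i)) (Nat.ble 2753 i)) (Bool.rec (motive := fun _ => Nat) (Bool.rec (motive := fun _ => Nat) (Bool.rec (motive := fun _ => Nat) (0x30004500000b9) (Bool.rec (motive := fun _ => Nat) (0x40004500003fd) (0x300045100084f) (Nat.ble 2763 i)) (Nat.ble 2762 i)) (Bool.rec (motive := fun _ => Nat) (Bool.rec (motive := fun _ => Nat) (0x452000a7c) (0x3000452000878) (Nat.ble 2765 i)) (Bool.rec (motive := fun _ => Nat) (0x454000312) (0x1000455000e5d) (Nat.ble 2767 i)) (Nat.ble 2766 i)) (Nat.ble 2764 i)) (Bool.rec (motive := fun _ => Nat) (Bool.rec (motive := fun _ => Nat) (Bool.rec (motive := fun _ => Nat) (0x2000455000b55) (0x456000d85) (Nat.ble 2769 i)) (Bool.rec (motive := fun _ => Nat) (0x3000456000208)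 (0x4000456000623) (Nat.ble 2771 i)) (Nat.ble 2770 i)) (Bool.rec (motive := fun _ => Nat) (Bool.rec (motive := fun _ => Nat) (0x458000d7c) (0x30004580003ab) (Nat.ble 2773 i)) (Bool.rec (motive := fun _ => Nat) (0x2000459000670) (0x4000459000bf4) (Nat.ble 2775 i)) (Nat.ble 2774 i)) (Nat.ble 2772 i)) (Nat.ble 2768 i)) (Nat.ble 2761 i)) (Bool.rec (motive := fun _ => Nat) (Bool.rec (motive := fun _ => Nat) (Bool.rec (motive := fun _ => Nat) (Bool.rec (motive := fun _ => Nat) (0x100045a000182) (Bool.rec (motive := fun _ => Nat) (0x200045a0009b3) (0x200045d000570) (Nat.ble 2778 i)) (Nat.ble 2777 i)) (Bool.rec (motive := fun _ => Nat) (Bool.rec (motive := fun _ => Nat) (0x45e00078e) (0x100045e000742) (Nat.ble 2780 i)) (Bool.rec (motive := fun _ => Nat) (0x300045e00073f) (0x200045f000972) (Nat.ble 2782 i)) (Nat.ble 2781 i)) (Nat.ble 2779 i)) (Bool.rec (motive := fun _ => Nat) (Bool.rec (motive := fun _ => Nat) (Bool.rec (motive := fun _ => Nat) (0x460000881) (0x3000460000c71) (Nat.ble 2784 i)) (Bool.rec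 (motive := fun _ => Nat) (0x4610007c0) (0x20004610007a2) (Nat.ble 2786 i)) (Nat.ble 2785 i)) (Bool.rec (motive := fun _ => Nat) (Bool.rec (motive := fun _ => Nat) (0x462000b88) (0x20004620002d2) (Nat.ble 2788 i)) (Bool.rec (motive := fun _ => Nat) (0x3000462000378) (0x2000463000792) (Nat.ble 2790 i)) (Nat.ble 2789 i)) (Nat.ble 2787 i)) (Nat.ble 2783 i)) (Bool.rec (motive := fun _ => Nat) (Bool.rec (motive := fun _ => Nat) (Bool.rec (motive := fun _ => Nat) (Bool.rec (motive := fun _ => Nat) (0x3000463000ab0) (0x4000463000b90) (Nat.ble 2792 i)) (Bool.rec (motive := fun _ => Nat) (0x464000739) (0x2000464000f3f) (Nat.ble 2794 i)) (Nat.ble 2793 i)) (Bool.rec (motive := fun _ => Nat) (Bool.rec (motive := fun _ => Nat) (0x300046400025b) (0x100046500064a) (Nat.ble 2796 i)) (Bool.rec (motive := fun _ => Nat) (0x30004650001ef) (0x4000465000d19) (Nat.ble 2798 i)) (Nat.ble 2797 i)) (Nat.ble 2795 i)) (Bool.rec (motive := fun _ => Nat) (Bool.rec (motive := fun _ => Nat) (Bool.rec (motive := fun _ => Nat)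 (0x4660009cf) (0x2000466000291) (Nat.ble 2800 i)) (Bool.rec (motive := fun _ => Nat) (0x3000466000b19) (0x4670002e9) (Nat.ble 2802 i)) (Nat.ble 2801 i)) (Bool.rec (motive := fun _ => Nat) (Bool.rec (motive := fun _ => Nat) (0x10004670007a7) (0x20004670006da) (Nat.ble 2804 i)) (Bool.rec (motive := fun _ => Nat) (0x200046800044d) (0x1000469000168) (Nat.ble 2806 i)) (Nat.ble 2805 i)) (Nat.ble 2803 i)) (Nat.ble 2799 i)) (Nat.ble 2791 i)) (Nat.ble 2776 i))
noncomputable def CA0P_46 (i : Nat) : Nat := (Bool.rec (motive := fun _ => Nat) (Bool.rec (motive := fun _ => Nat) (Bool.rec (motive := fun _ => Nat) (Bool.rec (motive := fun _ => Nat) (Bool.rec (motive := fun _ => Nat) (0x30004690007ec) (Bool.rec (motive := fun _ => Nat) (0x46a00010b) (0x300046a000110) (Nat.ble 2809 i)) (Nat.ble 2808 i)) (Bool.rec (motive := fun _ => Nat) (Bool.rec (motive := fun _ => Nat) (0x46b00001d) (0x200046b000660) (Nat.ble 2811 i)) (Bool.rec (motive := fun _ => Nat) (0x300046b00018d) (0x200046f000e24) (Nat.ble 2813 i))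 (Nat.ble 2812 i)) (Nat.ble 2810 i)) (Bool.rec (motive := fun _ => Nat) (Bool.rec (motive := fun _ => Nat) (Bool.rec (motive := fun _ => Nat) (0x470000820) (0x1000470000505) (Nat.ble 2815 i)) (Bool.rec (motive := fun _ => Nat) (0x2000470000e49) (0x3000470000ba6) (Nat.ble 2817 i)) (Nat.ble 2816 i)) (Bool.rec (motive := fun _ => Nat) (Bool.rec (motive := fun _ => Nat) (0x20004720002c1) (0x4000473000629) (Nat.ble 2819 i)) (Bool.rec (motive := fun _ => Nat) (0x2000474000948) (0x1000475000886) (Nat.ble 2821 i)) (Nat.ble 2820 i)) (Nat.ble 2818 i)) (Nat.ble 2814 i)) (Bool.rec (motive := fun _ => Nat) (Bool.rec (motive := fun _ => Nat) (Bool.rec (motive := fun _ => Nat) (0x30004750009c8) (Bool.rec (motive := fun _ => Nat) (0x200047600036c) (0x1000477000ceb) (Nat.ble 2824 i)) (Nat.ble 2823 i)) (Bool.rec (motive := fun _ => Nat) (Bool.rec (motive := fun _ => Nat) (0x2000477000a0c) (0x4000477000c70) (Nat.ble 2826 i)) (Bool.rec (motive := fun _ => Nat) (0x300047800084d) (0x300047c000129) (Nat.ble 2828 i))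 (Nat.ble 2827 i)) (Nat.ble 2825 i)) (Bool.rec (motive := fun _ => Nat) (Bool.rec (motive := fun _ => Nat) (Bool.rec (motive := fun _ => Nat) (0x400047d00022d) (0x47e000287) (Nat.ble 2830 i)) (Bool.rec (motive := fun _ => Nat) (0x200047e00099b) (0x100047f000dc0) (Nat.ble 2832 i)) (Nat.ble 2831 i)) (Bool.rec (motive := fun _ => Nat) (Bool.rec (motive := fun _ => Nat) (0x300047f000729) (0x40004800004ee) (Nat.ble 2834 i)) (Bool.rec (motive := fun _ => Nat) (0x481000a3a) (0x4000482000c98) (Nat.ble 2836 i)) (Nat.ble 2835 i)) (Nat.ble 2833 i)) (Nat.ble 2829 i)) (Nat.ble 2822 i)) (Bool.rec (motive := fun _ => Nat) (Bool.rec (motive := fun _ => Nat) (Bool.rec (motive := fun _ => Nat) (Bool.rec (motive := fun _ => Nat) (0x4830008ac) (Bool.rec (motive := fun _ => Nat) (0x4000483000b35) (0x484000c90) (Nat.ble 2839 i)) (Nat.ble 2838 i)) (Bool.rec (motive := fun _ => Nat) (Bool.rec (motive := fun _ => Nat) (0x3000484000a7b) (0x1000486000b5e) (Nat.ble 2841 i)) (Bool.rec (motive := fun _ => Nat) (0x1000487000989)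 (0x20004870006c4) (Nat.ble 2843 i)) (Nat.ble 2842 i)) (Nat.ble 2840 i)) (Bool.rec (motive := fun _ => Nat) (Bool.rec (motive := fun _ => Nat) (Bool.rec (motive := fun _ => Nat) (0x30004870004c0) (0x4000487000ec9) (Nat.ble 2845 i)) (Bool.rec (motive := fun _ => Nat) (0x488000899) (0x3000488000781) (Nat.ble 2847 i)) (Nat.ble 2846 i)) (Bool.rec (motive := fun _ => Nat) (Bool.rec (motive := fun _ => Nat) (0x40004880005b0) (0x48a000e41) (Nat.ble 2849 i)) (Bool.rec (motive := fun _ => Nat) (0x100048a000c80) (0x200048a000160) (Nat.ble 2851 i)) (Nat.ble 2850 i)) (Nat.ble 2848 i)) (Nat.ble 2844 i)) (Bool.rec (motive := fun _ => Nat) (Bool.rec (motive := fun _ => Nat) (Bool.rec (motive := fun _ => Nat) (Bool.rec (motive := fun _ => Nat) (0x400048a000c54) (0x200048b0002ae) (Nat.ble 2853 i)) (Bool.rec (motive := fun _ => Nat) (0x200048c000b6f) (0x400048c0008d9) (Nat.ble 2855 i)) (Nat.ble 2854 i)) (Bool.rec (motive := fun _ => Nat) (Bool.rec (motive := fun _ => Nat) (0x48d000c88) (0x400048f0004f9) (Nat.ble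 2857 i)) (Bool.rec (motive := fun _ => Nat) (0x490000e58) (0x1000490000b67) (Nat.ble 2859 i)) (Nat.ble 2858 i)) (Nat.ble 2856 i)) (Bool.rec (motive := fun _ => Nat) (Bool.rec (motive := fun _ => Nat) (Bool.rec (motive := fun _ => Nat) (0x4910009c6) (0x30004910007d4) (Nat.ble 2861 i)) (Bool.rec (motive := fun _ => Nat) (0x40004910009c7) (0x492000515) (Nat.ble 2863 i)) (Nat.ble 2862 i)) (Bool.rec (motive := fun _ => Nat) (Bool.rec (motive := fun _ => Nat) (0x2000492000ec7) (0x4000492000646) (Nat.ble 2865 i)) (Bool.rec (motive := fun _ => Nat) (0x493000982) (0x1000493000251) (Nat.ble 2867 i)) (Nat.ble 2866 i)) (Nat.ble 2864 i)) (Nat.ble 2860 i)) (Nat.ble 2852 i)) (Nat.ble 2837 i))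
noncomputable def CA0P_47 (i : Nat) : Nat := (Bool.rec (motive := fun _ => Nat) (Bool.rec (motive := fun _ => Nat) (Bool.rec (motive := fun _ => Nat) (Bool.rec (motive := fun _ => Nat) (Bool.rec (motive := fun _ => Nat) (0x1000494000c07) (Bool.rec (motive := fun _ => Nat) (0x4000494000de8) (0x100049600073a) (Nat.ble 2870 i)) (Nat.ble 2869 i)) (Bool.rec (motive := fun _ => Nat) (Bool.rec (motive := fun _ => Nat) (0x2000497000518) (0x1000499000b22) (Nat.ble 2872 i)) (Bool.rec (motive := fun _ => Nat) (0x3000499000e01) (0x4000499000b3a) (Nat.ble 2874 i)) (Nat.ble 2873 i)) (Nat.ble 2871 i)) (Bool.rec (motive := fun _ => Nat) (Bool.rec (motive := fun _ => Nat) (Bool.rec (motive := fun _ => Nat) (0x200049a000254) (0x49b0002cb) (Nat.ble 2876 i)) (Bool.rec (motive := fun _ => Nat) (0x100049b000104) (0x300049d000b00) (Nat.ble 2878 i)) (Nat.ble 2877 i)) (Bool.rec (motive := fun _ => Nat) (Bool.rec (motive := fun _ => Nat) (0x400049d0000f8) (0x200049f000a13) (Nat.ble 2880 i)) (Bool.rec (motive := fun _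 => Nat) (0x4a0000c7f) (0x30004a1000e9b) (Nat.ble 2882 i)) (Nat.ble 2881 i)) (Nat.ble 2879 i)) (Nat.ble 2875 i)) (Bool.rec (motive := fun _ => Nat) (Bool.rec (motive := fun _ => Nat) (Bool.rec (motive := fun _ => Nat) (0x4a2000573) (Bool.rec (motive := fun _ => Nat) (0x30004a2000a55) (0x40004a3000e9c) (Nat.ble 2885 i)) (Nat.ble 2884 i)) (Bool.rec (motive := fun _ => Nat) (Bool.rec (motive := fun _ => Nat) (0x4a40009b2) (0x20004a4000027) (Nat.ble 2887 i)) (Bool.rec (motive := fun _ => Nat) (0x30004a40007b8) (0x4a500009e) (Nat.ble 2889 i)) (Nat.ble 2888 i)) (Nat.ble 2886 i)) (Bool.rec (motive := fun _ => Nat) (Bool.rec (motive := fun _ => Nat) (Bool.rec (motive := fun _ => Nat) (0x10004a5000048) (0x4a60007be) (Nat.ble 2891 i)) (Bool.rec (motive := fun _ => Nat) (0x20004a6000a11) (0x4a800057e) (Nat.ble 2893 i)) (Nat.ble 2892 i)) (Bool.rec (motive := fun _ => Nat) (Bool.rec (motive := fun _ => Nat) (0x10004aa000cb6) (0x4ab000768) (Nat.ble 2895 i)) (Bool.rec (motive := fun _ => Nat) (0x4ac000ada)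 (0x20004ad0007a1) (Nat.ble 2897 i)) (Nat.ble 2896 i)) (Nat.ble 2894 i)) (Nat.ble 2890 i)) (Nat.ble 2883 i)) (Bool.rec (motive := fun _ => Nat) (Bool.rec (motive := fun _ => Nat) (Bool.rec (motive := fun _ => Nat) (Bool.rec (motive := fun _ => Nat) (0x40004ad000bba) (Bool.rec (motive := fun _ => Nat) (0x20004ae000187) (0x20004af0008bd) (Nat.ble 2900 i)) (Nat.ble 2899 i)) (Bool.rec (motive := fun _ => Nat) (Bool.rec (motive := fun _ => Nat) (0x40004af0003b7) (0x4b1000e3c) (Nat.ble 2902 i)) (Bool.rec (motive := fun _ => Nat) (0x10004b1000d05) (0x4b20002ca) (Nat.ble 2904 i)) (Nat.ble 2903 i)) (Nat.ble 2901 i)) (Bool.rec (motive := fun _ => Nat) (Bool.rec (motive := fun _ => Nat) (Bool.rec (motive := fun _ => Nat) (0x20004b20001ea) (0x30004b2000bc8) (Nat.ble 2906 i)) (Bool.rec (motive := fun _ => Nat) (0x4b5000b65) (0x10004b500050f) (Nat.ble 2908 i)) (Nat.ble 2907 i)) (Bool.rec (motive := fun _ => Nat) (Bool.rec (motive := fun _ => Nat) (0x10004b6000d09) (0x20004b800058c) (Nat.ble 2910 i)) (Bool.rec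 (motive := fun _ => Nat) (0x20004b90005e6) (0x10004ba000d70) (Nat.ble 2912 i)) (Nat.ble 2911 i)) (Nat.ble 2909 i)) (Nat.ble 2905 i)) (Bool.rec (motive := fun _ => Nat) (Bool.rec (motive := fun _ => Nat) (Bool.rec (motive := fun _ => Nat) (Bool.rec (motive := fun _ => Nat) (0x20004bb000605) (0x4bc000adb) (Nat.ble 2914 i)) (Bool.rec (motive := fun _ => Nat) (0x4be0009be) (0x30004be0009c1) (Nat.ble 2916 i)) (Nat.ble 2915 i)) (Bool.rec (motive := fun _ => Nat) (Bool.rec (motive := fun _ => Nat) (0x4bf000612) (0x10004bf000a12) (Nat.ble 2918 i)) (Bool.rec (motive := fun _ => Nat) (0x30004bf0004df) (0x10004c0000955) (Nat.ble 2920 i)) (Nat.ble 2919 i)) (Nat.ble 2917 i)) (Bool.rec (motive := fun _ => Nat) (Bool.rec (motive := fun _ => Nat) (Bool.rec (motive := fun _ => Nat) (0x4c10009b0) (0x10004c3000a03) (Nat.ble 2922 i)) (Bool.rec (motive := fun _ => Nat) (0x10004c40006ad) (0x20004c400064d) (Nat.ble 2924 i)) (Nat.ble 2923 i)) (Bool.rec (motive := fun _ => Nat) (Bool.rec (motive := fun _ => Nat) (0x30004c50004ca)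 (0x4c6000f1a) (Nat.ble 2926 i)) (Bool.rec (motive := fun _ => Nat) (0x30004c6000b61) (0x40004c6000299) (Nat.ble 2928 i)) (Nat.ble 2927 i)) (Nat.ble 2925 i)) (Nat.ble 2921 i)) (Nat.ble 2913 i)) (Nat.ble 2898 i))
noncomputable def CA0P_48 (i : Nat) : Nat := (Bool.rec (motive := fun _ => Nat) (Bool.rec (motive := fun _ => Nat) (Bool.rec (motive := fun _ => Nat) (Bool.rec (motive := fun _ => Nat) (Bool.rec (motive := fun _ => Nat) (0x4c7000962) (Bool.rec (motive := fun _ => Nat) (0x4c8000b98) (0x4c9000cda) (Nat.ble 2931 i)) (Nat.ble 2930 i)) (Bool.rec (motive := fun _ => Nat) (Bool.rec (motive := fun _ => Nat) (0x30004c9000cfa) (0x10004cb000b92) (Nat.ble 2933 i)) (Bool.rec (motive := fun _ => Nat) (0x4cc000b7e) (0x20004cc00015d) (Nat.ble 2935 i)) (Nat.ble 2934 i)) (Nat.ble 2932 i)) (Bool.rec (motive := fun _ => Nat) (Bool.rec (motive := fun _ => Nat) (Bool.rec (motive := fun _ => Nat) (0x4cd0003d9) (0x10004cd000019) (Nat.ble 2937 i)) (Bool.rec (motive := fun _ => Nat) (0x20004cd0003f4) (0x4d0000416)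 (Nat.ble 2939 i)) (Nat.ble 2938 i)) (Bool.rec (motive := fun _ => Nat) (Bool.rec (motive := fun _ => Nat) (0x30004d0000419) (0x4d100063b) (Nat.ble 2941 i)) (Bool.rec (motive := fun _ => Nat) (0x20004d2000845) (0x40004d200069c) (Nat.ble 2943 i)) (Nat.ble 2942 i)) (Nat.ble 2940 i)) (Nat.ble 2936 i)) (Bool.rec (motive := fun _ => Nat) (Bool.rec (motive := fun _ => Nat) (Bool.rec (motive := fun _ => Nat) (0x20004d4000e43) (Bool.rec (motive := fun _ => Nat) (0x30004d50006be) (0x20004d6000bf7) (Nat.ble 2946 i)) (Nat.ble 2945 i)) (Bool.rec (motive := fun _ => Nat) (Bool.rec (motive := fun _ => Nat) (0x30004d6000d9f) (0x4d7000bb5) (Nat.ble 2948 i)) (Bool.rec (motive := fun _ => Nat) (0x10004d7000d40) (0x40004d70009d7) (Nat.ble 2950 i)) (Nat.ble 2949 i)) (Nat.ble 2947 i)) (Bool.rec (motive := fun _ => Nat) (Bool.rec (motive := fun _ => Nat) (Bool.rec (motive := fun _ => Nat) (0x20004d800084a) (0x4d9000865) (Nat.ble 2952 i)) (Bool.rec (motive := fun _ => Nat) (0x20004d9000bc3) (0x10004da0002f6) (Nat.ble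 2954 i)) (Nat.ble 2953 i)) (Bool.rec (motive := fun _ => Nat) (Bool.rec (motive := fun _ => Nat) (0x20004da0002e3) (0x40004db000aea) (Nat.ble 2956 i)) (Bool.rec (motive := fun _ => Nat) (0x4dc00076e) (0x30004dc000966) (Nat.ble 2958 i)) (Nat.ble 2957 i)) (Nat.ble 2955 i)) (Nat.ble 2951 i)) (Nat.ble 2944 i)) (Bool.rec (motive := fun _ => Nat) (Bool.rec (motive := fun _ => Nat) (Bool.rec (motive := fun _ => Nat) (Bool.rec (motive := fun _ => Nat) (0x40004dc000540) (Bool.rec (motive := fun _ => Nat) (0x10004dd000727) (0x20004dd000d16) (Nat.ble 2961 i)) (Nat.ble 2960 i)) (Bool.rec (motive := fun _ => Nat) (Bool.rec (motive := fun _ => Nat) (0x40004dd000b64) (0x4de000cba) (Nat.ble 2963 i)) (Bool.rec (motive := fun _ => Nat) (0x20004de000391) (0x30004de000eec) (Nat.ble 2965 i)) (Nat.ble 2964 i)) (Nat.ble 2962 i)) (Bool.rec (motive := fun _ => Nat) (Bool.rec (motive := fun _ => Nat) (Bool.rec (motive := fun _ => Nat) (0x4e1000c13) (0x20004e1000e34) (Nat.ble 2967 i)) (Bool.rec (motive := fun _ => Nat)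 (0x30004e100035f) (0x4e2000d37) (Nat.ble 2969 i)) (Nat.ble 2968 i)) (Bool.rec (motive := fun _ => Nat) (Bool.rec (motive := fun _ => Nat) (0x10004e2000d9c) (0x20004e2000f39) (Nat.ble 2971 i)) (Bool.rec (motive := fun _ => Nat) (0x40004e2000f13) (0x10004e30007c7) (Nat.ble 2973 i)) (Nat.ble 2972 i)) (Nat.ble 2970 i)) (Nat.ble 2966 i)) (Bool.rec (motive := fun _ => Nat) (Bool.rec (motive := fun _ => Nat) (Bool.rec (motive := fun _ => Nat) (Bool.rec (motive := fun _ => Nat) (0x30004e3000db9) (0x30004e4000d7f) (Nat.ble 2975 i)) (Bool.rec (motive := fun _ => Nat) (0x4e60002c4) (0x10004ed000b44) (Nat.ble 2977 i)) (Nat.ble 2976 i)) (Bool.rec (motive := fun _ => Nat) (Bool.rec (motive := fun _ => Nat) (0x20004ed000b3f) (0x10004ee000a0d) (Nat.ble 2979 i)) (Bool.rec (motive := fun _ => Nat) (0x20004ee0007e8) (0x30004ef000c23) (Nat.ble 2981 i)) (Nat.ble 2980 i)) (Nat.ble 2978 i)) (Bool.rec (motive := fun _ => Nat) (Bool.rec (motive := fun _ => Nat) (Bool.rec (motive := fun _ => Nat) (0x4f0000c29) (0x10004f1000d69)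 (Nat.ble 2983 i)) (Bool.rec (motive := fun _ => Nat) (0x20004f100090a) (0x30004f100082f) (Nat.ble 2985 i)) (Nat.ble 2984 i)) (Bool.rec (motive := fun _ => Nat) (Bool.rec (motive := fun _ => Nat) (0x20004f20007ce) (0x40004f3000c18) (Nat.ble 2987 i)) (Bool.rec (motive := fun _ => Nat) (0x4f4000c40) (0x30004f4000be1) (Nat.ble 2989 i)) (Nat.ble 2988 i)) (Nat.ble 2986 i)) (Nat.ble 2982 i)) (Nat.ble 2974 i)) (Nat.ble 2959 i))
noncomputable def CA0P_49 (i : Nat) : Nat := (Bool.rec (motive := fun _ => Nat) (Bool.rec (motive := fun _ => Nat) (Bool.rec (motive := fun _ => Nat) (Bool.rec (motive := fun _ => Nat) (Bool.rec (motive := fun _ => Nat) (0x40004f4000787) (Bool.rec (motive := fun _ => Nat) (0x20004f6000ece) (0x4f7000c45) (Nat.ble 2992 i)) (Nat.ble 2991 i)) (Bool.rec (motive := fun _ => Nat) (Bool.rec (motive := fun _ => Nat) (0x20004f7000c43) (0x30004f7000d63) (Nat.ble 2994 i)) (Bool.rec (motive := fun _ => Nat) (0x40004f700064c) (0x40004f8000bfe) (Nat.ble 2996 i)) (Nat.ble 2995 i)) (Nat.ble 2993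 i)) (Bool.rec (motive := fun _ => Nat) (Bool.rec (motive := fun _ => Nat) (Bool.rec (motive := fun _ => Nat) (0x10004f9000e45) (0x20004f9000861) (Nat.ble 2998 i)) (Bool.rec (motive := fun _ => Nat) (0x30004f9000695) (0x10004fa000f11) (Nat.ble 3000 i)) (Nat.ble 2999 i)) (Bool.rec (motive := fun _ => Nat) (Bool.rec (motive := fun _ => Nat) (0x4fb000d4e) (0x30004fb00054f) (Nat.ble 3002 i)) (Bool.rec (motive := fun _ => Nat) (0x40004fb000780) (0x4fc000903) (Nat.ble 3004 i)) (Nat.ble 3003 i)) (Nat.ble 3001 i)) (Nat.ble 2997 i)) (Bool.rec (motive := fun _ => Nat) (Bool.rec (motive := fun _ => Nat) (Bool.rec (motive := fun _ => Nat) (0x20004fc000ea3) (Bool.rec (motive := fun _ => Nat) (0x30004fd0007af) (0x500000db1) (Nat.ble 3007 i)) (Nat.ble 3006 i)) (Bool.rec (motive := fun _ => Nat) (Bool.rec (motive := fun _ => Nat) (0x502000c92) (0x100050200089e) (Nat.ble 3009 i)) (Bool.rec (motive := fun _ => Nat) (0x3000502000a8d) (0x503000d6a) (Nat.ble 3011 i)) (Nat.ble 3010 i)) (Nat.ble 3008 i)) (Bool.rec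 (motive := fun _ => Nat) (Bool.rec (motive := fun _ => Nat) (Bool.rec (motive := fun _ => Nat) (0x1000503000556) (0x2000503000c82) (Nat.ble 3013 i)) (Bool.rec (motive := fun _ => Nat) (0x5040000e8) (0x3000504000b57) (Nat.ble 3015 i)) (Nat.ble 3014 i)) (Bool.rec (motive := fun _ => Nat) (Bool.rec (motive := fun _ => Nat) (0x5070004c6) (0x1000509000e50) (Nat.ble 3017 i)) (Bool.rec (motive := fun _ => Nat) (0x4000509000f1b) (0x100050a000dd1) (Nat.ble 3019 i)) (Nat.ble 3018 i)) (Nat.ble 3016 i)) (Nat.ble 3012 i)) (Nat.ble 3005 i)) (Bool.rec (motive := fun _ => Nat) (Bool.rec (motive := fun _ => Nat) (Bool.rec (motive := fun _ => Nat) (Bool.rec (motive := fun _ => Nat) (0x200050a000ca0) (Bool.rec (motive := fun _ => Nat) (0x100050b000997) (0x300050b000ed1) (Nat.ble 3022 i)) (Nat.ble 3021 i)) (Bool.rec (motive := fun _ => Nat) (Bool.rec (motive := fun _ => Nat) (0x100050c000ea0) (0x200050c000afb) (Nat.ble 3024 i)) (Bool.rec (motive := fun _ => Nat) (0x400050c00050d) (0x300050d000e35) (Nat.ble 3026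 i)) (Nat.ble 3025 i)) (Nat.ble 3023 i)) (Bool.rec (motive := fun _ => Nat) (Bool.rec (motive := fun _ => Nat) (Bool.rec (motive := fun _ => Nat) (0x100050f000a35) (0x40005100004ed) (Nat.ble 3028 i)) (Bool.rec (motive := fun _ => Nat) (0x2000512000922) (0x4000512000a73) (Nat.ble 3030 i)) (Nat.ble 3029 i)) (Bool.rec (motive := fun _ => Nat) (Bool.rec (motive := fun _ => Nat) (0x5140008ba) (0x30005140006d6) (Nat.ble 3032 i)) (Bool.rec (motive := fun _ => Nat) (0x10005150007c3) (0x20005160006f6) (Nat.ble 3034 i)) (Nat.ble 3033 i)) (Nat.ble 3031 i)) (Nat.ble 3027 i)) (Bool.rec (motive := fun _ => Nat) (Bool.rec (motive := fun _ => Nat) (Bool.rec (motive := fun _ => Nat) (Bool.rec (motive := fun _ => Nat) (0x517000b68) (0x2000518000d93) (Nat.ble 3036 i)) (Bool.rec (motive := fun _ => Nat) (0x2000519000b06) (0x30005190006bb) (Nat.ble 3038 i)) (Nat.ble 3037 i)) (Bool.rec (motive := fun _ => Nat) (Bool.rec (motive := fun _ => Nat) (0x200051b0009cc) (0x300051b000939) (Nat.ble 3040 i)) (Bool.rec (motive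 := fun _ => Nat) (0x400051b000471) (0x300051d000e5c) (Nat.ble 3042 i)) (Nat.ble 3041 i)) (Nat.ble 3039 i)) (Bool.rec (motive := fun _ => Nat) (Bool.rec (motive := fun _ => Nat) (Bool.rec (motive := fun _ => Nat) (0x400051d000e9d) (0x100051e00077d) (Nat.ble 3044 i)) (Bool.rec (motive := fun _ => Nat) (0x300051e000adc) (0x400051f0007b6) (Nat.ble 3046 i)) (Nat.ble 3045 i)) (Bool.rec (motive := fun _ => Nat) (Bool.rec (motive := fun _ => Nat) (0x2000520000cde) (0x5220006d7) (Nat.ble 3048 i)) (Bool.rec (motive := fun _ => Nat) (0x400052200077e) (0x2000524000ae3) (Nat.ble 3050 i)) (Nat.ble 3049 i)) (Nat.ble 3047 i)) (Nat.ble 3043 i)) (Nat.ble 3035 i)) (Nat.ble 3020 i))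
noncomputable def CA0P_50 (i : Nat) : Nat := (Bool.rec (motive := fun _ => Nat) (Bool.rec (motive := fun _ => Nat) (Bool.rec (motive := fun _ => Nat) (Bool.rec (motive := fun _ => Nat) (Bool.rec (motive := fun _ => Nat) (0x100052600059b) (Bool.rec (motive := fun _ => Nat) (0x3000526000af6) (0x528000614) (Nat.ble 3053 i)) (Nat.ble 3052 i)) (Bool.rec (motive := fun _ => Nat) (Bool.rec (motive := fun _ => Nat) (0x2000528000d13) (0x3000528000dd5) (Nat.ble 3055 i)) (Bool.rec (motive := fun _ => Nat) (0x40005280006c7) (0x529000c08) (Nat.ble 3057 i)) (Nat.ble 3056 i)) (Nat.ble 3054 i)) (Bool.rec (motive := fun _ => Nat) (Bool.rec (motive := fun _ => Nat) (Bool.rec (motive := fun _ => Nat) (0x10005290007c9) (0x3000529000e0e) (Nat.ble 3059 i)) (Bool.rec (motive := fun _ => Nat) (0x300052a000137) (0x400052a000ce3) (Nat.ble 3061 i)) (Nat.ble 3060 i)) (Bool.rec (motive := fun _ => Nat) (Bool.rec (motive := fun _ => Nat) (0x200052c000be9) (0x400052c00097b) (Nat.ble 3063 i)) (Bool.rec (motive := fun _ =>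 Nat) (0x100052e000930) (0x200052e0006cc) (Nat.ble 3065 i)) (Nat.ble 3064 i)) (Nat.ble 3062 i)) (Nat.ble 3058 i)) (Bool.rec (motive := fun _ => Nat) (Bool.rec (motive := fun _ => Nat) (Bool.rec (motive := fun _ => Nat) (0x300052e000c8f) (Bool.rec (motive := fun _ => Nat) (0x400052e000448) (0x1000530000307) (Nat.ble 3068 i)) (Nat.ble 3067 i)) (Bool.rec (motive := fun _ => Nat) (Bool.rec (motive := fun _ => Nat) (0x2000530000a89) (0x4000530000697) (Nat.ble 3070 i)) (Bool.rec (motive := fun _ => Nat) (0x1000533000268) (0x2000533000259) (Nat.ble 3072 i)) (Nat.ble 3071 i)) (Nat.ble 3069 i)) (Bool.rec (motive := fun _ => Nat) (Bool.rec (motive := fun _ => Nat) (Bool.rec (motive := fun _ => Nat) (0x3000535000440) (0x4000536000c1c) (Nat.ble 3074 i)) (Bool.rec (motive := fun _ => Nat) (0x1000537000917) (0x10005380002f9) (Nat.ble 3076 i)) (Nat.ble 3075 i)) (Bool.rec (motive := fun _ => Nat) (Bool.rec (motive := fun _ => Nat) (0x539000d7d) (0x3000539000d30) (Nat.ble 3078 i)) (Bool.rec (motive := fun _ =>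 Nat) (0x53a000d2f) (0x400053e000441) (Nat.ble 3080 i)) (Nat.ble 3079 i)) (Nat.ble 3077 i)) (Nat.ble 3073 i)) (Nat.ble 3066 i)) (Bool.rec (motive := fun _ => Nat) (Bool.rec (motive := fun _ => Nat) (Bool.rec (motive := fun _ => Nat) (Bool.rec (motive := fun _ => Nat) (0x300053f000bcf) (Bool.rec (motive := fun _ => Nat) (0x2000540000c11) (0x1000543000219) (Nat.ble 3083 i)) (Nat.ble 3082 i)) (Bool.rec (motive := fun _ => Nat) (Bool.rec (motive := fun _ => Nat) (0x100054600046d) (0x3000546000992) (Nat.ble 3085 i)) (Bool.rec (motive := fun _ => Nat) (0x3000547000b85) (0x549000411) (Nat.ble 3087 i)) (Nat.ble 3086 i)) (Nat.ble 3084 i)) (Bool.rec (motive := fun _ => Nat) (Bool.rec (motive := fun _ => Nat) (Bool.rec (motive := fun _ => Nat) (0x100054a0007fc) (0x200054a0007f8) (Nat.ble 3089 i)) (Bool.rec (motive := fun _ => Nat) (0x54c0005eb) (0x300054c000203) (Nat.ble 3091 i)) (Nat.ble 3090 i)) (Bool.rec (motive := fun _ => Nat) (Bool.rec (motive := fun _ => Nat) (0x54d00060a) (0x100054d0007cf) (Nat.ble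 3093 i)) (Bool.rec (motive := fun _ => Nat) (0x54e0009ed) (0x200054e000960) (Nat.ble 3095 i)) (Nat.ble 3094 i)) (Nat.ble 3092 i)) (Nat.ble 3088 i)) (Bool.rec (motive := fun _ => Nat) (Bool.rec (motive := fun _ => Nat) (Bool.rec (motive := fun _ => Nat) (Bool.rec (motive := fun _ => Nat) (0x400054e000c6f) (0x10005500006de) (Nat.ble 3097 i)) (Bool.rec (motive := fun _ => Nat) (0x4000551000543) (0x1000553000791) (Nat.ble 3099 i)) (Nat.ble 3098 i)) (Bool.rec (motive := fun _ => Nat) (Bool.rec (motive := fun _ => Nat) (0x100055400053c) (0x1000555000544) (Nat.ble 3101 i)) (Bool.rec (motive := fun _ => Nat) (0x20005550006f0) (0x2000556000be5) (Nat.ble 3103 i)) (Nat.ble 3102 i)) (Nat.ble 3100 i)) (Bool.rec (motive := fun _ => Nat) (Bool.rec (motive := fun _ => Nat) (Bool.rec (motive := fun _ => Nat) (0x558000753) (0x3000558000754) (Nat.ble 3105 i)) (Bool.rec (motive := fun _ => Nat) (0x55900069d) (0x20005590008fb) (Nat.ble 3107 i)) (Nat.ble 3106 i)) (Bool.rec (motive := fun _ => Nat) (Bool.rec (motive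 := fun _ => Nat) (0x55a000964) (0x400055a000b7d) (Nat.ble 3109 i)) (Bool.rec (motive := fun _ => Nat) (0x100055b000c28) (0x200055b00071c) (Nat.ble 3111 i)) (Nat.ble 3110 i)) (Nat.ble 3108 i)) (Nat.ble 3104 i)) (Nat.ble 3096 i)) (Nat.ble 3081 i))
noncomputable def CA0P_51 (i : Nat) : Nat := (Bool.rec (motive := fun _ => Nat) (Bool.rec (motive := fun _ => Nat) (Bool.rec (motive := fun _ => Nat) (Bool.rec (motive := fun _ => Nat) (Bool.rec (motive := fun _ => Nat) (0x400055b0003ce) (Bool.rec (motive := fun _ => Nat) (0x200055c000822) (0x55d000044) (Nat.ble 3114 i)) (Nat.ble 3113 i)) (Bool.rec (motive := fun _ => Nat) (Bool.rec (motive := fun _ => Nat) (0x400055d0008b9) (0x55e000246) (Nat.ble 3116 i)) (Bool.rec (motive := fun _ => Nat) (0x200055e000ad4) (0x200056000087b) (Nat.ble 3118 i)) (Nat.ble 3117 i)) (Nat.ble 3115 i)) (Bool.rec (motive := fun _ => Nat) (Bool.rec (motive := fun _ => Nat) (Bool.rec (motive := fun _ => Nat) (0x3000561000c17) (0x2000562000888) (Nat.ble 3120 i)) (Bool.rec (motive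 := fun _ => Nat) (0x563000288) (0x2000563000d71) (Nat.ble 3122 i)) (Nat.ble 3121 i)) (Bool.rec (motive := fun _ => Nat) (Bool.rec (motive := fun _ => Nat) (0x1000566000dda) (0x400056600070c) (Nat.ble 3124 i)) (Bool.rec (motive := fun _ => Nat) (0x568000632) (0x100056800063d) (Nat.ble 3126 i)) (Nat.ble 3125 i)) (Nat.ble 3123 i)) (Nat.ble 3119 i)) (Bool.rec (motive := fun _ => Nat) (Bool.rec (motive := fun _ => Nat) (Bool.rec (motive := fun _ => Nat) (0x3000569000657) (Bool.rec (motive := fun _ => Nat) (0x200056a000f34) (0x100056e000e55) (Nat.ble 3129 i)) (Nat.ble 3128 i)) (Bool.rec (motive := fun _ => Nat) (Bool.rec (motive := fun _ => Nat) (0x200056f000d75) (0x400056f000d77) (Nat.ble 3131 i)) (Bool.rec (motive := fun _ => Nat) (0x1000570000d79) (0x4000570000e71) (Nat.ble 3133 i)) (Nat.ble 3132 i)) (Nat.ble 3130 i)) (Bool.rec (motive := fun _ => Nat) (Bool.rec (motive := fun _ => Nat) (Bool.rec (motive := fun _ => Nat) (0x57200079f) (0x10005730001e7) (Nat.ble 3135 i)) (Bool.rec (motive := fun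 _ => Nat) (0x40005730008d6) (0x1000574000c83) (Nat.ble 3137 i)) (Nat.ble 3136 i)) (Bool.rec (motive := fun _ => Nat) (Bool.rec (motive := fun _ => Nat) (0x4000574000cbe) (0x1000575000cbf) (Nat.ble 3139 i)) (Bool.rec (motive := fun _ => Nat) (0x4000576000ef6) (0x10005780003ac) (Nat.ble 3141 i)) (Nat.ble 3140 i)) (Nat.ble 3138 i)) (Nat.ble 3134 i)) (Nat.ble 3127 i)) (Bool.rec (motive := fun _ => Nat) (Bool.rec (motive := fun _ => Nat) (Bool.rec (motive := fun _ => Nat) (Bool.rec (motive := fun _ => Nat) (0x200057b000dbc) (Bool.rec (motive := fun _ => Nat) (0x57c000712) (0x200057c000952) (Nat.ble 3144 i)) (Nat.ble 3143 i)) (Bool.rec (motive := fun _ => Nat) (Bool.rec (motive := fun _ => Nat) (0x400057d00092a) (0x400057f000dfc) (Nat.ble 3146 i)) (Bool.rec (motive := fun _ => Nat) (0x200058000083c) (0x581000ed4) (Nat.ble 3148 i)) (Nat.ble 3147 i)) (Nat.ble 3145 i)) (Bool.rec (motive := fun _ => Nat) (Bool.rec (motive := fun _ => Nat) (Bool.rec (motive := fun _ => Nat) (0x1000581000880) (0x200058100086e)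 (Nat.ble 3150 i)) (Bool.rec (motive := fun _ => Nat) (0x4000581000f3e) (0x582000f0d) (Nat.ble 3152 i)) (Nat.ble 3151 i)) (Bool.rec (motive := fun _ => Nat) (Bool.rec (motive := fun _ => Nat) (0x3000582000d7a) (0x3000583000874) (Nat.ble 3154 i)) (Bool.rec (motive := fun _ => Nat) (0x584000698) (0x2000584000d5d) (Nat.ble 3156 i)) (Nat.ble 3155 i)) (Nat.ble 3153 i)) (Nat.ble 3149 i)) (Bool.rec (motive := fun _ => Nat) (Bool.rec (motive := fun _ => Nat) (Bool.rec (motive := fun _ => Nat) (Bool.rec (motive := fun _ => Nat) (0x2000585000dde) (0x586000b6d) (Nat.ble 3158 i)) (Bool.rec (motive := fun _ => Nat) (0x3000586000633) (0x40005860000a5) (Nat.ble 3160 i)) (Nat.ble 3159 i)) (Bool.rec (motive := fun _ => Nat) (Bool.rec (motive := fun _ => Nat) (0x200058700041c) (0x1000588000dfb) (Nat.ble 3162 i)) (Bool.rec (motive := fun _ => Nat) (0x200058a000785) (0x200058b00034e) (Nat.ble 3164 i)) (Nat.ble 3163 i)) (Nat.ble 3161 i)) (Bool.rec (motive := fun _ => Nat) (Bool.rec (motive := fun _ => Nat) (Bool.rec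 (motive := fun _ => Nat) (0x400058c000a0b) (0x58f00045d) (Nat.ble 3166 i)) (Bool.rec (motive := fun _ => Nat) (0x300058f000dc3) (0x4000592000ead) (Nat.ble 3168 i)) (Nat.ble 3167 i)) (Bool.rec (motive := fun _ => Nat) (Bool.rec (motive := fun _ => Nat) (0x2000595000229) (0x4000595000084) (Nat.ble 3170 i)) (Bool.rec (motive := fun _ => Nat) (0x596000cb1) (0x200059600090b) (Nat.ble 3172 i)) (Nat.ble 3171 i)) (Nat.ble 3169 i)) (Nat.ble 3165 i)) (Nat.ble 3157 i)) (Nat.ble 3142 i))
noncomputable def CA0P_52 (i : Nat) : Nat := (Bool.rec (motive := fun _ => Nat) (Bool.rec (motive := fun _ => Nat) (Bool.rec (motive := fun _ => Nat) (Bool.rec (motive := fun _ => Nat) (Bool.rec (motive := fun _ => Nat) (0x4000596000b89) (Bool.rec (motive := fun _ => Nat) (0x10005970001e6) (0x2000598000c4b) (Nat.ble 3175 i)) (Nat.ble 3174 i)) (Bool.rec (motive := fun _ => Nat) (Bool.rec (motive := fun _ => Nat) (0x3000599000bdf) (0x59b0007dc) (Nat.ble 3177 i)) (Bool.rec (motive := fun _ => Nat) (0x300059b0007de) (0x400059c000ddd)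 (Nat.ble 3179 i)) (Nat.ble 3178 i)) (Nat.ble 3176 i)) (Bool.rec (motive := fun _ => Nat) (Bool.rec (motive := fun _ => Nat) (Bool.rec (motive := fun _ => Nat) (0x300059d0009f7) (0x5a00002f5) (Nat.ble 3181 i)) (Bool.rec (motive := fun _ => Nat) (0x10005a0000e5a) (0x30005a0000c14) (Nat.ble 3183 i)) (Nat.ble 3182 i)) (Bool.rec (motive := fun _ => Nat) (Bool.rec (motive := fun _ => Nat) (0x20005a100068c) (0x5a400021e) (Nat.ble 3185 i)) (Bool.rec (motive := fun _ => Nat) (0x40005a7000b6a) (0x5a800095f) (Nat.ble 3187 i)) (Nat.ble 3186 i)) (Nat.ble 3184 i)) (Nat.ble 3180 i)) (Bool.rec (motive := fun _ => Nat) (Bool.rec (motive := fun _ => Nat) (Bool.rec (motive := fun _ => Nat) (0x10005a800017a) (Bool.rec (motive := fun _ => Nat) (0x30005a9000bbd) (0x40005a90009ef) (Nat.ble 3190 i)) (Nat.ble 3189 i)) (Bool.rec (motive := fun _ => Nat) (Bool.rec (motive := fun _ => Nat) (0x5aa0008bf) (0x20005aa000736) (Nat.ble 3192 i)) (Bool.rec (motive := fun _ => Nat) (0x30005aa000ad2) (0x20005ab000efe) (Nat.ble 3194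 i)) (Nat.ble 3193 i)) (Nat.ble 3191 i)) (Bool.rec (motive := fun _ => Nat) (Bool.rec (motive := fun _ => Nat) (Bool.rec (motive := fun _ => Nat) (0x5ac00094a) (0x30005ac00091e) (Nat.ble 3196 i)) (Bool.rec (motive := fun _ => Nat) (0x10005ad0003f8) (0x5ae000709) (Nat.ble 3198 i)) (Nat.ble 3197 i)) (Bool.rec (motive := fun _ => Nat) (Bool.rec (motive := fun _ => Nat) (0x30005ae000ee4) (0x5af000180) (Nat.ble 3200 i)) (Bool.rec (motive := fun _ => Nat) (0x30005af000329) (0x5b0000898) (Nat.ble 3202 i)) (Nat.ble 3201 i)) (Nat.ble 3199 i)) (Nat.ble 3195 i)) (Nat.ble 3188 i)) (Bool.rec (motive := fun _ => Nat) (Bool.rec (motive := fun _ => Nat) (Bool.rec (motive := fun _ => Nat) (Bool.rec (motive := fun _ => Nat) (0x20005b000053d) (Bool.rec (motive := fun _ => Nat) (0x30005b0000bbe) (0x10005b10004fb) (Nat.ble 3205 i)) (Nat.ble 3204 i)) (Bool.rec (motive := fun _ => Nat) (Bool.rec (motive := fun _ => Nat) (0x40005b1000c91) (0x10005b200078d) (Nat.ble 3207 i)) (Bool.rec (motive := fun _ => Nat) (0x20005b200057a)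 (0x40005b200078f) (Nat.ble 3209 i)) (Nat.ble 3208 i)) (Nat.ble 3206 i)) (Bool.rec (motive := fun _ => Nat) (Bool.rec (motive := fun _ => Nat) (Bool.rec (motive := fun _ => Nat) (0x20005b3000763) (0x40005b3000767) (Nat.ble 3211 i)) (Bool.rec (motive := fun _ => Nat) (0x20005b50007c2) (0x10005b60004cc) (Nat.ble 3213 i)) (Nat.ble 3212 i)) (Bool.rec (motive := fun _ => Nat) (Bool.rec (motive := fun _ => Nat) (0x20005b7000490) (0x30005b7000ab8) (Nat.ble 3215 i)) (Bool.rec (motive := fun _ => Nat) (0x40005b8000c66) (0x30005ba00092d) (Nat.ble 3217 i)) (Nat.ble 3216 i)) (Nat.ble 3214 i)) (Nat.ble 3210 i)) (Bool.rec (motive := fun _ => Nat) (Bool.rec (motive := fun _ => Nat) (Bool.rec (motive := fun _ => Nat) (Bool.rec (motive := fun _ => Nat) (0x20005bc000ec0) (0x30005bc0006d3) (Nat.ble 3219 i)) (Bool.rec (motive := fun _ => Nat) (0x20005bd00066b) (0x30005bd00066c) (Nat.ble 3221 i)) (Nat.ble 3220 i)) (Bool.rec (motive := fun _ => Nat) (Bool.rec (motive := fun _ => Nat) (0x5c00008b6) (0x20005c00008b3)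 (Nat.ble 3223 i)) (Bool.rec (motive := fun _ => Nat) (0x30005c00001d2) (0x40005c0000a4e) (Nat.ble 3225 i)) (Nat.ble 3224 i)) (Nat.ble 3222 i)) (Bool.rec (motive := fun _ => Nat) (Bool.rec (motive := fun _ => Nat) (Bool.rec (motive := fun _ => Nat) (0x30005c1000f33) (0x5c2000e0c) (Nat.ble 3227 i)) (Bool.rec (motive := fun _ => Nat) (0x10005c4000a91) (0x20005c4000b6c) (Nat.ble 3229 i)) (Nat.ble 3228 i)) (Bool.rec (motive := fun _ => Nat) (Bool.rec (motive := fun _ => Nat) (0x20005c50007cb) (0x30005c500052e) (Nat.ble 3231 i)) (Bool.rec (motive := fun _ => Nat) (0x30005cb0006a0) (0x20005ce000e0f) (Nat.ble 3233 i)) (Nat.ble 3232 i)) (Nat.ble 3230 i)) (Nat.ble 3226 i)) (Nat.ble 3218 i)) (Nat.ble 3203 i))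
noncomputable def CA0P_53 (i : Nat) : Nat := (Bool.rec (motive := fun _ => Nat) (Bool.rec (motive := fun _ => Nat) (Bool.rec (motive := fun _ => Nat) (Bool.rec (motive := fun _ => Nat) (Bool.rec (motive := fun _ => Nat) (0x5d0000f24) (Bool.rec (motive := fun _ => Nat) (0x40005d0000dbf) (0x5d1000cdd) (Nat.ble 3236 i)) (Nat.ble 3235 i)) (Bool.rec (motive := fun _ => Nat) (Bool.rec (motive := fun _ => Nat) (0x20005d1000d68) (0x10005d200065e) (Nat.ble 3238 i)) (Bool.rec (motive := fun _ => Nat) (0x40005d4000f29) (0x5d5000669) (Nat.ble 3240 i)) (Nat.ble 3239 i)) (Nat.ble 3237 i)) (Bool.rec (motive := fun _ => Nat) (Bool.rec (motive := fun _ => Nat) (Bool.rec (motive := fun _ => Nat) (0x10005d5000998) (0x5d6000e1b) (Nat.ble 3242 i)) (Bool.rec (motive := fun _ => Nat) (0x10005d6000e64) (0x5d8000afa) (Nat.ble 3244 i)) (Nat.ble 3243 i)) (Bool.rec (motive := fun _ => Nat) (Bool.rec (motive := fun _ => Nat) (0x5da00059a) (0x20005dc0009d3) (Nat.ble 3246 i)) (Bool.rec (motive := fun _ => Nat) (0x40005dc0000b3)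 (0x30005dd000e33) (Nat.ble 3248 i)) (Nat.ble 3247 i)) (Nat.ble 3245 i)) (Nat.ble 3241 i)) (Bool.rec (motive := fun _ => Nat) (Bool.rec (motive := fun _ => Nat) (Bool.rec (motive := fun _ => Nat) (0x5de000a65) (Bool.rec (motive := fun _ => Nat) (0x20005de0005fe) (0x30005de000e3b) (Nat.ble 3251 i)) (Nat.ble 3250 i)) (Bool.rec (motive := fun _ => Nat) (Bool.rec (motive := fun _ => Nat) (0x5e2000442) (0x30005e2000161) (Nat.ble 3253 i)) (Bool.rec (motive := fun _ => Nat) (0x20005e5000ef1) (0x30005e6000968) (Nat.ble 3255 i)) (Nat.ble 3254 i)) (Nat.ble 3252 i)) (Bool.rec (motive := fun _ => Nat) (Bool.rec (motive := fun _ => Nat) (Bool.rec (motive := fun _ => Nat) (0x40005e6000028) (0x20005e800098b) (Nat.ble 3257 i)) (Bool.rec (motive := fun _ => Nat) (0x30005e8000b0f) (0x5e9000db8) (Nat.ble 3259 i)) (Nat.ble 3258 i)) (Bool.rec (motive := fun _ => Nat) (Bool.rec (motive := fun _ => Nat) (0x10005e9000c21) (0x10005ea000e6f) (Nat.ble 3261 i)) (Bool.rec (motive := fun _ => Nat) (0x20005ea000527) (0x30005eb0003fe)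 (Nat.ble 3263 i)) (Nat.ble 3262 i)) (Nat.ble 3260 i)) (Nat.ble 3256 i)) (Nat.ble 3249 i)) (Bool.rec (motive := fun _ => Nat) (Bool.rec (motive := fun _ => Nat) (Bool.rec (motive := fun _ => Nat) (Bool.rec (motive := fun _ => Nat) (0x40005ec000976) (Bool.rec (motive := fun _ => Nat) (0x10005ee00073d) (0x5f2000cb0) (Nat.ble 3266 i)) (Nat.ble 3265 i)) (Bool.rec (motive := fun _ => Nat) (Bool.rec (motive := fun _ => Nat) (0x30005f500094d) (0x5f7000737) (Nat.ble 3268 i)) (Bool.rec (motive := fun _ => Nat) (0x40005f80006ee) (0x20005f900032f) (Nat.ble 3270 i)) (Nat.ble 3269 i)) (Nat.ble 3267 i)) (Bool.rec (motive := fun _ => Nat) (Bool.rec (motive := fun _ => Nat) (Bool.rec (motive := fun _ => Nat) (0x10005fa0009e1) (0x30005fa000a57) (Nat.ble 3272 i)) (Bool.rec (motive := fun _ => Nat) (0x20005fc000557) (0x40005fc000984) (Nat.ble 3274 i)) (Nat.ble 3273 i)) (Bool.rec (motive := fun _ => Nat) (Bool.rec (motive := fun _ => Nat) (0x10005fd000cf4) (0x10005fe000bef) (Nat.ble 3276 i)) (Bool.rec (motive :=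 fun _ => Nat) (0x30005fe0009d1) (0x30005ff000c8d) (Nat.ble 3278 i)) (Nat.ble 3277 i)) (Nat.ble 3275 i)) (Nat.ble 3271 i)) (Bool.rec (motive := fun _ => Nat) (Bool.rec (motive := fun _ => Nat) (Bool.rec (motive := fun _ => Nat) (Bool.rec (motive := fun _ => Nat) (0x3000600000c01) (0x10006010008f9) (Nat.ble 3280 i)) (Bool.rec (motive := fun _ => Nat) (0x602000b09) (0x3000602000ed3) (Nat.ble 3282 i)) (Nat.ble 3281 i)) (Bool.rec (motive := fun _ => Nat) (Bool.rec (motive := fun _ => Nat) (0x2000603000dad) (0x3000603000ed9) (Nat.ble 3284 i)) (Bool.rec (motive := fun _ => Nat) (0x4000603000a00) (0x2000604000b7f) (Nat.ble 3286 i)) (Nat.ble 3285 i)) (Nat.ble 3283 i)) (Bool.rec (motive := fun _ => Nat) (Bool.rec (motive := fun _ => Nat) (Bool.rec (motive := fun _ => Nat) (0x605000a14) (0x100060c000568) (Nat.ble 3288 i)) (Bool.rec (motive := fun _ => Nat) (0x300060d0006f3) (0x60e000149) (Nat.ble 3290 i)) (Nat.ble 3289 i)) (Bool.rec (motive := fun _ => Nat) (Bool.rec (motive := fun _ => Nat) (0x100060f0000f1)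 (0x61000073b) (Nat.ble 3292 i)) (Bool.rec (motive := fun _ => Nat) (0x400061000084e) (0x611000e78) (Nat.ble 3294 i)) (Nat.ble 3293 i)) (Nat.ble 3291 i)) (Nat.ble 3287 i)) (Nat.ble 3279 i)) (Nat.ble 3264 i))
noncomputable def CA0P_54 (i : Nat) : Nat := (Bool.rec (motive := fun _ => Nat) (Bool.rec (motive := fun _ => Nat) (Bool.rec (motive := fun _ => Nat) (Bool.rec (motive := fun _ => Nat) (Bool.rec (motive := fun _ => Nat) (0x3000611000d6d) (Bool.rec (motive := fun _ => Nat) (0x40006110002c5) (0x4000614000c5c) (Nat.ble 3297 i)) (Nat.ble 3296 i)) (Bool.rec (motive := fun _ => Nat) (Bool.rec (motive := fun _ => Nat) (0x100061500042d) (0x20006160002ee) (Nat.ble 3299 i)) (Bool.rec (motive := fun _ => Nat) (0x200061700068d) (0x40006190008ea) (Nat.ble 3301 i)) (Nat.ble 3300 i)) (Nat.ble 3298 i)) (Bool.rec (motive := fun _ => Nat) (Bool.rec (motive := fun _ => Nat) (Bool.rec (motive := fun _ => Nat) (0x61a000b04) (0x61c00089a) (Nat.ble 3303 i)) (Bool.rec (motive := fun _ => Nat) (0x100061c000b4a) (0x300061e00068e)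 (Nat.ble 3305 i)) (Nat.ble 3304 i)) (Bool.rec (motive := fun _ => Nat) (Bool.rec (motive := fun _ => Nat) (0x621000199) (0x300062100012e) (Nat.ble 3307 i)) (Bool.rec (motive := fun _ => Nat) (0x2000622000b84) (0x623000381) (Nat.ble 3309 i)) (Nat.ble 3308 i)) (Nat.ble 3306 i)) (Nat.ble 3302 i)) (Bool.rec (motive := fun _ => Nat) (Bool.rec (motive := fun _ => Nat) (Bool.rec (motive := fun _ => Nat) (0x2000624000e7c) (Bool.rec (motive := fun _ => Nat) (0x625000901) (0x100062500031e) (Nat.ble 3312 i)) (Nat.ble 3311 i)) (Bool.rec (motive := fun _ => Nat) (Bool.rec (motive := fun _ => Nat) (0x3000625000167) (0x627000165) (Nat.ble 3314 i)) (Bool.rec (motive := fun _ => Nat) (0x628000796) (0x2000628000444) (Nat.ble 3316 i)) (Nat.ble 3315 i)) (Nat.ble 3313 i)) (Bool.rec (motive := fun _ => Nat) (Bool.rec (motive := fun _ => Nat) (Bool.rec (motive := fun _ => Nat) (0x300062b0008d5) (0x200062d0008d2) (Nat.ble 3318 i)) (Bool.rec (motive := fun _ => Nat) (0x62e000f2f) (0x630000ad8) (Nat.ble 3320 i)) (Nat.ble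 3319 i)) (Bool.rec (motive := fun _ => Nat) (Bool.rec (motive := fun _ => Nat) (0x2000630000426) (0x4000632000b49) (Nat.ble 3322 i)) (Bool.rec (motive := fun _ => Nat) (0x6330002e5) (0x3000633000e67) (Nat.ble 3324 i)) (Nat.ble 3323 i)) (Nat.ble 3321 i)) (Nat.ble 3317 i)) (Nat.ble 3310 i)) (Bool.rec (motive := fun _ => Nat) (Bool.rec (motive := fun _ => Nat) (Bool.rec (motive := fun _ => Nat) (Bool.rec (motive := fun _ => Nat) (0x2000634000c59) (Bool.rec (motive := fun _ => Nat) (0x3000636000232) (0x2000638000b6e) (Nat.ble 3327 i)) (Nat.ble 3326 i)) (Bool.rec (motive := fun _ => Nat) (Bool.rec (motive := fun _ => Nat) (0x63900043d) (0x300063900052d) (Nat.ble 3329 i)) (Bool.rec (motive := fun _ => Nat) (0x63d000b2f) (0x100063d000519) (Nat.ble 3331 i)) (Nat.ble 3330 i)) (Nat.ble 3328 i)) (Bool.rec (motive := fun _ => Nat) (Bool.rec (motive := fun _ => Nat) (Bool.rec (motive := fun _ => Nat) (0x400063d000db4) (0x2000642000864) (Nat.ble 3333 i)) (Bool.rec (motive := fun _ => Nat) (0x4000644000106)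 (0x10006460007e9) (Nat.ble 3335 i)) (Nat.ble 3334 i)) (Bool.rec (motive := fun _ => Nat) (Bool.rec (motive := fun _ => Nat) (0x648000661) (0x1000649000821) (Nat.ble 3337 i)) (Bool.rec (motive := fun _ => Nat) (0x200064a000bf3) (0x300064b0007d8) (Nat.ble 3339 i)) (Nat.ble 3338 i)) (Nat.ble 3336 i)) (Nat.ble 3332 i)) (Bool.rec (motive := fun _ => Nat) (Bool.rec (motive := fun _ => Nat) (Bool.rec (motive := fun _ => Nat) (Bool.rec (motive := fun _ => Nat) (0x64c000d3b) (0x400064c000c73) (Nat.ble 3341 i)) (Bool.rec (motive := fun _ => Nat) (0x200064e000e2a) (0x200065200070f) (Nat.ble 3343 i)) (Nat.ble 3342 i)) (Bool.rec (motive := fun _ => Nat) (Bool.rec (motive := fun _ => Nat) (0x4000654000e5b) (0x655000b86) (Nat.ble 3345 i)) (Bool.rec (motive := fun _ => Nat) (0x3000655000d18) (0x2000657000df7) (Nat.ble 3347 i)) (Nat.ble 3346 i)) (Nat.ble 3344 i)) (Bool.rec (motive := fun _ => Nat) (Bool.rec (motive := fun _ => Nat) (Bool.rec (motive := fun _ => Nat) (0x4000657000bbc) (0x100065a000eea) (Nat.ble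 3349 i)) (Bool.rec (motive := fun _ => Nat) (0x200065a00076a) (0x200065b000dac) (Nat.ble 3351 i)) (Nat.ble 3350 i)) (Bool.rec (motive := fun _ => Nat) (Bool.rec (motive := fun _ => Nat) (0x300065b0008e2) (0x200066000076c) (Nat.ble 3353 i)) (Bool.rec (motive := fun _ => Nat) (0x300066000094b) (0x1000661000730) (Nat.ble 3355 i)) (Nat.ble 3354 i)) (Nat.ble 3352 i)) (Nat.ble 3348 i)) (Nat.ble 3340 i)) (Nat.ble 3325 i))
noncomputable def CA0P_55 (i : Nat) : Nat := (Bool.rec (motive := fun _ => Nat) (Bool.rec (motive := fun _ => Nat) (Bool.rec (motive := fun _ => Nat) (Bool.rec (motive := fun _ => Nat) (Bool.rec (motive := fun _ => Nat) (0x3000663000ea4) (Bool.rec (motive := fun _ => Nat) (0x664000172) (0x30006640000f3) (Nat.ble 3358 i)) (Nat.ble 3357 i)) (Bool.rec (motive := fun _ => Nat) (Bool.rec (motive := fun _ => Nat) (0x66a000b8d) (0x400066e0006eb) (Nat.ble 3360 i)) (Bool.rec (motive := fun _ => Nat) (0x100066f000f1f) (0x10006700009b4) (Nat.ble 3362 i)) (Nat.ble 3361 i)) (Nat.ble 3359 i)) (Bool.rec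 (motive := fun _ => Nat) (Bool.rec (motive := fun _ => Nat) (Bool.rec (motive := fun _ => Nat) (0x6710005bd) (0x3000672000ca2) (Nat.ble 3364 i)) (Bool.rec (motive := fun _ => Nat) (0x400067500074e) (0x3000677000ac5) (Nat.ble 3366 i)) (Nat.ble 3365 i)) (Bool.rec (motive := fun _ => Nat) (Bool.rec (motive := fun _ => Nat) (0x4000677000ac3) (0x4000678000ecb) (Nat.ble 3368 i)) (Bool.rec (motive := fun _ => Nat) (0x200067a000e08) (0x200067b00079b) (Nat.ble 3370 i)) (Nat.ble 3369 i)) (Nat.ble 3367 i)) (Nat.ble 3363 i)) (Bool.rec (motive := fun _ => Nat) (Bool.rec (motive := fun _ => Nat) (Bool.rec (motive := fun _ => Nat) (0x100067d000f3d) (Bool.rec (motive := fun _ => Nat) (0x100067f0008f8) (0x4000680000ba7) (Nat.ble 3373 i)) (Nat.ble 3372 i)) (Bool.rec (motive := fun _ => Nat) (Bool.rec (motive := fun _ => Nat) (0x3000685000dee) (0x20006860001c3) (Nat.ble 3375 i)) (Bool.rec (motive := fun _ => Nat) (0x2000688000b9a) (0x3000688000a92) (Nat.ble 3377 i)) (Nat.ble 3376 i)) (Nat.ble 3374 i)) (Bool.rec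 (motive := fun _ => Nat) (Bool.rec (motive := fun _ => Nat) (Bool.rec (motive := fun _ => Nat) (0x689000648) (0x20006890008a0) (Nat.ble 3379 i)) (Bool.rec (motive := fun _ => Nat) (0x300068900091f) (0x40006890005bb) (Nat.ble 3381 i)) (Nat.ble 3380 i)) (Bool.rec (motive := fun _ => Nat) (Bool.rec (motive := fun _ => Nat) (0x68a000cbb) (0x300068c000c7c) (Nat.ble 3383 i)) (Bool.rec (motive := fun _ => Nat) (0x68e000f31) (0x200068f000db3) (Nat.ble 3385 i)) (Nat.ble 3384 i)) (Nat.ble 3382 i)) (Nat.ble 3378 i)) (Nat.ble 3371 i)) (Bool.rec (motive := fun _ => Nat) (Bool.rec (motive := fun _ => Nat) (Bool.rec (motive := fun _ => Nat) (Bool.rec (motive := fun _ => Nat) (0x200069000068a) (Bool.rec (motive := fun _ => Nat) (0x2000692000b99) (0x4000692000748) (Nat.ble 3388 i)) (Nat.ble 3387 i)) (Bool.rec (motive := fun _ => Nat) (Bool.rec (motive := fun _ => Nat) (0x2000693000ce1) (0x69400081c) (Nat.ble 3390 i)) (Bool.rec (motive := fun _ => Nat) (0x695000042) (0x3000695000b71) (Nat.ble 3392 i)) (Nat.ble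 3391 i)) (Nat.ble 3389 i)) (Bool.rec (motive := fun _ => Nat) (Bool.rec (motive := fun _ => Nat) (Bool.rec (motive := fun _ => Nat) (0x400069a0004ae) (0x300069b000ec1) (Nat.ble 3394 i)) (Bool.rec (motive := fun _ => Nat) (0x300069d000c61) (0x300069e000830) (Nat.ble 3396 i)) (Nat.ble 3395 i)) (Bool.rec (motive := fun _ => Nat) (Bool.rec (motive := fun _ => Nat) (0x200069f000572) (0x6a000086a) (Nat.ble 3398 i)) (Bool.rec (motive := fun _ => Nat) (0x40006a4000723) (0x30006a5000718) (Nat.ble 3400 i)) (Nat.ble 3399 i)) (Nat.ble 3397 i)) (Nat.ble 3393 i)) (Bool.rec (motive := fun _ => Nat) (Bool.rec (motive := fun _ => Nat) (Bool.rec (motive := fun _ => Nat) (Bool.rec (motive := fun _ => Nat) (0x30006ab000933) (0x40006ab000869) (Nat.ble 3402 i)) (Bool.rec (motive := fun _ => Nat) (0x6ac000586) (0x40006ae000932) (Nat.ble 3404 i)) (Nat.ble 3403 i)) (Bool.rec (motive := fun _ => Nat) (Bool.rec (motive := fun _ => Nat) (0x20006af000c6b) (0x30006af000de4) (Nat.ble 3406 i)) (Bool.rec (motive := fun _ =>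 Nat) (0x40006af00035b) (0x6b0000910) (Nat.ble 3408 i)) (Nat.ble 3407 i)) (Nat.ble 3405 i)) (Bool.rec (motive := fun _ => Nat) (Bool.rec (motive := fun _ => Nat) (Bool.rec (motive := fun _ => Nat) (0x30006b0000e28) (0x6b100029c) (Nat.ble 3410 i)) (Bool.rec (motive := fun _ => Nat) (0x6b2000eab) (0x10006b20000e3) (Nat.ble 3412 i)) (Nat.ble 3411 i)) (Bool.rec (motive := fun _ => Nat) (Bool.rec (motive := fun _ => Nat) (0x30006b2000b37) (0x10006b3000cc7) (Nat.ble 3414 i)) (Bool.rec (motive := fun _ => Nat) (0x6b600053b) (0x30006b6000e9f) (Nat.ble 3416 i)) (Nat.ble 3415 i)) (Nat.ble 3413 i)) (Nat.ble 3409 i)) (Nat.ble 3401 i)) (Nat.ble 3386 i))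
noncomputable def CA0P_56 (i : Nat) : Nat := (Bool.rec (motive := fun _ => Nat) (Bool.rec (motive := fun _ => Nat) (Bool.rec (motive := fun _ => Nat) (Bool.rec (motive := fun _ => Nat) (Bool.rec (motive := fun _ => Nat) (0x6b7000530) (Bool.rec (motive := fun _ => Nat) (0x20006b700089c) (0x30006b700097a) (Nat.ble 3419 i)) (Nat.ble 3418 i)) (Bool.rec (motive := fun _ => Nat) (Bool.rec (motive := fun _ => Nat) (0x20006b80006c1) (0x20006b9000e7a) (Nat.ble 3421 i)) (Bool.rec (motive := fun _ => Nat) (0x30006ba000613) (0x10006bc000e40) (Nat.ble 3423 i)) (Nat.ble 3422 i)) (Nat.ble 3420 i)) (Bool.rec (motive := fun _ => Nat) (Bool.rec (motive := fun _ => Nat) (Bool.rec (motive := fun _ => Nat) (0x6bd000b9e) (0x20006bd000c5e) (Nat.ble 3425 i)) (Bool.rec (motive := fun _ => Nat) (0x20006be000e4a) (0x6bf000aa7) (Nat.ble 3427 i)) (Nat.ble 3426 i)) (Bool.rec (motive := fun _ => Nat) (Bool.rec (motive := fun _ => Nat) (0x10006bf000ca6) (0x30006bf000c22) (Nat.ble 3429 i)) (Bool.rec (motive := fun _ => Nat)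 (0x6c0000667) (0x6c1000ee6) (Nat.ble 3431 i)) (Nat.ble 3430 i)) (Nat.ble 3428 i)) (Nat.ble 3424 i)) (Bool.rec (motive := fun _ => Nat) (Bool.rec (motive := fun _ => Nat) (Bool.rec (motive := fun _ => Nat) (0x10006c1000f3a) (Bool.rec (motive := fun _ => Nat) (0x30006c1000af3) (0x40006c100057c) (Nat.ble 3434 i)) (Nat.ble 3433 i)) (Bool.rec (motive := fun _ => Nat) (Bool.rec (motive := fun _ => Nat) (0x20006c2000cf0) (0x30006c2000caa) (Nat.ble 3436 i)) (Bool.rec (motive := fun _ => Nat) (0x6c4000ab2) (0x6c6000118) (Nat.ble 3438 i)) (Nat.ble 3437 i)) (Nat.ble 3435 i)) (Bool.rec (motive := fun _ => Nat) (Bool.rec (motive := fun _ => Nat) (Bool.rec (motive := fun _ => Nat) (0x30006c600011d) (0x40006cb0006d0) (Nat.ble 3440 i)) (Bool.rec (motive := fun _ => Nat) (0x40006cc000bc1) (0x6ce00082b) (Nat.ble 3442 i)) (Nat.ble 3441 i)) (Bool.rec (motive := fun _ => Nat) (Bool.rec (motive := fun _ => Nat) (0x6d0000e4e) (0x20006d0000ea9) (Nat.ble 3444 i)) (Bool.rec (motive := fun _ => Nat) (0x10006d10006b0)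 (0x10006d2000535) (Nat.ble 3446 i)) (Nat.ble 3445 i)) (Nat.ble 3443 i)) (Nat.ble 3439 i)) (Nat.ble 3432 i)) (Bool.rec (motive := fun _ => Nat) (Bool.rec (motive := fun _ => Nat) (Bool.rec (motive := fun _ => Nat) (Bool.rec (motive := fun _ => Nat) (0x20006d40003e8) (Bool.rec (motive := fun _ => Nat) (0x40006d4000cb8) (0x40006d5000e62) (Nat.ble 3449 i)) (Nat.ble 3448 i)) (Bool.rec (motive := fun _ => Nat) (Bool.rec (motive := fun _ => Nat) (0x10006d6000e80) (0x6d7000b69) (Nat.ble 3451 i)) (Bool.rec (motive := fun _ => Nat) (0x30006d7000b9b) (0x40006d7000615) (Nat.ble 3453 i)) (Nat.ble 3452 i)) (Nat.ble 3450 i)) (Bool.rec (motive := fun _ => Nat) (Bool.rec (motive := fun _ => Nat) (Bool.rec (motive := fun _ => Nat) (0x40006d8000431) (0x6d9000842) (Nat.ble 3455 i)) (Bool.rec (motive := fun _ => Nat) (0x40006da000c5b) (0x10006db0008dc) (Nat.ble 3457 i)) (Nat.ble 3456 i)) (Bool.rec (motive := fun _ => Nat) (Bool.rec (motive := fun _ => Nat) (0x30006db000f07) (0x40006db00036d) (Nat.ble 3459 i)) (Bool.rec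 (motive := fun _ => Nat) (0x20006de000e90) (0x10006df000bb3) (Nat.ble 3461 i)) (Nat.ble 3460 i)) (Nat.ble 3458 i)) (Nat.ble 3454 i)) (Bool.rec (motive := fun _ => Nat) (Bool.rec (motive := fun _ => Nat) (Bool.rec (motive := fun _ => Nat) (Bool.rec (motive := fun _ => Nat) (0x20006e10000ed) (0x10006e3000da3) (Nat.ble 3463 i)) (Bool.rec (motive := fun _ => Nat) (0x40006e3000832) (0x10006e5000dd2) (Nat.ble 3465 i)) (Nat.ble 3464 i)) (Bool.rec (motive := fun _ => Nat) (Bool.rec (motive := fun _ => Nat) (0x20006e5000c94) (0x20006e7000c3d) (Nat.ble 3467 i)) (Bool.rec (motive := fun _ => Nat) (0x10006e8000870) (0x20006e9000662) (Nat.ble 3469 i)) (Nat.ble 3468 i)) (Nat.ble 3466 i)) (Bool.rec (motive := fun _ => Nat) (Bool.rec (motive := fun _ => Nat) (Bool.rec (motive := fun _ => Nat) (0x10006ea0006ff) (0x20006ea000700) (Nat.ble 3471 i)) (Bool.rec (motive := fun _ => Nat) (0x40006ea000703) (0x6eb000d57) (Nat.ble 3473 i)) (Nat.ble 3472 i)) (Bool.rec (motive := fun _ => Nat) (Bool.rec (motive := fun _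 => Nat) (0x30006ec000d8b) (0x6f0000184) (Nat.ble 3475 i)) (Bool.rec (motive := fun _ => Nat) (0x6f2000941) (0x30006f6000f2e) (Nat.ble 3477 i)) (Nat.ble 3476 i)) (Nat.ble 3474 i)) (Nat.ble 3470 i)) (Nat.ble 3462 i)) (Nat.ble 3447 i))
noncomputable def CA0P_57 (i : Nat) : Nat := (Bool.rec (motive := fun _ => Nat) (Bool.rec (motive := fun _ => Nat) (Bool.rec (motive := fun _ => Nat) (Bool.rec (motive := fun _ => Nat) (Bool.rec (motive := fun _ => Nat) (0x6f7000adf) (Bool.rec (motive := fun _ => Nat) (0x6f800013a) (0x10006f80007f4) (Nat.ble 3480 i)) (Nat.ble 3479 i)) (Bool.rec (motive := fun _ => Nat) (Bool.rec (motive := fun _ => Nat) (0x6fd000c69) (0x40006fe0006c5) (Nat.ble 3482 i)) (Bool.rec (motive := fun _ => Nat) (0x1000700000d2a) (0x2000703000f41) (Nat.ble 3484 i)) (Nat.ble 3483 i)) (Nat.ble 3481 i)) (Bool.rec (motive := fun _ => Nat) (Bool.rec (motive := fun _ => Nat) (Bool.rec (motive := fun _ => Nat) (0x704000215) (0x400070b0009b5) (Nat.ble 3486 i)) (Bool.rec (motive := fun _ => Nat) (0x2000710000b62)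 (0x71100063e) (Nat.ble 3488 i)) (Nat.ble 3487 i)) (Bool.rec (motive := fun _ => Nat) (Bool.rec (motive := fun _ => Nat) (0x30007150007e4) (0x4000717000889) (Nat.ble 3490 i)) (Bool.rec (motive := fun _ => Nat) (0x20007200006ef) (0x30007210002d6) (Nat.ble 3492 i)) (Nat.ble 3491 i)) (Nat.ble 3489 i)) (Nat.ble 3485 i)) (Bool.rec (motive := fun _ => Nat) (Bool.rec (motive := fun _ => Nat) (Bool.rec (motive := fun _ => Nat) (0x40007250004e4) (Bool.rec (motive := fun _ => Nat) (0x7290009b6) (0x300072c000f38) (Nat.ble 3495 i)) (Nat.ble 3494 i)) (Bool.rec (motive := fun _ => Nat) (Bool.rec (motive := fun _ => Nat) (0x100072e000d34) (0x30007310003b4) (Nat.ble 3497 i)) (Bool.rec (motive := fun _ => Nat) (0x3000732000b7a) (0x7350003c6) (Nat.ble 3499 i)) (Nat.ble 3498 i)) (Nat.ble 3496 i)) (Bool.rec (motive := fun _ => Nat) (Bool.rec (motive := fun _ => Nat) (Bool.rec (motive := fun _ => Nat) (0x2000736000bec) (0x3000737000ad6) (Nat.ble 3501 i)) (Bool.rec (motive := fun _ => Nat) (0x738000d1a) (0x3000738000c58)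 (Nat.ble 3503 i)) (Nat.ble 3502 i)) (Bool.rec (motive := fun _ => Nat) (Bool.rec (motive := fun _ => Nat) (0x2000739000951) (0x100073a0006fe) (Nat.ble 3505 i)) (Bool.rec (motive := fun _ => Nat) (0x300073d000b0d) (0x400073d000434) (Nat.ble 3507 i)) (Nat.ble 3506 i)) (Nat.ble 3504 i)) (Nat.ble 3500 i)) (Nat.ble 3493 i)) (Bool.rec (motive := fun _ => Nat) (Bool.rec (motive := fun _ => Nat) (Bool.rec (motive := fun _ => Nat) (Bool.rec (motive := fun _ => Nat) (0x73e000359) (Bool.rec (motive := fun _ => Nat) (0x73f000c8a) (0x300073f000ca4) (Nat.ble 3510 i)) (Nat.ble 3509 i)) (Bool.rec (motive := fun _ => Nat) (Bool.rec (motive := fun _ => Nat) (0x740000c0b) (0x1000740000bde) (Nat.ble 3512 i)) (Bool.rec (motive := fun _ => Nat) (0x3000740000ea5) (0x741000a8a) (Nat.ble 3514 i)) (Nat.ble 3513 i)) (Nat.ble 3511 i)) (Bool.rec (motive := fun _ => Nat) (Bool.rec (motive := fun _ => Nat) (Bool.rec (motive := fun _ => Nat) (0x7460000eb) (0x3000746000c7b) (Nat.ble 3516 i)) (Bool.rec (motive := fun _ => Nat)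 (0x2000748000ed8) (0x3000748000c5d) (Nat.ble 3518 i)) (Nat.ble 3517 i)) (Bool.rec (motive := fun _ => Nat) (Bool.rec (motive := fun _ => Nat) (0x2000749000e8f) (0x10007510006f9) (Nat.ble 3520 i)) (Bool.rec (motive := fun _ => Nat) (0x40007510002ce) (0x1000752000f15) (Nat.ble 3522 i)) (Nat.ble 3521 i)) (Nat.ble 3519 i)) (Nat.ble 3515 i)) (Bool.rec (motive := fun _ => Nat) (Bool.rec (motive := fun _ => Nat) (Bool.rec (motive := fun _ => Nat) (Bool.rec (motive := fun _ => Nat) (0x2000754000ea6) (0x3000754000ef5) (Nat.ble 3524 i)) (Bool.rec (motive := fun _ => Nat) (0x4000754000ecd) (0x3000756000cc5) (Nat.ble 3526 i)) (Nat.ble 3525 i)) (Bool.rec (motive := fun _ => Nat) (Bool.rec (motive := fun _ => Nat) (0x7570008f3) (0x3000757000923) (Nat.ble 3528 i)) (Bool.rec (motive := fun _ => Nat) (0x4000757000e5e) (0x758000ebd) (Nat.ble 3530 i)) (Nat.ble 3529 i)) (Nat.ble 3527 i)) (Bool.rec (motive := fun _ => Nat) (Bool.rec (motive := fun _ => Nat) (Bool.rec (motive := fun _ => Nat) (0x7590002ea) (0x3000759000e99)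 (Nat.ble 3532 i)) (Bool.rec (motive := fun _ => Nat) (0x300075a000e56) (0x200075c000026) (Nat.ble 3534 i)) (Nat.ble 3533 i)) (Bool.rec (motive := fun _ => Nat) (Bool.rec (motive := fun _ => Nat) (0x75d000cb7) (0x400075e000b81) (Nat.ble 3536 i)) (Bool.rec (motive := fun _ => Nat) (0x400075f000e97) (0x7600006a4) (Nat.ble 3538 i)) (Nat.ble 3537 i)) (Nat.ble 3535 i)) (Nat.ble 3531 i)) (Nat.ble 3523 i)) (Nat.ble 3508 i))
noncomputable def CA0P_58 (i : Nat) : Nat := (Bool.rec (motive := fun _ => Nat) (Bool.rec (motive := fun _ => Nat) (Bool.rec (motive := fun _ => Nat) (Bool.rec (motive := fun _ => Nat) (Bool.rec (motive := fun _ => Nat) (0x30007600008d3) (Bool.rec (motive := fun _ => Nat) (0x1000761000b94) (0x76200005b) (Nat.ble 3541 i)) (Nat.ble 3540 i)) (Bool.rec (motive := fun _ => Nat) (Bool.rec (motive := fun _ => Nat) (0x3000762000d48) (0x1000763000847) (Nat.ble 3543 i)) (Bool.rec (motive := fun _ => Nat) (0x20007630002d5) (0x20007640008e7) (Nat.ble 3545 i)) (Nat.ble 3544 i)) (Nat.ble 3542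 i)) (Bool.rec (motive := fun _ => Nat) (Bool.rec (motive := fun _ => Nat) (Bool.rec (motive := fun _ => Nat) (0x40007640008cf) (0x1000765000d84) (Nat.ble 3547 i)) (Bool.rec (motive := fun _ => Nat) (0x4000765000e22) (0x767000c15) (Nat.ble 3549 i)) (Nat.ble 3548 i)) (Bool.rec (motive := fun _ => Nat) (Bool.rec (motive := fun _ => Nat) (0x3000767000688) (0x40007680006c3) (Nat.ble 3551 i)) (Bool.rec (motive := fun _ => Nat) (0x769000ae9) (0x100076a000c77) (Nat.ble 3553 i)) (Nat.ble 3552 i)) (Nat.ble 3550 i)) (Nat.ble 3546 i)) (Bool.rec (motive := fun _ => Nat) (Bool.rec (motive := fun _ => Nat) (Bool.rec (motive := fun _ => Nat) (0x300076a000e82) (Bool.rec (motive := fun _ => Nat) (0x76b000635) (0x200076b00068b) (Nat.ble 3556 i)) (Nat.ble 3555 i)) (Bool.rec (motive := fun _ => Nat) (Bool.rec (motive := fun _ => Nat) (0x400076b0009a0) (0x300076d000738) (Nat.ble 3558 i)) (Bool.rec (motive := fun _ => Nat) (0x30007700002fc) (0x30007720009b9) (Nat.ble 3560 i)) (Nat.ble 3559 i)) (Nat.ble 3557 i)) (Bool.rec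 (motive := fun _ => Nat) (Bool.rec (motive := fun _ => Nat) (Bool.rec (motive := fun _ => Nat) (0x40007720002cf) (0x40007750004ff) (Nat.ble 3562 i)) (Bool.rec (motive := fun _ => Nat) (0x77b000b80) (0x200077b000d90) (Nat.ble 3564 i)) (Nat.ble 3563 i)) (Bool.rec (motive := fun _ => Nat) (Bool.rec (motive := fun _ => Nat) (0x400077d000c50) (0x77e000dc7) (Nat.ble 3566 i)) (Bool.rec (motive := fun _ => Nat) (0x400077f000451) (0x20007810002ef) (Nat.ble 3568 i)) (Nat.ble 3567 i)) (Nat.ble 3565 i)) (Nat.ble 3561 i)) (Nat.ble 3554 i)) (Bool.rec (motive := fun _ => Nat) (Bool.rec (motive := fun _ => Nat) (Bool.rec (motive := fun _ => Nat) (Bool.rec (motive := fun _ => Nat) (0x3000782000298) (Bool.rec (motive := fun _ => Nat) (0x3000783000ed0) (0x2000785000735) (Nat.ble 3571 i)) (Nat.ble 3570 i)) (Bool.rec (motive := fun _ => Nat) (Bool.rec (motive := fun _ => Nat) (0x30007850007f6) (0x1000786000775) (Nat.ble 3573 i)) (Bool.rec (motive := fun _ => Nat) (0x3000786000d4c) (0x4000786000c63) (Nat.ble 3575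 i)) (Nat.ble 3574 i)) (Nat.ble 3572 i)) (Bool.rec (motive := fun _ => Nat) (Bool.rec (motive := fun _ => Nat) (Bool.rec (motive := fun _ => Nat) (0x3000787000926) (0x2000788000eb1) (Nat.ble 3577 i)) (Bool.rec (motive := fun _ => Nat) (0x300078800024c) (0x791000a5a) (Nat.ble 3579 i)) (Nat.ble 3578 i)) (Bool.rec (motive := fun _ => Nat) (Bool.rec (motive := fun _ => Nat) (0x4000791000a40) (0x400079300064b) (Nat.ble 3581 i)) (Bool.rec (motive := fun _ => Nat) (0x795000e79) (0x3000797000770) (Nat.ble 3583 i)) (Nat.ble 3582 i)) (Nat.ble 3580 i)) (Nat.ble 3576 i)) (Bool.rec (motive := fun _ => Nat) (Bool.rec (motive := fun _ => Nat) (Bool.rec (motive := fun _ => Nat) (Bool.rec (motive := fun _ => Nat) (0x79a000da7) (0x200079a00043e) (Nat.ble 3585 i)) (Bool.rec (motive := fun _ => Nat) (0x300079a000da8) (0x200079c000e70) (Nat.ble 3587 i)) (Nat.ble 3586 i)) (Bool.rec (motive := fun _ => Nat) (Bool.rec (motive := fun _ => Nat) (0x100079e000707) (0x300079e000c27) (Nat.ble 3589 i)) (Bool.rec (motive :=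 fun _ => Nat) (0x300079f000227) (0x7a000029b) (Nat.ble 3591 i)) (Nat.ble 3590 i)) (Nat.ble 3588 i)) (Bool.rec (motive := fun _ => Nat) (Bool.rec (motive := fun _ => Nat) (Bool.rec (motive := fun _ => Nat) (0x40007a0000a88) (0x20007a1000c9c) (Nat.ble 3593 i)) (Bool.rec (motive := fun _ => Nat) (0x20007a2000c25) (0x40007a2000c4a) (Nat.ble 3595 i)) (Nat.ble 3594 i)) (Bool.rec (motive := fun _ => Nat) (Bool.rec (motive := fun _ => Nat) (0x7a3000050) (0x30007a3000857) (Nat.ble 3597 i)) (Bool.rec (motive := fun _ => Nat) (0x20007a4000aaa) (0x7a50008cb) (Nat.ble 3599 i)) (Nat.ble 3598 i)) (Nat.ble 3596 i)) (Nat.ble 3592 i)) (Nat.ble 3584 i)) (Nat.ble 3569 i))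
noncomputable def CA0P_59 (i : Nat) : Nat := (Bool.rec (motive := fun _ => Nat) (Bool.rec (motive := fun _ => Nat) (Bool.rec (motive := fun _ => Nat) (Bool.rec (motive := fun _ => Nat) (Bool.rec (motive := fun _ => Nat) (0x30007a8000eed) (Bool.rec (motive := fun _ => Nat) (0x7a900074b) (0x30007a9000b4f) (Nat.ble 3602 i)) (Nat.ble 3601 i)) (Bool.rec (motive := fun _ => Nat) (Bool.rec (motive := fun _ => Nat) (0x7ae00075e) (0x10007b000069e) (Nat.ble 3604 i)) (Bool.rec (motive := fun _ => Nat) (0x40007b5000ccd) (0x7b8000542) (Nat.ble 3606 i)) (Nat.ble 3605 i)) (Nat.ble 3603 i)) (Bool.rec (motive := fun _ => Nat) (Bool.rec (motive := fun _ => Nat) (Bool.rec (motive := fun _ => Nat) (0x30007b8000655) (0x20007b9000e51) (Nat.ble 3608 i)) (Bool.rec (motive := fun _ => Nat) (0x40007b9000de1) (0x20007bb000117) (Nat.ble 3610 i)) (Nat.ble 3609 i)) (Bool.rec (motive := fun _ => Nat) (Bool.rec (motive := fun _ => Nat) (0x30007bd000ddb) (0x7be000b5a) (Nat.ble 3612 i)) (Bool.rec (motive := fun _ => Nat) (0x20007c2000cd7)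 (0x30007c3000c78) (Nat.ble 3614 i)) (Nat.ble 3613 i)) (Nat.ble 3611 i)) (Nat.ble 3607 i)) (Bool.rec (motive := fun _ => Nat) (Bool.rec (motive := fun _ => Nat) (Bool.rec (motive := fun _ => Nat) (0x20007c5000a6c) (Bool.rec (motive := fun _ => Nat) (0x20007cb0008dd) (0x30007ce000579) (Nat.ble 3617 i)) (Nat.ble 3616 i)) (Bool.rec (motive := fun _ => Nat) (Bool.rec (motive := fun _ => Nat) (0x40007d0000dec) (0x7d9000f30) (Nat.ble 3619 i)) (Bool.rec (motive := fun _ => Nat) (0x7db000610) (0x30007db000c30) (Nat.ble 3621 i)) (Nat.ble 3620 i)) (Nat.ble 3618 i)) (Bool.rec (motive := fun _ => Nat) (Bool.rec (motive := fun _ => Nat) (Bool.rec (motive := fun _ => Nat) (0x20007dc000eba) (0x7dd00077f) (Nat.ble 3623 i)) (Bool.rec (motive := fun _ => Nat) (0x10007df000d47) (0x20007df000c36) (Nat.ble 3625 i)) (Nat.ble 3624 i)) (Bool.rec (motive := fun _ => Nat) (Bool.rec (motive := fun _ => Nat) (0x20007e0000761) (0x40007e000081f) (Nat.ble 3627 i)) (Bool.rec (motive := fun _ => Nat) (0x7e4000f20) (0x7eb000c84)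 (Nat.ble 3629 i)) (Nat.ble 3628 i)) (Nat.ble 3626 i)) (Nat.ble 3622 i)) (Nat.ble 3615 i)) (Bool.rec (motive := fun _ => Nat) (Bool.rec (motive := fun _ => Nat) (Bool.rec (motive := fun _ => Nat) (Bool.rec (motive := fun _ => Nat) (0x20007eb00026b) (Bool.rec (motive := fun _ => Nat) (0x7ee000909) (0x10007ef000bd8) (Nat.ble 3632 i)) (Nat.ble 3631 i)) (Bool.rec (motive := fun _ => Nat) (Bool.rec (motive := fun _ => Nat) (0x10007f0000df5) (0x30007f00006ba) (Nat.ble 3634 i)) (Bool.rec (motive := fun _ => Nat) (0x7f1000558) (0x20007f1000c85) (Nat.ble 3636 i)) (Nat.ble 3635 i)) (Nat.ble 3633 i)) (Bool.rec (motive := fun _ => Nat) (Bool.rec (motive := fun _ => Nat) (Bool.rec (motive := fun _ => Nat) (0x30007f10006ea) (0x10007f2000b4b) (Nat.ble 3638 i)) (Bool.rec (motive := fun _ => Nat) (0x30007f2000051) (0x7f30000f2) (Nat.ble 3640 i)) (Nat.ble 3639 i)) (Bool.rec (motive := fun _ => Nat) (Bool.rec (motive := fun _ => Nat) (0x10007f3000c86) (0x40007f4000b75) (Nat.ble 3642 i)) (Bool.rec (motive := fun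 _ => Nat) (0x40007f5000bdd) (0x20007f6000432) (Nat.ble 3644 i)) (Nat.ble 3643 i)) (Nat.ble 3641 i)) (Nat.ble 3637 i)) (Bool.rec (motive := fun _ => Nat) (Bool.rec (motive := fun _ => Nat) (Bool.rec (motive := fun _ => Nat) (Bool.rec (motive := fun _ => Nat) (0x20007f80002b3) (0x20007fa000d10) (Nat.ble 3646 i)) (Bool.rec (motive := fun _ => Nat) (0x30007fb000cb2) (0x7fd000582) (Nat.ble 3648 i)) (Nat.ble 3647 i)) (Bool.rec (motive := fun _ => Nat) (Bool.rec (motive := fun _ => Nat) (0x802000df1) (0x4000805000c4e) (Nat.ble 3650 i)) (Bool.rec (motive := fun _ => Nat) (0x30008080002b8) (0x809000b6b) (Nat.ble 3652 i)) (Nat.ble 3651 i)) (Nat.ble 3649 i)) (Bool.rec (motive := fun _ => Nat) (Bool.rec (motive := fun _ => Nat) (Bool.rec (motive := fun _ => Nat) (0x300080b000af4) (0x80c000e6d) (Nat.ble 3654 i)) (Bool.rec (motive := fun _ => Nat) (0x300080c000517) (0x80d000aa4) (Nat.ble 3656 i)) (Nat.ble 3655 i)) (Bool.rec (motive := fun _ => Nat) (Bool.rec (motive := fun _ => Nat) (0x200080d000ac2) (0x300080d000db7)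 (Nat.ble 3658 i)) (Bool.rec (motive := fun _ => Nat) (0x4000811000c1a) (0x2000812000111) (Nat.ble 3660 i)) (Nat.ble 3659 i)) (Nat.ble 3657 i)) (Nat.ble 3653 i)) (Nat.ble 3645 i)) (Nat.ble 3630 i))
noncomputable def CA0P_60 (i : Nat) : Nat := (Bool.rec (motive := fun _ => Nat) (Bool.rec (motive := fun _ => Nat) (Bool.rec (motive := fun _ => Nat) (Bool.rec (motive := fun _ => Nat) (Bool.rec (motive := fun _ => Nat) (0x813000dcc) (Bool.rec (motive := fun _ => Nat) (0x30008140006ce) (0x4000816000d78) (Nat.ble 3663 i)) (Nat.ble 3662 i)) (Bool.rec (motive := fun _ => Nat) (Bool.rec (motive := fun _ => Nat) (0x2000818000831) (0x3000828000cab) (Nat.ble 3665 i)) (Bool.rec (motive := fun _ => Nat) (0x200082b000d45) (0x400082d00054d) (Nat.ble 3667 i)) (Nat.ble 3666 i)) (Nat.ble 3664 i)) (Bool.rec (motive := fun _ => Nat) (Bool.rec (motive := fun _ => Nat) (Bool.rec (motive := fun _ => Nat) (0x100082e000945) (0x200082e000587) (Nat.ble 3669 i)) (Bool.rec (motive := fun _ => Nat) (0x4000831000c87) (0x1000835000bf1)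 (Nat.ble 3671 i)) (Nat.ble 3670 i)) (Bool.rec (motive := fun _ => Nat) (Bool.rec (motive := fun _ => Nat) (0x100083600012c) (0x3000839000946) (Nat.ble 3673 i)) (Bool.rec (motive := fun _ => Nat) (0x200083a000d3d) (0x100083c000f2b) (Nat.ble 3675 i)) (Nat.ble 3674 i)) (Nat.ble 3672 i)) (Nat.ble 3668 i)) (Bool.rec (motive := fun _ => Nat) (Bool.rec (motive := fun _ => Nat) (Bool.rec (motive := fun _ => Nat) (0x200083c000553) (Bool.rec (motive := fun _ => Nat) (0x200083e000198) (0x4000844000c89) (Nat.ble 3678 i)) (Nat.ble 3677 i)) (Bool.rec (motive := fun _ => Nat) (Bool.rec (motive := fun _ => Nat) (0x4000845000ca9) (0x84600075a) (Nat.ble 3680 i)) (Bool.rec (motive := fun _ => Nat) (0x20008470008e0) (0x84e000c4f) (Nat.ble 3682 i)) (Nat.ble 3681 i)) (Nat.ble 3679 i)) (Bool.rec (motive := fun _ => Nat) (Bool.rec (motive := fun _ => Nat) (Bool.rec (motive := fun _ => Nat) (0x2000850000ec8) (0x4000850000eac) (Nat.ble 3684 i)) (Bool.rec (motive := fun _ => Nat) (0x1000852000c53) (0x8550009e8) (Nat.ble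 3686 i)) (Nat.ble 3685 i)) (Bool.rec (motive := fun _ => Nat) (Bool.rec (motive := fun _ => Nat) (0x85600087c) (0x2000858000e3a) (Nat.ble 3688 i)) (Bool.rec (motive := fun _ => Nat) (0x3000859000b1f) (0x300085d000af7) (Nat.ble 3690 i)) (Nat.ble 3689 i)) (Nat.ble 3687 i)) (Nat.ble 3683 i)) (Nat.ble 3676 i)) (Bool.rec (motive := fun _ => Nat) (Bool.rec (motive := fun _ => Nat) (Bool.rec (motive := fun _ => Nat) (Bool.rec (motive := fun _ => Nat) (0x860000760) (Bool.rec (motive := fun _ => Nat) (0x863000bd7) (0x1000863000d64) (Nat.ble 3693 i)) (Nat.ble 3692 i)) (Bool.rec (motive := fun _ => Nat) (Bool.rec (motive := fun _ => Nat) (0x4000867000d74) (0x1000868000823) (Nat.ble 3695 i)) (Bool.rec (motive := fun _ => Nat) (0x3000868000b28) (0x8690006b1) (Nat.ble 3697 i)) (Nat.ble 3696 i)) (Nat.ble 3694 i)) (Bool.rec (motive := fun _ => Nat) (Bool.rec (motive := fun _ => Nat) (Bool.rec (motive := fun _ => Nat) (0x86b00047f) (0x200086d000cff) (Nat.ble 3699 i)) (Bool.rec (motive := fun _ => Nat) (0x86e000158)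 (0x3000872000726) (Nat.ble 3701 i)) (Nat.ble 3700 i)) (Bool.rec (motive := fun _ => Nat) (Bool.rec (motive := fun _ => Nat) (0x2000873000d9e) (0x3000873000934) (Nat.ble 3703 i)) (Bool.rec (motive := fun _ => Nat) (0x30008740000af) (0x878000a6b) (Nat.ble 3705 i)) (Nat.ble 3704 i)) (Nat.ble 3702 i)) (Nat.ble 3698 i)) (Bool.rec (motive := fun _ => Nat) (Bool.rec (motive := fun _ => Nat) (Bool.rec (motive := fun _ => Nat) (Bool.rec (motive := fun _ => Nat) (0x4000878000852) (0x8820007c1) (Nat.ble 3707 i)) (Bool.rec (motive := fun _ => Nat) (0x2000883000d55) (0x886000c2c) (Nat.ble 3709 i)) (Nat.ble 3708 i)) (Bool.rec (motive := fun _ => Nat) (Bool.rec (motive := fun _ => Nat) (0x200088b00093f) (0x88d00088e) (Nat.ble 3711 i)) (Bool.rec (motive := fun _ => Nat) (0x1000890000b4c) (0x30008910006e5) (Nat.ble 3713 i)) (Nat.ble 3712 i)) (Nat.ble 3710 i)) (Bool.rec (motive := fun _ => Nat) (Bool.rec (motive := fun _ => Nat) (Bool.rec (motive := fun _ => Nat) (0x20008930000e4) (0x400089300094e) (Nat.ble 3715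 i)) (Bool.rec (motive := fun _ => Nat) (0x1000894000f1d) (0x40008940006c9) (Nat.ble 3717 i)) (Nat.ble 3716 i)) (Bool.rec (motive := fun _ => Nat) (Bool.rec (motive := fun _ => Nat) (0x40008950001fa) (0x89800087f) (Nat.ble 3719 i)) (Bool.rec (motive := fun _ => Nat) (0x89d0006c6) (0x100089e000d33) (Nat.ble 3721 i)) (Nat.ble 3720 i)) (Nat.ble 3718 i)) (Nat.ble 3714 i)) (Nat.ble 3706 i)) (Nat.ble 3691 i))
noncomputable def CA0P_61 (i : Nat) : Nat := (Bool.rec (motive := fun _ => Nat) (Bool.rec (motive := fun _ => Nat) (Bool.rec (motive := fun _ => Nat) (Bool.rec (motive := fun _ => Nat) (Bool.rec (motive := fun _ => Nat) (0x20008a4000cf1) (Bool.rec (motive := fun _ => Nat) (0x30008a40007ed) (0x8a6000b74) (Nat.ble 3724 i)) (Nat.ble 3723 i)) (Bool.rec (motive := fun _ => Nat) (Bool.rec (motive := fun _ => Nat) (0x10008a6000c95) (0x30008ac000f0f) (Nat.ble 3726 i)) (Bool.rec (motive := fun _ => Nat) (0x20008af000e7b) (0x30008b0000502) (Nat.ble 3728 i)) (Nat.ble 3727 i)) (Nat.ble 3725 i)) (Bool.rec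 (motive := fun _ => Nat) (Bool.rec (motive := fun _ => Nat) (Bool.rec (motive := fun _ => Nat) (0x10008b1000aa8) (0x40008b2000e75) (Nat.ble 3730 i)) (Bool.rec (motive := fun _ => Nat) (0x10008b3000e81) (0x8b9000d49) (Nat.ble 3732 i)) (Nat.ble 3731 i)) (Bool.rec (motive := fun _ => Nat) (Bool.rec (motive := fun _ => Nat) (0x8bc000f01) (0x20008bc00057f) (Nat.ble 3734 i)) (Bool.rec (motive := fun _ => Nat) (0x30008bd000151) (0x40008bd000f14) (Nat.ble 3736 i)) (Nat.ble 3735 i)) (Nat.ble 3733 i)) (Nat.ble 3729 i)) (Bool.rec (motive := fun _ => Nat) (Bool.rec (motive := fun _ => Nat) (Bool.rec (motive := fun _ => Nat) (0x8c10002b1) (Bool.rec (motive := fun _ => Nat) (0x10008c200030f) (0x20008c20006d9) (Nat.ble 3739 i)) (Nat.ble 3738 i)) (Bool.rec (motive := fun _ => Nat) (Bool.rec (motive := fun _ => Nat) (0x20008c3000ba8) (0x8c5000f2a) (Nat.ble 3741 i)) (Bool.rec (motive := fun _ => Nat) (0x40008c5000eae) (0x30008c9000ded) (Nat.ble 3743 i)) (Nat.ble 3742 i)) (Nat.ble 3740 i)) (Bool.rec (motive :=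 fun _ => Nat) (Bool.rec (motive := fun _ => Nat) (Bool.rec (motive := fun _ => Nat) (0x40008cb0006a2) (0x20008cc0002dc) (Nat.ble 3745 i)) (Bool.rec (motive := fun _ => Nat) (0x20008cd000aa6) (0x20008cf000b9f) (Nat.ble 3747 i)) (Nat.ble 3746 i)) (Bool.rec (motive := fun _ => Nat) (Bool.rec (motive := fun _ => Nat) (0x20008d100047e) (0x30008d1000d3c) (Nat.ble 3749 i)) (Bool.rec (motive := fun _ => Nat) (0x20008d4000dea) (0x30008e3000840) (Nat.ble 3751 i)) (Nat.ble 3750 i)) (Nat.ble 3748 i)) (Nat.ble 3744 i)) (Nat.ble 3737 i)) (Bool.rec (motive := fun _ => Nat) (Bool.rec (motive := fun _ => Nat) (Bool.rec (motive := fun _ => Nat) (Bool.rec (motive := fun _ => Nat) (0x30008e600074d) (Bool.rec (motive := fun _ => Nat) (0x40008e900099c) (0x30008ea000cbd) (Nat.ble 3754 i)) (Nat.ble 3753 i)) (Bool.rec (motive := fun _ => Nat) (Bool.rec (motive := fun _ => Nat) (0x20008ec00052a) (0x30008ed000d28) (Nat.ble 3756 i)) (Bool.rec (motive := fun _ => Nat) (0x8f5000083) (0x30008f6000f03) (Nat.ble 3758 i)) (Nat.ble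 3757 i)) (Nat.ble 3755 i)) (Bool.rec (motive := fun _ => Nat) (Bool.rec (motive := fun _ => Nat) (Bool.rec (motive := fun _ => Nat) (0x3000903000d98) (0x2000906000ee2) (Nat.ble 3760 i)) (Bool.rec (motive := fun _ => Nat) (0x10009080003e4) (0x300090b0004fc) (Nat.ble 3762 i)) (Nat.ble 3761 i)) (Bool.rec (motive := fun _ => Nat) (Bool.rec (motive := fun _ => Nat) (0x400090d00029a) (0x916000b1e) (Nat.ble 3764 i)) (Bool.rec (motive := fun _ => Nat) (0x3000916000993) (0x91c000acb) (Nat.ble 3766 i)) (Nat.ble 3765 i)) (Nat.ble 3763 i)) (Nat.ble 3759 i)) (Bool.rec (motive := fun _ => Nat) (Bool.rec (motive := fun _ => Nat) (Bool.rec (motive := fun _ => Nat) (Bool.rec (motive := fun _ => Nat) (0x921000cd3) (0x3000923000d81) (Nat.ble 3768 i)) (Bool.rec (motive := fun _ => Nat) (0x200092400063f) (0x3000924000e2e) (Nat.ble 3770 i)) (Nat.ble 3769 i)) (Bool.rec (motive := fun _ => Nat) (Bool.rec (motive := fun _ => Nat) (0x3000927000b82) (0x200092c000d04) (Nat.ble 3772 i)) (Bool.rec (motive := fun _ => Nat)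 (0x300092d000cdc) (0x200092f000c20) (Nat.ble 3774 i)) (Nat.ble 3773 i)) (Nat.ble 3771 i)) (Bool.rec (motive := fun _ => Nat) (Bool.rec (motive := fun _ => Nat) (Bool.rec (motive := fun _ => Nat) (0x3000942000da5) (0x3000945000dd9) (Nat.ble 3776 i)) (Bool.rec (motive := fun _ => Nat) (0x2000946000800) (0x2000955000f1c) (Nat.ble 3778 i)) (Nat.ble 3777 i)) (Bool.rec (motive := fun _ => Nat) (Bool.rec (motive := fun _ => Nat) (0x3000955000a08) (0x200095900053f) (Nat.ble 3780 i)) (Bool.rec (motive := fun _ => Nat) (0x3000959000f3c) (0x40009590006cd) (Nat.ble 3782 i)) (Nat.ble 3781 i)) (Nat.ble 3779 i)) (Nat.ble 3775 i)) (Nat.ble 3767 i)) (Nat.ble 3752 i))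
noncomputable def CA0P_62 (i : Nat) : Nat := (Bool.rec (motive := fun _ => Nat) (Bool.rec (motive := fun _ => Nat) (Bool.rec (motive := fun _ => Nat) (Bool.rec (motive := fun _ => Nat) (Bool.rec (motive := fun _ => Nat) (0x100095e000a8b) (Bool.rec (motive := fun _ => Nat) (0x300096000016c) (0x4000962000b3c) (Nat.ble 3785 i)) (Nat.ble 3784 i)) (Bool.rec (motive := fun _ => Nat) (Bool.rec (motive := fun _ => Nat) (0x300096a000d9b) (0x96b000164) (Nat.ble 3787 i)) (Bool.rec (motive := fun _ => Nat) (0x200096b000196) (0x300096b000d8c) (Nat.ble 3789 i)) (Nat.ble 3788 i)) (Nat.ble 3786 i)) (Bool.rec (motive := fun _ => Nat) (Bool.rec (motive := fun _ => Nat) (Bool.rec (motive := fun _ => Nat) (0x100097d000e00) (0x97e00024d) (Nat.ble 3791 i)) (Bool.rec (motive := fun _ => Nat) (0x981000cd5) (0x4000981000546) (Nat.ble 3793 i)) (Nat.ble 3792 i)) (Bool.rec (motive := fun _ => Nat) (Bool.rec (motive := fun _ => Nat) (0x4000983000b3d) (0x2000989000cc0) (Nat.ble 3795 i)) (Bool.rec (motive := fun _ => Nat)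 (0x98f0006bc) (0x993000d80) (Nat.ble 3797 i)) (Nat.ble 3796 i)) (Nat.ble 3794 i)) (Nat.ble 3790 i)) (Bool.rec (motive := fun _ => Nat) (Bool.rec (motive := fun _ => Nat) (Bool.rec (motive := fun _ => Nat) (0x996000cca) (Bool.rec (motive := fun _ => Nat) (0x9a600043b) (0x10009a7000829) (Nat.ble 3800 i)) (Nat.ble 3799 i)) (Bool.rec (motive := fun _ => Nat) (Bool.rec (motive := fun _ => Nat) (0x9a9000da9) (0x9ab000e6b) (Nat.ble 3802 i)) (Bool.rec (motive := fun _ => Nat) (0x30009ac000ef3) (0x30009b1000862) (Nat.ble 3804 i)) (Nat.ble 3803 i)) (Nat.ble 3801 i)) (Bool.rec (motive := fun _ => Nat) (Bool.rec (motive := fun _ => Nat) (Bool.rec (motive := fun _ => Nat) (0x20009b5000ef8) (0x20009b60009e7) (Nat.ble 3806 i)) (Bool.rec (motive := fun _ => Nat) (0x9b8000f05) (0x9bd0006ae) (Nat.ble 3808 i)) (Nat.ble 3807 i)) (Bool.rec (motive := fun _ => Nat) (Bool.rec (motive := fun _ => Nat) (0x30009bd000a6f) (0x20009be000b97) (Nat.ble 3810 i)) (Bool.rec (motive := fun _ => Nat) (0x40009c5000b5f) (0x30009d1000d36)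 (Nat.ble 3812 i)) (Nat.ble 3811 i)) (Nat.ble 3809 i)) (Nat.ble 3805 i)) (Nat.ble 3798 i)) (Bool.rec (motive := fun _ => Nat) (Bool.rec (motive := fun _ => Nat) (Bool.rec (motive := fun _ => Nat) (Bool.rec (motive := fun _ => Nat) (0x40009d1000b34) (Bool.rec (motive := fun _ => Nat) (0x20009d6000824) (0x30009da000de0) (Nat.ble 3815 i)) (Nat.ble 3814 i)) (Bool.rec (motive := fun _ => Nat) (Bool.rec (motive := fun _ => Nat) (0x9dd0004f3) (0x20009dd000c3c) (Nat.ble 3817 i)) (Bool.rec (motive := fun _ => Nat) (0x20009de000ccf) (0x9e2000c33) (Nat.ble 3819 i)) (Nat.ble 3818 i)) (Nat.ble 3816 i)) (Bool.rec (motive := fun _ => Nat) (Bool.rec (motive := fun _ => Nat) (Bool.rec (motive := fun _ => Nat) (0x10009e3000c19) (0x20009e3000e9e) (Nat.ble 3821 i)) (Bool.rec (motive := fun _ => Nat) (0x9e7000c3e) (0x20009e7000863) (Nat.ble 3823 i)) (Nat.ble 3822 i)) (Bool.rec (motive := fun _ => Nat) (Bool.rec (motive := fun _ => Nat) (0x10009f0000efa) (0x30009f0000b31) (Nat.ble 3825 i)) (Bool.rec (motive := fun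 _ => Nat) (0x40009f0000ba1) (0x30009f500068f) (Nat.ble 3827 i)) (Nat.ble 3826 i)) (Nat.ble 3824 i)) (Nat.ble 3820 i)) (Bool.rec (motive := fun _ => Nat) (Bool.rec (motive := fun _ => Nat) (Bool.rec (motive := fun _ => Nat) (Bool.rec (motive := fun _ => Nat) (0x9fe00082c) (0x2000a02000d53) (Nat.ble 3829 i)) (Bool.rec (motive := fun _ => Nat) (0x2000a0d0003b3) (0x2000a110005be) (Nat.ble 3831 i)) (Nat.ble 3830 i)) (Bool.rec (motive := fun _ => Nat) (Bool.rec (motive := fun _ => Nat) (0x3000a12000599) (0x4000a14000a72) (Nat.ble 3833 i)) (Bool.rec (motive := fun _ => Nat) (0x1000a17000b14) (0x2000a1c000e68) (Nat.ble 3835 i)) (Nat.ble 3834 i)) (Nat.ble 3832 i)) (Bool.rec (motive := fun _ => Nat) (Bool.rec (motive := fun _ => Nat) (Bool.rec (motive := fun _ => Nat) (0xa23000dd8) (0xa270009d0) (Nat.ble 3837 i)) (Bool.rec (motive := fun _ => Nat) (0x4000a2a000815) (0x2000a2c000905) (Nat.ble 3839 i)) (Nat.ble 3838 i)) (Bool.rec (motive := fun _ => Nat) (Bool.rec (motive := fun _ => Nat) (0x1000a3a0007ca)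 (0xa3f000cc3) (Nat.ble 3841 i)) (Bool.rec (motive := fun _ => Nat) (0x4000a51000c2e) (0xa52000d92) (Nat.ble 3843 i)) (Nat.ble 3842 i)) (Nat.ble 3840 i)) (Nat.ble 3836 i)) (Nat.ble 3828 i)) (Nat.ble 3813 i))
noncomputable def CA0P_63 (i : Nat) : Nat := (Bool.rec (motive := fun _ => Nat) (Bool.rec (motive := fun _ => Nat) (Bool.rec (motive := fun _ => Nat) (Bool.rec (motive := fun _ => Nat) (Bool.rec (motive := fun _ => Nat) (0x2000a55000cc4) (Bool.rec (motive := fun _ => Nat) (0xa59000eb8) (0x4000a5a000bee) (Nat.ble 3846 i)) (Nat.ble 3845 i)) (Bool.rec (motive := fun _ => Nat) (Bool.rec (motive := fun _ => Nat) (0x2000a64000d96) (0xa66000e52) (Nat.ble 3848 i)) (Bool.rec (motive := fun _ => Nat) (0x3000a66000eb7) (0x2000a67000d54) (Nat.ble 3850 i)) (Nat.ble 3849 i)) (Nat.ble 3847 i)) (Bool.rec (motive := fun _ => Nat) (Bool.rec (motive := fun _ => Nat) (Bool.rec (motive := fun _ => Nat) (0x2000a6f000ec5) (0x4000a72000c35) (Nat.ble 3852 i)) (Bool.rec (motive := fun _ => Nat) (0x3000a7500050c) (0x2000a7e0007ef)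 (Nat.ble 3854 i)) (Nat.ble 3853 i)) (Bool.rec (motive := fun _ => Nat) (Bool.rec (motive := fun _ => Nat) (0xa8b00095a) (0x3000a8d0000e1) (Nat.ble 3856 i)) (Bool.rec (motive := fun _ => Nat) (0x2000aac000179) (0x2000aad000358) (Nat.ble 3858 i)) (Nat.ble 3857 i)) (Nat.ble 3855 i)) (Nat.ble 3851 i)) (Bool.rec (motive := fun _ => Nat) (Bool.rec (motive := fun _ => Nat) (Bool.rec (motive := fun _ => Nat) (Bool.rec (motive := fun _ => Nat) (0x1000ab10008a2) (0xab5000f02) (Nat.ble 3860 i)) (Bool.rec (motive := fun _ => Nat) (0x4000acb000f19) (0x2000ad6000c09) (Nat.ble 3862 i)) (Nat.ble 3861 i)) (Bool.rec (motive := fun _ => Nat) (Bool.rec (motive := fun _ => Nat) (0x1000adc000b58) (0xae5000d5b) (Nat.ble 3864 i)) (Bool.rec (motive := fun _ => Nat) (0xafa000125) (0x3000afa000127) (Nat.ble 3866 i)) (Nat.ble 3865 i)) (Nat.ble 3863 i)) (Bool.rec (motive := fun _ => Nat) (Bool.rec (motive := fun _ => Nat) (Bool.rec (motive := fun _ => Nat) (0x2000b010009d2) (0x4000b05000dc2) (Nat.ble 3868 i)) (Bool.rec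 (motive := fun _ => Nat) (0x1000b0a00071e) (0x2000b0a000f21) (Nat.ble 3870 i)) (Nat.ble 3869 i)) (Bool.rec (motive := fun _ => Nat) (Bool.rec (motive := fun _ => Nat) (0x2000b11000b33) (0xb14000b2d) (Nat.ble 3872 i)) (Bool.rec (motive := fun _ => Nat) (0x4000b19000c2b) (0x3000b38000ad3) (Nat.ble 3874 i)) (Nat.ble 3873 i)) (Nat.ble 3871 i)) (Nat.ble 3867 i)) (Nat.ble 3859 i)) (Bool.rec (motive := fun _ => Nat) (Bool.rec (motive := fun _ => Nat) (Bool.rec (motive := fun _ => Nat) (Bool.rec (motive := fun _ => Nat) (0x3000b3c0008bc) (Bool.rec (motive := fun _ => Nat) (0xb480006a9) (0x4000b490004fe) (Nat.ble 3877 i)) (Nat.ble 3876 i)) (Bool.rec (motive := fun _ => Nat) (Bool.rec (motive := fun _ => Nat) (0x3000b4f0006e4) (0x2000b5b000b56) (Nat.ble 3879 i)) (Bool.rec (motive := fun _ => Nat) (0x4000b5b000f10) (0x2000b5c000e4f) (Nat.ble 3881 i)) (Nat.ble 3880 i)) (Nat.ble 3878 i)) (Bool.rec (motive := fun _ => Nat) (Bool.rec (motive := fun _ => Nat) (Bool.rec (motive := fun _ => Nat) (0x1000b6c000f00)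 (0x1000b72000267) (Nat.ble 3883 i)) (Bool.rec (motive := fun _ => Nat) (0x1000b80000ebc) (0xb860002c7) (Nat.ble 3885 i)) (Nat.ble 3884 i)) (Bool.rec (motive := fun _ => Nat) (Bool.rec (motive := fun _ => Nat) (0x2000b99000690) (0x1000b9a000d72) (Nat.ble 3887 i)) (Bool.rec (motive := fun _ => Nat) (0x1000ba7000cfd) (0x2000bb900061b) (Nat.ble 3889 i)) (Nat.ble 3888 i)) (Nat.ble 3886 i)) (Nat.ble 3882 i)) (Bool.rec (motive := fun _ => Nat) (Bool.rec (motive := fun _ => Nat) (Bool.rec (motive := fun _ => Nat) (Bool.rec (motive := fun _ => Nat) (0xbbb000f35) (0x2000bbf000eee) (Nat.ble 3891 i)) (Bool.rec (motive := fun _ => Nat) (0x1000bc9000cef) (0x3000bd5000ee7) (Nat.ble 3893 i)) (Nat.ble 3892 i)) (Bool.rec (motive := fun _ => Nat) (Bool.rec (motive := fun _ => Nat) (0x3000bed000779) (0x2000bfd0006e9) (Nat.ble 3895 i)) (Bool.rec (motive := fun _ => Nat) (0xc1900086b) (0x3000c23000d56) (Nat.ble 3897 i)) (Nat.ble 3896 i)) (Nat.ble 3894 i)) (Bool.rec (motive := fun _ => Nat) (Bool.rec (motive := fun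 _ => Nat) (Bool.rec (motive := fun _ => Nat) (0x1000c410002db) (0x4000c6800095e) (Nat.ble 3899 i)) (Bool.rec (motive := fun _ => Nat) (0x4000c78000c05) (0x4000cad0002b5) (Nat.ble 3901 i)) (Nat.ble 3900 i)) (Bool.rec (motive := fun _ => Nat) (Bool.rec (motive := fun _ => Nat) (0x3000caf0005a3) (0x2000cce000e53) (Nat.ble 3903 i)) (Bool.rec (motive := fun _ => Nat) (0x2000db9000843) (0xdcb000897) (Nat.ble 3905 i)) (Nat.ble 3904 i)) (Nat.ble 3902 i)) (Nat.ble 3898 i)) (Nat.ble 3890 i)) (Nat.ble 3875 i))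
noncomputable def CA0P (i : Nat) : Nat := (Bool.rec (motive := fun _ => Nat) (Bool.rec (motive := fun _ => Nat) (Bool.rec (motive := fun _ => Nat) (Bool.rec (motive := fun _ => Nat) (Bool.rec (motive := fun _ => Nat) (Bool.rec (motive := fun _ => Nat) (CA0P_0 i) (CA0P_1 i) (Nat.ble 61 i)) (Bool.rec (motive := fun _ => Nat) (CA0P_2 i) (CA0P_3 i) (Nat.ble 183 i)) (Nat.ble 122 i)) (Bool.rec (motive := fun _ => Nat) (Bool.rec (motive := fun _ => Nat) (CA0P_4 i) (CA0P_5 i) (Nat.ble 305 i)) (Bool.rec (motive := fun _ => Nat) (CA0P_6 i) (CA0P_7 i) (Nat.ble 427 i)) (Nat.ble 366 i)) (Nat.ble 244 i)) (Bool.rec (motive := fun _ => Nat) (Bool.rec (motive := fun _ => Nat) (Bool.rec (motive := fun _ => Nat) (CA0P_8 i) (CA0P_9 i) (Nat.ble 549 i)) (Bool.rec (motive := fun _ => Nat) (CA0P_10 i) (CA0P_11 i) (Nat.ble 671 i)) (Nat.ble 610 i)) (Bool.rec (motive := fun _ => Nat) (Bool.rec (motive := fun _ => Nat) (CA0P_12 i) (CA0P_13 i) (Nat.ble 793 i)) (Bool.rec (motive := fun _ => Nat) (CA0P_14 i) (CA0P_15 i) (Nat.ble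 915 i)) (Nat.ble 854 i)) (Nat.ble 732 i)) (Nat.ble 488 i)) (Bool.rec (motive := fun _ => Nat) (Bool.rec (motive := fun _ => Nat) (Bool.rec (motive := fun _ => Nat) (Bool.rec (motive := fun _ => Nat) (CA0P_16 i) (CA0P_17 i) (Nat.ble 1037 i)) (Bool.rec (motive := fun _ => Nat) (CA0P_18 i) (CA0P_19 i) (Nat.ble 1159 i)) (Nat.ble 1098 i)) (Bool.rec (motive := fun _ => Nat) (Bool.rec (motive := fun _ => Nat) (CA0P_20 i) (CA0P_21 i) (Nat.ble 1281 i)) (Bool.rec (motive := fun _ => Nat) (CA0P_22 i) (CA0P_23 i) (Nat.ble 1403 i)) (Nat.ble 1342 i)) (Nat.ble 1220 i)) (Bool.rec (motive := fun _ => Nat) (Bool.rec (motive := fun _ => Nat) (Bool.rec (motive := fun _ => Nat) (CA0P_24 i) (CA0P_25 i) (Nat.ble 1525 i)) (Bool.rec (motive := fun _ => Nat) (CA0P_26 i) (CA0P_27 i) (Nat.ble 1647 i)) (Nat.ble 1586 i)) (Bool.rec (motive := fun _ => Nat) (Bool.rec (motive := fun _ => Nat) (CA0P_28 i) (CA0P_29 i) (Nat.ble 1769 i)) (Bool.rec (motive := fun _ => Nat) (CA0P_30 i) (CA0P_31 i) (Nat.ble 1891 i)) (Nat.ble 1830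 i)) (Nat.ble 1708 i)) (Nat.ble 1464 i)) (Nat.ble 976 i)) (Bool.rec (motive := fun _ => Nat) (Bool.rec (motive := fun _ => Nat) (Bool.rec (motive := fun _ => Nat) (Bool.rec (motive := fun _ => Nat) (Bool.rec (motive := fun _ => Nat) (CA0P_32 i) (CA0P_33 i) (Nat.ble 2014 i)) (Bool.rec (motive := fun _ => Nat) (CA0P_34 i) (CA0P_35 i) (Nat.ble 2136 i)) (Nat.ble 2075 i)) (Bool.rec (motive := fun _ => Nat) (Bool.rec (motive := fun _ => Nat) (CA0P_36 i) (CA0P_37 i) (Nat.ble 2258 i)) (Bool.rec (motive := fun _ => Nat) (CA0P_38 i) (CA0P_39 i) (Nat.ble 2380 i)) (Nat.ble 2319 i)) (Nat.ble 2197 i)) (Bool.rec (motive := fun _ => Nat) (Bool.rec (motive := fun _ => Nat) (Bool.rec (motive := fun _ => Nat) (CA0P_40 i) (CA0P_41 i) (Nat.ble 2502 i)) (Bool.rec (motive := fun _ => Nat) (CA0P_42 i) (CA0P_43 i) (Nat.ble 2624 i)) (Nat.ble 2563 i)) (Bool.rec (motive := fun _ => Nat) (Bool.rec (motive := fun _ => Nat) (CA0P_44 i) (CA0P_45 i) (Nat.ble 2746 i)) (Bool.rec (motive := fun _ => Nat) (CA0P_46 i) (CA0P_47 i)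 (Nat.ble 2868 i)) (Nat.ble 2807 i)) (Nat.ble 2685 i)) (Nat.ble 2441 i)) (Bool.rec (motive := fun _ => Nat) (Bool.rec (motive := fun _ => Nat) (Bool.rec (motive := fun _ => Nat) (Bool.rec (motive := fun _ => Nat) (CA0P_48 i) (CA0P_49 i) (Nat.ble 2990 i)) (Bool.rec (motive := fun _ => Nat) (CA0P_50 i) (CA0P_51 i) (Nat.ble 3112 i)) (Nat.ble 3051 i)) (Bool.rec (motive := fun _ => Nat) (Bool.rec (motive := fun _ => Nat) (CA0P_52 i) (CA0P_53 i) (Nat.ble 3234 i)) (Bool.rec (motive := fun _ => Nat) (CA0P_54 i) (CA0P_55 i) (Nat.ble 3356 i)) (Nat.ble 3295 i)) (Nat.ble 3173 i)) (Bool.rec (motive := fun _ => Nat) (Bool.rec (motive := fun _ => Nat) (Bool.rec (motive := fun _ => Nat) (CA0P_56 i) (CA0P_57 i) (Nat.ble 3478 i)) (Bool.rec (motive := fun _ => Nat) (CA0P_58 i) (CA0P_59 i) (Nat.ble 3600 i)) (Nat.ble 3539 i)) (Bool.rec (motive := fun _ => Nat) (Bool.rec (motive := fun _ => Nat) (CA0P_60 i) (CA0P_61 i) (Nat.ble 3722 i)) (Bool.rec (motive := fun _ => Nat) (CA0P_62 i) (CA0P_63 i) (Nat.ble 3844 i)) (Nat.ble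 3783 i)) (Nat.ble 3661 i)) (Nat.ble 3417 i)) (Nat.ble 2929 i)) (Nat.ble 1953 i))
noncomputable def CA0InvB_0 (i : Nat) : Nat := (Bool.rec (motive := fun _ => Nat) (Bool.rec (motive := fun _ => Nat) (Bool.rec (motive := fun _ => Nat) (Bool.rec (motive := fun _ => Nat) (Bool.rec (motive := fun _ => Nat) (0x12500001800042b0000170003e10000160001f200036b000a0700079f00017900019d00096d0008b600001b00000f00010600000e00001d00000d0000de00000c000621000cb8000b47000dce00066400062700094c0003bc00008c00001500004e000534000afa0006c600046a000305000b79000a8e0001ba00000b00005c00000a00000900001f00035c0000400000060000050008750008f50000b900017f00007200000800005e000007000004000025000003000002000001000000) (Bool.rec (motive := fun _ => Nat) (0x6990002c10001440002190002a200003200053e0002a10003370007bb00058e0002aa0004d00004ce0002a30000300000d50004cd00006900029b0003f000047900064300087f00073500004f0002d100093d0001a10001990001a00001040001750007f700043400060a000dd50000200009c900058b00001e00014c0002ff00001c00007c00001a000e37000e0c0000dc0001f0000538000781000155000146000154000b4a0001310009b0000808000c2a00017b000d3f00023b000019)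 (0x14e0001f600014d0007c700009a000241000ac90005770000260001ee000024000392000caf000a160001940006ac000e7800041400045d00002200005000002100082a000a740001b600011f000c580001a200007b00002300007a000967000079000b490000780003580000420000fa0003a30000f50000f400017400034f00019c00010900006600004b00072800010500011b00001400001300001200010000001100034700001000030200033d000c62000ead0002000009cd0002ba) (Nat.ble 2 i)) (Nat.ble 1 i)) (Bool.rec (motive := fun _ => Nat) (Bool.rec (motive := fun _ => Nat) (0x86000081d0005b300087900084d000abb000558000b3f0003270006130006ba0005bf000d1e000e38000cdb0002810007260006ea000d860003b1000dbb0009ea000550000bc60009d40006b800042c000e82000d54000a82000f100000590005eb00041c0002e50005bd0006480004310005690002fd00037a0005680003330005670001420004530005e30000910000a00008220000c900021500002a0006a80000290006760000280000270002d400015000020c00054800033800014f) (0x228000a8a000057000051000763000d970005620003b9000bf40005a40001220004080001210003e000012000060f0001a6000ceb0006d9000e58000411000469000b0c000818000f1a00046b000f190006940000a60003c500023f0001470002ed0007d1000d6f0006390001c00002400003f1000d6e000e1a00071500059b00064b000848000880000e4c000af900015700076e0004fd0007a7000af8000336000572000152000437000d060005b2000b3d00087a0003080002010002e9)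 (Nat.ble 4 i)) (Bool.rec (motive := fun _ => Nat) (0x84a0000cc00015c000440000415000c74000f110004930007c4000a850006a50006f20005ec000d1d00025800064100044a000ac70004a8000ec800072f0004c0000541000af6000cf1000837000cf2000ecb000037000a70000cb5000b230004060003b5000b7700037b0001b00002fe000139000e740003e500051400043f0009b40009b1000a0b000e9700061d00042d0003390007d30001a700023400071a000cda0001fc00008300071c0001fb000973000a4c0003ac000132000301) (0x330007d60000310001c600002f00070a0003d00000350002270002e20002750008710006fc00032100003900006800059300032000011300009b0002570003a00009180002910000d100028d00037900003400002e00025600002d00051c00002c00039500002b0007a3000612000977000cea000e5d0005e6000ecc000819000ab700026d0005da0004910005df0004be0004a4000afc00072900067000096e0004c10000e6000b5300026e0003fa000d9300075c000ad8000779000c80) (Nat.ble 6 i)) (Nat.ble 5 i)) (Nat.ble 3 i)) (Bool.rec (motive := fun _ => Nat) (Bool.rec (motive := fun _ => Nat) (Bool.rec (motive := fun _ => Nat) (0x8d9000803000263000667000356000e8600090b00040d00077000026500020a0000ba0001f90007b100086e00006d000aed00027000006b00006a000452000b5900044d000525000c3f000c6600003c00003b0000d000003a00020700063100072500012700003f0002fa0009290001db0000e30000d30002530005fa000636000330000082000c980009090000380000360000450005f00000890004b90000460000730002220000710000700003d80002f7000d2f0003090007fe00086a)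 (0x35d00036500017e0000c00000a30000c20001140000fe0003d60007ed00078d0000d80007f9000cfe00061800065100028b0003e8000b0d00061b0000a400070f000c610002eb000e060005100007c90002f20006970005b70004c30002e0000221000c710003ef00022f0001ce0000a7000c0b0002b000051e000296000d9d0003ce0003310003f60007de0002c400051b00070b00059500006700021100083300038f000ad200071e000ac000038c00049c000c130000a90005c9000696) (Nat.ble 8 i)) (Bool.rec (motive := fun _ => Nat) (0x79100006100008b0000600005350007e800023500018100028c0003cc0004570003cb0002500005ef00049f0006dd00013000005f0000e700005d000e2e0009d60003e4000bff000f2b000a6800045f000a4500069000097600040000069f00075e00005b00014500005a000aeb0002ca000c00000a620005970009f900073b000b3b0009a1000686000b330009f800056000012c000ecf000dfa000a22000798000a8b00005800076c000c2c0000560003ca000055000054000053000052) (0x16c0003d40008900007f20006f80004160002c8000e4300083e0007ee000f3d0008fe000e3d0000ff000e990005f6000088000b2500094600098700055d00008a0003fe00091a0003e20004c70004c500018e0004c40001b20001a80009ef00013b000a34000459000d52000e07000eb3000b70000df100069500085600020e0005990007f50007b4000af00006bb000a4f00041700009d0001840007cb0006cc000a2e000c31000b0e0006380002ec00060800047b0000630002bd000062)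 (Nat.ble 10 i)) (Nat.ble 9 i)) (Bool.rec (motive := fun _ => Nat) (Bool.rec (motive := fun _ => Nat) (0x23e0006f9000854000de70005f5000767000c040001a900032c000b8a000c6d00089c0008c200057400068a000288000df0000ce300063f000aa30000cf000dcb000af20009a500055b000974000cfb000463000b8b0004620009e4000238000461000a37000720000ea1000f3a000435000a7300030d000907000da4000dd8000460000aad000ae400054e000573000de9000dc1000784000549000b3c000b580008e00004a5000f2d00028a000ce0000ba000042100045e000b02000564) (0x44900010f0001580003f80004480003340008bb00091f00057c00052700086f00019500087b000a9900036f0005a9000cc600013d0001b300006f00006e000513000c810008f40006290004cf00078a0003c70001ca0000440006f40001c500034c000cf00001230002a00003b000086d00006c00030700006500004c0000640008fa000892000ace0008870007a0000e9a000a4600031d00008d00074a00031b0001ab000954000bfc0009360006bf0005f70001080008610003ba0005f4) (Nat.ble 12 i)) (Bool.rec (motive := fun _ => Nat) (0x32e0003260008d200020b00062a0003100006c7000ae50002050003a1000a540006300005b10008830003a80001c800031f0008e6000d83000b070007620008200002030000e000026700080500014a00010200007f0006aa00007e00007d000b980004670006f3000932000d4f0007dd000db4000f1200098e000171000168000a01000632000810000ab40004df0000e2000c5c00080f00053a0004b300042e0000a8000128000198000077000076000075000074000390000380000398)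 (0x3870000a500022d0003120000c4000a9000023d0007af000b5500036d0003f9000da9000ef60008a30009850008680004bf00047c0001ad000c45000ad500030a00060700056f00040700054400015d0003d30002ee0007320003e9000ab80008040004820002ef0001170004ee0007110007440002990003430005260009c80001dc00008e0001b1000b9400008700095e0003c40000c600037400010e0006790006600007ac0004f80005240002c700029f0000b60004ae000ced0002c0) (Nat.ble 14 i)) (Nat.ble 13 i)) (Nat.ble 11 i)) (Nat.ble 7 i)) (Bool.rec (motive := fun _ => Nat) (Bool.rec (motive := fun _ => Nat) (Bool.rec (motive := fun _ => Nat) (Bool.rec (motive := fun _ => Nat) (0x306000cbf000aca0008e40000b00007a6000328000c7d0008230006650008e1000b7a00066c0002a50002140000db0001830008ae00079a0001800000b500088e0001b5000d77000873000a9c0006ab000eb10007a90000b70005360001f40004a70004680007870004ca0007ba000304000b78000a110003b60007020004eb00025f00022e00008f0002fc0001df000716000c28000a3c0005ca00039b0005ff000aa50008d3000710000dab0006ff0000da000a4200087c000170000124) (0x92a000e01000d00000559000ed70007b50001f50007b30004850006220008e5000db30008e3000e3c000d7e00095300089100037e000ce20002c20001a400023600096c0001c700087e000cf90007db0000bb0000e10001e50008a500043d0001d000061600058f000c5900065600082d000b7c0002a60004e3000b7b0002390002f6000151000714000c0f0008c80004950008fd0001ae0007cc0008000007b70006400001e20000bc0001b40000b80003f300055c00050000088c0003c6)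 (Nat.ble 16 i)) (Bool.rec (motive := fun _ => Nat) (0xe72000ea400086b0008430009e00005f100016700010c0005e20000bf0007d70006b100095c0008c1000be10004d60005c4000625000c0c0007fb00020f0008d00007f80004e80001870004b70009cc00043200043000029e00042f00099800077300018f000c5e0003160000ce0005a800009400084f0001ac00011a0009fe0009860007b60001ea000def0009a60001900002f4000af5000a080000c30000c10002b9000bfb00065b00024700026c000cf400038a000cb4000c08000c01) (0x38300066100037c000378000ab00003770006e400037600095a00013600037500034a00019b0005940004030000ee00034b000d410003fd00004d00010d0003640002610005d70001100000490000480000fd0000470003630003520006830001aa00004a00010300035a0000430003b20001760004a90006680000eb00004100003e00003d00067700078b000c8e0000d40006050003320004a000086400025400058d0003d10008f30000e800070400083f00090f0006230007a2000620) (Nat.ble 18 i)) (Nat.ble 17 i)) (Bool.rec (motive := fun _ => Nat) (Bool.rec (motive := fun _ => Nat) (0xdea000f250008a2000eb2000c850009d8000b290005010004760004f90001bb000649000ee80001b90000850001b80001b7000b12000bd400044c000a9b00047e0003d50009a20004b4000abf0002df000da50009d30007210009d0000285000b670009210000b100035b0000fc00035900011d0000fb0000f000090500051a0000f90003480003960003820005a500016f0000f2000118000c8d00069a000b6d000713000940000269000bc80001dd000653000a1e000107000a36000b1c)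 (0xec4000971000c83000c1c000d570008d400052e00052b00098000052a000d7600052900052800015300018d000d59000a0a000c9f000d0100021e000889000eab00082f0001c4000cbe0001c300095d0001c200088b0001c1000433000876000086000a950000950001bf00042300039a000d03000b37000e47000a88000b2f000389000a8c000570000a7900022c000b5c0007ae000bd1000f0d0001be0007010001bd0001bc0006920002d5000aff000600000a20000e9000055e0008ad) (Nat.ble 20 i)) (Bool.rec (motive := fun _ => Nat) (0xe96000b4d000969000d6a0003f4000c88000e210006b300040f000888000a410009e2000b43000d45000a80000ada000481000a970002120001e100083d000785000092000cd80005c200008400038500008100063b00085e0001260001ed00020d0009ce00083900013a0002ac0001e6000080000e33000cc9000bc40009bf00056b000e5c00055f00057d00056c000bba000813000e530003b800035e00091c0003b700034d000551000ed1000809000c1d000c1a000e16000586000b8f) (0x450000ef7000d230001e8000d3500022b0008e700024200090a0003030004a100085a0004780007ea000756000b200004b600009000063a00071900029d00050f0001e40002ab00069e0005e40005dc000884000f3e00016b0006060006c40003720009100009fc0008fb000beb000cad000ef80003a70005dd00050d00039e000996000508000233000a6900050b0006e000045600014b000b5e000783000764000578000a98000e55000d4b00079200068900060d000e400005ee000874)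 (Nat.ble 22 i)) (Nat.ble 21 i)) (Nat.ble 19 i)) (Bool.rec (motive := fun _ => Nat) (Bool.rec (motive := fun _ => Nat) (Bool.rec (motive := fun _ => Nat) (0x9b7000cb200009900065a0000980000960000970009c70001620002b400009300068400060c0004d300040900063500082900034500039d0001fa000c120001c900048e0007ad000217000b5f00071b0007d20008e80004440003c80002d200044f0001cc00032b00061a00044e00046c00047700044b0004510006440007ca0006a70006460005ae0002ce0005f3000a910000e90004580004740002320002310002300001af0001690009d50006c800009e00065900038d000557000226) (0xeb9000da0000c36000185000b7d00054f0008410005450008810007eb000de3000164000c57000c3500044200042a00022900061900036a0001650001e70002ad000b0300054c00064500024900024800032d000ad30002d00002240002e100024f0002de000576000870000f310003c2000a3300065c0006d80004dd000d7d000bed000d5e000b6500065e000e240000a100009f0005a300066a0006de000c140002dd0006a100009c000341000b610008dc00057100024e0002a800074b) (Nat.ble 24 i)) (Bool.rec (motive := fun _ => Nat) (0x506000480000a630008010008d8000a2800012a0009fa000a6000048b00088f0008420006e10000cb000626000ad6000a210003ea0001d6000c95000c9400098c000ca8000a5c000d6600018b0004430000ac0008cf000d8d000d08000afb000246000ca6000a9600027c000a9400036e00026f0007c6000c37000426000e1700082b0007ec0000ad0002da0000d200019600074f000b6c000bb3000dfd000aec0009e8000d320001d1000b310008de0000e50001d800094b00019f0008dd)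 (0x2f5000b8100085b000ed4000bde000e320007420009550007d8000487000a8f0006cf00089d0003bb000e71000d7500019a000ee0000b6b0009a40009b2000893000f240005120007a5000a29000a47000dd2000537000ea0000a48000ca00006b2000e14000c22000b7f0005530008bd000957000c53000bfe000428000bb70009a00008eb0005fc000a8d000f2e000ef3000ce9000ce4000c70000de4000d3a0004f1000dde0009bb000a7700014100014000097a000a500002b3000143) (Nat.ble 26 i)) (Nat.ble 25 i)) (Bool.rec (motive := fun _ => Nat) (Bool.rec (motive := fun _ => Nat) (0xd8e000db100040e0009ec00076d0007f3000dc000060e0001eb000bda0003490009dd000cd900089a000a00000c1e000da3000cc5000a04000746000d20000e35000f370008850003da000760000e81000f26000a78000993000700000aa8000aab000c1900067f0003ec0008a4000af4000e9b00098b000be8000bd80003ae000778000c930004da000504000d7000099e000e4e000ec6000bf90003cd00057a000e850003cf000bf0000e88000d9a000b1b000ddf00023a000d5c0002d6) (0xadd0005aa000cc1000827000cdc000b36000ae9000de6000cc4000c78000df30008ea0001e30005d90001d5000d1b00036900026000031a0001d700026b000963000b11000924000b90000e750006db000322000d47000846000abe0003f50005a0000f1d000815000c2700090200046d0005f9000d480007a100047d0009ed00076f00033f000c4700065500053d000d0f000916000268000c340006a30000ab000c7e00072e000e04000555000abc0002b6000d90000ac800024c000d8f)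 (Nat.ble 28 i)) (Bool.rec (motive := fun _ => Nat) (0xe27000be9000be40003170005910004ef000f360000d60004d500059e000df5000a6100055a0006da000579000dff0007aa000b8d000609000d190003bf000d16000952000b4f000c8b00062400087d0001d4000c8a000aae000e2a000e6b00080a000e130002dc00072d0002ea000e600006e900086500072a00047a000a55000c21000c200004aa00049d00014900090e000d25000ea80005b9000e1100051700025b000d3c0008ca0008b90008c90000dd00024a000adc0009ff000988) (0x93a000b4b00030e0005fe00064700097f0009da000b48000189000be60009350004380002590003dd00098d000901000bbe0002e8000a5e00039400029400086600062f000930000af30005e800025200017d0006fb000ae2000b5100021f000c3e0005390002e6000455000d2a000aba000533000a9a0004b8000cf30004af0008c400070c000ae6000c1b0002c9000c89000adb000c8700079700017c0009060009600009df000bae00049b000c5b00073700069b000680000b1f000bbb) (Nat.ble 30 i)) (Nat.ble 29 i)) (Nat.ble 27 i)) (Nat.ble 23 i)) (Nat.ble 15 i)) (Bool.rec (motive := fun _ => Nat) (Bool.rec (motive := fun _ => Nat) (Bool.rec (motive := fun _ => Nat)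 (Bool.rec (motive := fun _ => Nat) (0x15b000739000208000c100003190003d9000429000c11000318000df4000604000d9800030f0000c7000aa4000abd000f0e00057b000e8b000af70001720005af000d07000ba40007770002e4000733000da10002620002f90006520006660006eb000c6a0001cb000c6900093c00013400048f000d0b0002af000445000354000b2d0001630007090004dc00015e000c15000baa0007ab00072c000c9e000f00000bf2000925000b9d0008120008e2000a13000bd9000c8c000e7b000ae1) (Bool.rec (motive := fun _ => Nat) (0x922000a4e000a4d000c4b00069d0009ca00068f000750000ab60004d40004e900054000091d000d88000e50000d44000ba900015a000ab9000ef4000d72000788000ed800079d0006140003d2000159000ee6000e6f000c29000d09000afe000e2b000789000350000d3e0001f80008ab0009bc0009c60007b800028f000efe0006c500029c000a260006c300081e0007360003620002860004360006620000cd0008020000ca0002e700038e0002cd0000d70003970008820006b7000ec1) (0xe8700053200052f000e67000c2e00077a00048d000acd0008b50003f70003c3000c520003c10007dc0003c0000d8c000279000c4e000420000137000f38000d46000d4a0003be0004b0000989000b88000d05000eef000edc000bb60006b40009f70008990009110006580004920003bd000a0f000335000e0d0002970009370006ef0000a2000e7a000a1f0005fd000acb000cdd000b0b000133000277000b870007c800099b000dd700097e000b7e0005d2000f40000d7f000836000ea7)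 (Nat.ble 33 i)) (Nat.ble 32 i)) (Bool.rec (motive := fun _ => Nat) (Bool.rec (motive := fun _ => Nat) (0xc770008c7000b54000f2300031e000bd7000c2b0006110004e5000c960005070001de000c970006c90006100009c00007120008e9000264000b150001ef00054700054b0008530009c40009990007800003f200061e000f13000724000d330000b2000bc1000688000d5a0008cc000ce7000b1e000c82000f41000a0d0009e100091b0001380002a900012900052300027d000e7f0007470009f500059f0009b9000da2000c3000035f000b050005f20009ac00028e0004fe000adf000c4d) (0x8280001970008590005b5000c2300084b000cd0000d2c000aa9000aa7000aa60002cb000dc70003e600071700093e0007d900092e00091e0003aa00073c000ce50002ae0004f0000dd9000516000a5d00073a000968000d180008bf000e61000965000410000e20000d810001ff0003de000b270008ac0008b3000c40000cf50002b5000dd3000cf6000a8400027b000dda0006f60009830007cd000e0f0002b100093f0006a600021d00065f0003460002660006020007380008aa00040b) (Nat.ble 35 i)) (Bool.rec (motive := fun _ => Nat) (0xe7e0002e3000a52000693000917000a19000be00008ba00053000084e000745000e77000d49000d4c000323000bf800089b00048a000c910008f800096b000c49000484000a310008a8000df800014800011e000dc8000bd5000a1500038b000d34000c7c00085c00027300094e0002fb00094d0008df000c030009e900054d0004cc0008cb00088d00086c000d5000043b0004120002be00041b000c64000ba8000e2f0003600003ed0002bf000eff00012d000bbc000472000cef0008ce)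 (0x7d5000ac60002c5000731000bf7000d5b00081100089e0005c7000cc0000ab20008ee000a5b000ade00099f00062d00097c00092b00023c0002d70006150004ec000698000cb70001f1000b8e00016d000c24000418000b710009fb000c17000c73000f3b0009700005020004e1000f0f000361000a9d00078f0005db000b6800079000048c000c48000db0000912000ac1000e83000cc30005f8000d1a000c7b000896000b04000832000e59000e540009e50008b4000772000d940000d9) (Nat.ble 37 i)) (Nat.ble 36 i)) (Nat.ble 34 i)) (Bool.rec (motive := fun _ => Nat) (Bool.rec (motive := fun _ => Nat) (Bool.rec (motive := fun _ => Nat) (0x821000b6300016e0003a600078e000471000de800058800026a000da6000d9e000d22000ad9000b460004db000b69000a9200090c00046600053100073400062b0001a3000a2400085100064f00070500070e0002b20006f0000446000de50002800009a300045a000ea9000b0f00032a0004e6000ca9000bcd00080e0008c0000603000eb5000c0d000806000aaa000a530005ed00049e000a2a000cb9000313000b1a000483000aac00068e0005d0000cca00071d000b320004bc0004ac) (0x8b80003b40007a400039f0000e40007960003a50004bb000c6c0007930000ed0002bc0006fe0002f80008b70000b3000c760000c8000c16000685000a1700077d0000af000e66000ede0000ae000774000283000749000a1a000cc700071800070d0000aa0003a20008d70000b40002c3000ac4000295000b86000590000933000886000cae000f1b000ccd000efd000aef0005e10002cf000bdf0005210005cb0008f6000b06000b2e000b2c00046e0002d90000bd00081a000b64000178)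 (Nat.ble 39 i)) (Bool.rec (motive := fun _ => Nat) (0x6c00001a500033e00081c00067b000b130001f30005430008d6000115000bd300021800019e00047f00067a0000ef00086200076900079400059d0002920007230002890000ea0006b50000c50004d100056d0000be00038400062c00025c0009840009d90001da0003b300065d0006870005c800063700035300025a000300000cd7000b40000b66000b4c0007e0000191000554000ba3000b09000c5d0002f30000df000ec30001820006750006f1000682000b6a000177000707000cd5) (0x4f50001860002a7000acc000b18000a2f000a050004b2000a0600018a000473000542000bd6000ef9000546000908000ee1000826000596000e1f000e79000465000a0e0008b10006dc000173000cb100035100060b00020400090000029a00011c0000f300052000086700078c000dfb0006fa0007ff000cc8000206000b440005a20008da0003400002b70003550005c0000c990005c10004c2000aaf00025d00039300011100017a00037300039100010b00010a0001fd0003d7000dfc) (Nat.ble 41 i)) (Nat.ble 40 i)) (Bool.rec (motive := fun _ => Nat) (Bool.rec (motive := fun _ => Nat) (0x8f0000a3800012e000681000290000799000251000c8f000a1d00083800056a00091300021a000d6d000402000ae700013e000a3e0007400003eb0006cd000e0e000a6e000e91000d63000ea2000895000e4800097800053b0008ff0002c60006a9000a93000a400006f500032f00090d00052c0002a40002bb0005220007be0008ef00021b000d31000c9c0007710003fc000192000bc20002d8000ec7000dba000bfd000e080004c8000ac200018c0005090007c3000511000188000a6b)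 (0x5d80001fe000a4b000255000bd0000cac00050e0006ae000e6a000bec000160000e45000d690006ca0003290008a100083b0006720005cd0008340006e6000b8c000de00006780006690006b00007bf000357000bea0009790009db000552000d960007d000063c000be5000b62000b5000025e000cf800037d000dad00024b000c2d000f22000c790002740008db0009410003880009e70002db000eb6000a1c0004fc000a1b0006a4000703000d260002f1000d27000e4900041300066d) (Nat.ble 43 i)) (Bool.rec (motive := fun _ => Nat) (0xba200097b000ed2000ec900013f000b3a0009be00013c000d550003dc000b16000ee5000f1f000972000ef100079b000d020009ee000f200007ef000135000a2700030b000e700004fb0008a700011900012f0006cb000b3800012b000633000e69000eb40001560006170005d10004cb000af100058200021c0006fd0004ea000efa00036c00089f0004f20009e3000cba000a7b000db20006af0008ed0003df000cd100031500031c000bdd000673000ce6000825000674000942000b3e) (0xcd6000b76000c25000a3f0007e2000daa000475000706000464000441000e3a000e8c00099a000852000d400007e1000b26000cff000c56000c9d000e44000c72000d7b000bdb000b2b0007a8000b5b000b92000aa1000d9f000b6f00049a000ee3000b19000a7d000a2c000a49000e1c00099c000f17000bc7000f27000ad00004700002440007bc0008b2000a14000e120003e3000a6a000e80000e36000ce8000cfa000a51000863000a860003fb000ba100085f0009f30007f60009fd)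 (Nat.ble 45 i)) (Nat.ble 44 i)) (Nat.ble 42 i)) (Nat.ble 38 i)) (Bool.rec (motive := fun _ => Nat) (Bool.rec (motive := fun _ => Nat) (Bool.rec (motive := fun _ => Nat) (Bool.rec (motive := fun _ => Nat) (0x849000c84000c75000d140006d2000b5200016a0002430007f0000499000b84000166000d8500048800016100015f0004470003c900081f0005870005b40004ab000225000e9c000d2d000b0100033b0009cf00033a0003ee000ef2000730000ea3000d60000a7f0004d2000d7c000d30000d3b000b72000ee20009ab0005cf000dd400041e000b750009d1000ae800041a000824000d1f0007e90009f4000903000c65000ae3000a2d000d11000c0e000cec0002cc000ebb000dd0000deb) (0x116000bb40002370004fa00029800092c0007df00040c000b820000f80005ad000ad7000d0a0007bd000e57000a65000ccc000f060004c6000dac0006b900068c000bf600078200027e000a87000c1f0002160006a0000a66000bad0003db000c68000db8000e3b0004ad0008c6000601000a30000e30000e6c000101000a81000a59000a5800098f00058a000a57000c090008d50004e00004de0005190009b300097d000b5a00029300040100049600092d000b89000a6c000d71000563) (Nat.ble 47 i)) (Bool.rec (motive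 := fun _ => Nat) (0x915000eee000d8b000ee90007fc000a0c0002820004a60009de000e29000f0c000758000eeb000498000427000e25000a56000f020006ed000e7d000f21000807000ba6000c26000e05000759000e0a0003ad000ba5000d65000cbc000ebe0009640003700009ae000c020004b5000e4b000eec000bab000c2f0005ab000ddd000c6f000b96000920000c0a0009500001f700030c000898000490000db70004f4000f16000bf1000b34000a71000f3c00099d000a35000975000ccf00066f) (0xb410005bb0006bd000d37000dbc00081400079c000e1e000de10009f0000869000947000d0d000a44000ae0000b0a000c180007b000073f000830000d4d00057f000d99000877000751000c9000043c000878000df7000844000d430008a90009eb000d61000dbe000ce1000d8000080d000cfd000daf0008c3000404000a76000b24000e6500078600083a000ded000e62000e42000982000654000c67000e0b000454000a6f000a39000850000bb000088a000bb1000a03000995000bac) (Nat.ble 49 i)) (Nat.ble 48 i)) (Bool.rec (motive := fun _ => Nat) (Bool.rec (motive := fun _ => Nat) (0xc43000c42000eaa0007e7000d36000b9300074c000d78000dcf000b4e00045b00011200077f000e3f000c63000cc20005e5000324000a4300076b000e51000d6c000e5f00043a000845000d64000992000db60004a2000d24000278000bcc0006be00040a00061f000e090009c10007e40002d3000b1400042400058c000e8d000d8a00039c000bc0000c86000b17000bfa000994000cce0008af000aa2000db5000e5e000b28000e56000e39000e34000e2d000c41000bc5000948000b22)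 (0xe73000193000f300006ee0001d2000b74000a75000a7a0003420005e000096f000ccb00074d0005ba000e8a000d6b000f3400096a00093b0008a6000b0800080c00027600056e0006d500053f00053c000598000bf5000752000d3d000a120005d6000be7000ca4000ebd0009f6000b73000381000a32000e1d000565000ed00009ad000eb700037f0008b00006c2000eea0002f0000e1500057e000a10000ed600081b0006c1000d56000958000dc6000f04000f010009bd0000f1000ed3) (Nat.ble 51 i)) (Bool.rec (motive := fun _ => Nat) (0xa5a000a72000e5a000ea5000d0c0006bc0008970005e9000b99000ee4000931000da8000e89000a230007e3000c06000c070005920004bd0005fb0004e7000d9b000515000eac000271000a3a00065000062e00037100084000046f00052d0005050001cf00067e0001d90001d3000dae000aee000d12000497000b91000934000a09000bee000a7c000556000e3e0009620003ab00077e00073d00073e000202000b5d0001ec00066b00092f000b57000ebc0002130005d30007b200050c) (0xb9f000817000c05000ad4000761000c51000c3c000e4f000c3b00064c000c3a000e6e0009b5000f2f000c32000b600005750006d3000cdf0002b80004ba000bc3000ba7000ca500061c0007da0007c1000e6d000bb2000a2500071f0007fa0005030008fc000c54000642000f180006340006a200043e000d91000f39000e7c000f0a000ef500033c0005ce00058000066e000bb9000a3b000df60002840009d2000e94000dd6000e28000938000e5200072200074800095f0001cd000b85)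 (Nat.ble 53 i)) (Nat.ble 52 i)) (Nat.ble 50 i)) (Bool.rec (motive := fun _ => Nat) (Bool.rec (motive := fun _ => Nat) (Bool.rec (motive := fun _ => Nat) (0xca30005b00009f2000c460007c000059a000b9e000cbb000e4a0006d0000325000d04000d3900054a000bbf0005a6000943000a7e000cd3000d17000a5f000ab3000ed9000e02000e00000961000ebf0008cd000d870006d400074300076a000b83000e76000657000b9a000eca00076800094a000eaf000919000f070005ac0007cf000bdc000f0300080b000dec0004d90009810005d4000ecd000d92000425000a2b00083c0009b600027a000ad1000ddb0004b1000a67000eb8000ed5) (0xa89000344000990000c4a000c5a0003990008d1000765000d13000a18000e3100064a0009cb0005cc000e410003af0005a7000d2e000e9f000e220007e6000ea6000959000b350008be0004ff0006d6000d4e000aa0000628000e19000ee70008f7000c55000c6b000314000e1b000c33000ec0000efc0005b80006ad000bef00092600074e000d89000bcb000a9f0006df0006ce00082e000e4d0005ea0007410009040009c5000dee0007fd0005de000691000c5f000f1c000489000b10) (Nat.ble 55 i)) (Bool.rec (motive := fun _ => Nat) (0x95600056600075d000b56000cb3000e680009a70003e70004d8000561000bd2000b97000cb000041f0003680009c3000367000eba00091400036600034e000d0e00064e000d5100021000064d0005d5000afd0008f9000ddc0005c500095b00095100094f0005c60004c9000caa0005c300067c00094400051d00024d00040500072b0004e40003a40008f1000945000ca1000bf30001e0000c9b0009490005b60005bc000d290000f60000f70000ec0006630007270006ec000b39000ece)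 (0x7550005840001e9000cee000e8f000d5d000dfe000cde0006e200067d000e9200051800087200063d000c3d000e03000cbd000966000e4600075b000eda000a9e000ab5000efb000cfc000272000816000cab00082c000d790009270008a00004d7000dc9000acf000be2000d10000c6e0006d7000b2a000a4a000dcd000c39000775000f3f000f08000e18000bc9000f29000d730009b80009230009f1000d62000b0000031100085d000419000bb500027f000b80000223000b21000d5f) (Nat.ble 57 i)) (Nat.ble 56 i)) (Bool.rec (motive := fun _ => Nat) (Bool.rec (motive := fun _ => Nat) (0x6710007f1000dca000f2c00068b000e26000928000f05000f0900077c0003ff0009aa0009a90009a8000df90007530007b9000e9e000c60000e64000d53000991000d74000a020007c2000dc3000db9000d1c000bbd0006b6000287000bcf000d58000eed000be3000b45000b4200045c000dcc0009d7000dd100069c0007570008350004940006e70008ec000d84000dbf00058900063e0004f70005a10008c50003860004f30004390005850006d1000583000581000de2000e93000d7a) (0x4e2000c7a000858000422000a3d000ef000079e000edd000766000c44000dc40009c2000edb000245000cb60007e50007c5000f33000e10000b9500022a000d150002200004ed000f35000d67000ac3000c7f0007f4000eb00008470009970008f2000ab1000ac50005e70009e600068d000cd4000dbd00051f0002090004a3000c4c000cd200084c000bce000df20009af000baf000dc500075f000d280008bc000b1d000e63000b300007ce000f0b0004f60009dc000a83000d42000c92)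 (Nat.ble 59 i)) (Bool.rec (motive := fun _ => Nat) (0xaea000c4f000d2b000ec500050a000d68000b9b000da700098a00059c000f32000c38000c9a0006e5000d38000e23000cf7000d9500075a0009ba000e5b000e9d000ca7000857000939000776000754000ca20006e3000894000f1e000e2c000d210003a9000e84000ec2000bca000b6e000f150008550006e80006f7000dc2000e98000b9c00041d000bb8000f28000e8e00077b000c500007d40007950004860007080005be000d82000a64000edf000831000eae000f14000e95000f2a) (0xd9c000a6d) (Nat.ble 61 i)) (Nat.ble 60 i)) (Nat.ble 58 i)) (Nat.ble 54 i)) (Nat.ble 46 i)) (Nat.ble 31 i))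
noncomputable def CA0InvB (i : Nat) : Nat := (CA0InvB_0 i)
noncomputable def CA0Inv (i : Nat) : Nat := Nat.land (Nat.shiftRight (CA0InvB (Nat.shiftRight i 6)) (Nat.mul 24 (Nat.land i 63))) 16777215
/-- Generators of a level. -/
def CA1G : List (List Nat) := [[3, 1, 14, 12, 2, 16, 2, 1, 3], [2, 14, 14, 1, 2, 4, 1], [2, 4, 10, 2, 10, 0, 2, 2, 0, 0], [2, 10, 15, 0, 3, 12, 0, 0]]
noncomputable def CA1P_0 (i : Nat) : Nat := (Bool.rec (motive := fun _ => Nat) (Bool.rec (motive := fun _ => Nat) (Bool.rec (motive := fun _ => Nat) (Bool.rec (motive := fun _ => Nat) (Bool.rec (motive := fun _ => Nat) (0x997) (Bool.rec (motive := fun _ => Nat) (0x481) (0x1000000000581) (Nat.ble 2 i)) (Nat.ble 1 i)) (Bool.rec (motive := fun _ => Nat) (0x2000000000456) (Bool.rec (motive := fun _ => Nat) (0x300000000053f) (0x1000cda) (Nat.ble 5 i)) (Nat.ble 4 i)) (Nat.ble 3 i)) (Bool.rec (motive := fun _ => Nat) (Bool.rec (motive := fun _ => Nat) (0x1000001000d9b) (Bool.rec (motive := fun _ => Nat) (0x20000010007e2) (0x3000001000847)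 (Nat.ble 8 i)) (Nat.ble 7 i)) (Bool.rec (motive := fun _ => Nat) (0x2000759) (Bool.rec (motive := fun _ => Nat) (0x1000002000d87) (0x2000002000149) (Nat.ble 11 i)) (Nat.ble 10 i)) (Nat.ble 9 i)) (Nat.ble 6 i)) (Bool.rec (motive := fun _ => Nat) (Bool.rec (motive := fun _ => Nat) (Bool.rec (motive := fun _ => Nat) (0x3000002000d19) (Bool.rec (motive := fun _ => Nat) (0x30002df) (0x1000003000c02) (Nat.ble 14 i)) (Nat.ble 13 i)) (Bool.rec (motive := fun _ => Nat) (0x200000300088c) (Bool.rec (motive := fun _ => Nat) (0x3000003000e8d) (0x40002a5) (Nat.ble 17 i)) (Nat.ble 16 i)) (Nat.ble 15 i)) (Bool.rec (motive := fun _ => Nat) (Bool.rec (motive := fun _ => Nat) (0x10000040006ee) (Bool.rec (motive := fun _ => Nat) (0x200000400091d) (0x3000004000bf4) (Nat.ble 20 i)) (Nat.ble 19 i)) (Bool.rec (motive := fun _ => Nat) (0x50007f6) (Bool.rec (motive := fun _ => Nat) (0x1000005000d05) (0x20000050006ca) (Nat.ble 23 i)) (Nat.ble 22 i)) (Nat.ble 21 i)) (Nat.ble 18 i)) (Nat.ble 12 i)) (Bool.rec (motive :=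 fun _ => Nat) (Bool.rec (motive := fun _ => Nat) (Bool.rec (motive := fun _ => Nat) (Bool.rec (motive := fun _ => Nat) (0x3000005000325) (Bool.rec (motive := fun _ => Nat) (0x6000099) (0x100000600036d) (Nat.ble 26 i)) (Nat.ble 25 i)) (Bool.rec (motive := fun _ => Nat) (0x2000006000bb8) (Bool.rec (motive := fun _ => Nat) (0x3000006000443) (0x70008e5) (Nat.ble 29 i)) (Nat.ble 28 i)) (Nat.ble 27 i)) (Bool.rec (motive := fun _ => Nat) (Bool.rec (motive := fun _ => Nat) (0x1000007000619) (Bool.rec (motive := fun _ => Nat) (0x20000070008bd) (0x3000007000947) (Nat.ble 32 i)) (Nat.ble 31 i)) (Bool.rec (motive := fun _ => Nat) (0x8000d3c) (Bool.rec (motive := fun _ => Nat) (0x1000008000a3f) (0x2000008000597) (Nat.ble 35 i)) (Nat.ble 34 i)) (Nat.ble 33 i)) (Nat.ble 30 i)) (Bool.rec (motive := fun _ => Nat) (Bool.rec (motive := fun _ => Nat) (Bool.rec (motive := fun _ => Nat) (0x3000008000558) (Bool.rec (motive := fun _ => Nat) (0x90003a7) (0x1000009000b35) (Nat.ble 38 i)) (Nat.ble 37 i)) (Bool.rec (motive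 := fun _ => Nat) (0x2000009000af3) (Bool.rec (motive := fun _ => Nat) (0x3000009000c73) (0xa0009d5) (Nat.ble 41 i)) (Nat.ble 40 i)) (Nat.ble 39 i)) (Bool.rec (motive := fun _ => Nat) (Bool.rec (motive := fun _ => Nat) (0x100000a000a8d) (Bool.rec (motive := fun _ => Nat) (0x200000a0004f8) (0x300000a0002c6) (Nat.ble 44 i)) (Nat.ble 43 i)) (Bool.rec (motive := fun _ => Nat) (0xb000941) (Bool.rec (motive := fun _ => Nat) (0x100000b0007ae) (0x200000b00094a) (Nat.ble 47 i)) (Nat.ble 46 i)) (Nat.ble 45 i)) (Nat.ble 42 i)) (Nat.ble 36 i)) (Nat.ble 24 i))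
noncomputable def CA1P_1 (i : Nat) : Nat := (Bool.rec (motive := fun _ => Nat) (Bool.rec (motive := fun _ => Nat) (Bool.rec (motive := fun _ => Nat) (Bool.rec (motive := fun _ => Nat) (Bool.rec (motive := fun _ => Nat) (0x300000b00021d) (Bool.rec (motive := fun _ => Nat) (0xc000bb7) (0x100000c000ee3) (Nat.ble 50 i)) (Nat.ble 49 i)) (Bool.rec (motive := fun _ => Nat) (0x200000c00052a) (Bool.rec (motive := fun _ => Nat) (0x300000c000b49) (0xd000ded) (Nat.ble 53 i)) (Nat.ble 52 i)) (Nat.ble 51 i)) (Bool.rec (motive := fun _ => Nat) (Bool.rec (motive := fun _ => Nat) (0x100000d0003c2) (Bool.rec (motive := fun _ => Nat) (0x200000d000c65) (0x300000d0002fb) (Nat.ble 56 i)) (Nat.ble 55 i)) (Bool.rec (motive := fun _ => Nat) (0xe00079e) (Bool.rec (motive := fun _ => Nat) (0x100000e00059a) (0x200000e0002e9) (Nat.ble 59 i)) (Nat.ble 58 i)) (Nat.ble 57 i)) (Nat.ble 54 i)) (Bool.rec (motive := fun _ => Nat) (Bool.rec (motive := fun _ => Nat) (Bool.rec (motive := fun _ => Nat) (0x300000e000c52) (Bool.rec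 (motive := fun _ => Nat) (0xf000167) (0x100000f00049c) (Nat.ble 62 i)) (Nat.ble 61 i)) (Bool.rec (motive := fun _ => Nat) (0x200000f0003da) (Bool.rec (motive := fun _ => Nat) (0x300000f000d47) (0x10000a25) (Nat.ble 65 i)) (Nat.ble 64 i)) (Nat.ble 63 i)) (Bool.rec (motive := fun _ => Nat) (Bool.rec (motive := fun _ => Nat) (0x100001000099c) (Bool.rec (motive := fun _ => Nat) (0x2000010000e92) (0x30000100006a2) (Nat.ble 68 i)) (Nat.ble 67 i)) (Bool.rec (motive := fun _ => Nat) (0x11000c62) (Bool.rec (motive := fun _ => Nat) (0x10000110001b2) (0x2000011000f05) (Nat.ble 71 i)) (Nat.ble 70 i)) (Nat.ble 69 i)) (Nat.ble 66 i)) (Nat.ble 60 i)) (Bool.rec (motive := fun _ => Nat) (Bool.rec (motive := fun _ => Nat) (Bool.rec (motive := fun _ => Nat) (Bool.rec (motive := fun _ => Nat) (0x3000011000384) (Bool.rec (motive := fun _ => Nat) (0x12000966) (0x1000012000f0e) (Nat.ble 74 i)) (Nat.ble 73 i)) (Bool.rec (motive := fun _ => Nat) (0x30000120001a1) (Bool.rec (motive := fun _ => Nat) (0x13000979) (0x1000013000b67)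 (Nat.ble 77 i)) (Nat.ble 76 i)) (Nat.ble 75 i)) (Bool.rec (motive := fun _ => Nat) (Bool.rec (motive := fun _ => Nat) (0x20000130004ec) (Bool.rec (motive := fun _ => Nat) (0x30000130002b8) (0x140002ff) (Nat.ble 80 i)) (Nat.ble 79 i)) (Bool.rec (motive := fun _ => Nat) (0x10000140001f0) (Bool.rec (motive := fun _ => Nat) (0x200001400064d) (0x3000014000e78) (Nat.ble 83 i)) (Nat.ble 82 i)) (Nat.ble 81 i)) (Nat.ble 78 i)) (Bool.rec (motive := fun _ => Nat) (Bool.rec (motive := fun _ => Nat) (Bool.rec (motive := fun _ => Nat) (0x1500019c) (Bool.rec (motive := fun _ => Nat) (0x1000015000bfc) (0x2000015000367) (Nat.ble 86 i)) (Nat.ble 85 i)) (Bool.rec (motive := fun _ => Nat) (0x3000015000293) (Bool.rec (motive := fun _ => Nat) (0x16000953) (0x1000016000b37) (Nat.ble 89 i)) (Nat.ble 88 i)) (Nat.ble 87 i)) (Bool.rec (motive := fun _ => Nat) (Bool.rec (motive := fun _ => Nat) (0x2000016000295) (Bool.rec (motive := fun _ => Nat) (0x3000016000d29) (0x17000506) (Nat.ble 92 i)) (Nat.ble 91 i)) (Bool.rec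 (motive := fun _ => Nat) (Bool.rec (motive := fun _ => Nat) (0x1000017000f32) (0x20000170008cc) (Nat.ble 94 i)) (Bool.rec (motive := fun _ => Nat) (0x3000017000c3a) (0x1800087f) (Nat.ble 96 i)) (Nat.ble 95 i)) (Nat.ble 93 i)) (Nat.ble 90 i)) (Nat.ble 84 i)) (Nat.ble 72 i))
noncomputable def CA1P_2 (i : Nat) : Nat := (Bool.rec (motive := fun _ => Nat) (Bool.rec (motive := fun _ => Nat) (Bool.rec (motive := fun _ => Nat) (Bool.rec (motive := fun _ => Nat) (Bool.rec (motive := fun _ => Nat) (0x1000018000cb9) (Bool.rec (motive := fun _ => Nat) (0x200001800037c) (0x30000180007e3) (Nat.ble 99 i)) (Nat.ble 98 i)) (Bool.rec (motive := fun _ => Nat) (0x1900053e) (Bool.rec (motive := fun _ => Nat) (0x1000019000680) (0x2000019000bd5) (Nat.ble 102 i)) (Nat.ble 101 i)) (Nat.ble 100 i)) (Bool.rec (motive := fun _ => Nat) (Bool.rec (motive := fun _ => Nat) (0x300001900034e) (Bool.rec (motive := fun _ => Nat) (0x1a0003dc) (0x100001a00004e) (Nat.ble 105 i)) (Nat.ble 104 i)) (Bool.rec (motive := fun _ => Nat)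 (0x200001a0004ef) (Bool.rec (motive := fun _ => Nat) (0x300001a000ae5) (0x1b0000ed) (Nat.ble 108 i)) (Nat.ble 107 i)) (Nat.ble 106 i)) (Nat.ble 103 i)) (Bool.rec (motive := fun _ => Nat) (Bool.rec (motive := fun _ => Nat) (Bool.rec (motive := fun _ => Nat) (0x100001b000f3e) (Bool.rec (motive := fun _ => Nat) (0x200001b0007c9) (0x300001b0008ec) (Nat.ble 111 i)) (Nat.ble 110 i)) (Bool.rec (motive := fun _ => Nat) (0x1c0005af) (Bool.rec (motive := fun _ => Nat) (0x100001c00062f) (0x200001c0000f0) (Nat.ble 114 i)) (Nat.ble 113 i)) (Nat.ble 112 i)) (Bool.rec (motive := fun _ => Nat) (Bool.rec (motive := fun _ => Nat) (0x300001c0000fb) (Bool.rec (motive := fun _ => Nat) (0x1d000549) (0x100001d000ef8) (Nat.ble 117 i)) (Nat.ble 116 i)) (Bool.rec (motive := fun _ => Nat) (0x200001d00073a) (Bool.rec (motive := fun _ => Nat) (0x300001d000ae2) (0x1e000acc) (Nat.ble 120 i)) (Nat.ble 119 i)) (Nat.ble 118 i)) (Nat.ble 115 i)) (Nat.ble 109 i)) (Bool.rec (motive := fun _ => Nat) (Bool.rec (motive := fun _ =>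 Nat) (Bool.rec (motive := fun _ => Nat) (Bool.rec (motive := fun _ => Nat) (0x100001e0002ac) (Bool.rec (motive := fun _ => Nat) (0x200001e0004f9) (0x300001e0006ff) (Nat.ble 123 i)) (Nat.ble 122 i)) (Bool.rec (motive := fun _ => Nat) (0x1f00037d) (Bool.rec (motive := fun _ => Nat) (0x100001f000936) (0x200001f000a77) (Nat.ble 126 i)) (Nat.ble 125 i)) (Nat.ble 124 i)) (Bool.rec (motive := fun _ => Nat) (Bool.rec (motive := fun _ => Nat) (0x300001f0003cb) (Bool.rec (motive := fun _ => Nat) (0x200002cc) (0x1000020000480) (Nat.ble 129 i)) (Nat.ble 128 i)) (Bool.rec (motive := fun _ => Nat) (0x2000020000c01) (Bool.rec (motive := fun _ => Nat) (0x3000020000cb3) (0x21000edd) (Nat.ble 132 i)) (Nat.ble 131 i)) (Nat.ble 130 i)) (Nat.ble 127 i)) (Bool.rec (motive := fun _ => Nat) (Bool.rec (motive := fun _ => Nat) (Bool.rec (motive := fun _ => Nat) (0x1000021000b66) (Bool.rec (motive := fun _ => Nat) (0x2000021000423) (0x3000021000da6) (Nat.ble 135 i)) (Nat.ble 134 i)) (Bool.rec (motive := fun _ => Nat)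 (0x22000074) (Bool.rec (motive := fun _ => Nat) (0x20000220007a4) (0x3000022000882) (Nat.ble 138 i)) (Nat.ble 137 i)) (Nat.ble 136 i)) (Bool.rec (motive := fun _ => Nat) (Bool.rec (motive := fun _ => Nat) (0x23000eeb) (Bool.rec (motive := fun _ => Nat) (0x1000023000b8d) (0x2000023000c54) (Nat.ble 141 i)) (Nat.ble 140 i)) (Bool.rec (motive := fun _ => Nat) (Bool.rec (motive := fun _ => Nat) (0x300002300092f) (0x24000263) (Nat.ble 143 i)) (Bool.rec (motive := fun _ => Nat) (0x1000024000c8b) (0x20000240003cd) (Nat.ble 145 i)) (Nat.ble 144 i)) (Nat.ble 142 i)) (Nat.ble 139 i)) (Nat.ble 133 i)) (Nat.ble 121 i))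
noncomputable def CA1P_3 (i : Nat) : Nat := (Bool.rec (motive := fun _ => Nat) (Bool.rec (motive := fun _ => Nat) (Bool.rec (motive := fun _ => Nat) (Bool.rec (motive := fun _ => Nat) (Bool.rec (motive := fun _ => Nat) (0x300002400006a) (Bool.rec (motive := fun _ => Nat) (0x25000e1b) (0x1000025000b33) (Nat.ble 148 i)) (Nat.ble 147 i)) (Bool.rec (motive := fun _ => Nat) (0x200002500067d) (Bool.rec (motive := fun _ => Nat) (0x3000025000d0c) (0x2600096d) (Nat.ble 151 i)) (Nat.ble 150 i)) (Nat.ble 149 i)) (Bool.rec (motive := fun _ => Nat) (Bool.rec (motive := fun _ => Nat) (0x1000026000dc3) (Bool.rec (motive := fun _ => Nat) (0x2000026000517) (0x3000026000a85) (Nat.ble 154 i)) (Nat.ble 153 i)) (Bool.rec (motive := fun _ => Nat) (0x270007aa) (Bool.rec (motive := fun _ => Nat) (0x10000270005db) (0x2000027000bd6) (Nat.ble 157 i)) (Nat.ble 156 i)) (Nat.ble 155 i)) (Nat.ble 152 i)) (Bool.rec (motive := fun _ => Nat) (Bool.rec (motive := fun _ => Nat) (Bool.rec (motive := fun _ => Nat) (0x3000027000bfb)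 (Bool.rec (motive := fun _ => Nat) (0x28000700) (0x100002800090e) (Nat.ble 160 i)) (Nat.ble 159 i)) (Bool.rec (motive := fun _ => Nat) (0x2000028000c36) (Bool.rec (motive := fun _ => Nat) (0x30000280009d1) (0x29000c7d) (Nat.ble 163 i)) (Nat.ble 162 i)) (Nat.ble 161 i)) (Bool.rec (motive := fun _ => Nat) (Bool.rec (motive := fun _ => Nat) (0x1000029000c25) (Bool.rec (motive := fun _ => Nat) (0x2000029000e7d) (0x30000290002e7) (Nat.ble 166 i)) (Nat.ble 165 i)) (Bool.rec (motive := fun _ => Nat) (0x2a000431) (Bool.rec (motive := fun _ => Nat) (0x100002a000862) (0x200002a000d82) (Nat.ble 169 i)) (Nat.ble 168 i)) (Nat.ble 167 i)) (Nat.ble 164 i)) (Nat.ble 158 i)) (Bool.rec (motive := fun _ => Nat) (Bool.rec (motive := fun _ => Nat) (Bool.rec (motive := fun _ => Nat) (Bool.rec (motive := fun _ => Nat) (0x300002a0004de) (Bool.rec (motive := fun _ => Nat) (0x2b0006f4) (0x100002b0008e9) (Nat.ble 172 i)) (Nat.ble 171 i)) (Bool.rec (motive := fun _ => Nat) (0x200002b0000d6) (Bool.rec (motive := fun _ =>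 Nat) (0x300002b000a2f) (0x2c0008ef) (Nat.ble 175 i)) (Nat.ble 174 i)) (Nat.ble 173 i)) (Bool.rec (motive := fun _ => Nat) (Bool.rec (motive := fun _ => Nat) (0x100002c000cde) (Bool.rec (motive := fun _ => Nat) (0x200002c000cf8) (0x300002c00015f) (Nat.ble 178 i)) (Nat.ble 177 i)) (Bool.rec (motive := fun _ => Nat) (0x2d00084e) (Bool.rec (motive := fun _ => Nat) (0x100002d00068e) (0x200002d000538) (Nat.ble 181 i)) (Nat.ble 180 i)) (Nat.ble 179 i)) (Nat.ble 176 i)) (Bool.rec (motive := fun _ => Nat) (Bool.rec (motive := fun _ => Nat) (Bool.rec (motive := fun _ => Nat) (0x300002d000da9) (Bool.rec (motive := fun _ => Nat) (0x2e000bcb) (0x100002e000bbd) (Nat.ble 184 i)) (Nat.ble 183 i)) (Bool.rec (motive := fun _ => Nat) (0x200002e000c92) (Bool.rec (motive := fun _ => Nat) (0x300002e000eaa) (0x2f000320) (Nat.ble 187 i)) (Nat.ble 186 i)) (Nat.ble 185 i)) (Bool.rec (motive := fun _ => Nat) (Bool.rec (motive := fun _ => Nat) (0x100002f00027c) (Bool.rec (motive := fun _ => Nat) (0x200002f000f27) (0x300002f00024b)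 (Nat.ble 190 i)) (Nat.ble 189 i)) (Bool.rec (motive := fun _ => Nat) (Bool.rec (motive := fun _ => Nat) (0x30000183) (0x10000300004d2) (Nat.ble 192 i)) (Bool.rec (motive := fun _ => Nat) (0x20000300005cb) (0x310000fc) (Nat.ble 194 i)) (Nat.ble 193 i)) (Nat.ble 191 i)) (Nat.ble 188 i)) (Nat.ble 182 i)) (Nat.ble 170 i))
noncomputable def CA1P_4 (i : Nat) : Nat := (Bool.rec (motive := fun _ => Nat) (Bool.rec (motive := fun _ => Nat) (Bool.rec (motive := fun _ => Nat) (Bool.rec (motive := fun _ => Nat) (Bool.rec (motive := fun _ => Nat) (0x1000031000134) (Bool.rec (motive := fun _ => Nat) (0x2000031000305) (0x30000310009ba) (Nat.ble 197 i)) (Nat.ble 196 i)) (Bool.rec (motive := fun _ => Nat) (0x3200038f) (Bool.rec (motive := fun _ => Nat) (0x1000032000776) (0x2000032000389) (Nat.ble 200 i)) (Nat.ble 199 i)) (Nat.ble 198 i)) (Bool.rec (motive := fun _ => Nat) (Bool.rec (motive := fun _ => Nat) (0x3000032000cfe) (Bool.rec (motive := fun _ => Nat) (0x330007ca) (0x1000033000ce8) (Nat.ble 203 i)) (Nat.ble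 202 i)) (Bool.rec (motive := fun _ => Nat) (0x20000330003ef) (Bool.rec (motive := fun _ => Nat) (0x3000033000c06) (0x3400091e) (Nat.ble 206 i)) (Nat.ble 205 i)) (Nat.ble 204 i)) (Nat.ble 201 i)) (Bool.rec (motive := fun _ => Nat) (Bool.rec (motive := fun _ => Nat) (Bool.rec (motive := fun _ => Nat) (0x1000034000841) (Bool.rec (motive := fun _ => Nat) (0x20000340008b0) (0x3000034000e3b) (Nat.ble 209 i)) (Nat.ble 208 i)) (Bool.rec (motive := fun _ => Nat) (0x35000a5a) (Bool.rec (motive := fun _ => Nat) (0x100003500038b) (0x2000035000d39) (Nat.ble 212 i)) (Nat.ble 211 i)) (Nat.ble 210 i)) (Bool.rec (motive := fun _ => Nat) (Bool.rec (motive := fun _ => Nat) (0x300003500058a) (Bool.rec (motive := fun _ => Nat) (0x36000c42) (0x1000036000818) (Nat.ble 215 i)) (Nat.ble 214 i)) (Bool.rec (motive := fun _ => Nat) (0x2000036000a89) (Bool.rec (motive := fun _ => Nat) (0x30000360008d5) (0x37000833) (Nat.ble 218 i)) (Nat.ble 217 i)) (Nat.ble 216 i)) (Nat.ble 213 i)) (Nat.ble 207 i)) (Bool.rec (motive :=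 fun _ => Nat) (Bool.rec (motive := fun _ => Nat) (Bool.rec (motive := fun _ => Nat) (Bool.rec (motive := fun _ => Nat) (0x100003700097b) (Bool.rec (motive := fun _ => Nat) (0x2000037000e42) (0x30000370003a2) (Nat.ble 221 i)) (Nat.ble 220 i)) (Bool.rec (motive := fun _ => Nat) (0x38000ec7) (Bool.rec (motive := fun _ => Nat) (0x100003800034f) (0x20000380004e7) (Nat.ble 224 i)) (Nat.ble 223 i)) (Nat.ble 222 i)) (Bool.rec (motive := fun _ => Nat) (Bool.rec (motive := fun _ => Nat) (0x3000038000630) (Bool.rec (motive := fun _ => Nat) (0x39000690) (0x1000039000e99) (Nat.ble 227 i)) (Nat.ble 226 i)) (Bool.rec (motive := fun _ => Nat) (0x20000390006f2) (Bool.rec (motive := fun _ => Nat) (0x300003900057f) (0x3a000ba6) (Nat.ble 230 i)) (Nat.ble 229 i)) (Nat.ble 228 i)) (Nat.ble 225 i)) (Bool.rec (motive := fun _ => Nat) (Bool.rec (motive := fun _ => Nat) (Bool.rec (motive := fun _ => Nat) (0x100003a0002a7) (Bool.rec (motive := fun _ => Nat) (0x200003a000585) (0x300003a000332) (Nat.ble 233 i)) (Nat.ble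 232 i)) (Bool.rec (motive := fun _ => Nat) (0x3b000bb3) (Bool.rec (motive := fun _ => Nat) (0x100003b000cab) (0x200003b000725) (Nat.ble 236 i)) (Nat.ble 235 i)) (Nat.ble 234 i)) (Bool.rec (motive := fun _ => Nat) (Bool.rec (motive := fun _ => Nat) (0x300003b000181) (Bool.rec (motive := fun _ => Nat) (0x3c000536) (0x100003c000dba) (Nat.ble 239 i)) (Nat.ble 238 i)) (Bool.rec (motive := fun _ => Nat) (0x200003c000c82) (Bool.rec (motive := fun _ => Nat) (0x300003c000cc8) (0x3d000805) (Nat.ble 242 i)) (Nat.ble 241 i)) (Nat.ble 240 i)) (Nat.ble 237 i)) (Nat.ble 231 i)) (Nat.ble 219 i))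
noncomputable def CA1P_5 (i : Nat) : Nat := (Bool.rec (motive := fun _ => Nat) (Bool.rec (motive := fun _ => Nat) (Bool.rec (motive := fun _ => Nat) (Bool.rec (motive := fun _ => Nat) (Bool.rec (motive := fun _ => Nat) (0x100003d000746) (Bool.rec (motive := fun _ => Nat) (0x200003d000ace) (0x300003d0006b2) (Nat.ble 245 i)) (Nat.ble 244 i)) (Bool.rec (motive := fun _ => Nat) (0x3e000ed4) (Bool.rec (motive := fun _ => Nat) (0x100003e000d3e) (0x300003e000068) (Nat.ble 248 i)) (Nat.ble 247 i)) (Nat.ble 246 i)) (Bool.rec (motive := fun _ => Nat) (Bool.rec (motive := fun _ => Nat) (0x3f000e4e) (Bool.rec (motive := fun _ => Nat) (0x100003f0008f3) (0x200003f000550) (Nat.ble 251 i)) (Nat.ble 250 i)) (Bool.rec (motive := fun _ => Nat) (0x300003f00018a) (Bool.rec (motive := fun _ => Nat) (0x4000054d) (0x10000400005fd) (Nat.ble 254 i)) (Nat.ble 253 i)) (Nat.ble 252 i)) (Nat.ble 249 i)) (Bool.rec (motive := fun _ => Nat) (Bool.rec (motive := fun _ => Nat) (Bool.rec (motive := fun _ => Nat) (0x2000040000983)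 (Bool.rec (motive := fun _ => Nat) (0x3000040000797) (0x4100096c) (Nat.ble 257 i)) (Nat.ble 256 i)) (Bool.rec (motive := fun _ => Nat) (0x10000410002d0) (Bool.rec (motive := fun _ => Nat) (0x2000041000444) (0x300004100047b) (Nat.ble 260 i)) (Nat.ble 259 i)) (Nat.ble 258 i)) (Bool.rec (motive := fun _ => Nat) (Bool.rec (motive := fun _ => Nat) (0x42000347) (Bool.rec (motive := fun _ => Nat) (0x2000042000166) (0x300004200010c) (Nat.ble 263 i)) (Nat.ble 262 i)) (Bool.rec (motive := fun _ => Nat) (0x43000cb6) (Bool.rec (motive := fun _ => Nat) (0x1000043000d57) (0x2000043000aad) (Nat.ble 266 i)) (Nat.ble 265 i)) (Nat.ble 264 i)) (Nat.ble 261 i)) (Nat.ble 255 i)) (Bool.rec (motive := fun _ => Nat) (Bool.rec (motive := fun _ => Nat) (Bool.rec (motive := fun _ => Nat) (Bool.rec (motive := fun _ => Nat) (0x3000043000ad9) (Bool.rec (motive := fun _ => Nat) (0x44000c7b) (0x2000044000de2) (Nat.ble 269 i)) (Nat.ble 268 i)) (Bool.rec (motive := fun _ => Nat) (0x30000440009cb) (Bool.rec (motive := fun _ =>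 Nat) (0x45000301) (0x100004500023d) (Nat.ble 272 i)) (Nat.ble 271 i)) (Nat.ble 270 i)) (Bool.rec (motive := fun _ => Nat) (Bool.rec (motive := fun _ => Nat) (0x20000450004f2) (Bool.rec (motive := fun _ => Nat) (0x30000450003ee) (0x460007b8) (Nat.ble 275 i)) (Nat.ble 274 i)) (Bool.rec (motive := fun _ => Nat) (0x1000046000b2f) (Bool.rec (motive := fun _ => Nat) (0x2000046000cc3) (0x3000046000eb7) (Nat.ble 278 i)) (Nat.ble 277 i)) (Nat.ble 276 i)) (Nat.ble 273 i)) (Bool.rec (motive := fun _ => Nat) (Bool.rec (motive := fun _ => Nat) (Bool.rec (motive := fun _ => Nat) (0x470005c3) (Bool.rec (motive := fun _ => Nat) (0x1000047000176) (0x2000047000e91) (Nat.ble 281 i)) (Nat.ble 280 i)) (Bool.rec (motive := fun _ => Nat) (0x3000047000a40) (Bool.rec (motive := fun _ => Nat) (0x480007b7) (0x1000048000ba7) (Nat.ble 284 i)) (Nat.ble 283 i)) (Nat.ble 282 i)) (Bool.rec (motive := fun _ => Nat) (Bool.rec (motive := fun _ => Nat) (0x200004800061c) (Bool.rec (motive := fun _ => Nat) (0x3000048000ba4) (0x490008d9)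 (Nat.ble 287 i)) (Nat.ble 286 i)) (Bool.rec (motive := fun _ => Nat) (Bool.rec (motive := fun _ => Nat) (0x1000049000f3c) (0x2000049000c35) (Nat.ble 289 i)) (Bool.rec (motive := fun _ => Nat) (0x3000049000b4a) (0x4a000e01) (Nat.ble 291 i)) (Nat.ble 290 i)) (Nat.ble 288 i)) (Nat.ble 285 i)) (Nat.ble 279 i)) (Nat.ble 267 i))
noncomputable def CA1P_6 (i : Nat) : Nat := (Bool.rec (motive := fun _ => Nat) (Bool.rec (motive := fun _ => Nat) (Bool.rec (motive := fun _ => Nat) (Bool.rec (motive := fun _ => Nat) (Bool.rec (motive := fun _ => Nat) (0x100004a000584) (Bool.rec (motive := fun _ => Nat) (0x200004a00038c) (0x300004a00071c) (Nat.ble 294 i)) (Nat.ble 293 i)) (Bool.rec (motive := fun _ => Nat) (0x4b00052f) (Bool.rec (motive := fun _ => Nat) (0x100004b000c17) (0x200004b0007b4) (Nat.ble 297 i)) (Nat.ble 296 i)) (Nat.ble 295 i)) (Bool.rec (motive := fun _ => Nat) (Bool.rec (motive := fun _ => Nat) (0x300004b000543) (Bool.rec (motive := fun _ => Nat) (0x4c000317) (0x200004c000055) (Nat.ble 300 i))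 (Nat.ble 299 i)) (Bool.rec (motive := fun _ => Nat) (0x4d0003b5) (Bool.rec (motive := fun _ => Nat) (0x100004d000cb1) (0x200004d000677) (Nat.ble 303 i)) (Nat.ble 302 i)) (Nat.ble 301 i)) (Nat.ble 298 i)) (Bool.rec (motive := fun _ => Nat) (Bool.rec (motive := fun _ => Nat) (Bool.rec (motive := fun _ => Nat) (0x300004d000258) (Bool.rec (motive := fun _ => Nat) (0x4e000f04) (0x100004e000ba1) (Nat.ble 306 i)) (Nat.ble 305 i)) (Bool.rec (motive := fun _ => Nat) (0x200004e000780) (Bool.rec (motive := fun _ => Nat) (0x300004e000e82) (0x4f000a64) (Nat.ble 309 i)) (Nat.ble 308 i)) (Nat.ble 307 i)) (Bool.rec (motive := fun _ => Nat) (Bool.rec (motive := fun _ => Nat) (0x200004f000616) (Bool.rec (motive := fun _ => Nat) (0x300004f000067) (0x5000082f) (Nat.ble 312 i)) (Nat.ble 311 i)) (Bool.rec (motive := fun _ => Nat) (0x100005000078e) (Bool.rec (motive := fun _ => Nat) (0x2000050000788) (0x51000816) (Nat.ble 315 i)) (Nat.ble 314 i)) (Nat.ble 313 i)) (Nat.ble 310 i)) (Nat.ble 304 i)) (Bool.rec (motive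 := fun _ => Nat) (Bool.rec (motive := fun _ => Nat) (Bool.rec (motive := fun _ => Nat) (Bool.rec (motive := fun _ => Nat) (0x1000051000763) (Bool.rec (motive := fun _ => Nat) (0x2000051000632) (0x30000510006cd) (Nat.ble 318 i)) (Nat.ble 317 i)) (Bool.rec (motive := fun _ => Nat) (0x5200038a) (Bool.rec (motive := fun _ => Nat) (0x1000052000194) (0x2000052000a8b) (Nat.ble 321 i)) (Nat.ble 320 i)) (Nat.ble 319 i)) (Bool.rec (motive := fun _ => Nat) (Bool.rec (motive := fun _ => Nat) (0x3000052000366) (Bool.rec (motive := fun _ => Nat) (0x53000b34) (0x1000053000668) (Nat.ble 324 i)) (Nat.ble 323 i)) (Bool.rec (motive := fun _ => Nat) (0x200005300088a) (Bool.rec (motive := fun _ => Nat) (0x3000053000b25) (0x54000659) (Nat.ble 327 i)) (Nat.ble 326 i)) (Nat.ble 325 i)) (Nat.ble 322 i)) (Bool.rec (motive := fun _ => Nat) (Bool.rec (motive := fun _ => Nat) (Bool.rec (motive := fun _ => Nat) (0x1000054000b11) (Bool.rec (motive := fun _ => Nat) (0x2000054000403) (0x3000054000139) (Nat.ble 330 i)) (Nat.ble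 329 i)) (Bool.rec (motive := fun _ => Nat) (0x550004e8) (Bool.rec (motive := fun _ => Nat) (0x100005500031c) (0x2000055000640) (Nat.ble 333 i)) (Nat.ble 332 i)) (Nat.ble 331 i)) (Bool.rec (motive := fun _ => Nat) (Bool.rec (motive := fun _ => Nat) (0x300005500045a) (Bool.rec (motive := fun _ => Nat) (0x56000b9d) (0x1000056000c55) (Nat.ble 336 i)) (Nat.ble 335 i)) (Bool.rec (motive := fun _ => Nat) (Bool.rec (motive := fun _ => Nat) (0x20000560005ff) (0x30000560009e7) (Nat.ble 338 i)) (Bool.rec (motive := fun _ => Nat) (0x57000041) (0x10000570002d8) (Nat.ble 340 i)) (Nat.ble 339 i)) (Nat.ble 337 i)) (Nat.ble 334 i)) (Nat.ble 328 i)) (Nat.ble 316 i))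
noncomputable def CA1P_7 (i : Nat) : Nat := (Bool.rec (motive := fun _ => Nat) (Bool.rec (motive := fun _ => Nat) (Bool.rec (motive := fun _ => Nat) (Bool.rec (motive := fun _ => Nat) (Bool.rec (motive := fun _ => Nat) (0x2000057000990) (Bool.rec (motive := fun _ => Nat) (0x30000570004f7) (0x5800094f) (Nat.ble 343 i)) (Nat.ble 342 i)) (Bool.rec (motive := fun _ => Nat) (0x1000058000171) (Bool.rec (motive := fun _ => Nat) (0x20000580000df) (0x30000580003d9) (Nat.ble 346 i)) (Nat.ble 345 i)) (Nat.ble 344 i)) (Bool.rec (motive := fun _ => Nat) (Bool.rec (motive := fun _ => Nat) (0x59000024) (Bool.rec (motive := fun _ => Nat) (0x1000059000851) (0x20000590009dc) (Nat.ble 349 i)) (Nat.ble 348 i)) (Bool.rec (motive := fun _ => Nat) (0x3000059000760) (Bool.rec (motive := fun _ => Nat) (0x5a000136) (0x100005a000116) (Nat.ble 352 i)) (Nat.ble 351 i)) (Nat.ble 350 i)) (Nat.ble 347 i)) (Bool.rec (motive := fun _ => Nat) (Bool.rec (motive := fun _ => Nat) (Bool.rec (motive := fun _ => Nat) (0x200005a000d03)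 (Bool.rec (motive := fun _ => Nat) (0x300005a0002f9) (0x5b000697) (Nat.ble 355 i)) (Nat.ble 354 i)) (Bool.rec (motive := fun _ => Nat) (0x100005b000ab1) (Bool.rec (motive := fun _ => Nat) (0x200005b000b1e) (0x300005b000b27) (Nat.ble 358 i)) (Nat.ble 357 i)) (Nat.ble 356 i)) (Bool.rec (motive := fun _ => Nat) (Bool.rec (motive := fun _ => Nat) (0x5c000c8d) (Bool.rec (motive := fun _ => Nat) (0x100005c00053c) (0x200005c000f30) (Nat.ble 361 i)) (Nat.ble 360 i)) (Bool.rec (motive := fun _ => Nat) (0x300005c00082a) (Bool.rec (motive := fun _ => Nat) (0x5d000303) (0x200005d0001a3) (Nat.ble 364 i)) (Nat.ble 363 i)) (Nat.ble 362 i)) (Nat.ble 359 i)) (Nat.ble 353 i)) (Bool.rec (motive := fun _ => Nat) (Bool.rec (motive := fun _ => Nat) (Bool.rec (motive := fun _ => Nat) (Bool.rec (motive := fun _ => Nat) (0x300005d000308) (Bool.rec (motive := fun _ => Nat) (0x5e00090f) (0x100005e00004b) (Nat.ble 367 i)) (Nat.ble 366 i)) (Bool.rec (motive := fun _ => Nat) (0x200005e000d5d) (Bool.rec (motive := fun _ =>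 Nat) (0x300005e000514) (0x5f000a99) (Nat.ble 370 i)) (Nat.ble 369 i)) (Nat.ble 368 i)) (Bool.rec (motive := fun _ => Nat) (Bool.rec (motive := fun _ => Nat) (0x100005f000827) (Bool.rec (motive := fun _ => Nat) (0x200005f000c60) (0x300005f0002c4) (Nat.ble 373 i)) (Nat.ble 372 i)) (Bool.rec (motive := fun _ => Nat) (0x6000012e) (Bool.rec (motive := fun _ => Nat) (0x1000060000817) (0x2000060000b53) (Nat.ble 376 i)) (Nat.ble 375 i)) (Nat.ble 374 i)) (Nat.ble 371 i)) (Bool.rec (motive := fun _ => Nat) (Bool.rec (motive := fun _ => Nat) (Bool.rec (motive := fun _ => Nat) (0x3000060000645) (Bool.rec (motive := fun _ => Nat) (0x61000741) (0x1000061000f07) (Nat.ble 379 i)) (Nat.ble 378 i)) (Bool.rec (motive := fun _ => Nat) (0x2000061000ced) (Bool.rec (motive := fun _ => Nat) (0x3000061000240) (0x620005fe) (Nat.ble 382 i)) (Nat.ble 381 i)) (Nat.ble 380 i)) (Bool.rec (motive := fun _ => Nat) (Bool.rec (motive := fun _ => Nat) (0x1000062000860) (Bool.rec (motive := fun _ => Nat) (0x20000620003fd) (0x3000062000999)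 (Nat.ble 385 i)) (Nat.ble 384 i)) (Bool.rec (motive := fun _ => Nat) (Bool.rec (motive := fun _ => Nat) (0x63000c2d) (0x200006300029f) (Nat.ble 387 i)) (Bool.rec (motive := fun _ => Nat) (0x3000063000cc1) (0x640006f9) (Nat.ble 389 i)) (Nat.ble 388 i)) (Nat.ble 386 i)) (Nat.ble 383 i)) (Nat.ble 377 i)) (Nat.ble 365 i))
noncomputable def CA1P_8 (i : Nat) : Nat := (Bool.rec (motive := fun _ => Nat) (Bool.rec (motive := fun _ => Nat) (Bool.rec (motive := fun _ => Nat) (Bool.rec (motive := fun _ => Nat) (Bool.rec (motive := fun _ => Nat) (0x1000064000d00) (Bool.rec (motive := fun _ => Nat) (0x2000064000bb2) (0x3000064000942) (Nat.ble 392 i)) (Nat.ble 391 i)) (Bool.rec (motive := fun _ => Nat) (0x65000165) (Bool.rec (motive := fun _ => Nat) (0x1000065000268) (0x2000065000724) (Nat.ble 395 i)) (Nat.ble 394 i)) (Nat.ble 393 i)) (Bool.rec (motive := fun _ => Nat) (Bool.rec (motive := fun _ => Nat) (0x30000650004d1) (Bool.rec (motive := fun _ => Nat) (0x66000992) (0x10000660002bd) (Nat.ble 398 i)) (Nat.ble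 397 i)) (Bool.rec (motive := fun _ => Nat) (0x2000066000d15) (Bool.rec (motive := fun _ => Nat) (0x3000066000b84) (0x67000113) (Nat.ble 401 i)) (Nat.ble 400 i)) (Nat.ble 399 i)) (Nat.ble 396 i)) (Bool.rec (motive := fun _ => Nat) (Bool.rec (motive := fun _ => Nat) (Bool.rec (motive := fun _ => Nat) (0x10000670001b0) (Bool.rec (motive := fun _ => Nat) (0x2000067000695) (0x3000067000ca3) (Nat.ble 404 i)) (Nat.ble 403 i)) (Bool.rec (motive := fun _ => Nat) (0x6800040a) (Bool.rec (motive := fun _ => Nat) (0x1000068000062) (0x3000068000ce9) (Nat.ble 407 i)) (Nat.ble 406 i)) (Nat.ble 405 i)) (Bool.rec (motive := fun _ => Nat) (Bool.rec (motive := fun _ => Nat) (0x69000a58) (Bool.rec (motive := fun _ => Nat) (0x10000690000e9) (0x2000069000889) (Nat.ble 410 i)) (Nat.ble 409 i)) (Bool.rec (motive := fun _ => Nat) (0x3000069000c58) (Bool.rec (motive := fun _ => Nat) (0x6a000ad0) (0x100006a000efb) (Nat.ble 413 i)) (Nat.ble 412 i)) (Nat.ble 411 i)) (Nat.ble 408 i)) (Nat.ble 402 i)) (Bool.rec (motive :=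 fun _ => Nat) (Bool.rec (motive := fun _ => Nat) (Bool.rec (motive := fun _ => Nat) (Bool.rec (motive := fun _ => Nat) (0x200006a000958) (Bool.rec (motive := fun _ => Nat) (0x300006a00064e) (0x6b000c4f) (Nat.ble 416 i)) (Nat.ble 415 i)) (Bool.rec (motive := fun _ => Nat) (0x100006b000975) (Bool.rec (motive := fun _ => Nat) (0x200006b000a10) (0x300006b00011a) (Nat.ble 419 i)) (Nat.ble 418 i)) (Nat.ble 417 i)) (Bool.rec (motive := fun _ => Nat) (Bool.rec (motive := fun _ => Nat) (0x6c000995) (Bool.rec (motive := fun _ => Nat) (0x100006c000555) (0x200006c000d72) (Nat.ble 422 i)) (Nat.ble 421 i)) (Bool.rec (motive := fun _ => Nat) (0x300006c00054c) (Bool.rec (motive := fun _ => Nat) (0x6d000d22) (0x100006d000507) (Nat.ble 425 i)) (Nat.ble 424 i)) (Nat.ble 423 i)) (Nat.ble 420 i)) (Bool.rec (motive := fun _ => Nat) (Bool.rec (motive := fun _ => Nat) (Bool.rec (motive := fun _ => Nat) (0x300006d000747) (Bool.rec (motive := fun _ => Nat) (0x6e000925) (0x100006e000130) (Nat.ble 428 i)) (Nat.ble 427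 i)) (Bool.rec (motive := fun _ => Nat) (0x200006e0003cf) (Bool.rec (motive := fun _ => Nat) (0x300006e000748) (0x6f000d31) (Nat.ble 431 i)) (Nat.ble 430 i)) (Nat.ble 429 i)) (Bool.rec (motive := fun _ => Nat) (Bool.rec (motive := fun _ => Nat) (0x100006f000c59) (Bool.rec (motive := fun _ => Nat) (0x200006f0006c6) (0x300006f00029b) (Nat.ble 434 i)) (Nat.ble 433 i)) (Bool.rec (motive := fun _ => Nat) (0x70000dc8) (Bool.rec (motive := fun _ => Nat) (0x2000070000327) (0x30000700002de) (Nat.ble 437 i)) (Nat.ble 436 i)) (Nat.ble 435 i)) (Nat.ble 432 i)) (Nat.ble 426 i)) (Nat.ble 414 i))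
noncomputable def CA1P_9 (i : Nat) : Nat := (Bool.rec (motive := fun _ => Nat) (Bool.rec (motive := fun _ => Nat) (Bool.rec (motive := fun _ => Nat) (Bool.rec (motive := fun _ => Nat) (Bool.rec (motive := fun _ => Nat) (0x710007a9) (Bool.rec (motive := fun _ => Nat) (0x1000071000ac5) (0x30000710000ad) (Nat.ble 440 i)) (Nat.ble 439 i)) (Bool.rec (motive := fun _ => Nat) (0x72000e85) (Bool.rec (motive := fun _ => Nat) (0x20000720008dd) (0x30000720008e8) (Nat.ble 443 i)) (Nat.ble 442 i)) (Nat.ble 441 i)) (Bool.rec (motive := fun _ => Nat) (Bool.rec (motive := fun _ => Nat) (0x73000331) (Bool.rec (motive := fun _ => Nat) (0x1000073000cae) (0x2000073000a5d) (Nat.ble 446 i)) (Nat.ble 445 i)) (Bool.rec (motive := fun _ => Nat) (0x30000730003b4) (Bool.rec (motive := fun _ => Nat) (0x74000e52) (0x1000074000639) (Nat.ble 449 i)) (Nat.ble 448 i)) (Nat.ble 447 i)) (Nat.ble 444 i)) (Bool.rec (motive := fun _ => Nat) (Bool.rec (motive := fun _ => Nat) (Bool.rec (motive := fun _ => Nat) (0x20000740002ad) (Bool.rec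 (motive := fun _ => Nat) (0x3000074000701) (0x75000be1) (Nat.ble 452 i)) (Nat.ble 451 i)) (Bool.rec (motive := fun _ => Nat) (0x100007500046a) (Bool.rec (motive := fun _ => Nat) (0x2000075000eed) (0x3000075000972) (Nat.ble 455 i)) (Nat.ble 454 i)) (Nat.ble 453 i)) (Bool.rec (motive := fun _ => Nat) (Bool.rec (motive := fun _ => Nat) (0x76000045) (Bool.rec (motive := fun _ => Nat) (0x1000076000657) (0x2000076000bc0) (Nat.ble 458 i)) (Nat.ble 457 i)) (Bool.rec (motive := fun _ => Nat) (0x300007600049b) (Bool.rec (motive := fun _ => Nat) (0x77000c27) (0x1000077000f0b) (Nat.ble 461 i)) (Nat.ble 460 i)) (Nat.ble 459 i)) (Nat.ble 456 i)) (Nat.ble 450 i)) (Bool.rec (motive := fun _ => Nat) (Bool.rec (motive := fun _ => Nat) (Bool.rec (motive := fun _ => Nat) (Bool.rec (motive := fun _ => Nat) (0x3000077000a69) (Bool.rec (motive := fun _ => Nat) (0x78000ee0) (0x1000078000da2) (Nat.ble 464 i)) (Nat.ble 463 i)) (Bool.rec (motive := fun _ => Nat) (0x2000078000a6c) (Bool.rec (motive := fun _ => Nat) (0x3000078000b46)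 (0x79000837) (Nat.ble 467 i)) (Nat.ble 466 i)) (Nat.ble 465 i)) (Bool.rec (motive := fun _ => Nat) (Bool.rec (motive := fun _ => Nat) (0x10000790006b7) (Bool.rec (motive := fun _ => Nat) (0x20000790009ff) (0x3000079000c32) (Nat.ble 470 i)) (Nat.ble 469 i)) (Bool.rec (motive := fun _ => Nat) (0x7a000dd8) (Bool.rec (motive := fun _ => Nat) (0x100007a000a62) (0x200007a00032e) (Nat.ble 473 i)) (Nat.ble 472 i)) (Nat.ble 471 i)) (Nat.ble 468 i)) (Bool.rec (motive := fun _ => Nat) (Bool.rec (motive := fun _ => Nat) (Bool.rec (motive := fun _ => Nat) (0x300007a000993) (Bool.rec (motive := fun _ => Nat) (0x7b00083f) (0x100007b000e76) (Nat.ble 476 i)) (Nat.ble 475 i)) (Bool.rec (motive := fun _ => Nat) (0x200007b000886) (Bool.rec (motive := fun _ => Nat) (0x300007b000aab) (0x7c00083c) (Nat.ble 479 i)) (Nat.ble 478 i)) (Nat.ble 477 i)) (Bool.rec (motive := fun _ => Nat) (Bool.rec (motive := fun _ => Nat) (0x100007c0005b5) (Bool.rec (motive := fun _ => Nat) (0x200007c0004ee) (0x300007c000bab) (Nat.ble 482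 i)) (Nat.ble 481 i)) (Bool.rec (motive := fun _ => Nat) (Bool.rec (motive := fun _ => Nat) (0x100007d000d8c) (0x200007d000af0) (Nat.ble 484 i)) (Bool.rec (motive := fun _ => Nat) (0x300007d0009b2) (0x7e000f31) (Nat.ble 486 i)) (Nat.ble 485 i)) (Nat.ble 483 i)) (Nat.ble 480 i)) (Nat.ble 474 i)) (Nat.ble 462 i))
noncomputable def CA1P_10 (i : Nat) : Nat := (Bool.rec (motive := fun _ => Nat) (Bool.rec (motive := fun _ => Nat) (Bool.rec (motive := fun _ => Nat) (Bool.rec (motive := fun _ => Nat) (Bool.rec (motive := fun _ => Nat) (0x100007e00013f) (Bool.rec (motive := fun _ => Nat) (0x200007e0002d5) (0x300007e000571) (Nat.ble 489 i)) (Nat.ble 488 i)) (Bool.rec (motive := fun _ => Nat) (0x7f000c95) (Bool.rec (motive := fun _ => Nat) (0x100007f000917) (0x200007f000df1) (Nat.ble 492 i)) (Nat.ble 491 i)) (Nat.ble 490 i)) (Bool.rec (motive := fun _ => Nat) (Bool.rec (motive := fun _ => Nat) (0x300007f000c0c) (Bool.rec (motive := fun _ => Nat) (0x80000a72) (0x1000080000b81) (Nat.ble 495 i)) (Nat.ble 494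 i)) (Bool.rec (motive := fun _ => Nat) (0x2000080000885) (Bool.rec (motive := fun _ => Nat) (0x3000080000e74) (0x81000ac6) (Nat.ble 498 i)) (Nat.ble 497 i)) (Nat.ble 496 i)) (Nat.ble 493 i)) (Bool.rec (motive := fun _ => Nat) (Bool.rec (motive := fun _ => Nat) (Bool.rec (motive := fun _ => Nat) (0x10000810007fd) (Bool.rec (motive := fun _ => Nat) (0x20000810006d6) (0x82000b7d) (Nat.ble 501 i)) (Nat.ble 500 i)) (Bool.rec (motive := fun _ => Nat) (0x1000082000513) (Bool.rec (motive := fun _ => Nat) (0x2000082000848) (0x3000082000460) (Nat.ble 504 i)) (Nat.ble 503 i)) (Nat.ble 502 i)) (Bool.rec (motive := fun _ => Nat) (Bool.rec (motive := fun _ => Nat) (0x83000984) (Bool.rec (motive := fun _ => Nat) (0x1000083000a53) (0x20000830008fc) (Nat.ble 507 i)) (Nat.ble 506 i)) (Bool.rec (motive := fun _ => Nat) (0x84000bc8) (Bool.rec (motive := fun _ => Nat) (0x2000084000752) (0x3000084000261) (Nat.ble 510 i)) (Nat.ble 509 i)) (Nat.ble 508 i)) (Nat.ble 505 i)) (Nat.ble 499 i)) (Bool.rec (motive := fun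 _ => Nat) (Bool.rec (motive := fun _ => Nat) (Bool.rec (motive := fun _ => Nat) (Bool.rec (motive := fun _ => Nat) (0x8500007b) (Bool.rec (motive := fun _ => Nat) (0x10000850007ff) (0x200008500075b) (Nat.ble 513 i)) (Nat.ble 512 i)) (Bool.rec (motive := fun _ => Nat) (0x300008500016e) (Bool.rec (motive := fun _ => Nat) (0x86000ae4) (0x1000086000974) (Nat.ble 516 i)) (Nat.ble 515 i)) (Nat.ble 514 i)) (Bool.rec (motive := fun _ => Nat) (Bool.rec (motive := fun _ => Nat) (0x2000086000bbb) (Bool.rec (motive := fun _ => Nat) (0x3000086000cf9) (0x87000527) (Nat.ble 519 i)) (Nat.ble 518 i)) (Bool.rec (motive := fun _ => Nat) (0x1000087000148) (Bool.rec (motive := fun _ => Nat) (0x20000870000ee) (0x3000087000c12) (Nat.ble 522 i)) (Nat.ble 521 i)) (Nat.ble 520 i)) (Nat.ble 517 i)) (Bool.rec (motive := fun _ => Nat) (Bool.rec (motive := fun _ => Nat) (Bool.rec (motive := fun _ => Nat) (0x880002b1) (Bool.rec (motive := fun _ => Nat) (0x2000088000b45) (0x3000088000948) (Nat.ble 525 i)) (Nat.ble 524 i))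 (Bool.rec (motive := fun _ => Nat) (0x100008900082d) (Bool.rec (motive := fun _ => Nat) (0x2000089000c26) (0x3000089000744) (Nat.ble 528 i)) (Nat.ble 527 i)) (Nat.ble 526 i)) (Bool.rec (motive := fun _ => Nat) (Bool.rec (motive := fun _ => Nat) (0x100008a0008f6) (Bool.rec (motive := fun _ => Nat) (0x300008a000ae0) (0x8b000bc6) (Nat.ble 531 i)) (Nat.ble 530 i)) (Bool.rec (motive := fun _ => Nat) (Bool.rec (motive := fun _ => Nat) (0x100008b000d7d) (0x200008b00098a) (Nat.ble 533 i)) (Bool.rec (motive := fun _ => Nat) (0x300008b0000e3) (0x8c0006fa) (Nat.ble 535 i)) (Nat.ble 534 i)) (Nat.ble 532 i)) (Nat.ble 529 i)) (Nat.ble 523 i)) (Nat.ble 511 i))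
noncomputable def CA1P_11 (i : Nat) : Nat := (Bool.rec (motive := fun _ => Nat) (Bool.rec (motive := fun _ => Nat) (Bool.rec (motive := fun _ => Nat) (Bool.rec (motive := fun _ => Nat) (Bool.rec (motive := fun _ => Nat) (0x100008c00035c) (Bool.rec (motive := fun _ => Nat) (0x200008c0009a7) (0x300008c000a7f) (Nat.ble 538 i)) (Nat.ble 537 i)) (Bool.rec (motive := fun _ => Nat) (0x100008d000964) (Bool.rec (motive := fun _ => Nat) (0x200008d0007da) (0x300008d00060c) (Nat.ble 541 i)) (Nat.ble 540 i)) (Nat.ble 539 i)) (Bool.rec (motive := fun _ => Nat) (Bool.rec (motive := fun _ => Nat) (0x8e00074f) (Bool.rec (motive := fun _ => Nat) (0x100008e000284) (0x200008e00014f) (Nat.ble 544 i)) (Nat.ble 543 i)) (Bool.rec (motive := fun _ => Nat) (0x300008e000946) (Bool.rec (motive := fun _ => Nat) (0x8f0007d1) (0x100008f0004dd) (Nat.ble 547 i)) (Nat.ble 546 i)) (Nat.ble 545 i)) (Nat.ble 542 i)) (Bool.rec (motive := fun _ => Nat) (Bool.rec (motive := fun _ => Nat) (Bool.rec (motive := fun _ => Nat) (0x200008f000dec)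 (Bool.rec (motive := fun _ => Nat) (0x300008f0007a8) (0x90000b7a) (Nat.ble 550 i)) (Nat.ble 549 i)) (Bool.rec (motive := fun _ => Nat) (0x100009000092c) (Bool.rec (motive := fun _ => Nat) (0x2000090000079) (0x3000090000ee4) (Nat.ble 553 i)) (Nat.ble 552 i)) (Nat.ble 551 i)) (Bool.rec (motive := fun _ => Nat) (Bool.rec (motive := fun _ => Nat) (0x91000768) (Bool.rec (motive := fun _ => Nat) (0x100009100071d) (0x2000091000477) (Nat.ble 556 i)) (Nat.ble 555 i)) (Bool.rec (motive := fun _ => Nat) (0x92000ea0) (Bool.rec (motive := fun _ => Nat) (0x1000092000c20) (0x30000920000bf) (Nat.ble 559 i)) (Nat.ble 558 i)) (Nat.ble 557 i)) (Nat.ble 554 i)) (Nat.ble 548 i)) (Bool.rec (motive := fun _ => Nat) (Bool.rec (motive := fun _ => Nat) (Bool.rec (motive := fun _ => Nat) (Bool.rec (motive := fun _ => Nat) (0x1000093000f22) (Bool.rec (motive := fun _ => Nat) (0x2000093000b06) (0x3000093000e56) (Nat.ble 562 i)) (Nat.ble 561 i)) (Bool.rec (motive := fun _ => Nat) (0x94000e3a) (Bool.rec (motive := fun _ =>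 Nat) (0x1000094000304) (0x2000094000126) (Nat.ble 565 i)) (Nat.ble 564 i)) (Nat.ble 563 i)) (Bool.rec (motive := fun _ => Nat) (Bool.rec (motive := fun _ => Nat) (0x3000094000e75) (Bool.rec (motive := fun _ => Nat) (0x950005d9) (0x1000095000b32) (Nat.ble 568 i)) (Nat.ble 567 i)) (Bool.rec (motive := fun _ => Nat) (0x2000095000d07) (Bool.rec (motive := fun _ => Nat) (0x30000950006f1) (0x100009600003d) (Nat.ble 571 i)) (Nat.ble 570 i)) (Nat.ble 569 i)) (Nat.ble 566 i)) (Bool.rec (motive := fun _ => Nat) (Bool.rec (motive := fun _ => Nat) (Bool.rec (motive := fun _ => Nat) (0x2000096000df8) (Bool.rec (motive := fun _ => Nat) (0x3000096000083) (0x97000d3f) (Nat.ble 574 i)) (Nat.ble 573 i)) (Bool.rec (motive := fun _ => Nat) (0x10000970008fd) (Bool.rec (motive := fun _ => Nat) (0x2000097000b97) (0x30000970004ba) (Nat.ble 577 i)) (Nat.ble 576 i)) (Nat.ble 575 i)) (Bool.rec (motive := fun _ => Nat) (Bool.rec (motive := fun _ => Nat) (0x980006ef) (Bool.rec (motive := fun _ => Nat) (0x10000980004fe)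 (0x2000098000f11) (Nat.ble 580 i)) (Nat.ble 579 i)) (Bool.rec (motive := fun _ => Nat) (Bool.rec (motive := fun _ => Nat) (0x300009800047a) (0x99000906) (Nat.ble 582 i)) (Bool.rec (motive := fun _ => Nat) (0x1000099000266) (0x2000099000e25) (Nat.ble 584 i)) (Nat.ble 583 i)) (Nat.ble 581 i)) (Nat.ble 578 i)) (Nat.ble 572 i)) (Nat.ble 560 i))
noncomputable def CA1P_12 (i : Nat) : Nat := (Bool.rec (motive := fun _ => Nat) (Bool.rec (motive := fun _ => Nat) (Bool.rec (motive := fun _ => Nat) (Bool.rec (motive := fun _ => Nat) (Bool.rec (motive := fun _ => Nat) (0x3000099000dd5) (Bool.rec (motive := fun _ => Nat) (0x9a0003d3) (0x100009a000830) (Nat.ble 587 i)) (Nat.ble 586 i)) (Bool.rec (motive := fun _ => Nat) (0x200009a000b15) (Bool.rec (motive := fun _ => Nat) (0x300009a000c2b) (0x100009b0006c7) (Nat.ble 590 i)) (Nat.ble 589 i)) (Nat.ble 588 i)) (Bool.rec (motive := fun _ => Nat) (Bool.rec (motive := fun _ => Nat) (0x200009b000679) (Bool.rec (motive := fun _ => Nat) (0x300009b000907) (0x100009c000436)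 (Nat.ble 593 i)) (Nat.ble 592 i)) (Bool.rec (motive := fun _ => Nat) (0x200009c000f19) (Bool.rec (motive := fun _ => Nat) (0x300009c000eb8) (0x9d000611) (Nat.ble 596 i)) (Nat.ble 595 i)) (Nat.ble 594 i)) (Nat.ble 591 i)) (Bool.rec (motive := fun _ => Nat) (Bool.rec (motive := fun _ => Nat) (Bool.rec (motive := fun _ => Nat) (0x100009d00005b) (Bool.rec (motive := fun _ => Nat) (0x200009d000be7) (0x9e000bc3) (Nat.ble 599 i)) (Nat.ble 598 i)) (Bool.rec (motive := fun _ => Nat) (0x100009e000d06) (Bool.rec (motive := fun _ => Nat) (0x200009e000f3b) (0x300009e000c04) (Nat.ble 602 i)) (Nat.ble 601 i)) (Nat.ble 600 i)) (Bool.rec (motive := fun _ => Nat) (Bool.rec (motive := fun _ => Nat) (0x9f00048e) (Bool.rec (motive := fun _ => Nat) (0x200009f000a0b) (0x300009f000173) (Nat.ble 605 i)) (Nat.ble 604 i)) (Bool.rec (motive := fun _ => Nat) (0x10000a000080f) (Bool.rec (motive := fun _ => Nat) (0x20000a000011d) (0x30000a0000b6d) (Nat.ble 608 i)) (Nat.ble 607 i)) (Nat.ble 606 i)) (Nat.ble 603 i)) (Nat.ble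 597 i)) (Bool.rec (motive := fun _ => Nat) (Bool.rec (motive := fun _ => Nat) (Bool.rec (motive := fun _ => Nat) (Bool.rec (motive := fun _ => Nat) (0xa1000c5a) (Bool.rec (motive := fun _ => Nat) (0x10000a10009e3) (0x30000a1000105) (Nat.ble 611 i)) (Nat.ble 610 i)) (Bool.rec (motive := fun _ => Nat) (0xa2000823) (Bool.rec (motive := fun _ => Nat) (0x10000a2000dbb) (0x20000a2000e98) (Nat.ble 614 i)) (Nat.ble 613 i)) (Nat.ble 612 i)) (Bool.rec (motive := fun _ => Nat) (Bool.rec (motive := fun _ => Nat) (0x30000a20007b3) (Bool.rec (motive := fun _ => Nat) (0xa300033a) (0x10000a3000f24) (Nat.ble 617 i)) (Nat.ble 616 i)) (Bool.rec (motive := fun _ => Nat) (0x20000a30004fb) (Bool.rec (motive := fun _ => Nat) (0x30000a3000586) (0xa4000822) (Nat.ble 620 i)) (Nat.ble 619 i)) (Nat.ble 618 i)) (Nat.ble 615 i)) (Bool.rec (motive := fun _ => Nat) (Bool.rec (motive := fun _ => Nat) (Bool.rec (motive := fun _ => Nat) (0x10000a4000c7a) (Bool.rec (motive := fun _ => Nat) (0x20000a4000a14) (0x30000a4000eee) (Nat.ble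 623 i)) (Nat.ble 622 i)) (Bool.rec (motive := fun _ => Nat) (0xa5000b0d) (Bool.rec (motive := fun _ => Nat) (0x30000a5000172) (0xa600065e) (Nat.ble 626 i)) (Nat.ble 625 i)) (Nat.ble 624 i)) (Bool.rec (motive := fun _ => Nat) (Bool.rec (motive := fun _ => Nat) (0x10000a6000ce2) (Bool.rec (motive := fun _ => Nat) (0x20000a600073f) (0x30000a600007c) (Nat.ble 629 i)) (Nat.ble 628 i)) (Bool.rec (motive := fun _ => Nat) (Bool.rec (motive := fun _ => Nat) (0xa700078a) (0x10000a7000298) (Nat.ble 631 i)) (Bool.rec (motive := fun _ => Nat) (0x30000a7000869) (0xa80006a7) (Nat.ble 633 i)) (Nat.ble 632 i)) (Nat.ble 630 i)) (Nat.ble 627 i)) (Nat.ble 621 i)) (Nat.ble 609 i))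
noncomputable def CA1P_13 (i : Nat) : Nat := (Bool.rec (motive := fun _ => Nat) (Bool.rec (motive := fun _ => Nat) (Bool.rec (motive := fun _ => Nat) (Bool.rec (motive := fun _ => Nat) (Bool.rec (motive := fun _ => Nat) (0x20000a8000ccf) (Bool.rec (motive := fun _ => Nat) (0x30000a8000288) (0xa9000685) (Nat.ble 636 i)) (Nat.ble 635 i)) (Bool.rec (motive := fun _ => Nat) (0x10000a9000b9f) (Bool.rec (motive := fun _ => Nat) (0x20000a9000b2a) (0x30000a9000772) (Nat.ble 639 i)) (Nat.ble 638 i)) (Nat.ble 637 i)) (Bool.rec (motive := fun _ => Nat) (Bool.rec (motive := fun _ => Nat) (0xaa000a48) (Bool.rec (motive := fun _ => Nat) (0x10000aa00007f) (0x20000aa000361) (Nat.ble 642 i)) (Nat.ble 641 i)) (Bool.rec (motive := fun _ => Nat) (0x30000aa000ce6) (Bool.rec (motive := fun _ => Nat) (0xab000d8b) (0x10000ab000a0a) (Nat.ble 645 i)) (Nat.ble 644 i)) (Nat.ble 643 i)) (Nat.ble 640 i)) (Bool.rec (motive := fun _ => Nat) (Bool.rec (motive := fun _ => Nat) (Bool.rec (motive := fun _ => Nat) (0x20000ab000b17)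 (Bool.rec (motive := fun _ => Nat) (0xac000353) (0x10000ac000e2f) (Nat.ble 648 i)) (Nat.ble 647 i)) (Bool.rec (motive := fun _ => Nat) (0x20000ac000267) (Bool.rec (motive := fun _ => Nat) (0x30000ac00085c) (0x10000ad0002a4) (Nat.ble 651 i)) (Nat.ble 650 i)) (Nat.ble 649 i)) (Bool.rec (motive := fun _ => Nat) (Bool.rec (motive := fun _ => Nat) (0x20000ad000a88) (Bool.rec (motive := fun _ => Nat) (0x30000ad00073d) (0xae000ab6) (Nat.ble 654 i)) (Nat.ble 653 i)) (Bool.rec (motive := fun _ => Nat) (0x10000ae000dfb) (Bool.rec (motive := fun _ => Nat) (0x20000ae000c4c) (0x30000ae00094d) (Nat.ble 657 i)) (Nat.ble 656 i)) (Nat.ble 655 i)) (Nat.ble 652 i)) (Nat.ble 646 i)) (Bool.rec (motive := fun _ => Nat) (Bool.rec (motive := fun _ => Nat) (Bool.rec (motive := fun _ => Nat) (Bool.rec (motive := fun _ => Nat) (0x10000af000665) (Bool.rec (motive := fun _ => Nat) (0x20000af000910) (0x30000af0007bf) (Nat.ble 660 i)) (Nat.ble 659 i)) (Bool.rec (motive := fun _ => Nat) (0xb0000379) (Bool.rec (motive := fun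 _ => Nat) (0x20000b000058d) (0xb1000b8f) (Nat.ble 663 i)) (Nat.ble 662 i)) (Nat.ble 661 i)) (Bool.rec (motive := fun _ => Nat) (Bool.rec (motive := fun _ => Nat) (0x20000b10004e4) (Bool.rec (motive := fun _ => Nat) (0x30000b1000898) (0xb2000b93) (Nat.ble 666 i)) (Nat.ble 665 i)) (Bool.rec (motive := fun _ => Nat) (0x10000b2000e66) (Bool.rec (motive := fun _ => Nat) (0x20000b2000daa) (0x30000b2000efd) (Nat.ble 669 i)) (Nat.ble 668 i)) (Nat.ble 667 i)) (Nat.ble 664 i)) (Bool.rec (motive := fun _ => Nat) (Bool.rec (motive := fun _ => Nat) (Bool.rec (motive := fun _ => Nat) (0xb3000280) (Bool.rec (motive := fun _ => Nat) (0x10000b3000969) (0x20000b3000e63) (Nat.ble 672 i)) (Nat.ble 671 i)) (Bool.rec (motive := fun _ => Nat) (0xb4000515) (Bool.rec (motive := fun _ => Nat) (0x10000b400006f) (0x20000b4000db8) (Nat.ble 675 i)) (Nat.ble 674 i)) (Nat.ble 673 i)) (Bool.rec (motive := fun _ => Nat) (Bool.rec (motive := fun _ => Nat) (0x30000b4000d65) (Bool.rec (motive := fun _ => Nat) (0xb5000f1e) (0x10000b5000cf3)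 (Nat.ble 678 i)) (Nat.ble 677 i)) (Bool.rec (motive := fun _ => Nat) (Bool.rec (motive := fun _ => Nat) (0x30000b50001f4) (0xb6000439) (Nat.ble 680 i)) (Bool.rec (motive := fun _ => Nat) (0x10000b6000360) (0x20000b60006f8) (Nat.ble 682 i)) (Nat.ble 681 i)) (Nat.ble 679 i)) (Nat.ble 676 i)) (Nat.ble 670 i)) (Nat.ble 658 i))
noncomputable def CA1P_14 (i : Nat) : Nat := (Bool.rec (motive := fun _ => Nat) (Bool.rec (motive := fun _ => Nat) (Bool.rec (motive := fun _ => Nat) (Bool.rec (motive := fun _ => Nat) (Bool.rec (motive := fun _ => Nat) (0x30000b6000535) (Bool.rec (motive := fun _ => Nat) (0xb70007f1) (0x10000b700060a) (Nat.ble 685 i)) (Nat.ble 684 i)) (Bool.rec (motive := fun _ => Nat) (0x20000b7000cea) (Bool.rec (motive := fun _ => Nat) (0x30000b700043a) (0xb80005d1) (Nat.ble 688 i)) (Nat.ble 687 i)) (Nat.ble 686 i)) (Bool.rec (motive := fun _ => Nat) (Bool.rec (motive := fun _ => Nat) (0x10000b8000259) (Bool.rec (motive := fun _ => Nat) (0x20000b8000d1b) (0x30000b8000852) (Nat.ble 691 i))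 (Nat.ble 690 i)) (Bool.rec (motive := fun _ => Nat) (0x10000b9000a49) (Bool.rec (motive := fun _ => Nat) (0x20000b90003ec) (0x30000b90003bd) (Nat.ble 694 i)) (Nat.ble 693 i)) (Nat.ble 692 i)) (Nat.ble 689 i)) (Bool.rec (motive := fun _ => Nat) (Bool.rec (motive := fun _ => Nat) (Bool.rec (motive := fun _ => Nat) (0xba000e65) (Bool.rec (motive := fun _ => Nat) (0x10000ba000b51) (0x20000ba000cd3) (Nat.ble 697 i)) (Nat.ble 696 i)) (Bool.rec (motive := fun _ => Nat) (0x30000ba00015a) (Bool.rec (motive := fun _ => Nat) (0xbb000ac3) (0x10000bb000940) (Nat.ble 700 i)) (Nat.ble 699 i)) (Nat.ble 698 i)) (Bool.rec (motive := fun _ => Nat) (Bool.rec (motive := fun _ => Nat) (0x20000bb00006b) (Bool.rec (motive := fun _ => Nat) (0x30000bb000510) (0xbc00069f) (Nat.ble 703 i)) (Nat.ble 702 i)) (Bool.rec (motive := fun _ => Nat) (0x20000bc00011e) (Bool.rec (motive := fun _ => Nat) (0x30000bc000642) (0x10000bd000db3) (Nat.ble 706 i)) (Nat.ble 705 i)) (Nat.ble 704 i)) (Nat.ble 701 i)) (Nat.ble 695 i)) (Bool.rec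 (motive := fun _ => Nat) (Bool.rec (motive := fun _ => Nat) (Bool.rec (motive := fun _ => Nat) (Bool.rec (motive := fun _ => Nat) (0x20000bd000654) (Bool.rec (motive := fun _ => Nat) (0x30000bd000a15) (0xbe000470) (Nat.ble 709 i)) (Nat.ble 708 i)) (Bool.rec (motive := fun _ => Nat) (0x10000be000e2e) (Bool.rec (motive := fun _ => Nat) (0x20000be000e8a) (0x30000be0000b1) (Nat.ble 712 i)) (Nat.ble 711 i)) (Nat.ble 710 i)) (Bool.rec (motive := fun _ => Nat) (Bool.rec (motive := fun _ => Nat) (0xbf0000e4) (Bool.rec (motive := fun _ => Nat) (0x20000bf000717) (0xc0000c70) (Nat.ble 715 i)) (Nat.ble 714 i)) (Bool.rec (motive := fun _ => Nat) (0x10000c0000bf5) (Bool.rec (motive := fun _ => Nat) (0x20000c0000eae) (0x30000c0000075) (Nat.ble 718 i)) (Nat.ble 717 i)) (Nat.ble 716 i)) (Nat.ble 713 i)) (Bool.rec (motive := fun _ => Nat) (Bool.rec (motive := fun _ => Nat) (Bool.rec (motive := fun _ => Nat) (0xc1000143) (Bool.rec (motive := fun _ => Nat) (0x10000c10006db) (0x20000c1000769) (Nat.ble 721 i)) (Nat.ble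 720 i)) (Bool.rec (motive := fun _ => Nat) (0x30000c1000135) (Bool.rec (motive := fun _ => Nat) (0x10000c200080e) (0x10000c3000e6c) (Nat.ble 724 i)) (Nat.ble 723 i)) (Nat.ble 722 i)) (Bool.rec (motive := fun _ => Nat) (Bool.rec (motive := fun _ => Nat) (0x20000c3000ab4) (Bool.rec (motive := fun _ => Nat) (0x30000c3000e48) (0x10000c400081b) (Nat.ble 727 i)) (Nat.ble 726 i)) (Bool.rec (motive := fun _ => Nat) (Bool.rec (motive := fun _ => Nat) (0x20000c4000980) (0x30000c4000d08) (Nat.ble 729 i)) (Bool.rec (motive := fun _ => Nat) (0xc50001f3) (0x20000c50005a0) (Nat.ble 731 i)) (Nat.ble 730 i)) (Nat.ble 728 i)) (Nat.ble 725 i)) (Nat.ble 719 i)) (Nat.ble 707 i))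
noncomputable def CA1P_15 (i : Nat) : Nat := (Bool.rec (motive := fun _ => Nat) (Bool.rec (motive := fun _ => Nat) (Bool.rec (motive := fun _ => Nat) (Bool.rec (motive := fun _ => Nat) (Bool.rec (motive := fun _ => Nat) (0x30000c5000e34) (Bool.rec (motive := fun _ => Nat) (0xc6000c6a) (0x10000c6000ca9) (Nat.ble 734 i)) (Nat.ble 733 i)) (Bool.rec (motive := fun _ => Nat) (0x30000c6000b7b) (Bool.rec (motive := fun _ => Nat) (0xc7000eab) (0x10000c7000eca) (Nat.ble 737 i)) (Nat.ble 736 i)) (Nat.ble 735 i)) (Bool.rec (motive := fun _ => Nat) (Bool.rec (motive := fun _ => Nat) (0x20000c7000be2) (Bool.rec (motive := fun _ => Nat) (0x30000c7000d73) (0xc80000b4) (Nat.ble 740 i)) (Nat.ble 739 i)) (Bool.rec (motive := fun _ => Nat) (0x10000c80001f5) (Bool.rec (motive := fun _ => Nat) (0x20000c8000baf) (0x30000c8000da5) (Nat.ble 743 i)) (Nat.ble 742 i)) (Nat.ble 741 i)) (Nat.ble 738 i)) (Bool.rec (motive := fun _ => Nat) (Bool.rec (motive := fun _ => Nat) (Bool.rec (motive := fun _ => Nat) (0xc900085a)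 (Bool.rec (motive := fun _ => Nat) (0x10000c9000da7) (0x20000c9000449) (Nat.ble 746 i)) (Nat.ble 745 i)) (Bool.rec (motive := fun _ => Nat) (0x30000c90002a0) (Bool.rec (motive := fun _ => Nat) (0xca00081a) (0x10000ca000696) (Nat.ble 749 i)) (Nat.ble 748 i)) (Nat.ble 747 i)) (Bool.rec (motive := fun _ => Nat) (Bool.rec (motive := fun _ => Nat) (0x20000ca0002f7) (Bool.rec (motive := fun _ => Nat) (0x30000ca000402) (0xcb0000f3) (Nat.ble 752 i)) (Nat.ble 751 i)) (Bool.rec (motive := fun _ => Nat) (0x10000cb000719) (Bool.rec (motive := fun _ => Nat) (0x20000cb0008e3) (0x30000cb000812) (Nat.ble 755 i)) (Nat.ble 754 i)) (Nat.ble 753 i)) (Nat.ble 750 i)) (Nat.ble 744 i)) (Bool.rec (motive := fun _ => Nat) (Bool.rec (motive := fun _ => Nat) (Bool.rec (motive := fun _ => Nat) (Bool.rec (motive := fun _ => Nat) (0xcc0002b4) (Bool.rec (motive := fun _ => Nat) (0x10000cc000d9f) (0x20000cc0006c3) (Nat.ble 758 i)) (Nat.ble 757 i)) (Bool.rec (motive := fun _ => Nat) (0x30000cc0007d9) (Bool.rec (motive := fun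 _ => Nat) (0xcd000f20) (0x10000cd000579) (Nat.ble 761 i)) (Nat.ble 760 i)) (Nat.ble 759 i)) (Bool.rec (motive := fun _ => Nat) (Bool.rec (motive := fun _ => Nat) (0x20000cd000398) (Bool.rec (motive := fun _ => Nat) (0xce000435) (0x20000ce000dde) (Nat.ble 764 i)) (Nat.ble 763 i)) (Bool.rec (motive := fun _ => Nat) (0x30000ce000e9e) (Bool.rec (motive := fun _ => Nat) (0x10000cf000c8e) (0x20000cf000eb5) (Nat.ble 767 i)) (Nat.ble 766 i)) (Nat.ble 765 i)) (Nat.ble 762 i)) (Bool.rec (motive := fun _ => Nat) (Bool.rec (motive := fun _ => Nat) (Bool.rec (motive := fun _ => Nat) (0x30000cf0002a2) (Bool.rec (motive := fun _ => Nat) (0xd0000aa8) (0x10000d000005c) (Nat.ble 770 i)) (Nat.ble 769 i)) (Bool.rec (motive := fun _ => Nat) (0x20000d0000b77) (Bool.rec (motive := fun _ => Nat) (0x30000d0000858) (0xd1000ad4) (Nat.ble 773 i)) (Nat.ble 772 i)) (Nat.ble 771 i)) (Bool.rec (motive := fun _ => Nat) (Bool.rec (motive := fun _ => Nat) (0x10000d1000be3) (Bool.rec (motive := fun _ => Nat) (0x20000d1000804)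 (0x30000d1000758) (Nat.ble 776 i)) (Nat.ble 775 i)) (Bool.rec (motive := fun _ => Nat) (Bool.rec (motive := fun _ => Nat) (0xd2000575) (0x10000d2000aaa) (Nat.ble 778 i)) (Bool.rec (motive := fun _ => Nat) (0x20000d2000765) (0x30000d2000bde) (Nat.ble 780 i)) (Nat.ble 779 i)) (Nat.ble 777 i)) (Nat.ble 774 i)) (Nat.ble 768 i)) (Nat.ble 756 i))
noncomputable def CA1P_16 (i : Nat) : Nat := (Bool.rec (motive := fun _ => Nat) (Bool.rec (motive := fun _ => Nat) (Bool.rec (motive := fun _ => Nat) (Bool.rec (motive := fun _ => Nat) (Bool.rec (motive := fun _ => Nat) (0xd30006e4) (Bool.rec (motive := fun _ => Nat) (0x20000d3000d18) (0x30000d3000f3d) (Nat.ble 783 i)) (Nat.ble 782 i)) (Bool.rec (motive := fun _ => Nat) (0xd40003f4) (Bool.rec (motive := fun _ => Nat) (0x10000d4000c0f) (0x20000d40009a0) (Nat.ble 786 i)) (Nat.ble 785 i)) (Nat.ble 784 i)) (Bool.rec (motive := fun _ => Nat) (Bool.rec (motive := fun _ => Nat) (0x30000d40009b6) (Bool.rec (motive := fun _ => Nat) (0xd5000836) (0x10000d5000297) (Nat.ble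 789 i)) (Nat.ble 788 i)) (Bool.rec (motive := fun _ => Nat) (0x20000d5000b63) (Bool.rec (motive := fun _ => Nat) (0x30000d5000d60) (0xd6000bf6) (Nat.ble 792 i)) (Nat.ble 791 i)) (Nat.ble 790 i)) (Nat.ble 787 i)) (Bool.rec (motive := fun _ => Nat) (Bool.rec (motive := fun _ => Nat) (Bool.rec (motive := fun _ => Nat) (0x20000d6000923) (Bool.rec (motive := fun _ => Nat) (0x30000d60001ec) (0xd7000ed8) (Nat.ble 795 i)) (Nat.ble 794 i)) (Bool.rec (motive := fun _ => Nat) (0x10000d700042c) (Bool.rec (motive := fun _ => Nat) (0x20000d70003d1) (0x30000d7000b19) (Nat.ble 798 i)) (Nat.ble 797 i)) (Nat.ble 796 i)) (Bool.rec (motive := fun _ => Nat) (Bool.rec (motive := fun _ => Nat) (0xd80008bc) (Bool.rec (motive := fun _ => Nat) (0x10000d8000e30) (0x20000d8000159) (Nat.ble 801 i)) (Nat.ble 800 i)) (Bool.rec (motive := fun _ => Nat) (0x30000d800061f) (Bool.rec (motive := fun _ => Nat) (0xd90002d3) (0x10000d9000840) (Nat.ble 804 i)) (Nat.ble 803 i)) (Nat.ble 802 i)) (Nat.ble 799 i)) (Nat.ble 793 i)) (Bool.rec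 (motive := fun _ => Nat) (Bool.rec (motive := fun _ => Nat) (Bool.rec (motive := fun _ => Nat) (Bool.rec (motive := fun _ => Nat) (0x30000d9000c3e) (Bool.rec (motive := fun _ => Nat) (0xda000a1b) (0x10000da000d11) (Nat.ble 807 i)) (Nat.ble 806 i)) (Bool.rec (motive := fun _ => Nat) (0x10000db000987) (Bool.rec (motive := fun _ => Nat) (0x20000db000943) (0x30000db000291) (Nat.ble 810 i)) (Nat.ble 809 i)) (Nat.ble 808 i)) (Bool.rec (motive := fun _ => Nat) (Bool.rec (motive := fun _ => Nat) (0xdc0000da) (Bool.rec (motive := fun _ => Nat) (0x10000dc000512) (0x20000dc0002bc) (Nat.ble 813 i)) (Nat.ble 812 i)) (Bool.rec (motive := fun _ => Nat) (0x30000dc000257) (Bool.rec (motive := fun _ => Nat) (0xdd00073e) (0x10000dd000315) (Nat.ble 816 i)) (Nat.ble 815 i)) (Nat.ble 814 i)) (Nat.ble 811 i)) (Bool.rec (motive := fun _ => Nat) (Bool.rec (motive := fun _ => Nat) (Bool.rec (motive := fun _ => Nat) (0x20000dd000e94) (Bool.rec (motive := fun _ => Nat) (0x30000dd0005c4) (0x10000de000922) (Nat.ble 819 i))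 (Nat.ble 818 i)) (Bool.rec (motive := fun _ => Nat) (0x30000de000009) (Bool.rec (motive := fun _ => Nat) (0xdf000592) (0x10000df000102) (Nat.ble 822 i)) (Nat.ble 821 i)) (Nat.ble 820 i)) (Bool.rec (motive := fun _ => Nat) (Bool.rec (motive := fun _ => Nat) (0x20000df000593) (Bool.rec (motive := fun _ => Nat) (0x30000df00066a) (0x10000e000017f) (Nat.ble 825 i)) (Nat.ble 824 i)) (Bool.rec (motive := fun _ => Nat) (0x20000e00008ed) (Bool.rec (motive := fun _ => Nat) (0x30000e00000e2) (0xe1000cd1) (Nat.ble 828 i)) (Nat.ble 827 i)) (Nat.ble 826 i)) (Nat.ble 823 i)) (Nat.ble 817 i)) (Nat.ble 805 i))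
noncomputable def CA1P_17 (i : Nat) : Nat := (Bool.rec (motive := fun _ => Nat) (Bool.rec (motive := fun _ => Nat) (Bool.rec (motive := fun _ => Nat) (Bool.rec (motive := fun _ => Nat) (Bool.rec (motive := fun _ => Nat) (0x30000e1000b80) (Bool.rec (motive := fun _ => Nat) (0xe20008f1) (0x10000e2000c15) (Nat.ble 831 i)) (Nat.ble 830 i)) (Bool.rec (motive := fun _ => Nat) (0x20000e20006e5) (Bool.rec (motive := fun _ => Nat) (0x30000e2000874) (0xe3000553) (Nat.ble 834 i)) (Nat.ble 833 i)) (Nat.ble 832 i)) (Bool.rec (motive := fun _ => Nat) (Bool.rec (motive := fun _ => Nat) (0x10000e30000dd) (Bool.rec (motive := fun _ => Nat) (0x20000e30002ed) (0x30000e3000ec5) (Nat.ble 837 i)) (Nat.ble 836 i)) (Bool.rec (motive := fun _ => Nat) (0xe4000786) (Bool.rec (motive := fun _ => Nat) (0x30000e40009a6) (0xe5000859) (Nat.ble 840 i)) (Nat.ble 839 i)) (Nat.ble 838 i)) (Nat.ble 835 i)) (Bool.rec (motive := fun _ => Nat) (Bool.rec (motive := fun _ => Nat) (Bool.rec (motive := fun _ => Nat) (0x10000e5000b64)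 (Bool.rec (motive := fun _ => Nat) (0x20000e50003c8) (0x30000e5000899) (Nat.ble 843 i)) (Nat.ble 842 i)) (Bool.rec (motive := fun _ => Nat) (0xe6000de0) (Bool.rec (motive := fun _ => Nat) (0x10000e6000333) (0x20000e600006d) (Nat.ble 846 i)) (Nat.ble 845 i)) (Nat.ble 844 i)) (Bool.rec (motive := fun _ => Nat) (Bool.rec (motive := fun _ => Nat) (0x30000e600004a) (Bool.rec (motive := fun _ => Nat) (0xe7000180) (0x10000e7000f12) (Nat.ble 849 i)) (Nat.ble 848 i)) (Bool.rec (motive := fun _ => Nat) (0x30000e7000253) (Bool.rec (motive := fun _ => Nat) (0xe8000b10) (0x20000e8000bb5) (Nat.ble 852 i)) (Nat.ble 851 i)) (Nat.ble 850 i)) (Nat.ble 847 i)) (Nat.ble 841 i)) (Bool.rec (motive := fun _ => Nat) (Bool.rec (motive := fun _ => Nat) (Bool.rec (motive := fun _ => Nat) (Bool.rec (motive := fun _ => Nat) (0x30000e8000905) (Bool.rec (motive := fun _ => Nat) (0xe900046b) (0x10000e90006b6) (Nat.ble 855 i)) (Nat.ble 854 i)) (Bool.rec (motive := fun _ => Nat) (0x30000e9000d64) (Bool.rec (motive := fun _ =>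 Nat) (0x10000ea00076d) (0x30000ea00059d) (Nat.ble 858 i)) (Nat.ble 857 i)) (Nat.ble 856 i)) (Bool.rec (motive := fun _ => Nat) (Bool.rec (motive := fun _ => Nat) (0x10000eb0007f4) (Bool.rec (motive := fun _ => Nat) (0x20000eb000c64) (0x30000eb000cad) (Nat.ble 861 i)) (Nat.ble 860 i)) (Bool.rec (motive := fun _ => Nat) (0xec0003e0) (Bool.rec (motive := fun _ => Nat) (0x30000ec000eb2) (0xed000524) (Nat.ble 864 i)) (Nat.ble 863 i)) (Nat.ble 862 i)) (Nat.ble 859 i)) (Bool.rec (motive := fun _ => Nat) (Bool.rec (motive := fun _ => Nat) (Bool.rec (motive := fun _ => Nat) (0x30000ed000f39) (Bool.rec (motive := fun _ => Nat) (0x10000ee000d99) (0x20000ee000863) (Nat.ble 867 i)) (Nat.ble 866 i)) (Bool.rec (motive := fun _ => Nat) (0xef0006bc) (Bool.rec (motive := fun _ => Nat) (0x10000ef0000f1) (0x20000ef000049) (Nat.ble 870 i)) (Nat.ble 869 i)) (Nat.ble 868 i)) (Bool.rec (motive := fun _ => Nat) (Bool.rec (motive := fun _ => Nat) (0x30000ef000921) (Bool.rec (motive := fun _ => Nat) (0xf000004f) (0x10000f0000e77)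 (Nat.ble 873 i)) (Nat.ble 872 i)) (Bool.rec (motive := fun _ => Nat) (Bool.rec (motive := fun _ => Nat) (0x20000f0000ad1) (0x30000f000046d) (Nat.ble 875 i)) (Bool.rec (motive := fun _ => Nat) (0xf1000350) (0x10000f1000a3c) (Nat.ble 877 i)) (Nat.ble 876 i)) (Nat.ble 874 i)) (Nat.ble 871 i)) (Nat.ble 865 i)) (Nat.ble 853 i))
noncomputable def CA1P_18 (i : Nat) : Nat := (Bool.rec (motive := fun _ => Nat) (Bool.rec (motive := fun _ => Nat) (Bool.rec (motive := fun _ => Nat) (Bool.rec (motive := fun _ => Nat) (Bool.rec (motive := fun _ => Nat) (0x20000f1000bd9) (Bool.rec (motive := fun _ => Nat) (0x30000f1000ac8) (0xf2000dac) (Nat.ble 880 i)) (Nat.ble 879 i)) (Bool.rec (motive := fun _ => Nat) (0x20000f2000d6f) (Bool.rec (motive := fun _ => Nat) (0xf3000b7e) (0x10000f300064b) (Nat.ble 883 i)) (Nat.ble 882 i)) (Nat.ble 881 i)) (Bool.rec (motive := fun _ => Nat) (Bool.rec (motive := fun _ => Nat) (0x20000f3000c6f) (Bool.rec (motive := fun _ => Nat) (0x30000f30004e9) (0x20000f40003ce) (Nat.ble 886 i))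 (Nat.ble 885 i)) (Bool.rec (motive := fun _ => Nat) (0x30000f4000b8c) (Bool.rec (motive := fun _ => Nat) (0xf5000684) (0x10000f5000330) (Nat.ble 889 i)) (Nat.ble 888 i)) (Nat.ble 887 i)) (Nat.ble 884 i)) (Bool.rec (motive := fun _ => Nat) (Bool.rec (motive := fun _ => Nat) (Bool.rec (motive := fun _ => Nat) (0x20000f5000bc2) (Bool.rec (motive := fun _ => Nat) (0x30000f5000ca7) (0xf60003b2) (Nat.ble 892 i)) (Nat.ble 891 i)) (Bool.rec (motive := fun _ => Nat) (0x20000f600062e) (Bool.rec (motive := fun _ => Nat) (0x30000f600015b) (0xf7000c9a) (Nat.ble 895 i)) (Nat.ble 894 i)) (Nat.ble 893 i)) (Bool.rec (motive := fun _ => Nat) (Bool.rec (motive := fun _ => Nat) (0x20000f700045f) (Bool.rec (motive := fun _ => Nat) (0x10000f8000502) (0x30000f80007ef) (Nat.ble 898 i)) (Nat.ble 897 i)) (Bool.rec (motive := fun _ => Nat) (0xf9000710) (Bool.rec (motive := fun _ => Nat) (0x10000f90009d0) (0xfa0008c2) (Nat.ble 901 i)) (Nat.ble 900 i)) (Nat.ble 899 i)) (Nat.ble 896 i)) (Nat.ble 890 i)) (Bool.rec (motive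 := fun _ => Nat) (Bool.rec (motive := fun _ => Nat) (Bool.rec (motive := fun _ => Nat) (Bool.rec (motive := fun _ => Nat) (0x10000fa000801) (Bool.rec (motive := fun _ => Nat) (0x20000fa000ab2) (0x30000fa000736) (Nat.ble 904 i)) (Nat.ble 903 i)) (Bool.rec (motive := fun _ => Nat) (0xfb000926) (Bool.rec (motive := fun _ => Nat) (0x10000fb000d35) (0x30000fb000153) (Nat.ble 907 i)) (Nat.ble 906 i)) (Nat.ble 905 i)) (Bool.rec (motive := fun _ => Nat) (Bool.rec (motive := fun _ => Nat) (0xfc0009dd) (Bool.rec (motive := fun _ => Nat) (0x10000fc000c47) (0x20000fc0000e1) (Nat.ble 910 i)) (Nat.ble 909 i)) (Bool.rec (motive := fun _ => Nat) (0x30000fc000073) (Bool.rec (motive := fun _ => Nat) (0x10000fd000918) (0x20000fd000ada) (Nat.ble 913 i)) (Nat.ble 912 i)) (Nat.ble 911 i)) (Nat.ble 908 i)) (Bool.rec (motive := fun _ => Nat) (Bool.rec (motive := fun _ => Nat) (Bool.rec (motive := fun _ => Nat) (0x30000fd0005b1) (Bool.rec (motive := fun _ => Nat) (0x10000fe000191) (0x20000fe000dea) (Nat.ble 916 i))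 (Nat.ble 915 i)) (Bool.rec (motive := fun _ => Nat) (0x30000fe000cd0) (Bool.rec (motive := fun _ => Nat) (0x10000ff000bb0) (0x30000ff000ed2) (Nat.ble 919 i)) (Nat.ble 918 i)) (Nat.ble 917 i)) (Bool.rec (motive := fun _ => Nat) (Bool.rec (motive := fun _ => Nat) (0x10000048f) (Bool.rec (motive := fun _ => Nat) (0x1000100000b40) (0x2000100000e89) (Nat.ble 922 i)) (Nat.ble 921 i)) (Bool.rec (motive := fun _ => Nat) (Bool.rec (motive := fun _ => Nat) (0x3000100000e0d) (0x3000101000e45) (Nat.ble 924 i)) (Bool.rec (motive := fun _ => Nat) (0x1020002a9) (0x100010200025e) (Nat.ble 926 i)) (Nat.ble 925 i)) (Nat.ble 923 i)) (Nat.ble 920 i)) (Nat.ble 914 i)) (Nat.ble 902 i))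
noncomputable def CA1P_19 (i : Nat) : Nat := (Bool.rec (motive := fun _ => Nat) (Bool.rec (motive := fun _ => Nat) (Bool.rec (motive := fun _ => Nat) (Bool.rec (motive := fun _ => Nat) (Bool.rec (motive := fun _ => Nat) (0x2000102000ec3) (Bool.rec (motive := fun _ => Nat) (0x3000102000214) (0x100010300068f) (Nat.ble 929 i)) (Nat.ble 928 i)) (Bool.rec (motive := fun _ => Nat) (0x2000103000b83) (Bool.rec (motive := fun _ => Nat) (0x104000e49) (0x2000104000a23) (Nat.ble 932 i)) (Nat.ble 931 i)) (Nat.ble 930 i)) (Bool.rec (motive := fun _ => Nat) (Bool.rec (motive := fun _ => Nat) (0x3000104000b72) (Bool.rec (motive := fun _ => Nat) (0x10001050001bf) (0x2000105000b52) (Nat.ble 935 i)) (Nat.ble 934 i)) (Bool.rec (motive := fun _ => Nat) (0x30001050008fe) (Bool.rec (motive := fun _ => Nat) (0x106000d44) (0x10001060003b9) (Nat.ble 938 i)) (Nat.ble 937 i)) (Nat.ble 936 i)) (Nat.ble 933 i)) (Bool.rec (motive := fun _ => Nat) (Bool.rec (motive := fun _ => Nat) (Bool.rec (motive := fun _ => Nat) (0x3000106000afd)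 (Bool.rec (motive := fun _ => Nat) (0x1070007c2) (0x10001070007a5) (Nat.ble 941 i)) (Nat.ble 940 i)) (Bool.rec (motive := fun _ => Nat) (0x20001070002b3) (Bool.rec (motive := fun _ => Nat) (0x30001070006ed) (0x10800093b) (Nat.ble 944 i)) (Nat.ble 943 i)) (Nat.ble 942 i)) (Bool.rec (motive := fun _ => Nat) (Bool.rec (motive := fun _ => Nat) (0x10001080006d1) (Bool.rec (motive := fun _ => Nat) (0x2000108000ddb) (0x3000108000a75) (Nat.ble 947 i)) (Nat.ble 946 i)) (Bool.rec (motive := fun _ => Nat) (0x109000b75) (Bool.rec (motive := fun _ => Nat) (0x1000109000d8a) (0x2000109000cd6) (Nat.ble 950 i)) (Nat.ble 949 i)) (Nat.ble 948 i)) (Nat.ble 945 i)) (Nat.ble 939 i)) (Bool.rec (motive := fun _ => Nat) (Bool.rec (motive := fun _ => Nat) (Bool.rec (motive := fun _ => Nat) (Bool.rec (motive := fun _ => Nat) (0x30001090009c6) (Bool.rec (motive := fun _ => Nat) (0x10a00015d) (0x100010a000779) (Nat.ble 953 i)) (Nat.ble 952 i)) (Bool.rec (motive := fun _ => Nat) (0x200010a000ca5) (Bool.rec (motive := fun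 _ => Nat) (0x300010a000909) (0x10b000dbf) (Nat.ble 956 i)) (Nat.ble 955 i)) (Nat.ble 954 i)) (Bool.rec (motive := fun _ => Nat) (Bool.rec (motive := fun _ => Nat) (0x200010b000cfa) (Bool.rec (motive := fun _ => Nat) (0x300010b000b9a) (0x10c00090a) (Nat.ble 959 i)) (Nat.ble 958 i)) (Bool.rec (motive := fun _ => Nat) (0x200010c000c3d) (Bool.rec (motive := fun _ => Nat) (0x300010c000161) (0x10d0007d3) (Nat.ble 962 i)) (Nat.ble 961 i)) (Nat.ble 960 i)) (Nat.ble 957 i)) (Bool.rec (motive := fun _ => Nat) (Bool.rec (motive := fun _ => Nat) (Bool.rec (motive := fun _ => Nat) (0x200010d0004df) (Bool.rec (motive := fun _ => Nat) (0x300010d000b29) (0x10e0003b8) (Nat.ble 965 i)) (Nat.ble 964 i)) (Bool.rec (motive := fun _ => Nat) (0x100010e000da1) (Bool.rec (motive := fun _ => Nat) (0x10f000893) (0x100010f000b20) (Nat.ble 968 i)) (Nat.ble 967 i)) (Nat.ble 966 i)) (Bool.rec (motive := fun _ => Nat) (Bool.rec (motive := fun _ => Nat) (0x200010f000afb) (Bool.rec (motive := fun _ => Nat) (0x300010f000acd)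 (0x110000ef3) (Nat.ble 971 i)) (Nat.ble 970 i)) (Bool.rec (motive := fun _ => Nat) (Bool.rec (motive := fun _ => Nat) (0x1000110000026) (0x200011000064a) (Nat.ble 973 i)) (Bool.rec (motive := fun _ => Nat) (0x3000110000d67) (0x111000bcd) (Nat.ble 975 i)) (Nat.ble 974 i)) (Nat.ble 972 i)) (Nat.ble 969 i)) (Nat.ble 963 i)) (Nat.ble 951 i))
noncomputable def CA1P_20 (i : Nat) : Nat := (Bool.rec (motive := fun _ => Nat) (Bool.rec (motive := fun _ => Nat) (Bool.rec (motive := fun _ => Nat) (Bool.rec (motive := fun _ => Nat) (Bool.rec (motive := fun _ => Nat) (0x1000111000eb4) (Bool.rec (motive := fun _ => Nat) (0x2000111000ade) (0x3000111000532) (Nat.ble 978 i)) (Nat.ble 977 i)) (Bool.rec (motive := fun _ => Nat) (0x112000b42) (Bool.rec (motive := fun _ => Nat) (0x1000112000a42) (0x2000112000a86) (Nat.ble 981 i)) (Nat.ble 980 i)) (Nat.ble 979 i)) (Bool.rec (motive := fun _ => Nat) (Bool.rec (motive := fun _ => Nat) (0x1000113000ecc) (Bool.rec (motive := fun _ => Nat) (0x20001130008ba) (0x3000113000118)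 (Nat.ble 984 i)) (Nat.ble 983 i)) (Bool.rec (motive := fun _ => Nat) (0x114000a71) (Bool.rec (motive := fun _ => Nat) (0x115000ce1) (0x10001150003f9) (Nat.ble 987 i)) (Nat.ble 986 i)) (Nat.ble 985 i)) (Nat.ble 982 i)) (Bool.rec (motive := fun _ => Nat) (Bool.rec (motive := fun _ => Nat) (Bool.rec (motive := fun _ => Nat) (0x200011500033d) (Bool.rec (motive := fun _ => Nat) (0x116000e59) (0x1000116000811) (Nat.ble 990 i)) (Nat.ble 989 i)) (Bool.rec (motive := fun _ => Nat) (0x2000116000302) (Bool.rec (motive := fun _ => Nat) (0x300011600057d) (0x11700023e) (Nat.ble 993 i)) (Nat.ble 992 i)) (Nat.ble 991 i)) (Bool.rec (motive := fun _ => Nat) (Bool.rec (motive := fun _ => Nat) (0x100011700035b) (Bool.rec (motive := fun _ => Nat) (0x200011700042f) (0x300011700025f) (Nat.ble 996 i)) (Nat.ble 995 i)) (Bool.rec (motive := fun _ => Nat) (0x3000118000328) (Bool.rec (motive := fun _ => Nat) (0x119000170) (0x1000119000b94) (Nat.ble 999 i)) (Nat.ble 998 i)) (Nat.ble 997 i)) (Nat.ble 994 i)) (Nat.ble 988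 i)) (Bool.rec (motive := fun _ => Nat) (Bool.rec (motive := fun _ => Nat) (Bool.rec (motive := fun _ => Nat) (Bool.rec (motive := fun _ => Nat) (0x2000119000e9a) (Bool.rec (motive := fun _ => Nat) (0x200011a00067b) (0x300011a000598) (Nat.ble 1002 i)) (Nat.ble 1001 i)) (Bool.rec (motive := fun _ => Nat) (0x11b0006b1) (Bool.rec (motive := fun _ => Nat) (0x200011b000373) (0x300011b000c16) (Nat.ble 1005 i)) (Nat.ble 1004 i)) (Nat.ble 1003 i)) (Bool.rec (motive := fun _ => Nat) (Bool.rec (motive := fun _ => Nat) (0x11c000810) (Bool.rec (motive := fun _ => Nat) (0x100011c000b2b) (0x200011c00041a) (Nat.ble 1008 i)) (Nat.ble 1007 i)) (Bool.rec (motive := fun _ => Nat) (0x300011c0007bd) (Bool.rec (motive := fun _ => Nat) (0x11d0002bb) (0x200011d000766) (Nat.ble 1011 i)) (Nat.ble 1010 i)) (Nat.ble 1009 i)) (Nat.ble 1006 i)) (Bool.rec (motive := fun _ => Nat) (Bool.rec (motive := fun _ => Nat) (Bool.rec (motive := fun _ => Nat) (0x300011d00087a) (Bool.rec (motive := fun _ => Nat) (0x11e000ddf) (0x100011e00065d)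 (Nat.ble 1014 i)) (Nat.ble 1013 i)) (Bool.rec (motive := fun _ => Nat) (0x200011e00032d) (Bool.rec (motive := fun _ => Nat) (0x300011e00074b) (0x11f00079f) (Nat.ble 1017 i)) (Nat.ble 1016 i)) (Nat.ble 1015 i)) (Bool.rec (motive := fun _ => Nat) (Bool.rec (motive := fun _ => Nat) (0x200011f0002f4) (Bool.rec (motive := fun _ => Nat) (0x300011f000450) (0x120000587) (Nat.ble 1020 i)) (Nat.ble 1019 i)) (Bool.rec (motive := fun _ => Nat) (0x1000120000c1c) (Bool.rec (motive := fun _ => Nat) (0x20001200005e3) (0x3000120000df3) (Nat.ble 1023 i)) (Nat.ble 1022 i)) (Nat.ble 1021 i)) (Nat.ble 1018 i)) (Nat.ble 1012 i)) (Nat.ble 1000 i))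
noncomputable def CA1P_21 (i : Nat) : Nat := (Bool.rec (motive := fun _ => Nat) (Bool.rec (motive := fun _ => Nat) (Bool.rec (motive := fun _ => Nat) (Bool.rec (motive := fun _ => Nat) (Bool.rec (motive := fun _ => Nat) (0x121000111) (Bool.rec (motive := fun _ => Nat) (0x100012100086b) (0x2000121000abf) (Nat.ble 1026 i)) (Nat.ble 1025 i)) (Bool.rec (motive := fun _ => Nat) (0x3000121000b9c) (Bool.rec (motive := fun _ => Nat) (0x1220006c1) (0x1000122000505) (Nat.ble 1029 i)) (Nat.ble 1028 i)) (Nat.ble 1027 i)) (Bool.rec (motive := fun _ => Nat) (Bool.rec (motive := fun _ => Nat) (0x2000122000b09) (Bool.rec (motive := fun _ => Nat) (0x300012200036c) (0x123000404) (Nat.ble 1032 i)) (Nat.ble 1031 i)) (Bool.rec (motive := fun _ => Nat) (0x30001230001ea) (Bool.rec (motive := fun _ => Nat) (0x10001240006d7) (0x3000124000712) (Nat.ble 1035 i)) (Nat.ble 1034 i)) (Nat.ble 1033 i)) (Nat.ble 1030 i)) (Bool.rec (motive := fun _ => Nat) (Bool.rec (motive := fun _ => Nat) (Bool.rec (motive := fun _ => Nat)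 (0x125000356) (Bool.rec (motive := fun _ => Nat) (0x2000125000c5f) (0x3000125000f3a) (Nat.ble 1038 i)) (Nat.ble 1037 i)) (Bool.rec (motive := fun _ => Nat) (0x300012600098d) (Bool.rec (motive := fun _ => Nat) (0x1270002f5) (0x1000127000e7f) (Nat.ble 1041 i)) (Nat.ble 1040 i)) (Nat.ble 1039 i)) (Bool.rec (motive := fun _ => Nat) (Bool.rec (motive := fun _ => Nat) (0x200012700096b) (Bool.rec (motive := fun _ => Nat) (0x3000127000e38) (0x128000f0a) (Nat.ble 1044 i)) (Nat.ble 1043 i)) (Bool.rec (motive := fun _ => Nat) (0x10001280006b9) (Bool.rec (motive := fun _ => Nat) (0x200012800093a) (0x30001280008e7) (Nat.ble 1047 i)) (Nat.ble 1046 i)) (Nat.ble 1045 i)) (Nat.ble 1042 i)) (Nat.ble 1036 i)) (Bool.rec (motive := fun _ => Nat) (Bool.rec (motive := fun _ => Nat) (Bool.rec (motive := fun _ => Nat) (Bool.rec (motive := fun _ => Nat) (0x129000740) (Bool.rec (motive := fun _ => Nat) (0x100012900024c) (0x2000129000c9d) (Nat.ble 1050 i)) (Nat.ble 1049 i)) (Bool.rec (motive := fun _ => Nat) (0x3000129000c85)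 (Bool.rec (motive := fun _ => Nat) (0x12a000c07) (0x200012a00057e) (Nat.ble 1053 i)) (Nat.ble 1052 i)) (Nat.ble 1051 i)) (Bool.rec (motive := fun _ => Nat) (Bool.rec (motive := fun _ => Nat) (0x300012a000c3f) (Bool.rec (motive := fun _ => Nat) (0x12b00044f) (0x300012b0005b2) (Nat.ble 1056 i)) (Nat.ble 1055 i)) (Bool.rec (motive := fun _ => Nat) (0x12c000b48) (Bool.rec (motive := fun _ => Nat) (0x100012c000eef) (0x300012c000750) (Nat.ble 1059 i)) (Nat.ble 1058 i)) (Nat.ble 1057 i)) (Nat.ble 1054 i)) (Bool.rec (motive := fun _ => Nat) (Bool.rec (motive := fun _ => Nat) (Bool.rec (motive := fun _ => Nat) (0x12d000c22) (Bool.rec (motive := fun _ => Nat) (0x100012d0009c9) (0x200012d000f01) (Nat.ble 1062 i)) (Nat.ble 1061 i)) (Bool.rec (motive := fun _ => Nat) (0x12e000794) (Bool.rec (motive := fun _ => Nat) (0x100012e000753) (0x200012e000e62) (Nat.ble 1065 i)) (Nat.ble 1064 i)) (Nat.ble 1063 i)) (Bool.rec (motive := fun _ => Nat) (Bool.rec (motive := fun _ => Nat) (0x12f0009ab) (Bool.rec (motive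 := fun _ => Nat) (0x200012f000af7) (0x300012f000e3f) (Nat.ble 1068 i)) (Nat.ble 1067 i)) (Bool.rec (motive := fun _ => Nat) (Bool.rec (motive := fun _ => Nat) (0x100013000013d) (0x2000130000c23) (Nat.ble 1070 i)) (Bool.rec (motive := fun _ => Nat) (0x300013000024e) (0x131000d0a) (Nat.ble 1072 i)) (Nat.ble 1071 i)) (Nat.ble 1069 i)) (Nat.ble 1066 i)) (Nat.ble 1060 i)) (Nat.ble 1048 i))
noncomputable def CA1P_22 (i : Nat) : Nat := (Bool.rec (motive := fun _ => Nat) (Bool.rec (motive := fun _ => Nat) (Bool.rec (motive := fun _ => Nat) (Bool.rec (motive := fun _ => Nat) (Bool.rec (motive := fun _ => Nat) (0x2000131000996) (Bool.rec (motive := fun _ => Nat) (0x3000131000114) (0x132000641) (Nat.ble 1075 i)) (Nat.ble 1074 i)) (Bool.rec (motive := fun _ => Nat) (0x1000132000901) (Bool.rec (motive := fun _ => Nat) (0x2000132000d92) (0x3000132000b5a) (Nat.ble 1078 i)) (Nat.ble 1077 i)) (Nat.ble 1076 i)) (Bool.rec (motive := fun _ => Nat) (Bool.rec (motive := fun _ => Nat) (0x133000199) (Bool.rec (motive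 := fun _ => Nat) (0x20001330003e7) (0x30001330007e4) (Nat.ble 1081 i)) (Nat.ble 1080 i)) (Bool.rec (motive := fun _ => Nat) (0x134000ca6) (Bool.rec (motive := fun _ => Nat) (0x10001340002ae) (0x135000842) (Nat.ble 1084 i)) (Nat.ble 1083 i)) (Nat.ble 1082 i)) (Nat.ble 1079 i)) (Bool.rec (motive := fun _ => Nat) (Bool.rec (motive := fun _ => Nat) (Bool.rec (motive := fun _ => Nat) (0x10001350004ea) (Bool.rec (motive := fun _ => Nat) (0x2000135000525) (0x10001360008be) (Nat.ble 1087 i)) (Nat.ble 1086 i)) (Bool.rec (motive := fun _ => Nat) (0x20001360006f5) (Bool.rec (motive := fun _ => Nat) (0x137000b57) (0x1000137000397) (Nat.ble 1090 i)) (Nat.ble 1089 i)) (Nat.ble 1088 i)) (Bool.rec (motive := fun _ => Nat) (Bool.rec (motive := fun _ => Nat) (0x2000137000289) (Bool.rec (motive := fun _ => Nat) (0x1380003b6) (0x1000138000238) (Nat.ble 1093 i)) (Nat.ble 1092 i)) (Bool.rec (motive := fun _ => Nat) (0x200013800074a) (Bool.rec (motive := fun _ => Nat) (0x30001380008f7) (0x139000ad3) (Nat.ble 1096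 i)) (Nat.ble 1095 i)) (Nat.ble 1094 i)) (Nat.ble 1091 i)) (Nat.ble 1085 i)) (Bool.rec (motive := fun _ => Nat) (Bool.rec (motive := fun _ => Nat) (Bool.rec (motive := fun _ => Nat) (Bool.rec (motive := fun _ => Nat) (0x100013900042d) (Bool.rec (motive := fun _ => Nat) (0x200013900073b) (0x3000139000bac) (Nat.ble 1099 i)) (Nat.ble 1098 i)) (Bool.rec (motive := fun _ => Nat) (0x13a000430) (Bool.rec (motive := fun _ => Nat) (0x100013a00060e) (0x13b000ca2) (Nat.ble 1102 i)) (Nat.ble 1101 i)) (Nat.ble 1100 i)) (Bool.rec (motive := fun _ => Nat) (Bool.rec (motive := fun _ => Nat) (0x200013b000802) (Bool.rec (motive := fun _ => Nat) (0x300013b0002e0) (0x13c00097e) (Nat.ble 1105 i)) (Nat.ble 1104 i)) (Bool.rec (motive := fun _ => Nat) (0x200013c000e68) (Bool.rec (motive := fun _ => Nat) (0x300013c000120) (0x13d0006c2) (Nat.ble 1108 i)) (Nat.ble 1107 i)) (Nat.ble 1106 i)) (Nat.ble 1103 i)) (Bool.rec (motive := fun _ => Nat) (Bool.rec (motive := fun _ => Nat) (Bool.rec (motive := fun _ => Nat) (0x100013d00080d)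 (Bool.rec (motive := fun _ => Nat) (0x300013d0006a6) (0x13e000672) (Nat.ble 1111 i)) (Nat.ble 1110 i)) (Bool.rec (motive := fun _ => Nat) (0x100013e0009d6) (Bool.rec (motive := fun _ => Nat) (0x300013e00030d) (0x13f0006a5) (Nat.ble 1114 i)) (Nat.ble 1113 i)) (Nat.ble 1112 i)) (Bool.rec (motive := fun _ => Nat) (Bool.rec (motive := fun _ => Nat) (0x100013f00029a) (Bool.rec (motive := fun _ => Nat) (0x200013f00004d) (0x300013f000572) (Nat.ble 1117 i)) (Nat.ble 1116 i)) (Bool.rec (motive := fun _ => Nat) (Bool.rec (motive := fun _ => Nat) (0x140000d5f) (0x1000140000ad2) (Nat.ble 1119 i)) (Bool.rec (motive := fun _ => Nat) (0x2000140000671) (0x30001400003be) (Nat.ble 1121 i)) (Nat.ble 1120 i)) (Nat.ble 1118 i)) (Nat.ble 1115 i)) (Nat.ble 1109 i)) (Nat.ble 1097 i))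
noncomputable def CA1P_23 (i : Nat) : Nat := (Bool.rec (motive := fun _ => Nat) (Bool.rec (motive := fun _ => Nat) (Bool.rec (motive := fun _ => Nat) (Bool.rec (motive := fun _ => Nat) (Bool.rec (motive := fun _ => Nat) (0x141000806) (Bool.rec (motive := fun _ => Nat) (0x300014100036f) (0x3000142000a08) (Nat.ble 1124 i)) (Nat.ble 1123 i)) (Bool.rec (motive := fun _ => Nat) (0x143000276) (Bool.rec (motive := fun _ => Nat) (0x1000143000928) (0x2000143000c1a) (Nat.ble 1127 i)) (Nat.ble 1126 i)) (Nat.ble 1125 i)) (Bool.rec (motive := fun _ => Nat) (Bool.rec (motive := fun _ => Nat) (0x144000007) (Bool.rec (motive := fun _ => Nat) (0x1000144000387) (0x2000144000971) (Nat.ble 1130 i)) (Nat.ble 1129 i)) (Bool.rec (motive := fun _ => Nat) (0x100014500064c) (Bool.rec (motive := fun _ => Nat) (0x2000145000d90) (0x3000145000ad6) (Nat.ble 1133 i)) (Nat.ble 1132 i)) (Nat.ble 1131 i)) (Nat.ble 1128 i)) (Bool.rec (motive := fun _ => Nat) (Bool.rec (motive := fun _ => Nat) (Bool.rec (motive := fun _ => Nat)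 (0x1000146000ea8) (Bool.rec (motive := fun _ => Nat) (0x2000146000dd0) (0x147000551) (Nat.ble 1136 i)) (Nat.ble 1135 i)) (Bool.rec (motive := fun _ => Nat) (0x10001470003bb) (Bool.rec (motive := fun _ => Nat) (0x148000329) (0x200014800066b) (Nat.ble 1139 i)) (Nat.ble 1138 i)) (Nat.ble 1137 i)) (Bool.rec (motive := fun _ => Nat) (Bool.rec (motive := fun _ => Nat) (0x30001480004f5) (Bool.rec (motive := fun _ => Nat) (0x1000149000bb9) (0x20001490007d7) (Nat.ble 1142 i)) (Nat.ble 1141 i)) (Bool.rec (motive := fun _ => Nat) (0x3000149000c74) (Bool.rec (motive := fun _ => Nat) (0x100014a0002c5) (0x300014a000bdf) (Nat.ble 1145 i)) (Nat.ble 1144 i)) (Nat.ble 1143 i)) (Nat.ble 1140 i)) (Nat.ble 1134 i)) (Bool.rec (motive := fun _ => Nat) (Bool.rec (motive := fun _ => Nat) (Bool.rec (motive := fun _ => Nat) (Bool.rec (motive := fun _ => Nat) (0x14b000427) (Bool.rec (motive := fun _ => Nat) (0x300014b000b61) (0x14c000573) (Nat.ble 1148 i)) (Nat.ble 1147 i)) (Bool.rec (motive := fun _ => Nat) (0x300014c000d14)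 (Bool.rec (motive := fun _ => Nat) (0x14d0005da) (0x200014d000e81) (Nat.ble 1151 i)) (Nat.ble 1150 i)) (Nat.ble 1149 i)) (Bool.rec (motive := fun _ => Nat) (Bool.rec (motive := fun _ => Nat) (0x300014d000248) (Bool.rec (motive := fun _ => Nat) (0x14e0006ad) (0x100014e000789) (Nat.ble 1154 i)) (Nat.ble 1153 i)) (Bool.rec (motive := fun _ => Nat) (0x200014e000e2b) (Bool.rec (motive := fun _ => Nat) (0x14f0000cc) (0x100014f000b6a) (Nat.ble 1157 i)) (Nat.ble 1156 i)) (Nat.ble 1155 i)) (Nat.ble 1152 i)) (Bool.rec (motive := fun _ => Nat) (Bool.rec (motive := fun _ => Nat) (Bool.rec (motive := fun _ => Nat) (0x300014f000c44) (Bool.rec (motive := fun _ => Nat) (0x15000050d) (0x1000150000efe) (Nat.ble 1160 i)) (Nat.ble 1159 i)) (Bool.rec (motive := fun _ => Nat) (0x2000150000e86) (Bool.rec (motive := fun _ => Nat) (0x151000f0d) (0x1000151000b58) (Nat.ble 1163 i)) (Nat.ble 1162 i)) (Nat.ble 1161 i)) (Bool.rec (motive := fun _ => Nat) (Bool.rec (motive := fun _ => Nat) (0x2000151000394) (Bool.rec (motive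 := fun _ => Nat) (0x3000151000e7a) (0x152000600) (Nat.ble 1166 i)) (Nat.ble 1165 i)) (Bool.rec (motive := fun _ => Nat) (Bool.rec (motive := fun _ => Nat) (0x3000152000985) (0x1530002f2) (Nat.ble 1168 i)) (Bool.rec (motive := fun _ => Nat) (0x100015300001b) (0x2000153000255) (Nat.ble 1170 i)) (Nat.ble 1169 i)) (Nat.ble 1167 i)) (Nat.ble 1164 i)) (Nat.ble 1158 i)) (Nat.ble 1146 i))
noncomputable def CA1P_24 (i : Nat) : Nat := (Bool.rec (motive := fun _ => Nat) (Bool.rec (motive := fun _ => Nat) (Bool.rec (motive := fun _ => Nat) (Bool.rec (motive := fun _ => Nat) (Bool.rec (motive := fun _ => Nat) (0x1000154000881) (Bool.rec (motive := fun _ => Nat) (0x20001540002aa) (0x30001540006ae) (Nat.ble 1173 i)) (Nat.ble 1172 i)) (Bool.rec (motive := fun _ => Nat) (0x1550007a1) (Bool.rec (motive := fun _ => Nat) (0x10001550007ab) (0x3000155000dc9) (Nat.ble 1176 i)) (Nat.ble 1175 i)) (Nat.ble 1174 i)) (Bool.rec (motive := fun _ => Nat) (Bool.rec (motive := fun _ => Nat) (0x30001560000de) (Bool.rec (motive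 := fun _ => Nat) (0x157000d8d) (0x30001570008ff) (Nat.ble 1179 i)) (Nat.ble 1178 i)) (Bool.rec (motive := fun _ => Nat) (0x1000158000ec1) (Bool.rec (motive := fun _ => Nat) (0x3000158000633) (0x1000159000ab3) (Nat.ble 1182 i)) (Nat.ble 1181 i)) (Nat.ble 1180 i)) (Nat.ble 1177 i)) (Bool.rec (motive := fun _ => Nat) (Bool.rec (motive := fun _ => Nat) (Bool.rec (motive := fun _ => Nat) (0x2000159000b2e) (Bool.rec (motive := fun _ => Nat) (0x3000159000c2f) (0x15a000d77) (Nat.ble 1185 i)) (Nat.ble 1184 i)) (Bool.rec (motive := fun _ => Nat) (0x100015a0009ad) (Bool.rec (motive := fun _ => Nat) (0x300015a0002a8) (0x15b000231) (Nat.ble 1188 i)) (Nat.ble 1187 i)) (Nat.ble 1186 i)) (Bool.rec (motive := fun _ => Nat) (Bool.rec (motive := fun _ => Nat) (0x100015b000f06) (Bool.rec (motive := fun _ => Nat) (0x200015b00054a) (0x300015b000895) (Nat.ble 1191 i)) (Nat.ble 1190 i)) (Bool.rec (motive := fun _ => Nat) (0x200015c000ce0) (Bool.rec (motive := fun _ => Nat) (0x300015c0002b7) (0x15d0009f7) (Nat.ble 1194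 i)) (Nat.ble 1193 i)) (Nat.ble 1192 i)) (Nat.ble 1189 i)) (Nat.ble 1183 i)) (Bool.rec (motive := fun _ => Nat) (Bool.rec (motive := fun _ => Nat) (Bool.rec (motive := fun _ => Nat) (Bool.rec (motive := fun _ => Nat) (0x200015d000c9e) (Bool.rec (motive := fun _ => Nat) (0x300015d00050b) (0x15e000e70) (Nat.ble 1197 i)) (Nat.ble 1196 i)) (Bool.rec (motive := fun _ => Nat) (0x100015e000ea7) (Bool.rec (motive := fun _ => Nat) (0x200015e0001e7) (0x300015e0008dc) (Nat.ble 1200 i)) (Nat.ble 1199 i)) (Nat.ble 1198 i)) (Bool.rec (motive := fun _ => Nat) (Bool.rec (motive := fun _ => Nat) (0x100015f0002c2) (Bool.rec (motive := fun _ => Nat) (0x200015f0003fc) (0x300015f000124) (Nat.ble 1203 i)) (Nat.ble 1202 i)) (Bool.rec (motive := fun _ => Nat) (0x160000dfd) (Bool.rec (motive := fun _ => Nat) (0x1000160000c19) (0x2000160000894) (Nat.ble 1206 i)) (Nat.ble 1205 i)) (Nat.ble 1204 i)) (Nat.ble 1201 i)) (Bool.rec (motive := fun _ => Nat) (Bool.rec (motive := fun _ => Nat) (Bool.rec (motive := fun _ => Nat)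 (0x3000160000438) (Bool.rec (motive := fun _ => Nat) (0x2000161000528) (0x16200016c) (Nat.ble 1209 i)) (Nat.ble 1208 i)) (Bool.rec (motive := fun _ => Nat) (0x3000162000b89) (Bool.rec (motive := fun _ => Nat) (0x1630003fb) (0x2000163000676) (Nat.ble 1212 i)) (Nat.ble 1211 i)) (Nat.ble 1210 i)) (Bool.rec (motive := fun _ => Nat) (Bool.rec (motive := fun _ => Nat) (0x164000cce) (Bool.rec (motive := fun _ => Nat) (0x1000164000359) (0x2000164000a5c) (Nat.ble 1215 i)) (Nat.ble 1214 i)) (Bool.rec (motive := fun _ => Nat) (0x3000164000df7) (Bool.rec (motive := fun _ => Nat) (0x10001650003a8) (0x200016500069e) (Nat.ble 1218 i)) (Nat.ble 1217 i)) (Nat.ble 1216 i)) (Nat.ble 1213 i)) (Nat.ble 1207 i)) (Nat.ble 1195 i))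
noncomputable def CA1P_25 (i : Nat) : Nat := (Bool.rec (motive := fun _ => Nat) (Bool.rec (motive := fun _ => Nat) (Bool.rec (motive := fun _ => Nat) (Bool.rec (motive := fun _ => Nat) (Bool.rec (motive := fun _ => Nat) (0x1000166000d30) (Bool.rec (motive := fun _ => Nat) (0x200016600052d) (0x30001660004e6) (Nat.ble 1221 i)) (Nat.ble 1220 i)) (Bool.rec (motive := fun _ => Nat) (0x167000b0c) (Bool.rec (motive := fun _ => Nat) (0x20001670002eb) (0x168000370) (Nat.ble 1224 i)) (Nat.ble 1223 i)) (Nat.ble 1222 i)) (Bool.rec (motive := fun _ => Nat) (Bool.rec (motive := fun _ => Nat) (0x200016800018e) (Bool.rec (motive := fun _ => Nat) (0x3000168000d81) (0x100016900043e) (Nat.ble 1227 i)) (Nat.ble 1226 i)) (Bool.rec (motive := fun _ => Nat) (0x16a000109) (Bool.rec (motive := fun _ => Nat) (0x100016a000447) (0x200016a0007cf) (Nat.ble 1230 i)) (Nat.ble 1229 i)) (Nat.ble 1228 i)) (Nat.ble 1225 i)) (Bool.rec (motive := fun _ => Nat) (Bool.rec (motive := fun _ => Nat) (Bool.rec (motive := fun _ => Nat)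 (0x300016a000de3) (Bool.rec (motive := fun _ => Nat) (0x200016b000337) (0x300016b000ea2) (Nat.ble 1233 i)) (Nat.ble 1232 i)) (Bool.rec (motive := fun _ => Nat) (0x100016c000b59) (Bool.rec (motive := fun _ => Nat) (0x200016c0005dc) (0x200016d0003eb) (Nat.ble 1236 i)) (Nat.ble 1235 i)) (Nat.ble 1234 i)) (Bool.rec (motive := fun _ => Nat) (Bool.rec (motive := fun _ => Nat) (0x300016d000d3a) (Bool.rec (motive := fun _ => Nat) (0x16e000cb7) (0x100016e000066) (Nat.ble 1239 i)) (Nat.ble 1238 i)) (Bool.rec (motive := fun _ => Nat) (0x200016e000acb) (Bool.rec (motive := fun _ => Nat) (0x16f0006b5) (0x100016f000a21) (Nat.ble 1242 i)) (Nat.ble 1241 i)) (Nat.ble 1240 i)) (Nat.ble 1237 i)) (Nat.ble 1231 i)) (Bool.rec (motive := fun _ => Nat) (Bool.rec (motive := fun _ => Nat) (Bool.rec (motive := fun _ => Nat) (Bool.rec (motive := fun _ => Nat) (0x300016f000cc4) (Bool.rec (motive := fun _ => Nat) (0x3000170000eaf) (0x171000426) (Nat.ble 1245 i)) (Nat.ble 1244 i)) (Bool.rec (motive := fun _ => Nat) (0x1000171000396)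 (Bool.rec (motive := fun _ => Nat) (0x200017100081f) (0x3000171000380) (Nat.ble 1248 i)) (Nat.ble 1247 i)) (Nat.ble 1246 i)) (Bool.rec (motive := fun _ => Nat) (Bool.rec (motive := fun _ => Nat) (0x172000d54) (Bool.rec (motive := fun _ => Nat) (0x1000172000446) (0x20001720008b8) (Nat.ble 1251 i)) (Nat.ble 1250 i)) (Bool.rec (motive := fun _ => Nat) (0x173000dd1) (Bool.rec (motive := fun _ => Nat) (0x200017300059f) (0x300017300061a) (Nat.ble 1254 i)) (Nat.ble 1253 i)) (Nat.ble 1252 i)) (Nat.ble 1249 i)) (Bool.rec (motive := fun _ => Nat) (Bool.rec (motive := fun _ => Nat) (Bool.rec (motive := fun _ => Nat) (0x200017400010e) (Bool.rec (motive := fun _ => Nat) (0x3000174000b03) (0x1000175000d27) (Nat.ble 1257 i)) (Nat.ble 1256 i)) (Bool.rec (motive := fun _ => Nat) (0x30001750007ce) (Bool.rec (motive := fun _ => Nat) (0x200017600089d) (0x100017700004c) (Nat.ble 1260 i)) (Nat.ble 1259 i)) (Nat.ble 1258 i)) (Bool.rec (motive := fun _ => Nat) (Bool.rec (motive := fun _ => Nat) (0x20001770006e9) (Bool.rec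 (motive := fun _ => Nat) (0x3000177000607) (0x178000777) (Nat.ble 1263 i)) (Nat.ble 1262 i)) (Bool.rec (motive := fun _ => Nat) (Bool.rec (motive := fun _ => Nat) (0x10001780004f6) (0x300017800094b) (Nat.ble 1265 i)) (Bool.rec (motive := fun _ => Nat) (0x17900043b) (0x10001790004e0) (Nat.ble 1267 i)) (Nat.ble 1266 i)) (Nat.ble 1264 i)) (Nat.ble 1261 i)) (Nat.ble 1255 i)) (Nat.ble 1243 i))
noncomputable def CA1P_26 (i : Nat) : Nat := (Bool.rec (motive := fun _ => Nat) (Bool.rec (motive := fun _ => Nat) (Bool.rec (motive := fun _ => Nat) (Bool.rec (motive := fun _ => Nat) (Bool.rec (motive := fun _ => Nat) (0x2000179000e43) (Bool.rec (motive := fun _ => Nat) (0x17a000386) (0x100017a0002db) (Nat.ble 1270 i)) (Nat.ble 1269 i)) (Bool.rec (motive := fun _ => Nat) (0x300017a000393) (Bool.rec (motive := fun _ => Nat) (0x17b000770) (0x200017b000b3d) (Nat.ble 1273 i)) (Nat.ble 1272 i)) (Nat.ble 1271 i)) (Bool.rec (motive := fun _ => Nat) (Bool.rec (motive := fun _ => Nat) (0x17c000de5) (Bool.rec (motive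 := fun _ => Nat) (0x100017c0006ce) (0x200017c000a65) (Nat.ble 1276 i)) (Nat.ble 1275 i)) (Bool.rec (motive := fun _ => Nat) (0x300017c000519) (Bool.rec (motive := fun _ => Nat) (0x17d000312) (0x100017e00096f) (Nat.ble 1279 i)) (Nat.ble 1278 i)) (Nat.ble 1277 i)) (Nat.ble 1274 i)) (Bool.rec (motive := fun _ => Nat) (Bool.rec (motive := fun _ => Nat) (Bool.rec (motive := fun _ => Nat) (0x300017e000d9e) (Bool.rec (motive := fun _ => Nat) (0x17f00035a) (0x300017f000bfa) (Nat.ble 1282 i)) (Nat.ble 1281 i)) (Bool.rec (motive := fun _ => Nat) (0x1800005ad) (Bool.rec (motive := fun _ => Nat) (0x2000180000245) (0x3000180000503) (Nat.ble 1285 i)) (Nat.ble 1284 i)) (Nat.ble 1283 i)) (Bool.rec (motive := fun _ => Nat) (Bool.rec (motive := fun _ => Nat) (0x181000064) (Bool.rec (motive := fun _ => Nat) (0x2000181000db5) (0x300018100010f) (Nat.ble 1288 i)) (Nat.ble 1287 i)) (Bool.rec (motive := fun _ => Nat) (0x2000182000647) (Bool.rec (motive := fun _ => Nat) (0x3000182000e87) (0x1830007ac) (Nat.ble 1291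 i)) (Nat.ble 1290 i)) (Nat.ble 1289 i)) (Nat.ble 1286 i)) (Nat.ble 1280 i)) (Bool.rec (motive := fun _ => Nat) (Bool.rec (motive := fun _ => Nat) (Bool.rec (motive := fun _ => Nat) (Bool.rec (motive := fun _ => Nat) (0x10001830006c4) (Bool.rec (motive := fun _ => Nat) (0x185000c29) (0x186000bdc) (Nat.ble 1294 i)) (Nat.ble 1293 i)) (Bool.rec (motive := fun _ => Nat) (0x1000186000046) (Bool.rec (motive := fun _ => Nat) (0x1870007d6) (0x3000187000716) (Nat.ble 1297 i)) (Nat.ble 1296 i)) (Nat.ble 1295 i)) (Bool.rec (motive := fun _ => Nat) (Bool.rec (motive := fun _ => Nat) (0x1000188000704) (Bool.rec (motive := fun _ => Nat) (0x20001880000b0) (0x189000c61) (Nat.ble 1300 i)) (Nat.ble 1299 i)) (Bool.rec (motive := fun _ => Nat) (0x10001890002b9) (Bool.rec (motive := fun _ => Nat) (0x30001890005fc) (0x300018a0006e0) (Nat.ble 1303 i)) (Nat.ble 1302 i)) (Nat.ble 1301 i)) (Nat.ble 1298 i)) (Bool.rec (motive := fun _ => Nat) (Bool.rec (motive := fun _ => Nat) (Bool.rec (motive := fun _ => Nat) (0x18b000b71)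 (Bool.rec (motive := fun _ => Nat) (0x18c00065b) (0x100018c000441) (Nat.ble 1306 i)) (Nat.ble 1305 i)) (Bool.rec (motive := fun _ => Nat) (0x200018c000c5c) (Bool.rec (motive := fun _ => Nat) (0x300018c000355) (0x18d000eb0) (Nat.ble 1309 i)) (Nat.ble 1308 i)) (Nat.ble 1307 i)) (Bool.rec (motive := fun _ => Nat) (Bool.rec (motive := fun _ => Nat) (0x100018d000374) (Bool.rec (motive := fun _ => Nat) (0x200018d0004fc) (0x300018e0002fa) (Nat.ble 1312 i)) (Nat.ble 1311 i)) (Bool.rec (motive := fun _ => Nat) (Bool.rec (motive := fun _ => Nat) (0x18f000cd7) (0x100018f0005b9) (Nat.ble 1314 i)) (Bool.rec (motive := fun _ => Nat) (0x200018f0005fb) (0x300018f000618) (Nat.ble 1316 i)) (Nat.ble 1315 i)) (Nat.ble 1313 i)) (Nat.ble 1310 i)) (Nat.ble 1304 i)) (Nat.ble 1292 i))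
noncomputable def CA1P_27 (i : Nat) : Nat := (Bool.rec (motive := fun _ => Nat) (Bool.rec (motive := fun _ => Nat) (Bool.rec (motive := fun _ => Nat) (Bool.rec (motive := fun _ => Nat) (Bool.rec (motive := fun _ => Nat) (0x190000e4d) (Bool.rec (motive := fun _ => Nat) (0x1000190000691) (0x20001900008c1) (Nat.ble 1319 i)) (Nat.ble 1318 i)) (Bool.rec (motive := fun _ => Nat) (0x3000190000896) (Bool.rec (motive := fun _ => Nat) (0x191000adc) (0x2000191000a6f) (Nat.ble 1322 i)) (Nat.ble 1321 i)) (Nat.ble 1320 i)) (Bool.rec (motive := fun _ => Nat) (Bool.rec (motive := fun _ => Nat) (0x3000191000a8c) (Bool.rec (motive := fun _ => Nat) (0x19200036b) (0x1000192000d34) (Nat.ble 1325 i)) (Nat.ble 1324 i)) (Bool.rec (motive := fun _ => Nat) (0x2000192000a68) (Bool.rec (motive := fun _ => Nat) (0x3000192000dab) (0x100019300076f) (Nat.ble 1328 i)) (Nat.ble 1327 i)) (Nat.ble 1326 i)) (Nat.ble 1323 i)) (Bool.rec (motive := fun _ => Nat) (Bool.rec (motive := fun _ => Nat) (Bool.rec (motive := fun _ => Nat)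 (0x2000193000829) (Bool.rec (motive := fun _ => Nat) (0x1940001e8) (0x100019400011b) (Nat.ble 1331 i)) (Nat.ble 1330 i)) (Bool.rec (motive := fun _ => Nat) (0x2000194000994) (Bool.rec (motive := fun _ => Nat) (0x1000195000310) (0x300019500094e) (Nat.ble 1334 i)) (Nat.ble 1333 i)) (Nat.ble 1332 i)) (Bool.rec (motive := fun _ => Nat) (Bool.rec (motive := fun _ => Nat) (0x196000cfd) (Bool.rec (motive := fun _ => Nat) (0x10001960005a1) (0x2000196000d10) (Nat.ble 1337 i)) (Nat.ble 1336 i)) (Bool.rec (motive := fun _ => Nat) (0x197000897) (Bool.rec (motive := fun _ => Nat) (0x1000197000d71) (0x2000197000dd7) (Nat.ble 1340 i)) (Nat.ble 1339 i)) (Nat.ble 1338 i)) (Nat.ble 1335 i)) (Nat.ble 1329 i)) (Bool.rec (motive := fun _ => Nat) (Bool.rec (motive := fun _ => Nat) (Bool.rec (motive := fun _ => Nat) (Bool.rec (motive := fun _ => Nat) (0x3000197000bf7) (Bool.rec (motive := fun _ => Nat) (0x198000125) (0x1000198000428) (Nat.ble 1343 i)) (Nat.ble 1342 i)) (Bool.rec (motive := fun _ => Nat) (0x200019800052e)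 (Bool.rec (motive := fun _ => Nat) (0x3000198000761) (0x199000425) (Nat.ble 1346 i)) (Nat.ble 1345 i)) (Nat.ble 1344 i)) (Bool.rec (motive := fun _ => Nat) (Bool.rec (motive := fun _ => Nat) (0x20001990008b4) (Bool.rec (motive := fun _ => Nat) (0x19a000f28) (0x100019a0003df) (Nat.ble 1349 i)) (Nat.ble 1348 i)) (Bool.rec (motive := fun _ => Nat) (0x200019a0003f2) (Bool.rec (motive := fun _ => Nat) (0x300019a000023) (0x19b0006cf) (Nat.ble 1352 i)) (Nat.ble 1351 i)) (Nat.ble 1350 i)) (Nat.ble 1347 i)) (Bool.rec (motive := fun _ => Nat) (Bool.rec (motive := fun _ => Nat) (Bool.rec (motive := fun _ => Nat) (0x100019b0003fe) (Bool.rec (motive := fun _ => Nat) (0x200019b000728) (0x19c000ec9) (Nat.ble 1355 i)) (Nat.ble 1354 i)) (Bool.rec (motive := fun _ => Nat) (0x100019c000bbc) (Bool.rec (motive := fun _ => Nat) (0x200019d000335) (0x300019d00026a) (Nat.ble 1358 i)) (Nat.ble 1357 i)) (Nat.ble 1356 i)) (Bool.rec (motive := fun _ => Nat) (Bool.rec (motive := fun _ => Nat) (0x19e0002fd) (Bool.rec (motive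 := fun _ => Nat) (0x200019e0009f6) (0x100019f000e7c) (Nat.ble 1361 i)) (Nat.ble 1360 i)) (Bool.rec (motive := fun _ => Nat) (Bool.rec (motive := fun _ => Nat) (0x200019f00078d) (0x300019f000887) (Nat.ble 1363 i)) (Bool.rec (motive := fun _ => Nat) (0x1a0000d9a) (0x10001a0000637) (Nat.ble 1365 i)) (Nat.ble 1364 i)) (Nat.ble 1362 i)) (Nat.ble 1359 i)) (Nat.ble 1353 i)) (Nat.ble 1341 i))
noncomputable def CA1P_28 (i : Nat) : Nat := (Bool.rec (motive := fun _ => Nat) (Bool.rec (motive := fun _ => Nat) (Bool.rec (motive := fun _ => Nat) (Bool.rec (motive := fun _ => Nat) (Bool.rec (motive := fun _ => Nat) (0x20001a0000b96) (Bool.rec (motive := fun _ => Nat) (0x1a100078b) (0x30001a1000e51) (Nat.ble 1368 i)) (Nat.ble 1367 i)) (Bool.rec (motive := fun _ => Nat) (0x1a200043d) (Bool.rec (motive := fun _ => Nat) (0x10001a200089a) (0x20001a200030b) (Nat.ble 1371 i)) (Nat.ble 1370 i)) (Nat.ble 1369 i)) (Bool.rec (motive := fun _ => Nat) (Bool.rec (motive := fun _ => Nat) (0x10001a3000648) (Bool.rec (motive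 := fun _ => Nat) (0x20001a3000458) (0x1a4000d16) (Nat.ble 1374 i)) (Nat.ble 1373 i)) (Bool.rec (motive := fun _ => Nat) (0x1a5000471) (Bool.rec (motive := fun _ => Nat) (0x20001a5000c84) (0x30001a5000078) (Nat.ble 1377 i)) (Nat.ble 1376 i)) (Nat.ble 1375 i)) (Nat.ble 1372 i)) (Bool.rec (motive := fun _ => Nat) (Bool.rec (motive := fun _ => Nat) (Bool.rec (motive := fun _ => Nat) (0x1a6000cf1) (Bool.rec (motive := fun _ => Nat) (0x10001a600016f) (0x1a70007ba) (Nat.ble 1380 i)) (Nat.ble 1379 i)) (Bool.rec (motive := fun _ => Nat) (0x10001a7000721) (Bool.rec (motive := fun _ => Nat) (0x20001a7000ae6) (0x30001a7000af5) (Nat.ble 1383 i)) (Nat.ble 1382 i)) (Nat.ble 1381 i)) (Bool.rec (motive := fun _ => Nat) (Bool.rec (motive := fun _ => Nat) (0x20001a8000a79) (Bool.rec (motive := fun _ => Nat) (0x1a90004f0) (0x20001a9000bd3) (Nat.ble 1386 i)) (Nat.ble 1385 i)) (Bool.rec (motive := fun _ => Nat) (0x30001a90002d2) (Bool.rec (motive := fun _ => Nat) (0x1aa000b2c) (0x30001aa000866) (Nat.ble 1389 i))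 (Nat.ble 1388 i)) (Nat.ble 1387 i)) (Nat.ble 1384 i)) (Nat.ble 1378 i)) (Bool.rec (motive := fun _ => Nat) (Bool.rec (motive := fun _ => Nat) (Bool.rec (motive := fun _ => Nat) (Bool.rec (motive := fun _ => Nat) (0x10001ab0002d7) (Bool.rec (motive := fun _ => Nat) (0x20001ab0009b3) (0x1ac000cb4) (Nat.ble 1392 i)) (Nat.ble 1391 i)) (Bool.rec (motive := fun _ => Nat) (0x20001ac00028f) (Bool.rec (motive := fun _ => Nat) (0x30001ac0000a3) (0x1ad0005e0) (Nat.ble 1395 i)) (Nat.ble 1394 i)) (Nat.ble 1393 i)) (Bool.rec (motive := fun _ => Nat) (Bool.rec (motive := fun _ => Nat) (0x10001ad000835) (Bool.rec (motive := fun _ => Nat) (0x20001ad000ca8) (0x1ae00046c) (Nat.ble 1398 i)) (Nat.ble 1397 i)) (Bool.rec (motive := fun _ => Nat) (0x10001ae000a57) (Bool.rec (motive := fun _ => Nat) (0x30001ae000cc9) (0x1af000610) (Nat.ble 1401 i)) (Nat.ble 1400 i)) (Nat.ble 1399 i)) (Nat.ble 1396 i)) (Bool.rec (motive := fun _ => Nat) (Bool.rec (motive := fun _ => Nat) (Bool.rec (motive := fun _ => Nat) (0x20001af0002ec)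 (Bool.rec (motive := fun _ => Nat) (0x30001af000846) (0x20001b0000174) (Nat.ble 1404 i)) (Nat.ble 1403 i)) (Bool.rec (motive := fun _ => Nat) (0x30001b0000dff) (Bool.rec (motive := fun _ => Nat) (0x1b1000821) (0x20001b10007d2) (Nat.ble 1407 i)) (Nat.ble 1406 i)) (Nat.ble 1405 i)) (Bool.rec (motive := fun _ => Nat) (Bool.rec (motive := fun _ => Nat) (0x1b2000352) (Bool.rec (motive := fun _ => Nat) (0x10001b200009f) (0x30001b2000e55) (Nat.ble 1410 i)) (Nat.ble 1409 i)) (Bool.rec (motive := fun _ => Nat) (Bool.rec (motive := fun _ => Nat) (0x20001b3000a26) (0x30001b3000cbb) (Nat.ble 1412 i)) (Bool.rec (motive := fun _ => Nat) (0x10001b5000ba8) (0x20001b500005d) (Nat.ble 1414 i)) (Nat.ble 1413 i)) (Nat.ble 1411 i)) (Nat.ble 1408 i)) (Nat.ble 1402 i)) (Nat.ble 1390 i))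
noncomputable def CA1P_29 (i : Nat) : Nat := (Bool.rec (motive := fun _ => Nat) (Bool.rec (motive := fun _ => Nat) (Bool.rec (motive := fun _ => Nat) (Bool.rec (motive := fun _ => Nat) (Bool.rec (motive := fun _ => Nat) (0x30001b5000afc) (Bool.rec (motive := fun _ => Nat) (0x10001b6000eb9) (0x30001b600066f) (Nat.ble 1417 i)) (Nat.ble 1416 i)) (Bool.rec (motive := fun _ => Nat) (0x1b700069d) (Bool.rec (motive := fun _ => Nat) (0x10001b7000440) (0x20001b7000d4e) (Nat.ble 1420 i)) (Nat.ble 1419 i)) (Nat.ble 1418 i)) (Bool.rec (motive := fun _ => Nat) (Bool.rec (motive := fun _ => Nat) (0x30001b70007f0) (Bool.rec (motive := fun _ => Nat) (0x10001b8000401) (0x1b90007a2) (Nat.ble 1423 i)) (Nat.ble 1422 i)) (Bool.rec (motive := fun _ => Nat) (0x20001b90009ac) (Bool.rec (motive := fun _ => Nat) (0x30001b9000545) (0x1ba0007fc) (Nat.ble 1426 i)) (Nat.ble 1425 i)) (Nat.ble 1424 i)) (Nat.ble 1421 i)) (Bool.rec (motive := fun _ => Nat) (Bool.rec (motive := fun _ => Nat) (Bool.rec (motive := fun _ => Nat)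 (0x10001ba0000ae) (Bool.rec (motive := fun _ => Nat) (0x30001ba000844) (0x1bb000d02) (Nat.ble 1429 i)) (Nat.ble 1428 i)) (Bool.rec (motive := fun _ => Nat) (0x10001bb000d69) (Bool.rec (motive := fun _ => Nat) (0x1bc000c8f) (0x20001bc00088d) (Nat.ble 1432 i)) (Nat.ble 1431 i)) (Nat.ble 1430 i)) (Bool.rec (motive := fun _ => Nat) (Bool.rec (motive := fun _ => Nat) (0x30001bc000b31) (Bool.rec (motive := fun _ => Nat) (0x1bd0009d4) (0x10001bd000a3e) (Nat.ble 1435 i)) (Nat.ble 1434 i)) (Bool.rec (motive := fun _ => Nat) (0x20001bd0002d4) (Bool.rec (motive := fun _ => Nat) (0x30001bd00077b) (0x10001be000e22) (Nat.ble 1438 i)) (Nat.ble 1437 i)) (Nat.ble 1436 i)) (Nat.ble 1433 i)) (Nat.ble 1427 i)) (Bool.rec (motive := fun _ => Nat) (Bool.rec (motive := fun _ => Nat) (Bool.rec (motive := fun _ => Nat) (Bool.rec (motive := fun _ => Nat) (0x20001be000709) (Bool.rec (motive := fun _ => Nat) (0x30001be000638) (0x1bf00067a) (Nat.ble 1441 i)) (Nat.ble 1440 i)) (Bool.rec (motive := fun _ => Nat) (0x10001bf000bbe)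 (Bool.rec (motive := fun _ => Nat) (0x20001bf000249) (0x30001bf000742) (Nat.ble 1444 i)) (Nat.ble 1443 i)) (Nat.ble 1442 i)) (Bool.rec (motive := fun _ => Nat) (Bool.rec (motive := fun _ => Nat) (0x1c0000649) (Bool.rec (motive := fun _ => Nat) (0x10001c0000acf) (0x20001c0000bd1) (Nat.ble 1447 i)) (Nat.ble 1446 i)) (Bool.rec (motive := fun _ => Nat) (0x10001c1000726) (Bool.rec (motive := fun _ => Nat) (0x20001c1000828) (0x1c20004da) (Nat.ble 1450 i)) (Nat.ble 1449 i)) (Nat.ble 1448 i)) (Nat.ble 1445 i)) (Bool.rec (motive := fun _ => Nat) (Bool.rec (motive := fun _ => Nat) (Bool.rec (motive := fun _ => Nat) (0x10001c2000b24) (Bool.rec (motive := fun _ => Nat) (0x20001c20008cb) (0x30001c2000ae8) (Nat.ble 1453 i)) (Nat.ble 1452 i)) (Bool.rec (motive := fun _ => Nat) (0x1c30005a4) (Bool.rec (motive := fun _ => Nat) (0x10001c3000904) (0x30001c3000ce3) (Nat.ble 1456 i)) (Nat.ble 1455 i)) (Nat.ble 1454 i)) (Bool.rec (motive := fun _ => Nat) (Bool.rec (motive := fun _ => Nat) (0x1c4000390) (Bool.rec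 (motive := fun _ => Nat) (0x10001c40007c5) (0x30001c4000c75) (Nat.ble 1459 i)) (Nat.ble 1458 i)) (Bool.rec (motive := fun _ => Nat) (Bool.rec (motive := fun _ => Nat) (0x1c5000cd8) (0x10001c5000b1f) (Nat.ble 1461 i)) (Bool.rec (motive := fun _ => Nat) (0x20001c5000127) (0x30001c50004fa) (Nat.ble 1463 i)) (Nat.ble 1462 i)) (Nat.ble 1460 i)) (Nat.ble 1457 i)) (Nat.ble 1451 i)) (Nat.ble 1439 i))
noncomputable def CA1P_30 (i : Nat) : Nat := (Bool.rec (motive := fun _ => Nat) (Bool.rec (motive := fun _ => Nat) (Bool.rec (motive := fun _ => Nat) (Bool.rec (motive := fun _ => Nat) (Bool.rec (motive := fun _ => Nat) (0x1c60008a3) (Bool.rec (motive := fun _ => Nat) (0x10001c6000879) (0x20001c6000169) (Nat.ble 1466 i)) (Nat.ble 1465 i)) (Bool.rec (motive := fun _ => Nat) (0x30001c6000311) (Bool.rec (motive := fun _ => Nat) (0x1c70003f0) (0x10001c70000f2) (Nat.ble 1469 i)) (Nat.ble 1468 i)) (Nat.ble 1467 i)) (Bool.rec (motive := fun _ => Nat) (Bool.rec (motive := fun _ => Nat) (0x20001c7000c4e) (Bool.rec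 (motive := fun _ => Nat) (0x30001c700058c) (0x1c80003c7) (Nat.ble 1472 i)) (Nat.ble 1471 i)) (Bool.rec (motive := fun _ => Nat) (0x20001c8000968) (Bool.rec (motive := fun _ => Nat) (0x30001c8000017) (0x10001c900086d) (Nat.ble 1475 i)) (Nat.ble 1474 i)) (Nat.ble 1473 i)) (Nat.ble 1470 i)) (Bool.rec (motive := fun _ => Nat) (Bool.rec (motive := fun _ => Nat) (Bool.rec (motive := fun _ => Nat) (0x20001c9000961) (Bool.rec (motive := fun _ => Nat) (0x1ca00007e) (0x10001ca00001c) (Nat.ble 1478 i)) (Nat.ble 1477 i)) (Bool.rec (motive := fun _ => Nat) (0x20001ca000711) (Bool.rec (motive := fun _ => Nat) (0x30001ca0006dd) (0x1cb000767) (Nat.ble 1481 i)) (Nat.ble 1480 i)) (Nat.ble 1479 i)) (Bool.rec (motive := fun _ => Nat) (Bool.rec (motive := fun _ => Nat) (0x10001cb0001e3) (Bool.rec (motive := fun _ => Nat) (0x30001cb000c1e) (0x1cc0006a9) (Nat.ble 1484 i)) (Nat.ble 1483 i)) (Bool.rec (motive := fun _ => Nat) (0x10001cc000541) (Bool.rec (motive := fun _ => Nat) (0x20001cc00000a) (0x30001cc00046e) (Nat.ble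 1487 i)) (Nat.ble 1486 i)) (Nat.ble 1485 i)) (Nat.ble 1482 i)) (Nat.ble 1476 i)) (Bool.rec (motive := fun _ => Nat) (Bool.rec (motive := fun _ => Nat) (Bool.rec (motive := fun _ => Nat) (Bool.rec (motive := fun _ => Nat) (0x1cd0003e4) (Bool.rec (motive := fun _ => Nat) (0x10001cd0006fe) (0x20001cd000681) (Nat.ble 1490 i)) (Nat.ble 1489 i)) (Bool.rec (motive := fun _ => Nat) (0x30001cd0006e8) (Bool.rec (motive := fun _ => Nat) (0x1ce000051) (0x10001ce000807) (Nat.ble 1493 i)) (Nat.ble 1492 i)) (Nat.ble 1491 i)) (Bool.rec (motive := fun _ => Nat) (Bool.rec (motive := fun _ => Nat) (0x20001ce000dd3) (Bool.rec (motive := fun _ => Nat) (0x30001cf00018d) (0x1d0000871) (Nat.ble 1496 i)) (Nat.ble 1495 i)) (Bool.rec (motive := fun _ => Nat) (0x20001d0000d4b) (Bool.rec (motive := fun _ => Nat) (0x30001d0000323) (0x1d1000bc5) (Nat.ble 1499 i)) (Nat.ble 1498 i)) (Nat.ble 1497 i)) (Nat.ble 1494 i)) (Bool.rec (motive := fun _ => Nat) (Bool.rec (motive := fun _ => Nat) (Bool.rec (motive := fun _ => Nat) (0x10001d1000d79)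 (Bool.rec (motive := fun _ => Nat) (0x20001d10008c0) (0x1d20006d4) (Nat.ble 1502 i)) (Nat.ble 1501 i)) (Bool.rec (motive := fun _ => Nat) (0x10001d2000692) (Bool.rec (motive := fun _ => Nat) (0x20001d20002c0) (0x30001d2000a96) (Nat.ble 1505 i)) (Nat.ble 1504 i)) (Nat.ble 1503 i)) (Bool.rec (motive := fun _ => Nat) (Bool.rec (motive := fun _ => Nat) (0x1d3000526) (Bool.rec (motive := fun _ => Nat) (0x10001d3000a0e) (0x20001d30007af) (Nat.ble 1508 i)) (Nat.ble 1507 i)) (Bool.rec (motive := fun _ => Nat) (Bool.rec (motive := fun _ => Nat) (0x10001d4000448) (0x20001d4000aa9) (Nat.ble 1510 i)) (Bool.rec (motive := fun _ => Nat) (0x10001d50000b3) (0x20001d50007c1) (Nat.ble 1512 i)) (Nat.ble 1511 i)) (Nat.ble 1509 i)) (Nat.ble 1506 i)) (Nat.ble 1500 i)) (Nat.ble 1488 i))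
noncomputable def CA1P_31 (i : Nat) : Nat := (Bool.rec (motive := fun _ => Nat) (Bool.rec (motive := fun _ => Nat) (Bool.rec (motive := fun _ => Nat) (Bool.rec (motive := fun _ => Nat) (Bool.rec (motive := fun _ => Nat) (0x10001d60004e1) (Bool.rec (motive := fun _ => Nat) (0x30001d60000d3) (0x30001d700006c) (Nat.ble 1515 i)) (Nat.ble 1514 i)) (Bool.rec (motive := fun _ => Nat) (0x1d800099b) (Bool.rec (motive := fun _ => Nat) (0x10001d8000a0d) (0x20001d8000cbe) (Nat.ble 1518 i)) (Nat.ble 1517 i)) (Nat.ble 1516 i)) (Bool.rec (motive := fun _ => Nat) (Bool.rec (motive := fun _ => Nat) (0x1d90000f8) (Bool.rec (motive := fun _ => Nat) (0x10001d90003c1) (0x20001d9000f15) (Nat.ble 1521 i)) (Nat.ble 1520 i)) (Bool.rec (motive := fun _ => Nat) (0x30001d9000e35) (Bool.rec (motive := fun _ => Nat) (0x1da000d6c) (0x1db000a92) (Nat.ble 1524 i)) (Nat.ble 1523 i)) (Nat.ble 1522 i)) (Nat.ble 1519 i)) (Bool.rec (motive := fun _ => Nat) (Bool.rec (motive := fun _ => Nat) (Bool.rec (motive := fun _ => Nat) (0x20001db000d42)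 (Bool.rec (motive := fun _ => Nat) (0x30001db0006cc) (0x1dc00057b) (Nat.ble 1527 i)) (Nat.ble 1526 i)) (Bool.rec (motive := fun _ => Nat) (0x30001dc000227) (Bool.rec (motive := fun _ => Nat) (0x1dd00095b) (0x10001dd000959) (Nat.ble 1530 i)) (Nat.ble 1529 i)) (Nat.ble 1528 i)) (Bool.rec (motive := fun _ => Nat) (Bool.rec (motive := fun _ => Nat) (0x20001dd000242) (Bool.rec (motive := fun _ => Nat) (0x30001dd000669) (0x1de000158) (Nat.ble 1533 i)) (Nat.ble 1532 i)) (Bool.rec (motive := fun _ => Nat) (0x20001de0000f7) (Bool.rec (motive := fun _ => Nat) (0x1df00044d) (0x20001df000326) (Nat.ble 1536 i)) (Nat.ble 1535 i)) (Nat.ble 1534 i)) (Nat.ble 1531 i)) (Nat.ble 1525 i)) (Bool.rec (motive := fun _ => Nat) (Bool.rec (motive := fun _ => Nat) (Bool.rec (motive := fun _ => Nat) (Bool.rec (motive := fun _ => Nat) (0x1e0000737) (Bool.rec (motive := fun _ => Nat) (0x10001e000086c) (0x20001e000041c) (Nat.ble 1539 i)) (Nat.ble 1538 i)) (Bool.rec (motive := fun _ => Nat) (0x1e10003d0) (Bool.rec (motive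 := fun _ => Nat) (0x10001e1000bc1) (0x30001e1000260) (Nat.ble 1542 i)) (Nat.ble 1541 i)) (Nat.ble 1540 i)) (Bool.rec (motive := fun _ => Nat) (Bool.rec (motive := fun _ => Nat) (0x10001e200030f) (Bool.rec (motive := fun _ => Nat) (0x20001e200079c) (0x30001e200068c) (Nat.ble 1545 i)) (Nat.ble 1544 i)) (Bool.rec (motive := fun _ => Nat) (0x1e3000c66) (Bool.rec (motive := fun _ => Nat) (0x10001e4000e7e) (0x20001e4000c3b) (Nat.ble 1548 i)) (Nat.ble 1547 i)) (Nat.ble 1546 i)) (Nat.ble 1543 i)) (Bool.rec (motive := fun _ => Nat) (Bool.rec (motive := fun _ => Nat) (Bool.rec (motive := fun _ => Nat) (0x30001e4000d66) (Bool.rec (motive := fun _ => Nat) (0x10001e5000b4d) (0x20001e50006d3) (Nat.ble 1551 i)) (Nat.ble 1550 i)) (Bool.rec (motive := fun _ => Nat) (0x30001e5000df6) (Bool.rec (motive := fun _ => Nat) (0x1e600024f) (0x10001e6000b1b) (Nat.ble 1554 i)) (Nat.ble 1553 i)) (Nat.ble 1552 i)) (Bool.rec (motive := fun _ => Nat) (Bool.rec (motive := fun _ => Nat) (0x20001e6000d9d) (Bool.rec (motive :=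 fun _ => Nat) (0x30001e6000edc) (0x10001e7000634) (Nat.ble 1557 i)) (Nat.ble 1556 i)) (Bool.rec (motive := fun _ => Nat) (Bool.rec (motive := fun _ => Nat) (0x20001e7000934) (0x30001e7000287) (Nat.ble 1559 i)) (Bool.rec (motive := fun _ => Nat) (0x10001e8000aa7) (0x20001e9000e50) (Nat.ble 1561 i)) (Nat.ble 1560 i)) (Nat.ble 1558 i)) (Nat.ble 1555 i)) (Nat.ble 1549 i)) (Nat.ble 1537 i))
noncomputable def CA1P_32 (i : Nat) : Nat := (Bool.rec (motive := fun _ => Nat) (Bool.rec (motive := fun _ => Nat) (Bool.rec (motive := fun _ => Nat) (Bool.rec (motive := fun _ => Nat) (Bool.rec (motive := fun _ => Nat) (0x30001e90002cf) (Bool.rec (motive := fun _ => Nat) (0x1ea000544) (0x20001ea000b6c) (Nat.ble 1564 i)) (Nat.ble 1563 i)) (Bool.rec (motive := fun _ => Nat) (0x30001ea00031d) (Bool.rec (motive := fun _ => Nat) (0x1eb000c6c) (0x10001eb0002b6) (Nat.ble 1567 i)) (Nat.ble 1566 i)) (Nat.ble 1565 i)) (Bool.rec (motive := fun _ => Nat) (Bool.rec (motive := fun _ => Nat) (0x20001eb00065c) (Bool.rec (motive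 := fun _ => Nat) (0x30001eb00001f) (0x10001ec00093d) (Nat.ble 1570 i)) (Nat.ble 1569 i)) (Bool.rec (motive := fun _ => Nat) (0x20001ec0000ea) (Bool.rec (motive := fun _ => Nat) (0x1ed000adb) (0x20001ed00034c) (Nat.ble 1573 i)) (Nat.ble 1572 i)) (Nat.ble 1571 i)) (Nat.ble 1568 i)) (Bool.rec (motive := fun _ => Nat) (Bool.rec (motive := fun _ => Nat) (Bool.rec (motive := fun _ => Nat) (0x30001ed0006da) (Bool.rec (motive := fun _ => Nat) (0x1ee000372) (0x20001ee0007df) (Nat.ble 1576 i)) (Nat.ble 1575 i)) (Bool.rec (motive := fun _ => Nat) (0x1ef0006aa) (Bool.rec (motive := fun _ => Nat) (0x10001ef0009af) (0x20001ef0000e8) (Nat.ble 1579 i)) (Nat.ble 1578 i)) (Nat.ble 1577 i)) (Bool.rec (motive := fun _ => Nat) (Bool.rec (motive := fun _ => Nat) (0x30001ef0006f0) (Bool.rec (motive := fun _ => Nat) (0x1f0000c1f) (0x20001f000071a) (Nat.ble 1582 i)) (Nat.ble 1581 i)) (Bool.rec (motive := fun _ => Nat) (0x30001f1000c8c) (Bool.rec (motive := fun _ => Nat) (0x20001f2000416) (0x30001f2000357) (Nat.ble 1585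 i)) (Nat.ble 1584 i)) (Nat.ble 1583 i)) (Nat.ble 1580 i)) (Nat.ble 1574 i)) (Bool.rec (motive := fun _ => Nat) (Bool.rec (motive := fun _ => Nat) (Bool.rec (motive := fun _ => Nat) (Bool.rec (motive := fun _ => Nat) (0x1f3000400) (Bool.rec (motive := fun _ => Nat) (0x20001f3000b16) (0x30001f3000f00) (Nat.ble 1588 i)) (Nat.ble 1587 i)) (Bool.rec (motive := fun _ => Nat) (0x1f400039f) (Bool.rec (motive := fun _ => Nat) (0x10001f400031e) (0x20001f4000be9) (Nat.ble 1591 i)) (Nat.ble 1590 i)) (Nat.ble 1589 i)) (Bool.rec (motive := fun _ => Nat) (Bool.rec (motive := fun _ => Nat) (0x30001f400057a) (Bool.rec (motive := fun _ => Nat) (0x1f5000ae7) (0x10001f5000b68) (Nat.ble 1594 i)) (Nat.ble 1593 i)) (Bool.rec (motive := fun _ => Nat) (0x1f60008de) (Bool.rec (motive := fun _ => Nat) (0x30001f6000c38) (0x10001f7000e47) (Nat.ble 1597 i)) (Nat.ble 1596 i)) (Nat.ble 1595 i)) (Nat.ble 1592 i)) (Bool.rec (motive := fun _ => Nat) (Bool.rec (motive := fun _ => Nat) (Bool.rec (motive := fun _ => Nat) (0x20001f7000f17)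 (Bool.rec (motive := fun _ => Nat) (0x30001f700095c) (0x10001f8000707) (Nat.ble 1600 i)) (Nat.ble 1599 i)) (Bool.rec (motive := fun _ => Nat) (0x20001f8000a3b) (Bool.rec (motive := fun _ => Nat) (0x1f9000c0a) (0x10001f9000523) (Nat.ble 1603 i)) (Nat.ble 1602 i)) (Nat.ble 1601 i)) (Bool.rec (motive := fun _ => Nat) (Bool.rec (motive := fun _ => Nat) (0x20001f90004db) (Bool.rec (motive := fun _ => Nat) (0x1fb00044e) (0x10001fb000e18) (Nat.ble 1606 i)) (Nat.ble 1605 i)) (Bool.rec (motive := fun _ => Nat) (0x20001fb000ed7) (Bool.rec (motive := fun _ => Nat) (0x30001fb0002ce) (0x10001fc00075d) (Nat.ble 1609 i)) (Nat.ble 1608 i)) (Nat.ble 1607 i)) (Nat.ble 1604 i)) (Nat.ble 1598 i)) (Nat.ble 1586 i))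
noncomputable def CA1P_33 (i : Nat) : Nat := (Bool.rec (motive := fun _ => Nat) (Bool.rec (motive := fun _ => Nat) (Bool.rec (motive := fun _ => Nat) (Bool.rec (motive := fun _ => Nat) (Bool.rec (motive := fun _ => Nat) (0x20001fc0004a6) (Bool.rec (motive := fun _ => Nat) (0x1fd000d0f) (0x10001fd0002e8) (Nat.ble 1612 i)) (Nat.ble 1611 i)) (Bool.rec (motive := fun _ => Nat) (0x1fe000b91) (Bool.rec (motive := fun _ => Nat) (0x10001fe0002f3) (0x30001fe000819) (Nat.ble 1615 i)) (Nat.ble 1614 i)) (Nat.ble 1613 i)) (Bool.rec (motive := fun _ => Nat) (Bool.rec (motive := fun _ => Nat) (0x20001ff000006) (Bool.rec (motive := fun _ => Nat) (0x200000aaf) (0x200020000052b) (Nat.ble 1618 i)) (Nat.ble 1617 i)) (Bool.rec (motive := fun _ => Nat) (0x2010001d0) (Bool.rec (motive := fun _ => Nat) (0x1000201000c89) (0x3000201000656) (Nat.ble 1621 i)) (Nat.ble 1620 i)) (Nat.ble 1619 i)) (Nat.ble 1616 i)) (Bool.rec (motive := fun _ => Nat) (Bool.rec (motive := fun _ => Nat) (Bool.rec (motive := fun _ => Nat) (0x1000202000251)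 (Bool.rec (motive := fun _ => Nat) (0x203000e72) (0x2000203000caf) (Nat.ble 1624 i)) (Nat.ble 1623 i)) (Bool.rec (motive := fun _ => Nat) (0x3000203000e44) (Bool.rec (motive := fun _ => Nat) (0x204000d6d) (0x100020400043c) (Nat.ble 1627 i)) (Nat.ble 1626 i)) (Nat.ble 1625 i)) (Bool.rec (motive := fun _ => Nat) (Bool.rec (motive := fun _ => Nat) (0x2000204000eec) (Bool.rec (motive := fun _ => Nat) (0x300020400017d) (0x100020500039e) (Nat.ble 1630 i)) (Nat.ble 1629 i)) (Bool.rec (motive := fun _ => Nat) (0x2000205000873) (Bool.rec (motive := fun _ => Nat) (0x300020500001d) (0x20002060009b5) (Nat.ble 1633 i)) (Nat.ble 1632 i)) (Nat.ble 1631 i)) (Nat.ble 1628 i)) (Nat.ble 1622 i)) (Bool.rec (motive := fun _ => Nat) (Bool.rec (motive := fun _ => Nat) (Bool.rec (motive := fun _ => Nat) (Bool.rec (motive := fun _ => Nat) (0x30002060001ef) (Bool.rec (motive := fun _ => Nat) (0x207000247) (0x300020700013e) (Nat.ble 1636 i)) (Nat.ble 1635 i)) (Bool.rec (motive := fun _ => Nat) (0x1000208000cc6) (Bool.rec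 (motive := fun _ => Nat) (0x200020800019a) (0x3000208000d80) (Nat.ble 1639 i)) (Nat.ble 1638 i)) (Nat.ble 1637 i)) (Bool.rec (motive := fun _ => Nat) (Bool.rec (motive := fun _ => Nat) (0x209000ecd) (Bool.rec (motive := fun _ => Nat) (0x3000209000e9b) (0x100020a000c83) (Nat.ble 1642 i)) (Nat.ble 1641 i)) (Bool.rec (motive := fun _ => Nat) (0x300020a000004) (Bool.rec (motive := fun _ => Nat) (0x20b00029c) (0x100020b000cf7) (Nat.ble 1645 i)) (Nat.ble 1644 i)) (Nat.ble 1643 i)) (Nat.ble 1640 i)) (Bool.rec (motive := fun _ => Nat) (Bool.rec (motive := fun _ => Nat) (Bool.rec (motive := fun _ => Nat) (0x20c0001f2) (Bool.rec (motive := fun _ => Nat) (0x100020c00036a) (0x200020c00037a) (Nat.ble 1648 i)) (Nat.ble 1647 i)) (Bool.rec (motive := fun _ => Nat) (0x200020d000e61) (Bool.rec (motive := fun _ => Nat) (0x300020d0002c8) (0x100020e000e4f) (Nat.ble 1651 i)) (Nat.ble 1650 i)) (Nat.ble 1649 i)) (Bool.rec (motive := fun _ => Nat) (Bool.rec (motive := fun _ => Nat) (0x200020e000d74) (Bool.rec (motive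 := fun _ => Nat) (0x300020e000500) (0x20f00066e) (Nat.ble 1654 i)) (Nat.ble 1653 i)) (Bool.rec (motive := fun _ => Nat) (Bool.rec (motive := fun _ => Nat) (0x100020f00093e) (0x200020f000354) (Nat.ble 1656 i)) (Bool.rec (motive := fun _ => Nat) (0x300020f00031f) (0x1000210000e2c) (Nat.ble 1658 i)) (Nat.ble 1657 i)) (Nat.ble 1655 i)) (Nat.ble 1652 i)) (Nat.ble 1646 i)) (Nat.ble 1634 i))
noncomputable def CA1P_34 (i : Nat) : Nat := (Bool.rec (motive := fun _ => Nat) (Bool.rec (motive := fun _ => Nat) (Bool.rec (motive := fun _ => Nat) (Bool.rec (motive := fun _ => Nat) (Bool.rec (motive := fun _ => Nat) (0x30002100006d5) (Bool.rec (motive := fun _ => Nat) (0x2000211000df0) (0x3000211000dee) (Nat.ble 1661 i)) (Nat.ble 1660 i)) (Bool.rec (motive := fun _ => Nat) (0x212000baa) (Bool.rec (motive := fun _ => Nat) (0x2000212000c77) (0x2000213000567) (Nat.ble 1664 i)) (Nat.ble 1663 i)) (Nat.ble 1662 i)) (Bool.rec (motive := fun _ => Nat) (Bool.rec (motive := fun _ => Nat) (0x214000b0e) (Bool.rec (motive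 := fun _ => Nat) (0x30002140009fd) (0x1000215000cdc) (Nat.ble 1667 i)) (Nat.ble 1666 i)) (Bool.rec (motive := fun _ => Nat) (0x30002150003c4) (Bool.rec (motive := fun _ => Nat) (0x216000617) (0x10002160006f6) (Nat.ble 1670 i)) (Nat.ble 1669 i)) (Nat.ble 1668 i)) (Nat.ble 1665 i)) (Bool.rec (motive := fun _ => Nat) (Bool.rec (motive := fun _ => Nat) (Bool.rec (motive := fun _ => Nat) (0x2000216000927) (Bool.rec (motive := fun _ => Nat) (0x1000217000e95) (0x1000218000867) (Nat.ble 1673 i)) (Nat.ble 1672 i)) (Bool.rec (motive := fun _ => Nat) (0x2000218000b7c) (Bool.rec (motive := fun _ => Nat) (0x21900050f) (0x1000219000635) (Nat.ble 1676 i)) (Nat.ble 1675 i)) (Nat.ble 1674 i)) (Bool.rec (motive := fun _ => Nat) (Bool.rec (motive := fun _ => Nat) (0x100021a000891) (Bool.rec (motive := fun _ => Nat) (0x100021b0001f1) (0x21c000615) (Nat.ble 1679 i)) (Nat.ble 1678 i)) (Bool.rec (motive := fun _ => Nat) (0x200021c000c6d) (Bool.rec (motive := fun _ => Nat) (0x300021d0000a8) (0x21e000e46) (Nat.ble 1682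 i)) (Nat.ble 1681 i)) (Nat.ble 1680 i)) (Nat.ble 1677 i)) (Nat.ble 1671 i)) (Bool.rec (motive := fun _ => Nat) (Bool.rec (motive := fun _ => Nat) (Bool.rec (motive := fun _ => Nat) (Bool.rec (motive := fun _ => Nat) (0x100021e000b3f) (Bool.rec (motive := fun _ => Nat) (0x200021e000e57) (0x21f000131) (Nat.ble 1685 i)) (Nat.ble 1684 i)) (Bool.rec (motive := fun _ => Nat) (0x100021f000030) (Bool.rec (motive := fun _ => Nat) (0x2000220000ea9) (0x3000221000deb) (Nat.ble 1688 i)) (Nat.ble 1687 i)) (Nat.ble 1686 i)) (Bool.rec (motive := fun _ => Nat) (Bool.rec (motive := fun _ => Nat) (0x100022200068d) (Bool.rec (motive := fun _ => Nat) (0x20002220003f8) (0x22300089b) (Nat.ble 1691 i)) (Nat.ble 1690 i)) (Bool.rec (motive := fun _ => Nat) (0x1000223000cb8) (Bool.rec (motive := fun _ => Nat) (0x300022300016d) (0x2000224000e5f) (Nat.ble 1694 i)) (Nat.ble 1693 i)) (Nat.ble 1692 i)) (Nat.ble 1689 i)) (Bool.rec (motive := fun _ => Nat) (Bool.rec (motive := fun _ => Nat) (Bool.rec (motive := fun _ => Nat)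 (0x300022400070c) (Bool.rec (motive := fun _ => Nat) (0x200022500088e) (0x226000286) (Nat.ble 1697 i)) (Nat.ble 1696 i)) (Bool.rec (motive := fun _ => Nat) (0x10002260002ee) (Bool.rec (motive := fun _ => Nat) (0x2000226000f2c) (0x3000226000a29) (Nat.ble 1700 i)) (Nat.ble 1699 i)) (Nat.ble 1698 i)) (Bool.rec (motive := fun _ => Nat) (Bool.rec (motive := fun _ => Nat) (0x227000518) (Bool.rec (motive := fun _ => Nat) (0x20002270007e8) (0x3000227000ac7) (Nat.ble 1703 i)) (Nat.ble 1702 i)) (Bool.rec (motive := fun _ => Nat) (Bool.rec (motive := fun _ => Nat) (0x228000870) (0x1000228000110) (Nat.ble 1705 i)) (Bool.rec (motive := fun _ => Nat) (0x229000ee7) (0x3000229000f34) (Nat.ble 1707 i)) (Nat.ble 1706 i)) (Nat.ble 1704 i)) (Nat.ble 1701 i)) (Nat.ble 1695 i)) (Nat.ble 1683 i))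
noncomputable def CA1P_35 (i : Nat) : Nat := (Bool.rec (motive := fun _ => Nat) (Bool.rec (motive := fun _ => Nat) (Bool.rec (motive := fun _ => Nat) (Bool.rec (motive := fun _ => Nat) (Bool.rec (motive := fun _ => Nat) (0x200022a0003ff) (Bool.rec (motive := fun _ => Nat) (0x300022a000e3e) (0x22b0002a1) (Nat.ble 1710 i)) (Nat.ble 1709 i)) (Bool.rec (motive := fun _ => Nat) (0x200022b000bb6) (Bool.rec (motive := fun _ => Nat) (0x22c000cdd) (0x200022c00078c) (Nat.ble 1713 i)) (Nat.ble 1712 i)) (Nat.ble 1711 i)) (Bool.rec (motive := fun _ => Nat) (Bool.rec (motive := fun _ => Nat) (0x300022c00088f) (Bool.rec (motive := fun _ => Nat) (0x22d000bf3) (0x100022d000d91) (Nat.ble 1716 i)) (Nat.ble 1715 i)) (Bool.rec (motive := fun _ => Nat) (0x200022d000178) (Bool.rec (motive := fun _ => Nat) (0x100022e000b23) (0x200022e000e60) (Nat.ble 1719 i)) (Nat.ble 1718 i)) (Nat.ble 1717 i)) (Nat.ble 1714 i)) (Bool.rec (motive := fun _ => Nat) (Bool.rec (motive := fun _ => Nat) (Bool.rec (motive := fun _ => Nat)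 (0x300022e000ebb) (Bool.rec (motive := fun _ => Nat) (0x100022f00063e) (0x300022f000dc6) (Nat.ble 1722 i)) (Nat.ble 1721 i)) (Bool.rec (motive := fun _ => Nat) (0x2300009ce) (Bool.rec (motive := fun _ => Nat) (0x200023000050e) (0x1000231000e9f) (Nat.ble 1725 i)) (Nat.ble 1724 i)) (Nat.ble 1723 i)) (Bool.rec (motive := fun _ => Nat) (Bool.rec (motive := fun _ => Nat) (0x2000232000cb2) (Bool.rec (motive := fun _ => Nat) (0x1000233000a78) (0x3000233000339) (Nat.ble 1728 i)) (Nat.ble 1727 i)) (Bool.rec (motive := fun _ => Nat) (0x234000076) (Bool.rec (motive := fun _ => Nat) (0x2000234000929) (0x1000235000bea) (Nat.ble 1731 i)) (Nat.ble 1730 i)) (Nat.ble 1729 i)) (Nat.ble 1726 i)) (Nat.ble 1720 i)) (Bool.rec (motive := fun _ => Nat) (Bool.rec (motive := fun _ => Nat) (Bool.rec (motive := fun _ => Nat) (Bool.rec (motive := fun _ => Nat) (0x2360000ec) (Bool.rec (motive := fun _ => Nat) (0x1000236000212) (0x2000236000f0c) (Nat.ble 1734 i)) (Nat.ble 1733 i)) (Bool.rec (motive := fun _ => Nat) (0x3000236000cbc)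 (Bool.rec (motive := fun _ => Nat) (0x2000237000c7c) (0x1000238000b39) (Nat.ble 1737 i)) (Nat.ble 1736 i)) (Nat.ble 1735 i)) (Bool.rec (motive := fun _ => Nat) (Bool.rec (motive := fun _ => Nat) (0x1000239000cfc) (Bool.rec (motive := fun _ => Nat) (0x23a000b3e) (0x100023a0008f4) (Nat.ble 1740 i)) (Nat.ble 1739 i)) (Bool.rec (motive := fun _ => Nat) (0x23b0007fe) (Bool.rec (motive := fun _ => Nat) (0x100023b00060b) (0x200023b00059b) (Nat.ble 1743 i)) (Nat.ble 1742 i)) (Nat.ble 1741 i)) (Nat.ble 1738 i)) (Bool.rec (motive := fun _ => Nat) (Bool.rec (motive := fun _ => Nat) (Bool.rec (motive := fun _ => Nat) (0x300023b000d46) (Bool.rec (motive := fun _ => Nat) (0x100023c000bdd) (0x200023c000b95) (Nat.ble 1746 i)) (Nat.ble 1745 i)) (Bool.rec (motive := fun _ => Nat) (0x23d000d21) (Bool.rec (motive := fun _ => Nat) (0x200023d000d58) (0x100023e000bff) (Nat.ble 1749 i)) (Nat.ble 1748 i)) (Nat.ble 1747 i)) (Bool.rec (motive := fun _ => Nat) (Bool.rec (motive := fun _ => Nat) (0x200023e000cd5) (Bool.rec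 (motive := fun _ => Nat) (0x300023e000c5e) (0x200023f000c79) (Nat.ble 1752 i)) (Nat.ble 1751 i)) (Bool.rec (motive := fun _ => Nat) (Bool.rec (motive := fun _ => Nat) (0x240000dca) (0x20002400003c6) (Nat.ble 1754 i)) (Bool.rec (motive := fun _ => Nat) (0x100024100082e) (0x300024100045d) (Nat.ble 1756 i)) (Nat.ble 1755 i)) (Nat.ble 1753 i)) (Nat.ble 1750 i)) (Nat.ble 1744 i)) (Nat.ble 1732 i))
noncomputable def CA1P_36 (i : Nat) : Nat := (Bool.rec (motive := fun _ => Nat) (Bool.rec (motive := fun _ => Nat) (Bool.rec (motive := fun _ => Nat) (Bool.rec (motive := fun _ => Nat) (Bool.rec (motive := fun _ => Nat) (0x242000a95) (Bool.rec (motive := fun _ => Nat) (0x100024200028e) (0x2000242000d50) (Nat.ble 1759 i)) (Nat.ble 1758 i)) (Bool.rec (motive := fun _ => Nat) (0x300024200054f) (Bool.rec (motive := fun _ => Nat) (0x243000b5c) (0x1000243000945) (Nat.ble 1762 i)) (Nat.ble 1761 i)) (Nat.ble 1760 i)) (Bool.rec (motive := fun _ => Nat) (Bool.rec (motive := fun _ => Nat) (0x2000243000451) (Bool.rec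 (motive := fun _ => Nat) (0x30002430003e9) (0x2450006eb) (Nat.ble 1765 i)) (Nat.ble 1764 i)) (Bool.rec (motive := fun _ => Nat) (0x3000245000368) (Bool.rec (motive := fun _ => Nat) (0x3000246000de9) (0x2000248000583) (Nat.ble 1768 i)) (Nat.ble 1767 i)) (Nat.ble 1766 i)) (Nat.ble 1763 i)) (Bool.rec (motive := fun _ => Nat) (Bool.rec (motive := fun _ => Nat) (Bool.rec (motive := fun _ => Nat) (0x1000249000790) (Bool.rec (motive := fun _ => Nat) (0x2000249000935) (0x100024a000dfa) (Nat.ble 1771 i)) (Nat.ble 1770 i)) (Bool.rec (motive := fun _ => Nat) (0x100024c00096e) (Bool.rec (motive := fun _ => Nat) (0x300024c0007d4) (0x100024d0006c0) (Nat.ble 1774 i)) (Nat.ble 1773 i)) (Nat.ble 1772 i)) (Bool.rec (motive := fun _ => Nat) (Bool.rec (motive := fun _ => Nat) (0x300024d000c24) (Bool.rec (motive := fun _ => Nat) (0x24e000796) (0x100024e0003a0) (Nat.ble 1777 i)) (Nat.ble 1776 i)) (Bool.rec (motive := fun _ => Nat) (0x200024e000ed6) (Bool.rec (motive := fun _ => Nat) (0x100024f00052c) (0x250000128)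 (Nat.ble 1780 i)) (Nat.ble 1779 i)) (Nat.ble 1778 i)) (Nat.ble 1775 i)) (Nat.ble 1769 i)) (Bool.rec (motive := fun _ => Nat) (Bool.rec (motive := fun _ => Nat) (Bool.rec (motive := fun _ => Nat) (Bool.rec (motive := fun _ => Nat) (0x251000be4) (Bool.rec (motive := fun _ => Nat) (0x1000252000190) (0x2000252000b47) (Nat.ble 1783 i)) (Nat.ble 1782 i)) (Bool.rec (motive := fun _ => Nat) (0x30002520002e2) (Bool.rec (motive := fun _ => Nat) (0x253000913) (0x2000253000c90) (Nat.ble 1786 i)) (Nat.ble 1785 i)) (Nat.ble 1784 i)) (Bool.rec (motive := fun _ => Nat) (Bool.rec (motive := fun _ => Nat) (0x3000253000af6) (Bool.rec (motive := fun _ => Nat) (0x254000c40) (0x10002540006d9) (Nat.ble 1789 i)) (Nat.ble 1788 i)) (Bool.rec (motive := fun _ => Nat) (0x3000254000c45) (Bool.rec (motive := fun _ => Nat) (0x10002560000b2) (0x2000256000f26) (Nat.ble 1792 i)) (Nat.ble 1791 i)) (Nat.ble 1790 i)) (Nat.ble 1787 i)) (Bool.rec (motive := fun _ => Nat) (Bool.rec (motive := fun _ => Nat) (Bool.rec (motive := fun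 _ => Nat) (0x3000256000b18) (Bool.rec (motive := fun _ => Nat) (0x10002570006bd) (0x300025700090d) (Nat.ble 1795 i)) (Nat.ble 1794 i)) (Bool.rec (motive := fun _ => Nat) (0x1000258000ba5) (Bool.rec (motive := fun _ => Nat) (0x3000258000570) (0x2590007c0) (Nat.ble 1798 i)) (Nat.ble 1797 i)) (Nat.ble 1796 i)) (Bool.rec (motive := fun _ => Nat) (Bool.rec (motive := fun _ => Nat) (0x1000259000e6f) (Bool.rec (motive := fun _ => Nat) (0x2000259000156) (0x25a000dc5) (Nat.ble 1801 i)) (Nat.ble 1800 i)) (Bool.rec (motive := fun _ => Nat) (0x100025a0002e6) (Bool.rec (motive := fun _ => Nat) (0x300025a000ed3) (0x25b000686) (Nat.ble 1804 i)) (Nat.ble 1803 i)) (Nat.ble 1802 i)) (Nat.ble 1799 i)) (Nat.ble 1793 i)) (Nat.ble 1781 i))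
noncomputable def CA1P_37 (i : Nat) : Nat := (Bool.rec (motive := fun _ => Nat) (Bool.rec (motive := fun _ => Nat) (Bool.rec (motive := fun _ => Nat) (Bool.rec (motive := fun _ => Nat) (Bool.rec (motive := fun _ => Nat) (0x200025b000c46) (Bool.rec (motive := fun _ => Nat) (0x25c00027f) (0x100025c000b86) (Nat.ble 1807 i)) (Nat.ble 1806 i)) (Bool.rec (motive := fun _ => Nat) (0x200025c000ea3) (Bool.rec (motive := fun _ => Nat) (0x300025c000179) (0x25d000a8a) (Nat.ble 1810 i)) (Nat.ble 1809 i)) (Nat.ble 1808 i)) (Bool.rec (motive := fun _ => Nat) (Bool.rec (motive := fun _ => Nat) (0x100025d000254) (Bool.rec (motive := fun _ => Nat) (0x200025d000965) (0x300025d000ddd) (Nat.ble 1813 i)) (Nat.ble 1812 i)) (Bool.rec (motive := fun _ => Nat) (0x200025e000b12) (Bool.rec (motive := fun _ => Nat) (0x200025f00072a) (0x2600005b0) (Nat.ble 1816 i)) (Nat.ble 1815 i)) (Nat.ble 1814 i)) (Nat.ble 1811 i)) (Bool.rec (motive := fun _ => Nat) (Bool.rec (motive := fun _ => Nat) (Bool.rec (motive := fun _ => Nat)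 (0x2000260000040) (Bool.rec (motive := fun _ => Nat) (0x3000260000d3b) (0x262000ef6) (Nat.ble 1819 i)) (Nat.ble 1818 i)) (Bool.rec (motive := fun _ => Nat) (0x100026200005e) (Bool.rec (motive := fun _ => Nat) (0x263000318) (0x3000263000d41) (Nat.ble 1822 i)) (Nat.ble 1821 i)) (Nat.ble 1820 i)) (Bool.rec (motive := fun _ => Nat) (Bool.rec (motive := fun _ => Nat) (0x264000001) (Bool.rec (motive := fun _ => Nat) (0x1000264000a5b) (0x2000264000c76) (Nat.ble 1825 i)) (Nat.ble 1824 i)) (Bool.rec (motive := fun _ => Nat) (0x30002640007e1) (Bool.rec (motive := fun _ => Nat) (0x265000aae) (0x200026500035f) (Nat.ble 1828 i)) (Nat.ble 1827 i)) (Nat.ble 1826 i)) (Nat.ble 1823 i)) (Nat.ble 1817 i)) (Bool.rec (motive := fun _ => Nat) (Bool.rec (motive := fun _ => Nat) (Bool.rec (motive := fun _ => Nat) (Bool.rec (motive := fun _ => Nat) (0x266000adf) (Bool.rec (motive := fun _ => Nat) (0x2000266000bad) (0x30002660008d8) (Nat.ble 1831 i)) (Nat.ble 1830 i)) (Bool.rec (motive := fun _ => Nat) (0x267000915)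 (Bool.rec (motive := fun _ => Nat) (0x1000267000198) (0x2000267000cac) (Nat.ble 1834 i)) (Nat.ble 1833 i)) (Nat.ble 1832 i)) (Bool.rec (motive := fun _ => Nat) (Bool.rec (motive := fun _ => Nat) (0x300026700079d) (Bool.rec (motive := fun _ => Nat) (0x1000268000f36) (0x300026800089e) (Nat.ble 1837 i)) (Nat.ble 1836 i)) (Bool.rec (motive := fun _ => Nat) (0x26a0002cb) (Bool.rec (motive := fun _ => Nat) (0x200026a000c67) (0x300026a000cc0) (Nat.ble 1840 i)) (Nat.ble 1839 i)) (Nat.ble 1838 i)) (Nat.ble 1835 i)) (Bool.rec (motive := fun _ => Nat) (Bool.rec (motive := fun _ => Nat) (Bool.rec (motive := fun _ => Nat) (0x100026b000f10) (Bool.rec (motive := fun _ => Nat) (0x200026b0008ac) (0x300026c000c80) (Nat.ble 1843 i)) (Nat.ble 1842 i)) (Bool.rec (motive := fun _ => Nat) (0x200026d000dcd) (Bool.rec (motive := fun _ => Nat) (0x300026d0005dd) (0x26e000c0b) (Nat.ble 1846 i)) (Nat.ble 1845 i)) (Nat.ble 1844 i)) (Bool.rec (motive := fun _ => Nat) (Bool.rec (motive := fun _ => Nat) (0x100026f0009c5) (Bool.rec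 (motive := fun _ => Nat) (0x200026f00075e) (0x20002700006a8) (Nat.ble 1849 i)) (Nat.ble 1848 i)) (Bool.rec (motive := fun _ => Nat) (Bool.rec (motive := fun _ => Nat) (0x3000271000417) (0x20002720006df) (Nat.ble 1851 i)) (Bool.rec (motive := fun _ => Nat) (0x2000273000193) (0x3000273000f21) (Nat.ble 1853 i)) (Nat.ble 1852 i)) (Nat.ble 1850 i)) (Nat.ble 1847 i)) (Nat.ble 1841 i)) (Nat.ble 1829 i))
noncomputable def CA1P_38 (i : Nat) : Nat := (Bool.rec (motive := fun _ => Nat) (Bool.rec (motive := fun _ => Nat) (Bool.rec (motive := fun _ => Nat) (Bool.rec (motive := fun _ => Nat) (Bool.rec (motive := fun _ => Nat) (0x2000274000e4a) (Bool.rec (motive := fun _ => Nat) (0x275000db7) (0x1000275000b5e) (Nat.ble 1856 i)) (Nat.ble 1855 i)) (Bool.rec (motive := fun _ => Nat) (0x300027500087e) (Bool.rec (motive := fun _ => Nat) (0x276000182) (0x2000276000930) (Nat.ble 1859 i)) (Nat.ble 1858 i)) (Nat.ble 1857 i)) (Bool.rec (motive := fun _ => Nat) (Bool.rec (motive := fun _ => Nat) (0x3000276000163) (Bool.rec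 (motive := fun _ => Nat) (0x2000277000d68) (0x278000019) (Nat.ble 1862 i)) (Nat.ble 1861 i)) (Bool.rec (motive := fun _ => Nat) (0x2000278000826) (Bool.rec (motive := fun _ => Nat) (0x200027a0002f1) (0x27b00046f) (Nat.ble 1865 i)) (Nat.ble 1864 i)) (Nat.ble 1863 i)) (Nat.ble 1860 i)) (Bool.rec (motive := fun _ => Nat) (Bool.rec (motive := fun _ => Nat) (Bool.rec (motive := fun _ => Nat) (0x200027b000189) (Bool.rec (motive := fun _ => Nat) (0x300027b00005f) (0x27c000100) (Nat.ble 1868 i)) (Nat.ble 1867 i)) (Bool.rec (motive := fun _ => Nat) (0x300027c0006a0) (Bool.rec (motive := fun _ => Nat) (0x27d0008a4) (0x100027d0002be) (Nat.ble 1871 i)) (Nat.ble 1870 i)) (Nat.ble 1869 i)) (Bool.rec (motive := fun _ => Nat) (Bool.rec (motive := fun _ => Nat) (0x200027d000df4) (Bool.rec (motive := fun _ => Nat) (0x27f0006f7) (0x300027f0000f9) (Nat.ble 1874 i)) (Nat.ble 1873 i)) (Bool.rec (motive := fun _ => Nat) (0x280000442) (Bool.rec (motive := fun _ => Nat) (0x1000280000228) (0x281000db2) (Nat.ble 1877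 i)) (Nat.ble 1876 i)) (Nat.ble 1875 i)) (Nat.ble 1872 i)) (Nat.ble 1866 i)) (Bool.rec (motive := fun _ => Nat) (Bool.rec (motive := fun _ => Nat) (Bool.rec (motive := fun _ => Nat) (Bool.rec (motive := fun _ => Nat) (0x1000281000e5d) (Bool.rec (motive := fun _ => Nat) (0x200028100062c) (0x3000281000f1f) (Nat.ble 1880 i)) (Nat.ble 1879 i)) (Bool.rec (motive := fun _ => Nat) (0x282000626) (Bool.rec (motive := fun _ => Nat) (0x1000282000069) (0x2000282000809) (Nat.ble 1883 i)) (Nat.ble 1882 i)) (Nat.ble 1881 i)) (Bool.rec (motive := fun _ => Nat) (Bool.rec (motive := fun _ => Nat) (0x3000283000b74) (Bool.rec (motive := fun _ => Nat) (0x284000c05) (0x3000284000e0c) (Nat.ble 1886 i)) (Nat.ble 1885 i)) (Bool.rec (motive := fun _ => Nat) (0x10002850000fa) (Bool.rec (motive := fun _ => Nat) (0x300028500086e) (0x100028600092b) (Nat.ble 1889 i)) (Nat.ble 1888 i)) (Nat.ble 1887 i)) (Nat.ble 1884 i)) (Bool.rec (motive := fun _ => Nat) (Bool.rec (motive := fun _ => Nat) (Bool.rec (motive := fun _ => Nat)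 (0x287000977) (Bool.rec (motive := fun _ => Nat) (0x100028700065a) (0x3000288000cf4) (Nat.ble 1892 i)) (Nat.ble 1891 i)) (Bool.rec (motive := fun _ => Nat) (0x100028900037b) (Bool.rec (motive := fun _ => Nat) (0x200028b0005a2) (0x28c000b9b) (Nat.ble 1895 i)) (Nat.ble 1894 i)) (Nat.ble 1893 i)) (Bool.rec (motive := fun _ => Nat) (Bool.rec (motive := fun _ => Nat) (0x28d000de6) (Bool.rec (motive := fun _ => Nat) (0x100028d000d2f) (0x200028d000843) (Nat.ble 1898 i)) (Nat.ble 1897 i)) (Bool.rec (motive := fun _ => Nat) (Bool.rec (motive := fun _ => Nat) (0x300028d0002ba) (0x28e000ecb) (Nat.ble 1900 i)) (Bool.rec (motive := fun _ => Nat) (0x200028e000c5b) (0x28f00097c) (Nat.ble 1902 i)) (Nat.ble 1901 i)) (Nat.ble 1899 i)) (Nat.ble 1896 i)) (Nat.ble 1890 i)) (Nat.ble 1878 i))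
noncomputable def CA1P_39 (i : Nat) : Nat := (Bool.rec (motive := fun _ => Nat) (Bool.rec (motive := fun _ => Nat) (Bool.rec (motive := fun _ => Nat) (Bool.rec (motive := fun _ => Nat) (Bool.rec (motive := fun _ => Nat) (0x200028f000eac) (Bool.rec (motive := fun _ => Nat) (0x290000ef4) (0x1000290000938) (Nat.ble 1905 i)) (Nat.ble 1904 i)) (Bool.rec (motive := fun _ => Nat) (0x3000290000c97) (Bool.rec (motive := fun _ => Nat) (0x10002910001e2) (0x2000291000dd4) (Nat.ble 1908 i)) (Nat.ble 1907 i)) (Nat.ble 1906 i)) (Bool.rec (motive := fun _ => Nat) (Bool.rec (motive := fun _ => Nat) (0x3000291000c51) (Bool.rec (motive := fun _ => Nat) (0x292000027) (0x2000292000144) (Nat.ble 1911 i)) (Nat.ble 1910 i)) (Bool.rec (motive := fun _ => Nat) (0x30002920008df) (Bool.rec (motive := fun _ => Nat) (0x293000af4) (0x10002930003f3) (Nat.ble 1914 i)) (Nat.ble 1913 i)) (Nat.ble 1912 i)) (Nat.ble 1909 i)) (Bool.rec (motive := fun _ => Nat) (Bool.rec (motive := fun _ => Nat) (Bool.rec (motive := fun _ => Nat)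 (0x2000293000081) (Bool.rec (motive := fun _ => Nat) (0x30002930008d7) (0x295000378) (Nat.ble 1917 i)) (Nat.ble 1916 i)) (Bool.rec (motive := fun _ => Nat) (0x200029500005a) (Bool.rec (motive := fun _ => Nat) (0x29700038e) (0x30002970008bb) (Nat.ble 1920 i)) (Nat.ble 1919 i)) (Nat.ble 1918 i)) (Bool.rec (motive := fun _ => Nat) (Bool.rec (motive := fun _ => Nat) (0x298000b05) (Bool.rec (motive := fun _ => Nat) (0x2000298000bcc) (0x299000588) (Nat.ble 1923 i)) (Nat.ble 1922 i)) (Bool.rec (motive := fun _ => Nat) (0x100029a000dd2) (Bool.rec (motive := fun _ => Nat) (0x100029b000a41) (0x200029b000b5b) (Nat.ble 1926 i)) (Nat.ble 1925 i)) (Nat.ble 1924 i)) (Nat.ble 1921 i)) (Nat.ble 1915 i)) (Bool.rec (motive := fun _ => Nat) (Bool.rec (motive := fun _ => Nat) (Bool.rec (motive := fun _ => Nat) (Bool.rec (motive := fun _ => Nat) (0x300029b000554) (Bool.rec (motive := fun _ => Nat) (0x29c000cdb) (0x300029c000ed5) (Nat.ble 1929 i)) (Nat.ble 1928 i)) (Bool.rec (motive := fun _ => Nat) (0x29d000b00)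 (Bool.rec (motive := fun _ => Nat) (0x100029d000c71) (0x29e00076e) (Nat.ble 1932 i)) (Nat.ble 1931 i)) (Nat.ble 1930 i)) (Bool.rec (motive := fun _ => Nat) (Bool.rec (motive := fun _ => Nat) (0x200029e000612) (Bool.rec (motive := fun _ => Nat) (0x300029e0000a5) (0x100029f000d3d) (Nat.ble 1935 i)) (Nat.ble 1934 i)) (Bool.rec (motive := fun _ => Nat) (0x200029f0003de) (Bool.rec (motive := fun _ => Nat) (0x300029f000660) (0x10002a00007b6) (Nat.ble 1938 i)) (Nat.ble 1937 i)) (Nat.ble 1936 i)) (Nat.ble 1933 i)) (Bool.rec (motive := fun _ => Nat) (Bool.rec (motive := fun _ => Nat) (Bool.rec (motive := fun _ => Nat) (0x2a1000674) (Bool.rec (motive := fun _ => Nat) (0x10002a1000cff) (0x20002a10002bf) (Nat.ble 1941 i)) (Nat.ble 1940 i)) (Bool.rec (motive := fun _ => Nat) (0x2a2000932) (Bool.rec (motive := fun _ => Nat) (0x10002a20003f1) (0x30002a2000155) (Nat.ble 1944 i)) (Nat.ble 1943 i)) (Nat.ble 1942 i)) (Bool.rec (motive := fun _ => Nat) (Bool.rec (motive := fun _ => Nat) (0x2a3000429) (Bool.rec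 (motive := fun _ => Nat) (0x10002a3000f13) (0x2a4000319) (Nat.ble 1947 i)) (Nat.ble 1946 i)) (Bool.rec (motive := fun _ => Nat) (Bool.rec (motive := fun _ => Nat) (0x10002a4000d86) (0x20002a4000e6b) (Nat.ble 1949 i)) (Bool.rec (motive := fun _ => Nat) (0x10002a50008db) (0x30002a5000a9a) (Nat.ble 1951 i)) (Nat.ble 1950 i)) (Nat.ble 1948 i)) (Nat.ble 1945 i)) (Nat.ble 1939 i)) (Nat.ble 1927 i))
noncomputable def CA1P_40 (i : Nat) : Nat := (Bool.rec (motive := fun _ => Nat) (Bool.rec (motive := fun _ => Nat) (Bool.rec (motive := fun _ => Nat) (Bool.rec (motive := fun _ => Nat) (Bool.rec (motive := fun _ => Nat) (0x10002a6000c93) (Bool.rec (motive := fun _ => Nat) (0x20002a600053d) (0x30002a6000151) (Nat.ble 1954 i)) (Nat.ble 1953 i)) (Bool.rec (motive := fun _ => Nat) (0x2a70009a1) (Bool.rec (motive := fun _ => Nat) (0x30002a70004a7) (0x30002a8000c2a) (Nat.ble 1957 i)) (Nat.ble 1956 i)) (Nat.ble 1955 i)) (Bool.rec (motive := fun _ => Nat) (Bool.rec (motive := fun _ => Nat) (0x10002a90005d2) (Bool.rec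 (motive := fun _ => Nat) (0x20002a90002ab) (0x30002a9000d38) (Nat.ble 1960 i)) (Nat.ble 1959 i)) (Bool.rec (motive := fun _ => Nat) (0x2aa000285) (Bool.rec (motive := fun _ => Nat) (0x10002ab000ede) (0x20002ab000e54) (Nat.ble 1963 i)) (Nat.ble 1962 i)) (Nat.ble 1961 i)) (Nat.ble 1958 i)) (Bool.rec (motive := fun _ => Nat) (Bool.rec (motive := fun _ => Nat) (Bool.rec (motive := fun _ => Nat) (0x30002ab000dfc) (Bool.rec (motive := fun _ => Nat) (0x2ac000e83) (0x20002ac000c37) (Nat.ble 1966 i)) (Nat.ble 1965 i)) (Bool.rec (motive := fun _ => Nat) (0x2ad000eea) (Bool.rec (motive := fun _ => Nat) (0x10002ad000ac2) (0x30002ad0008d4) (Nat.ble 1969 i)) (Nat.ble 1968 i)) (Nat.ble 1967 i)) (Bool.rec (motive := fun _ => Nat) (Bool.rec (motive := fun _ => Nat) (0x2ae000307) (Bool.rec (motive := fun _ => Nat) (0x10002ae000559) (0x20002ae000d7e) (Nat.ble 1972 i)) (Nat.ble 1971 i)) (Bool.rec (motive := fun _ => Nat) (0x30002ae0006b3) (Bool.rec (motive := fun _ => Nat) (0x10002af000d7a) (0x20002af000bcf) (Nat.ble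 1975 i)) (Nat.ble 1974 i)) (Nat.ble 1973 i)) (Nat.ble 1970 i)) (Nat.ble 1964 i)) (Bool.rec (motive := fun _ => Nat) (Bool.rec (motive := fun _ => Nat) (Bool.rec (motive := fun _ => Nat) (Bool.rec (motive := fun _ => Nat) (0x30002af000351) (Bool.rec (motive := fun _ => Nat) (0x30002b0000cf0) (0x20002b1000ec6) (Nat.ble 1978 i)) (Nat.ble 1977 i)) (Bool.rec (motive := fun _ => Nat) (0x2b2000ef0) (Bool.rec (motive := fun _ => Nat) (0x30002b2000f03) (0x10002b3000bec) (Nat.ble 1981 i)) (Nat.ble 1980 i)) (Nat.ble 1979 i)) (Bool.rec (motive := fun _ => Nat) (Bool.rec (motive := fun _ => Nat) (0x20002b400063d) (Bool.rec (motive := fun _ => Nat) (0x30002b4000920) (0x2b500085e) (Nat.ble 1984 i)) (Nat.ble 1983 i)) (Bool.rec (motive := fun _ => Nat) (0x30002b5000371) (Bool.rec (motive := fun _ => Nat) (0x10002b6000caa) (0x30002b600065f) (Nat.ble 1987 i)) (Nat.ble 1986 i)) (Nat.ble 1985 i)) (Nat.ble 1982 i)) (Bool.rec (motive := fun _ => Nat) (Bool.rec (motive := fun _ => Nat) (Bool.rec (motive := fun _ =>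 Nat) (0x2b70009a9) (Bool.rec (motive := fun _ => Nat) (0x30002b7000825) (0x20002b8000175) (Nat.ble 1990 i)) (Nat.ble 1989 i)) (Bool.rec (motive := fun _ => Nat) (0x2b9000a73) (Bool.rec (motive := fun _ => Nat) (0x20002b9000e40) (0x30002b90003c5) (Nat.ble 1993 i)) (Nat.ble 1992 i)) (Nat.ble 1991 i)) (Bool.rec (motive := fun _ => Nat) (Bool.rec (motive := fun _ => Nat) (0x2ba000d6a) (Bool.rec (motive := fun _ => Nat) (0x10002ba00051b) (0x20002bb00091b) (Nat.ble 1996 i)) (Nat.ble 1995 i)) (Bool.rec (motive := fun _ => Nat) (0x30002bb000b14) (Bool.rec (motive := fun _ => Nat) (0x2bc000f16) (0x30002bc0009bb) (Nat.ble 1999 i)) (Nat.ble 1998 i)) (Nat.ble 1997 i)) (Nat.ble 1994 i)) (Nat.ble 1988 i)) (Nat.ble 1976 i))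
noncomputable def CA1P_41 (i : Nat) : Nat := (Bool.rec (motive := fun _ => Nat) (Bool.rec (motive := fun _ => Nat) (Bool.rec (motive := fun _ => Nat) (Bool.rec (motive := fun _ => Nat) (Bool.rec (motive := fun _ => Nat) (0x10002bd000c88) (Bool.rec (motive := fun _ => Nat) (0x30002bd000e4c) (0x2be0001e9) (Nat.ble 2002 i)) (Nat.ble 2001 i)) (Bool.rec (motive := fun _ => Nat) (0x10002be000ab8) (Bool.rec (motive := fun _ => Nat) (0x20002bf00011c) (0x30002bf00089c) (Nat.ble 2005 i)) (Nat.ble 2004 i)) (Nat.ble 2003 i)) (Bool.rec (motive := fun _ => Nat) (Bool.rec (motive := fun _ => Nat) (0x10002c00006e7) (Bool.rec (motive := fun _ => Nat) (0x30002c0000237) (0x2c10000af) (Nat.ble 2008 i)) (Nat.ble 2007 i)) (Bool.rec (motive := fun _ => Nat) (0x10002c100091c) (Bool.rec (motive := fun _ => Nat) (0x20002c100023c) (0x30002c1000324) (Nat.ble 2011 i)) (Nat.ble 2010 i)) (Nat.ble 2009 i)) (Nat.ble 2006 i)) (Bool.rec (motive := fun _ => Nat) (Bool.rec (motive := fun _ => Nat) (Bool.rec (motive := fun _ =>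 Nat) (0x2c2000533) (Bool.rec (motive := fun _ => Nat) (0x20002c2000b7f) (0x10002c3000beb) (Nat.ble 2014 i)) (Nat.ble 2013 i)) (Bool.rec (motive := fun _ => Nat) (0x10002c4000ef2) (Bool.rec (motive := fun _ => Nat) (0x2c5000132) (0x10002c5000b60) (Nat.ble 2017 i)) (Nat.ble 2016 i)) (Nat.ble 2015 i)) (Bool.rec (motive := fun _ => Nat) (Bool.rec (motive := fun _ => Nat) (0x20002c5000d95) (Bool.rec (motive := fun _ => Nat) (0x30002c50007f3) (0x20002c6000c86) (Nat.ble 2020 i)) (Nat.ble 2019 i)) (Bool.rec (motive := fun _ => Nat) (0x30002c8000157) (Bool.rec (motive := fun _ => Nat) (0x2ca000e67) (0x10002ca000aa5) (Nat.ble 2023 i)) (Nat.ble 2022 i)) (Nat.ble 2021 i)) (Nat.ble 2018 i)) (Nat.ble 2012 i)) (Bool.rec (motive := fun _ => Nat) (Bool.rec (motive := fun _ => Nat) (Bool.rec (motive := fun _ => Nat) (Bool.rec (motive := fun _ => Nat) (0x20002ca0003ea) (Bool.rec (motive := fun _ => Nat) (0x10002cb000594) (0x20002cb00092d) (Nat.ble 2026 i)) (Nat.ble 2025 i)) (Bool.rec (motive := fun _ => Nat) (0x10002cc000608)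 (Bool.rec (motive := fun _ => Nat) (0x20002cc000576) (0x30002cc0003e6) (Nat.ble 2029 i)) (Nat.ble 2028 i)) (Nat.ble 2027 i)) (Bool.rec (motive := fun _ => Nat) (Bool.rec (motive := fun _ => Nat) (0x20002cd000c6e) (Bool.rec (motive := fun _ => Nat) (0x30002cd000def) (0x10002ce0003c9) (Nat.ble 2032 i)) (Nat.ble 2031 i)) (Bool.rec (motive := fun _ => Nat) (0x20002cf00069a) (Bool.rec (motive := fun _ => Nat) (0x30002cf000e73) (0x2d0000d0b) (Nat.ble 2035 i)) (Nat.ble 2034 i)) (Nat.ble 2033 i)) (Nat.ble 2030 i)) (Bool.rec (motive := fun _ => Nat) (Bool.rec (motive := fun _ => Nat) (Bool.rec (motive := fun _ => Nat) (0x10002d00006bb) (Bool.rec (motive := fun _ => Nat) (0x20002d0000773) (0x30002d0000392) (Nat.ble 2038 i)) (Nat.ble 2037 i)) (Bool.rec (motive := fun _ => Nat) (0x10002d1000b6b) (Bool.rec (motive := fun _ => Nat) (0x20002d1000c1b) (0x2d2000c33) (Nat.ble 2041 i)) (Nat.ble 2040 i)) (Nat.ble 2039 i)) (Bool.rec (motive := fun _ => Nat) (Bool.rec (motive := fun _ => Nat) (0x20002d2000df5) (Bool.rec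 (motive := fun _ => Nat) (0x2d300039b) (0x20002d3000457) (Nat.ble 2044 i)) (Nat.ble 2043 i)) (Bool.rec (motive := fun _ => Nat) (Bool.rec (motive := fun _ => Nat) (0x2d4000dae) (0x20002d40003b1) (Nat.ble 2046 i)) (Bool.rec (motive := fun _ => Nat) (0x2d5000cbd) (0x20002d5000b08) (Nat.ble 2048 i)) (Nat.ble 2047 i)) (Nat.ble 2045 i)) (Nat.ble 2042 i)) (Nat.ble 2036 i)) (Nat.ble 2024 i))
noncomputable def CA1P_42 (i : Nat) : Nat := (Bool.rec (motive := fun _ => Nat) (Bool.rec (motive := fun _ => Nat) (Bool.rec (motive := fun _ => Nat) (Bool.rec (motive := fun _ => Nat) (Bool.rec (motive := fun _ => Nat) (0x30002d50007ee) (Bool.rec (motive := fun _ => Nat) (0x2d6000b44) (0x30002d60009ec) (Nat.ble 2051 i)) (Nat.ble 2050 i)) (Bool.rec (motive := fun _ => Nat) (0x2d7000ee2) (Bool.rec (motive := fun _ => Nat) (0x20002d7000104) (0x2d800074c) (Nat.ble 2054 i)) (Nat.ble 2053 i)) (Nat.ble 2052 i)) (Bool.rec (motive := fun _ => Nat) (Bool.rec (motive := fun _ => Nat) (0x10002d9000c2c) (Bool.rec (motive :=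 fun _ => Nat) (0x20002d900080c) (0x10002db000300) (Nat.ble 2057 i)) (Nat.ble 2056 i)) (Bool.rec (motive := fun _ => Nat) (0x30002db000646) (Bool.rec (motive := fun _ => Nat) (0x20002dc000050) (0x10002dd00017a) (Nat.ble 2060 i)) (Nat.ble 2059 i)) (Nat.ble 2058 i)) (Nat.ble 2055 i)) (Bool.rec (motive := fun _ => Nat) (Bool.rec (motive := fun _ => Nat) (Bool.rec (motive := fun _ => Nat) (0x10002de000020) (Bool.rec (motive := fun _ => Nat) (0x20002df00047e) (0x2e0000e39) (Nat.ble 2063 i)) (Nat.ble 2062 i)) (Bool.rec (motive := fun _ => Nat) (0x10002e0000e53) (Bool.rec (motive := fun _ => Nat) (0x30002e000031b) (0x30002e10006d2) (Nat.ble 2066 i)) (Nat.ble 2065 i)) (Nat.ble 2064 i)) (Bool.rec (motive := fun _ => Nat) (Bool.rec (motive := fun _ => Nat) (0x30002e2000ed9) (Bool.rec (motive := fun _ => Nat) (0x2e30007a7) (0x10002e4000cec) (Nat.ble 2069 i)) (Nat.ble 2068 i)) (Bool.rec (motive := fun _ => Nat) (0x20002e40009c8) (Bool.rec (motive := fun _ => Nat) (0x2e500070a) (0x10002e5000877) (Nat.ble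 2072 i)) (Nat.ble 2071 i)) (Nat.ble 2070 i)) (Nat.ble 2067 i)) (Nat.ble 2061 i)) (Bool.rec (motive := fun _ => Nat) (Bool.rec (motive := fun _ => Nat) (Bool.rec (motive := fun _ => Nat) (Bool.rec (motive := fun _ => Nat) (0x2e80006e2) (Bool.rec (motive := fun _ => Nat) (0x10002e800017b) (0x30002e8000670) (Nat.ble 2075 i)) (Nat.ble 2074 i)) (Bool.rec (motive := fun _ => Nat) (0x10002e9000d1a) (Bool.rec (motive := fun _ => Nat) (0x20002e9000e90) (0x20002ea000454) (Nat.ble 2078 i)) (Nat.ble 2077 i)) (Nat.ble 2076 i)) (Bool.rec (motive := fun _ => Nat) (Bool.rec (motive := fun _ => Nat) (0x30002ea0007e7) (Bool.rec (motive := fun _ => Nat) (0x20002eb0001e6) (0x30002eb000978) (Nat.ble 2081 i)) (Nat.ble 2080 i)) (Bool.rec (motive := fun _ => Nat) (0x2ec0002f6) (Bool.rec (motive := fun _ => Nat) (0x10002ec000ed0) (0x20002ec0007db) (Nat.ble 2084 i)) (Nat.ble 2083 i)) (Nat.ble 2082 i)) (Nat.ble 2079 i)) (Bool.rec (motive := fun _ => Nat) (Bool.rec (motive := fun _ => Nat) (Bool.rec (motive := fun _ =>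 Nat) (0x10002ed000c9f) (Bool.rec (motive := fun _ => Nat) (0x20002ee000080) (0x30002ee000784) (Nat.ble 2087 i)) (Nat.ble 2086 i)) (Bool.rec (motive := fun _ => Nat) (0x2f0000122) (Bool.rec (motive := fun _ => Nat) (0x20002f0000365) (0x20002f1000998) (Nat.ble 2090 i)) (Nat.ble 2089 i)) (Nat.ble 2088 i)) (Bool.rec (motive := fun _ => Nat) (Bool.rec (motive := fun _ => Nat) (0x30002f1000c34) (Bool.rec (motive := fun _ => Nat) (0x2f2000084) (0x10002f3000643) (Nat.ble 2093 i)) (Nat.ble 2092 i)) (Bool.rec (motive := fun _ => Nat) (Bool.rec (motive := fun _ => Nat) (0x20002f3000501) (0x10002f50007e5) (Nat.ble 2095 i)) (Bool.rec (motive := fun _ => Nat) (0x2f6000150) (0x10002f60002e4) (Nat.ble 2097 i)) (Nat.ble 2096 i)) (Nat.ble 2094 i)) (Nat.ble 2091 i)) (Nat.ble 2085 i)) (Nat.ble 2073 i))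
noncomputable def CA1P_43 (i : Nat) : Nat := (Bool.rec (motive := fun _ => Nat) (Bool.rec (motive := fun _ => Nat) (Bool.rec (motive := fun _ => Nat) (Bool.rec (motive := fun _ => Nat) (Bool.rec (motive := fun _ => Nat) (0x2f70008d2) (Bool.rec (motive := fun _ => Nat) (0x10002f70005b4) (0x20002f700039a) (Nat.ble 2100 i)) (Nat.ble 2099 i)) (Bool.rec (motive := fun _ => Nat) (0x10002f8000383) (Bool.rec (motive := fun _ => Nat) (0x20002f90007bc) (0x2fa0006ba) (Nat.ble 2103 i)) (Nat.ble 2102 i)) (Nat.ble 2101 i)) (Bool.rec (motive := fun _ => Nat) (Bool.rec (motive := fun _ => Nat) (0x30002fa0007c7) (Bool.rec (motive := fun _ => Nat) (0x2fb000a91) (0x10002fb000d12) (Nat.ble 2106 i)) (Nat.ble 2105 i)) (Bool.rec (motive := fun _ => Nat) (0x20002fb000d8f) (Bool.rec (motive := fun _ => Nat) (0x2fc000018) (0x20002fc000b21) (Nat.ble 2109 i)) (Nat.ble 2108 i)) (Nat.ble 2107 i)) (Nat.ble 2104 i)) (Bool.rec (motive := fun _ => Nat) (Bool.rec (motive := fun _ => Nat) (Bool.rec (motive := fun _ => Nat) (0x10002fd00018c)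 (Bool.rec (motive := fun _ => Nat) (0x20002fd0006e6) (0x30002fd000856) (Nat.ble 2112 i)) (Nat.ble 2111 i)) (Bool.rec (motive := fun _ => Nat) (0x30002ff00095e) (Bool.rec (motive := fun _ => Nat) (0x1000300000839) (0x3000300000ed1) (Nat.ble 2115 i)) (Nat.ble 2114 i)) (Nat.ble 2113 i)) (Bool.rec (motive := fun _ => Nat) (Bool.rec (motive := fun _ => Nat) (0x3000301000241) (Bool.rec (motive := fun _ => Nat) (0x10003020002d9) (0x2000302000952) (Nat.ble 2118 i)) (Nat.ble 2117 i)) (Bool.rec (motive := fun _ => Nat) (0x10003030000fd) (Bool.rec (motive := fun _ => Nat) (0x2000303000577) (0x3000303000ccb) (Nat.ble 2121 i)) (Nat.ble 2120 i)) (Nat.ble 2119 i)) (Nat.ble 2116 i)) (Nat.ble 2110 i)) (Bool.rec (motive := fun _ => Nat) (Bool.rec (motive := fun _ => Nat) (Bool.rec (motive := fun _ => Nat) (Bool.rec (motive := fun _ => Nat) (0x304000a7d) (Bool.rec (motive := fun _ => Nat) (0x300030500025b) (0x1000306000434) (Nat.ble 2124 i)) (Nat.ble 2123 i)) (Bool.rec (motive := fun _ => Nat) (0x2000307000eb1)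 (Bool.rec (motive := fun _ => Nat) (0x3000307000845) (0x3080009b0) (Nat.ble 2127 i)) (Nat.ble 2126 i)) (Nat.ble 2125 i)) (Bool.rec (motive := fun _ => Nat) (Bool.rec (motive := fun _ => Nat) (0x2000308000ef1) (Bool.rec (motive := fun _ => Nat) (0x1000309000774) (0x20003090003f5) (Nat.ble 2130 i)) (Nat.ble 2129 i)) (Bool.rec (motive := fun _ => Nat) (0x3000309000e33) (Bool.rec (motive := fun _ => Nat) (0x300030a0006ac) (0x30b0006ab) (Nat.ble 2133 i)) (Nat.ble 2132 i)) (Nat.ble 2131 i)) (Nat.ble 2128 i)) (Bool.rec (motive := fun _ => Nat) (Bool.rec (motive := fun _ => Nat) (Bool.rec (motive := fun _ => Nat) (0x200030b000cca) (Bool.rec (motive := fun _ => Nat) (0x200030c00003a) (0x200030e0002d1) (Nat.ble 2136 i)) (Nat.ble 2135 i)) (Bool.rec (motive := fun _ => Nat) (0x300030e000455) (Bool.rec (motive := fun _ => Nat) (0x100030f000dcf) (0x200030f0006cb) (Nat.ble 2139 i)) (Nat.ble 2138 i)) (Nat.ble 2137 i)) (Bool.rec (motive := fun _ => Nat) (Bool.rec (motive := fun _ => Nat) (0x300030f0006e3) (Bool.rec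 (motive := fun _ => Nat) (0x3100007dd) (0x311000395) (Nat.ble 2142 i)) (Nat.ble 2141 i)) (Bool.rec (motive := fun _ => Nat) (Bool.rec (motive := fun _ => Nat) (0x1000311000989) (0x31200061b) (Nat.ble 2144 i)) (Bool.rec (motive := fun _ => Nat) (0x10003120007eb) (0x2000312000add) (Nat.ble 2146 i)) (Nat.ble 2145 i)) (Nat.ble 2143 i)) (Nat.ble 2140 i)) (Nat.ble 2134 i)) (Nat.ble 2122 i))
noncomputable def CA1P_44 (i : Nat) : Nat := (Bool.rec (motive := fun _ => Nat) (Bool.rec (motive := fun _ => Nat) (Bool.rec (motive := fun _ => Nat) (Bool.rec (motive := fun _ => Nat) (Bool.rec (motive := fun _ => Nat) (0x3000312000cf6) (Bool.rec (motive := fun _ => Nat) (0x314000e37) (0x100031400015e) (Nat.ble 2149 i)) (Nat.ble 2148 i)) (Bool.rec (motive := fun _ => Nat) (0x20003140005ae) (Bool.rec (motive := fun _ => Nat) (0x3000314000042) (0x1000315000d5b) (Nat.ble 2152 i)) (Nat.ble 2151 i)) (Nat.ble 2150 i)) (Bool.rec (motive := fun _ => Nat) (Bool.rec (motive := fun _ => Nat) (0x2000316000b79) (Bool.rec (motive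 := fun _ => Nat) (0x2000317000d7f) (0x1000318000883) (Nat.ble 2155 i)) (Nat.ble 2154 i)) (Bool.rec (motive := fun _ => Nat) (0x2000318000160) (Bool.rec (motive := fun _ => Nat) (0x3000318000838) (0x300031900063b) (Nat.ble 2158 i)) (Nat.ble 2157 i)) (Nat.ble 2156 i)) (Nat.ble 2153 i)) (Bool.rec (motive := fun _ => Nat) (Bool.rec (motive := fun _ => Nat) (Bool.rec (motive := fun _ => Nat) (0x100031a000cef) (Bool.rec (motive := fun _ => Nat) (0x200031a000db4) (0x200031b0007a0) (Nat.ble 2161 i)) (Nat.ble 2160 i)) (Bool.rec (motive := fun _ => Nat) (0x300031b000d55) (Bool.rec (motive := fun _ => Nat) (0x31c000c53) (0x200031c000d04) (Nat.ble 2164 i)) (Nat.ble 2163 i)) (Nat.ble 2162 i)) (Bool.rec (motive := fun _ => Nat) (Bool.rec (motive := fun _ => Nat) (0x300031c000b22) (Bool.rec (motive := fun _ => Nat) (0x100031d000e5c) (0x200031d000ab0) (Nat.ble 2167 i)) (Nat.ble 2166 i)) (Bool.rec (motive := fun _ => Nat) (0x320000a8f) (Bool.rec (motive := fun _ => Nat) (0x300032000061d) (0x3000321000f02) (Nat.ble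 2170 i)) (Nat.ble 2169 i)) (Nat.ble 2168 i)) (Nat.ble 2165 i)) (Nat.ble 2159 i)) (Bool.rec (motive := fun _ => Nat) (Bool.rec (motive := fun _ => Nat) (Bool.rec (motive := fun _ => Nat) (Bool.rec (motive := fun _ => Nat) (0x2000322000313) (Bool.rec (motive := fun _ => Nat) (0x1000323000d37) (0x2000323000a97) (Nat.ble 2173 i)) (Nat.ble 2172 i)) (Bool.rec (motive := fun _ => Nat) (0x10003240007ea) (Bool.rec (motive := fun _ => Nat) (0x20003240000f5) (0x3000324000720) (Nat.ble 2176 i)) (Nat.ble 2175 i)) (Nat.ble 2174 i)) (Bool.rec (motive := fun _ => Nat) (Bool.rec (motive := fun _ => Nat) (0x3250008ee) (Bool.rec (motive := fun _ => Nat) (0x32600044a) (0x2000327000a7c) (Nat.ble 2179 i)) (Nat.ble 2178 i)) (Bool.rec (motive := fun _ => Nat) (0x300032700026e) (Bool.rec (motive := fun _ => Nat) (0x328000048) (0x10003280007ec) (Nat.ble 2182 i)) (Nat.ble 2181 i)) (Nat.ble 2180 i)) (Nat.ble 2177 i)) (Bool.rec (motive := fun _ => Nat) (Bool.rec (motive := fun _ => Nat) (Bool.rec (motive := fun _ => Nat)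 (0x2000329000003) (Bool.rec (motive := fun _ => Nat) (0x100032a000e96) (0x200032a000e1c) (Nat.ble 2185 i)) (Nat.ble 2184 i)) (Bool.rec (motive := fun _ => Nat) (0x300032a0000e0) (Bool.rec (motive := fun _ => Nat) (0x100032b00053a) (0x200032b000bd2) (Nat.ble 2188 i)) (Nat.ble 2187 i)) (Nat.ble 2186 i)) (Bool.rec (motive := fun _ => Nat) (Bool.rec (motive := fun _ => Nat) (0x32c000ec8) (Bool.rec (motive := fun _ => Nat) (0x100032c0002ca) (0x200032c000ad5) (Nat.ble 2191 i)) (Nat.ble 2190 i)) (Bool.rec (motive := fun _ => Nat) (Bool.rec (motive := fun _ => Nat) (0x100032d00009e) (0x300032d000b5f) (Nat.ble 2193 i)) (Bool.rec (motive := fun _ => Nat) (0x300032e0003af) (0x200032f000718) (Nat.ble 2195 i)) (Nat.ble 2194 i)) (Nat.ble 2192 i)) (Nat.ble 2189 i)) (Nat.ble 2183 i)) (Nat.ble 2171 i))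
noncomputable def CA1P_45 (i : Nat) : Nat := (Bool.rec (motive := fun _ => Nat) (Bool.rec (motive := fun _ => Nat) (Bool.rec (motive := fun _ => Nat) (Bool.rec (motive := fun _ => Nat) (Bool.rec (motive := fun _ => Nat) (0x300032f000da3) (Bool.rec (motive := fun _ => Nat) (0x33000034d) (0x2000330000411) (Nat.ble 2198 i)) (Nat.ble 2197 i)) (Bool.rec (motive := fun _ => Nat) (0x100033200017c) (Bool.rec (motive := fun _ => Nat) (0x100033300077f) (0x3000333000e8e) (Nat.ble 2201 i)) (Nat.ble 2200 i)) (Nat.ble 2199 i)) (Bool.rec (motive := fun _ => Nat) (Bool.rec (motive := fun _ => Nat) (0x3340006b4) (Bool.rec (motive := fun _ => Nat) (0x10003340006fd) (0x2000334000cee) (Nat.ble 2204 i)) (Nat.ble 2203 i)) (Bool.rec (motive := fun _ => Nat) (0x2000335000ce5) (Bool.rec (motive := fun _ => Nat) (0x3360007f2) (0x20003360004ff) (Nat.ble 2207 i)) (Nat.ble 2206 i)) (Nat.ble 2205 i)) (Nat.ble 2202 i)) (Bool.rec (motive := fun _ => Nat) (Bool.rec (motive := fun _ => Nat) (Bool.rec (motive := fun _ => Nat)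 (0x2000338000522) (Bool.rec (motive := fun _ => Nat) (0x100033a000321) (0x200033a000a84) (Nat.ble 2210 i)) (Nat.ble 2209 i)) (Bool.rec (motive := fun _ => Nat) (0x300033a000a61) (Bool.rec (motive := fun _ => Nat) (0x100033b000661) (0x300033b000be6) (Nat.ble 2213 i)) (Nat.ble 2212 i)) (Nat.ble 2211 i)) (Bool.rec (motive := fun _ => Nat) (Bool.rec (motive := fun _ => Nat) (0x33c00059c) (Bool.rec (motive := fun _ => Nat) (0x200033c000db9) (0x33d000900) (Nat.ble 2216 i)) (Nat.ble 2215 i)) (Bool.rec (motive := fun _ => Nat) (0x100033d000d48) (Bool.rec (motive := fun _ => Nat) (0x300033d0009b1) (0x33f000c18) (Nat.ble 2219 i)) (Nat.ble 2218 i)) (Nat.ble 2217 i)) (Nat.ble 2214 i)) (Nat.ble 2208 i)) (Bool.rec (motive := fun _ => Nat) (Bool.rec (motive := fun _ => Nat) (Bool.rec (motive := fun _ => Nat) (Bool.rec (motive := fun _ => Nat) (0x100033f0001a2) (Bool.rec (motive := fun _ => Nat) (0x300033f0009f3) (0x2000340000ea1) (Nat.ble 2222 i)) (Nat.ble 2221 i)) (Bool.rec (motive := fun _ => Nat) (0x341000937)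 (Bool.rec (motive := fun _ => Nat) (0x1000341000729) (0x34200041e) (Nat.ble 2225 i)) (Nat.ble 2224 i)) (Nat.ble 2223 i)) (Bool.rec (motive := fun _ => Nat) (Bool.rec (motive := fun _ => Nat) (0x100034200086a) (Bool.rec (motive := fun _ => Nat) (0x2000342000142) (0x3000342000c56) (Nat.ble 2228 i)) (Nat.ble 2227 i)) (Bool.rec (motive := fun _ => Nat) (0x10003430001b1) (Bool.rec (motive := fun _ => Nat) (0x345000025) (0x1000345000529) (Nat.ble 2231 i)) (Nat.ble 2230 i)) (Nat.ble 2229 i)) (Nat.ble 2226 i)) (Bool.rec (motive := fun _ => Nat) (Bool.rec (motive := fun _ => Nat) (Bool.rec (motive := fun _ => Nat) (0x3000345000a28) (Bool.rec (motive := fun _ => Nat) (0x200034600088b) (0x300034600024a) (Nat.ble 2234 i)) (Nat.ble 2233 i)) (Bool.rec (motive := fun _ => Nat) (0x34700050c) (Bool.rec (motive := fun _ => Nat) (0x200034700025a) (0x3000347000ead) (Nat.ble 2237 i)) (Nat.ble 2236 i)) (Nat.ble 2235 i)) (Bool.rec (motive := fun _ => Nat) (Bool.rec (motive := fun _ => Nat) (0x1000349000d43) (Bool.rec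 (motive := fun _ => Nat) (0x100034a000673) (0x300034a00042e) (Nat.ble 2240 i)) (Nat.ble 2239 i)) (Bool.rec (motive := fun _ => Nat) (Bool.rec (motive := fun _ => Nat) (0x34b0003d8) (0x100034b0003d7) (Nat.ble 2242 i)) (Bool.rec (motive := fun _ => Nat) (0x200034b000c96) (0x34c000478) (Nat.ble 2244 i)) (Nat.ble 2243 i)) (Nat.ble 2241 i)) (Nat.ble 2238 i)) (Nat.ble 2232 i)) (Nat.ble 2220 i))
noncomputable def CA1P_46 (i : Nat) : Nat := (Bool.rec (motive := fun _ => Nat) (Bool.rec (motive := fun _ => Nat) (Bool.rec (motive := fun _ => Nat) (Bool.rec (motive := fun _ => Nat) (Bool.rec (motive := fun _ => Nat) (0x300034c000c87) (Bool.rec (motive := fun _ => Nat) (0x100034d00093c) (0x200034d00099a) (Nat.ble 2247 i)) (Nat.ble 2246 i)) (Bool.rec (motive := fun _ => Nat) (0x100034e0008f8) (Bool.rec (motive := fun _ => Nat) (0x200034e000e32) (0x300034e000473) (Nat.ble 2250 i)) (Nat.ble 2249 i)) (Nat.ble 2248 i)) (Bool.rec (motive := fun _ => Nat) (Bool.rec (motive := fun _ => Nat) (0x34f0009fc) (Bool.rec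 (motive := fun _ => Nat) (0x300034f00098e) (0x350000542) (Nat.ble 2253 i)) (Nat.ble 2252 i)) (Bool.rec (motive := fun _ => Nat) (0x1000350000e64) (Bool.rec (motive := fun _ => Nat) (0x2000350000410) (0x100035100083e) (Nat.ble 2256 i)) (Nat.ble 2255 i)) (Nat.ble 2254 i)) (Nat.ble 2251 i)) (Bool.rec (motive := fun _ => Nat) (Bool.rec (motive := fun _ => Nat) (Bool.rec (motive := fun _ => Nat) (0x2000351000dbd) (Bool.rec (motive := fun _ => Nat) (0x3000351000662) (0x1000352000269) (Nat.ble 2259 i)) (Nat.ble 2258 i)) (Bool.rec (motive := fun _ => Nat) (0x1000354000914) (Bool.rec (motive := fun _ => Nat) (0x2000354000cbf) (0x356000a00) (Nat.ble 2262 i)) (Nat.ble 2261 i)) (Nat.ble 2260 i)) (Bool.rec (motive := fun _ => Nat) (Bool.rec (motive := fun _ => Nat) (0x20003560009d8) (Bool.rec (motive := fun _ => Nat) (0x3000358000dc7) (0x359000b4c) (Nat.ble 2265 i)) (Nat.ble 2264 i)) (Bool.rec (motive := fun _ => Nat) (0x100035b0005f5) (Bool.rec (motive := fun _ => Nat) (0x200035b000aa4) (0x300035b000c9b)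 (Nat.ble 2268 i)) (Nat.ble 2267 i)) (Nat.ble 2266 i)) (Nat.ble 2263 i)) (Nat.ble 2257 i)) (Bool.rec (motive := fun _ => Nat) (Bool.rec (motive := fun _ => Nat) (Bool.rec (motive := fun _ => Nat) (Bool.rec (motive := fun _ => Nat) (0x100035c00084b) (Bool.rec (motive := fun _ => Nat) (0x300035c00039c) (0x300035d000a7a) (Nat.ble 2271 i)) (Nat.ble 2270 i)) (Bool.rec (motive := fun _ => Nat) (0x200035e000ac4) (Bool.rec (motive := fun _ => Nat) (0x300035e0006d8) (0x100035f00097d) (Nat.ble 2274 i)) (Nat.ble 2273 i)) (Nat.ble 2272 i)) (Bool.rec (motive := fun _ => Nat) (Bool.rec (motive := fun _ => Nat) (0x300035f000d01) (Bool.rec (motive := fun _ => Nat) (0x1000360000bd8) (0x10003610003b7) (Nat.ble 2277 i)) (Nat.ble 2276 i)) (Bool.rec (motive := fun _ => Nat) (0x2000362000a70) (Bool.rec (motive := fun _ => Nat) (0x3000362000b41) (0x363000afe) (Nat.ble 2280 i)) (Nat.ble 2279 i)) (Nat.ble 2278 i)) (Nat.ble 2275 i)) (Bool.rec (motive := fun _ => Nat) (Bool.rec (motive := fun _ => Nat) (Bool.rec (motive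 := fun _ => Nat) (0x10003630003ed) (Bool.rec (motive := fun _ => Nat) (0x20003630007a6) (0x3000363000a94) (Nat.ble 2283 i)) (Nat.ble 2282 i)) (Bool.rec (motive := fun _ => Nat) (0x364000792) (Bool.rec (motive := fun _ => Nat) (0x365000531) (0x3000365000b69) (Nat.ble 2286 i)) (Nat.ble 2285 i)) (Nat.ble 2284 i)) (Bool.rec (motive := fun _ => Nat) (Bool.rec (motive := fun _ => Nat) (0x30003660003a1) (Bool.rec (motive := fun _ => Nat) (0x367000832) (0x1000367000b54) (Nat.ble 2289 i)) (Nat.ble 2288 i)) (Bool.rec (motive := fun _ => Nat) (Bool.rec (motive := fun _ => Nat) (0x2000368000b30) (0x369000688) (Nat.ble 2291 i)) (Bool.rec (motive := fun _ => Nat) (0x2000369000119) (0x3000369000da4) (Nat.ble 2293 i)) (Nat.ble 2292 i)) (Nat.ble 2290 i)) (Nat.ble 2287 i)) (Nat.ble 2281 i)) (Nat.ble 2269 i))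
noncomputable def CA1P_47 (i : Nat) : Nat := (Bool.rec (motive := fun _ => Nat) (Bool.rec (motive := fun _ => Nat) (Bool.rec (motive := fun _ => Nat) (Bool.rec (motive := fun _ => Nat) (Bool.rec (motive := fun _ => Nat) (0x36a0000d4) (Bool.rec (motive := fun _ => Nat) (0x36b00082c) (0x100036b000981) (Nat.ble 2296 i)) (Nat.ble 2295 i)) (Bool.rec (motive := fun _ => Nat) (0x300036b000369) (Bool.rec (motive := fun _ => Nat) (0x100036c0000e6) (0x200036c0007fa) (Nat.ble 2299 i)) (Nat.ble 2298 i)) (Nat.ble 2297 i)) (Bool.rec (motive := fun _ => Nat) (Bool.rec (motive := fun _ => Nat) (0x300036c000a56) (Bool.rec (motive := fun _ => Nat) (0x100036d000115) (0x200036d000054) (Nat.ble 2302 i)) (Nat.ble 2301 i)) (Bool.rec (motive := fun _ => Nat) (0x200036f000da8) (Bool.rec (motive := fun _ => Nat) (0x300036f000b85) (0x370000346) (Nat.ble 2305 i)) (Nat.ble 2304 i)) (Nat.ble 2303 i)) (Nat.ble 2300 i)) (Bool.rec (motive := fun _ => Nat) (Bool.rec (motive := fun _ => Nat) (Bool.rec (motive := fun _ => Nat)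 (0x1000370000967) (Bool.rec (motive := fun _ => Nat) (0x2000370000c11) (0x100037100069b) (Nat.ble 2308 i)) (Nat.ble 2307 i)) (Bool.rec (motive := fun _ => Nat) (0x30003720009cd) (Bool.rec (motive := fun _ => Nat) (0x37300028b) (0x2000373000778) (Nat.ble 2311 i)) (Nat.ble 2310 i)) (Nat.ble 2309 i)) (Bool.rec (motive := fun _ => Nat) (Bool.rec (motive := fun _ => Nat) (0x3740000a6) (Bool.rec (motive := fun _ => Nat) (0x200037400013a) (0x3000374000c2e) (Nat.ble 2314 i)) (Nat.ble 2313 i)) (Bool.rec (motive := fun _ => Nat) (0x375000cb5) (Bool.rec (motive := fun _ => Nat) (0x30003750006de) (0x3760009cf) (Nat.ble 2317 i)) (Nat.ble 2316 i)) (Nat.ble 2315 i)) (Nat.ble 2312 i)) (Nat.ble 2306 i)) (Bool.rec (motive := fun _ => Nat) (Bool.rec (motive := fun _ => Nat) (Bool.rec (motive := fun _ => Nat) (Bool.rec (motive := fun _ => Nat) (0x200037700029e) (Bool.rec (motive := fun _ => Nat) (0x1000378000358) (0x2000378000706) (Nat.ble 2320 i)) (Nat.ble 2319 i)) (Bool.rec (motive := fun _ => Nat) (0x379000b88)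 (Bool.rec (motive := fun _ => Nat) (0x1000379000d2e) (0x37a000a76) (Nat.ble 2323 i)) (Nat.ble 2322 i)) (Nat.ble 2321 i)) (Bool.rec (motive := fun _ => Nat) (Bool.rec (motive := fun _ => Nat) (0x100037a000a6b) (Bool.rec (motive := fun _ => Nat) (0x200037a0006c8) (0x100037b000743) (Nat.ble 2326 i)) (Nat.ble 2325 i)) (Bool.rec (motive := fun _ => Nat) (0x200037b000754) (Bool.rec (motive := fun _ => Nat) (0x300037b000d4f) (0x37d00041f) (Nat.ble 2329 i)) (Nat.ble 2328 i)) (Nat.ble 2327 i)) (Nat.ble 2324 i)) (Bool.rec (motive := fun _ => Nat) (Bool.rec (motive := fun _ => Nat) (Bool.rec (motive := fun _ => Nat) (0x100037d000d13) (Bool.rec (motive := fun _ => Nat) (0x300037d00028d) (0x200037e000cd4) (Nat.ble 2332 i)) (Nat.ble 2331 i)) (Bool.rec (motive := fun _ => Nat) (0x300037e000121) (Bool.rec (motive := fun _ => Nat) (0x100037f00030a) (0x300037f000b65) (Nat.ble 2335 i)) (Nat.ble 2334 i)) (Nat.ble 2333 i)) (Bool.rec (motive := fun _ => Nat) (Bool.rec (motive := fun _ => Nat) (0x1000380000e88) (Bool.rec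 (motive := fun _ => Nat) (0x100038200028a) (0x20003820006be) (Nat.ble 2338 i)) (Nat.ble 2337 i)) (Bool.rec (motive := fun _ => Nat) (Bool.rec (motive := fun _ => Nat) (0x30003820000f6) (0x10003840002c7) (Nat.ble 2340 i)) (Bool.rec (motive := fun _ => Nat) (0x20003840000cb) (0x30003840003cc) (Nat.ble 2342 i)) (Nat.ble 2341 i)) (Nat.ble 2339 i)) (Nat.ble 2336 i)) (Nat.ble 2330 i)) (Nat.ble 2318 i))
noncomputable def CA1P_48 (i : Nat) : Nat := (Bool.rec (motive := fun _ => Nat) (Bool.rec (motive := fun _ => Nat) (Bool.rec (motive := fun _ => Nat) (Bool.rec (motive := fun _ => Nat) (Bool.rec (motive := fun _ => Nat) (0x2000385000d5c) (Bool.rec (motive := fun _ => Nat) (0x3000385000377) (0x386000963) (Nat.ble 2345 i)) (Nat.ble 2344 i)) (Bool.rec (motive := fun _ => Nat) (0x1000386000d8e) (Bool.rec (motive := fun _ => Nat) (0x388000065) (0x1000389000e5b) (Nat.ble 2348 i)) (Nat.ble 2347 i)) (Nat.ble 2346 i)) (Bool.rec (motive := fun _ => Nat) (Bool.rec (motive := fun _ => Nat) (0x2000389000bd7) (Bool.rec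 (motive := fun _ => Nat) (0x3000389000efa) (0x300038a00087d) (Nat.ble 2351 i)) (Nat.ble 2350 i)) (Bool.rec (motive := fun _ => Nat) (0x38b000678) (Bool.rec (motive := fun _ => Nat) (0x100038b00073c) (0x200038b000ec4) (Nat.ble 2354 i)) (Nat.ble 2353 i)) (Nat.ble 2352 i)) (Nat.ble 2349 i)) (Bool.rec (motive := fun _ => Nat) (Bool.rec (motive := fun _ => Nat) (Bool.rec (motive := fun _ => Nat) (0x100038c00044c) (Bool.rec (motive := fun _ => Nat) (0x38d0001ee) (0x200038d000793) (Nat.ble 2357 i)) (Nat.ble 2356 i)) (Bool.rec (motive := fun _ => Nat) (0x38e00075f) (Bool.rec (motive := fun _ => Nat) (0x200038f000140) (0x300038f000d89) (Nat.ble 2360 i)) (Nat.ble 2359 i)) (Nat.ble 2358 i)) (Bool.rec (motive := fun _ => Nat) (Bool.rec (motive := fun _ => Nat) (0x39100092a) (Bool.rec (motive := fun _ => Nat) (0x1000392000d62) (0x2000392000ee6) (Nat.ble 2363 i)) (Nat.ble 2362 i)) (Bool.rec (motive := fun _ => Nat) (0x393000e41) (Bool.rec (motive := fun _ => Nat) (0x394000188) (0x200039400070f) (Nat.ble 2366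 i)) (Nat.ble 2365 i)) (Nat.ble 2364 i)) (Nat.ble 2361 i)) (Nat.ble 2355 i)) (Bool.rec (motive := fun _ => Nat) (Bool.rec (motive := fun _ => Nat) (Bool.rec (motive := fun _ => Nat) (Bool.rec (motive := fun _ => Nat) (0x300039400074e) (Bool.rec (motive := fun _ => Nat) (0x395000dbe) (0x1000395000421) (Nat.ble 2369 i)) (Nat.ble 2368 i)) (Bool.rec (motive := fun _ => Nat) (0x2000395000ae9) (Bool.rec (motive := fun _ => Nat) (0x1000396000d45) (0x300039600001a) (Nat.ble 2372 i)) (Nat.ble 2371 i)) (Nat.ble 2370 i)) (Bool.rec (motive := fun _ => Nat) (Bool.rec (motive := fun _ => Nat) (0x100039800086f) (Bool.rec (motive := fun _ => Nat) (0x399000705) (0x3000399000391) (Nat.ble 2375 i)) (Nat.ble 2374 i)) (Bool.rec (motive := fun _ => Nat) (0x39a000419) (Bool.rec (motive := fun _ => Nat) (0x200039a00012c) (0x39b0008ea) (Nat.ble 2378 i)) (Nat.ble 2377 i)) (Nat.ble 2376 i)) (Nat.ble 2373 i)) (Bool.rec (motive := fun _ => Nat) (Bool.rec (motive := fun _ => Nat) (Bool.rec (motive := fun _ => Nat) (0x100039b000557)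 (Bool.rec (motive := fun _ => Nat) (0x200039b000c41) (0x39c000b13) (Nat.ble 2381 i)) (Nat.ble 2380 i)) (Bool.rec (motive := fun _ => Nat) (0x100039c00013b) (Bool.rec (motive := fun _ => Nat) (0x200039c000dc2) (0x300039c0002dc) (Nat.ble 2384 i)) (Nat.ble 2383 i)) (Nat.ble 2382 i)) (Bool.rec (motive := fun _ => Nat) (Bool.rec (motive := fun _ => Nat) (0x100039d000d4a) (Bool.rec (motive := fun _ => Nat) (0x39e000b36) (0x200039e000c50) (Nat.ble 2387 i)) (Nat.ble 2386 i)) (Bool.rec (motive := fun _ => Nat) (0x39f00076b) (Bool.rec (motive := fun _ => Nat) (0x100039f000eba) (0x200039f0007e0) (Nat.ble 2390 i)) (Nat.ble 2389 i)) (Nat.ble 2388 i)) (Nat.ble 2385 i)) (Nat.ble 2379 i)) (Nat.ble 2367 i))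
noncomputable def CA1P_49 (i : Nat) : Nat := (Bool.rec (motive := fun _ => Nat) (Bool.rec (motive := fun _ => Nat) (Bool.rec (motive := fun _ => Nat) (Bool.rec (motive := fun _ => Nat) (Bool.rec (motive := fun _ => Nat) (0x30003a0000eff) (Bool.rec (motive := fun _ => Nat) (0x3a1000b90) (0x3a2000e24) (Nat.ble 2393 i)) (Nat.ble 2392 i)) (Bool.rec (motive := fun _ => Nat) (0x3a3000e9c) (Bool.rec (motive := fun _ => Nat) (0x20003a40007f5) (0x3a5000098) (Nat.ble 2396 i)) (Nat.ble 2395 i)) (Nat.ble 2394 i)) (Bool.rec (motive := fun _ => Nat) (Bool.rec (motive := fun _ => Nat) (0x30003a7000c00) (Bool.rec (motive := fun _ => Nat) (0x20003a8000de1) (0x20003a9000ae3) (Nat.ble 2399 i)) (Nat.ble 2398 i)) (Bool.rec (motive := fun _ => Nat) (0x30003a9000bf1) (Bool.rec (motive := fun _ => Nat) (0x20003ab0009b8) (0x3ac000c1d) (Nat.ble 2402 i)) (Nat.ble 2401 i)) (Nat.ble 2400 i)) (Nat.ble 2397 i)) (Bool.rec (motive := fun _ => Nat) (Bool.rec (motive := fun _ => Nat) (Bool.rec (motive := fun _ => Nat) (0x10003ac000791)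 (Bool.rec (motive := fun _ => Nat) (0x30003ad000043) (0x20003ae00090b) (Nat.ble 2405 i)) (Nat.ble 2404 i)) (Bool.rec (motive := fun _ => Nat) (0x20003af0007b0) (Bool.rec (motive := fun _ => Nat) (0x30003af0003ba) (0x3b00007c8) (Nat.ble 2408 i)) (Nat.ble 2407 i)) (Nat.ble 2406 i)) (Bool.rec (motive := fun _ => Nat) (Bool.rec (motive := fun _ => Nat) (0x10003b0000b55) (Bool.rec (motive := fun _ => Nat) (0x20003b0000b4f) (0x30003b0000ba0) (Nat.ble 2411 i)) (Nat.ble 2410 i)) (Bool.rec (motive := fun _ => Nat) (0x10003b1000903) (Bool.rec (motive := fun _ => Nat) (0x30003b100082b) (0x10003b2000162) (Nat.ble 2414 i)) (Nat.ble 2413 i)) (Nat.ble 2412 i)) (Nat.ble 2409 i)) (Nat.ble 2403 i)) (Bool.rec (motive := fun _ => Nat) (Bool.rec (motive := fun _ => Nat) (Bool.rec (motive := fun _ => Nat) (Bool.rec (motive := fun _ => Nat) (0x20003b200095f) (Bool.rec (motive := fun _ => Nat) (0x30003b200003b) (0x20003b3000164) (Nat.ble 2417 i)) (Nat.ble 2416 i)) (Bool.rec (motive := fun _ => Nat) (0x30003b30007f7)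 (Bool.rec (motive := fun _ => Nat) (0x20003b4000511) (0x3b5000b6f) (Nat.ble 2420 i)) (Nat.ble 2419 i)) (Nat.ble 2418 i)) (Bool.rec (motive := fun _ => Nat) (Bool.rec (motive := fun _ => Nat) (0x30003b6000bb1) (Bool.rec (motive := fun _ => Nat) (0x3b7000d78) (0x10003b70004ed) (Nat.ble 2423 i)) (Nat.ble 2422 i)) (Bool.rec (motive := fun _ => Nat) (0x20003b70008d0) (Bool.rec (motive := fun _ => Nat) (0x20003b8000e6a) (0x30003b8000192) (Nat.ble 2426 i)) (Nat.ble 2425 i)) (Nat.ble 2424 i)) (Nat.ble 2421 i)) (Bool.rec (motive := fun _ => Nat) (Bool.rec (motive := fun _ => Nat) (Bool.rec (motive := fun _ => Nat) (0x3b9000420) (Bool.rec (motive := fun _ => Nat) (0x10003b9000614) (0x3ba000b98) (Nat.ble 2429 i)) (Nat.ble 2428 i)) (Bool.rec (motive := fun _ => Nat) (0x10003ba000e4b) (Bool.rec (motive := fun _ => Nat) (0x30003ba000f25) (0x10003bb000857) (Nat.ble 2432 i)) (Nat.ble 2431 i)) (Nat.ble 2430 i)) (Bool.rec (motive := fun _ => Nat) (Bool.rec (motive := fun _ => Nat) (0x30003bb000dfe) (Bool.rec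 (motive := fun _ => Nat) (0x10003bc000058) (0x30003bc000cf5) (Nat.ble 2435 i)) (Nat.ble 2434 i)) (Bool.rec (motive := fun _ => Nat) (Bool.rec (motive := fun _ => Nat) (0x10003bd0002dd) (0x20003bd0009ea) (Nat.ble 2437 i)) (Bool.rec (motive := fun _ => Nat) (0x30003bd0000eb) (0x10003be000591) (Nat.ble 2439 i)) (Nat.ble 2438 i)) (Nat.ble 2436 i)) (Nat.ble 2433 i)) (Nat.ble 2427 i)) (Nat.ble 2415 i))
noncomputable def CA1P_50 (i : Nat) : Nat := (Bool.rec (motive := fun _ => Nat) (Bool.rec (motive := fun _ => Nat) (Bool.rec (motive := fun _ => Nat) (Bool.rec (motive := fun _ => Nat) (Bool.rec (motive := fun _ => Nat) (0x30003be000949) (Bool.rec (motive := fun _ => Nat) (0x3bf000c99) (0x10003bf000537) (Nat.ble 2442 i)) (Nat.ble 2441 i)) (Bool.rec (motive := fun _ => Nat) (0x20003bf000154) (Bool.rec (motive := fun _ => Nat) (0x3c0000ecf) (0x10003c0000c43) (Nat.ble 2445 i)) (Nat.ble 2444 i)) (Nat.ble 2443 i)) (Bool.rec (motive := fun _ => Nat) (Bool.rec (motive := fun _ => Nat) (0x10003c10006c9) (Bool.rec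 (motive := fun _ => Nat) (0x3c20002fc) (0x10003c2000bef) (Nat.ble 2448 i)) (Nat.ble 2447 i)) (Bool.rec (motive := fun _ => Nat) (0x3c3000022) (Bool.rec (motive := fun _ => Nat) (0x30003c300076a) (0x3c5000d26) (Nat.ble 2451 i)) (Nat.ble 2450 i)) (Nat.ble 2449 i)) (Nat.ble 2446 i)) (Bool.rec (motive := fun _ => Nat) (Bool.rec (motive := fun _ => Nat) (Bool.rec (motive := fun _ => Nat) (0x20003c500047c) (Bool.rec (motive := fun _ => Nat) (0x3c6000bc9) (0x20003c60000d9) (Nat.ble 2454 i)) (Nat.ble 2453 i)) (Bool.rec (motive := fun _ => Nat) (0x30003c60001d9) (Bool.rec (motive := fun _ => Nat) (0x20003c700087c) (0x3c8000208) (Nat.ble 2457 i)) (Nat.ble 2456 i)) (Nat.ble 2455 i)) (Bool.rec (motive := fun _ => Nat) (Bool.rec (motive := fun _ => Nat) (0x10003c80009b9) (Bool.rec (motive := fun _ => Nat) (0x20003c8000433) (0x10003c90003e5) (Nat.ble 2460 i)) (Nat.ble 2459 i)) (Bool.rec (motive := fun _ => Nat) (0x3ca0006af) (Bool.rec (motive := fun _ => Nat) (0x10003ca0000fe) (0x30003ca0000ff) (Nat.ble 2463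 i)) (Nat.ble 2462 i)) (Nat.ble 2461 i)) (Nat.ble 2458 i)) (Nat.ble 2452 i)) (Bool.rec (motive := fun _ => Nat) (Bool.rec (motive := fun _ => Nat) (Bool.rec (motive := fun _ => Nat) (Bool.rec (motive := fun _ => Nat) (0x20003cb00081d) (Bool.rec (motive := fun _ => Nat) (0x10003cc00010d) (0x10003ce000f2b) (Nat.ble 2466 i)) (Nat.ble 2465 i)) (Bool.rec (motive := fun _ => Nat) (0x3cf00012a) (Bool.rec (motive := fun _ => Nat) (0x10003d0000c57) (0x30003d00004f4) (Nat.ble 2469 i)) (Nat.ble 2468 i)) (Nat.ble 2467 i)) (Bool.rec (motive := fun _ => Nat) (Bool.rec (motive := fun _ => Nat) (0x30003d100068a) (Bool.rec (motive := fun _ => Nat) (0x20003d2000141) (0x3d30009f2) (Nat.ble 2472 i)) (Nat.ble 2471 i)) (Bool.rec (motive := fun _ => Nat) (0x10003d3000cc5) (Bool.rec (motive := fun _ => Nat) (0x20003d30002e5) (0x10003d40005c5) (Nat.ble 2475 i)) (Nat.ble 2474 i)) (Nat.ble 2473 i)) (Nat.ble 2470 i)) (Bool.rec (motive := fun _ => Nat) (Bool.rec (motive := fun _ => Nat) (Bool.rec (motive := fun _ => Nat)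 (0x3d5000060) (Bool.rec (motive := fun _ => Nat) (0x10003d5000d33) (0x20003d500038d) (Nat.ble 2478 i)) (Nat.ble 2477 i)) (Bool.rec (motive := fun _ => Nat) (0x30003d500032c) (Bool.rec (motive := fun _ => Nat) (0x3d6000f2e) (0x30003d600092e) (Nat.ble 2481 i)) (Nat.ble 2480 i)) (Nat.ble 2479 i)) (Bool.rec (motive := fun _ => Nat) (Bool.rec (motive := fun _ => Nat) (0x30003d7000552) (Bool.rec (motive := fun _ => Nat) (0x30003d8000689) (0x20003dc000694) (Nat.ble 2484 i)) (Nat.ble 2483 i)) (Bool.rec (motive := fun _ => Nat) (Bool.rec (motive := fun _ => Nat) (0x3de000f1a) (0x30003de0002e3) (Nat.ble 2486 i)) (Bool.rec (motive := fun _ => Nat) (0x3df000698) (0x10003df000ad7) (Nat.ble 2488 i)) (Nat.ble 2487 i)) (Nat.ble 2485 i)) (Nat.ble 2482 i)) (Nat.ble 2476 i)) (Nat.ble 2464 i))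
noncomputable def CA1P_51 (i : Nat) : Nat := (Bool.rec (motive := fun _ => Nat) (Bool.rec (motive := fun _ => Nat) (Bool.rec (motive := fun _ => Nat) (Bool.rec (motive := fun _ => Nat) (Bool.rec (motive := fun _ => Nat) (0x3e10008f0) (Bool.rec (motive := fun _ => Nat) (0x3e2000bf0) (0x10003e5000cba) (Nat.ble 2491 i)) (Nat.ble 2490 i)) (Bool.rec (motive := fun _ => Nat) (0x30003e500094c) (Bool.rec (motive := fun _ => Nat) (0x3e6000b07) (0x10003e6000d93) (Nat.ble 2494 i)) (Nat.ble 2493 i)) (Nat.ble 2492 i)) (Bool.rec (motive := fun _ => Nat) (Bool.rec (motive := fun _ => Nat) (0x10003e7000362) (Bool.rec (motive := fun _ => Nat) (0x20003e700084f) (0x30003e800085d) (Nat.ble 2497 i)) (Nat.ble 2496 i)) (Bool.rec (motive := fun _ => Nat) (0x3e90006a3) (Bool.rec (motive := fun _ => Nat) (0x10003e90007f8) (0x3ea0009ed) (Nat.ble 2500 i)) (Nat.ble 2499 i)) (Nat.ble 2498 i)) (Nat.ble 2495 i)) (Bool.rec (motive := fun _ => Nat) (Bool.rec (motive := fun _ => Nat) (Bool.rec (motive := fun _ => Nat) (0x3eb000b99)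 (Bool.rec (motive := fun _ => Nat) (0x20003ee000ae1) (0x30003ee00062d) (Nat.ble 2503 i)) (Nat.ble 2502 i)) (Bool.rec (motive := fun _ => Nat) (0x3ef0006fc) (Bool.rec (motive := fun _ => Nat) (0x3f0000ebc) (0x30003f1000c39) (Nat.ble 2506 i)) (Nat.ble 2505 i)) (Nat.ble 2504 i)) (Bool.rec (motive := fun _ => Nat) (Bool.rec (motive := fun _ => Nat) (0x3f2000cc2) (Bool.rec (motive := fun _ => Nat) (0x10003f2000a80) (0x20003f2000e2d) (Nat.ble 2509 i)) (Nat.ble 2508 i)) (Bool.rec (motive := fun _ => Nat) (0x30003f2000f18) (Bool.rec (motive := fun _ => Nat) (0x20003f300087b) (0x3f5000f1b) (Nat.ble 2512 i)) (Nat.ble 2511 i)) (Nat.ble 2510 i)) (Nat.ble 2507 i)) (Nat.ble 2501 i)) (Bool.rec (motive := fun _ => Nat) (Bool.rec (motive := fun _ => Nat) (Bool.rec (motive := fun _ => Nat) (Bool.rec (motive := fun _ => Nat) (0x10003f500012b) (Bool.rec (motive := fun _ => Nat) (0x20003f5000dd9) (0x3f7000631) (Nat.ble 2515 i)) (Nat.ble 2514 i)) (Bool.rec (motive := fun _ => Nat) (0x3f8000028) (Bool.rec (motive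 := fun _ => Nat) (0x10003f80008f2) (0x30003f80002a6) (Nat.ble 2518 i)) (Nat.ble 2517 i)) (Nat.ble 2516 i)) (Bool.rec (motive := fun _ => Nat) (Bool.rec (motive := fun _ => Nat) (0x3f900037f) (Bool.rec (motive := fun _ => Nat) (0x10003f9000264) (0x30003fb000c31) (Nat.ble 2521 i)) (Nat.ble 2520 i)) (Bool.rec (motive := fun _ => Nat) (0x3fc000722) (Bool.rec (motive := fun _ => Nat) (0x20003fc000053) (0x3fe000013) (Nat.ble 2524 i)) (Nat.ble 2523 i)) (Nat.ble 2522 i)) (Nat.ble 2519 i)) (Bool.rec (motive := fun _ => Nat) (Bool.rec (motive := fun _ => Nat) (Bool.rec (motive := fun _ => Nat) (0x10003fe000031) (Bool.rec (motive := fun _ => Nat) (0x30003fe000dda) (0x3ff000ddc) (Nat.ble 2527 i)) (Nat.ble 2526 i)) (Bool.rec (motive := fun _ => Nat) (0x3000400000422) (Bool.rec (motive := fun _ => Nat) (0x30004010005be) (0x404000138) (Nat.ble 2530 i)) (Nat.ble 2529 i)) (Nat.ble 2528 i)) (Bool.rec (motive := fun _ => Nat) (Bool.rec (motive := fun _ => Nat) (0x1000406000316) (Bool.rec (motive := fun _ => Nat)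 (0x1000407000813) (0x1000409000a6a) (Nat.ble 2533 i)) (Nat.ble 2532 i)) (Bool.rec (motive := fun _ => Nat) (Bool.rec (motive := fun _ => Nat) (0x3000409000b62) (0x100040b0008fb) (Nat.ble 2535 i)) (Bool.rec (motive := fun _ => Nat) (0x200040c00084c) (0x40d00070e) (Nat.ble 2537 i)) (Nat.ble 2536 i)) (Nat.ble 2534 i)) (Nat.ble 2531 i)) (Nat.ble 2525 i)) (Nat.ble 2513 i))
noncomputable def CA1P_52 (i : Nat) : Nat := (Bool.rec (motive := fun _ => Nat) (Bool.rec (motive := fun _ => Nat) (Bool.rec (motive := fun _ => Nat) (Bool.rec (motive := fun _ => Nat) (Bool.rec (motive := fun _ => Nat) (0x300040d0005f6) (Bool.rec (motive := fun _ => Nat) (0x100040f000933) (0x200040f000b43) (Nat.ble 2540 i)) (Nat.ble 2539 i)) (Bool.rec (motive := fun _ => Nat) (0x200041000098b) (Bool.rec (motive := fun _ => Nat) (0x1000412000d98) (0x413000b1d) (Nat.ble 2543 i)) (Nat.ble 2542 i)) (Nat.ble 2541 i)) (Bool.rec (motive := fun _ => Nat) (Bool.rec (motive := fun _ => Nat) (0x300041300006e) (Bool.rec (motive := fun _ =>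 Nat) (0x414000693) (0x3000414000a12) (Nat.ble 2546 i)) (Nat.ble 2545 i)) (Bool.rec (motive := fun _ => Nat) (0x2000415000bba) (Bool.rec (motive := fun _ => Nat) (0x3000415000c48) (0x3000416000b8a) (Nat.ble 2549 i)) (Nat.ble 2548 i)) (Nat.ble 2547 i)) (Nat.ble 2544 i)) (Bool.rec (motive := fun _ => Nat) (Bool.rec (motive := fun _ => Nat) (Bool.rec (motive := fun _ => Nat) (0x41700015c) (Bool.rec (motive := fun _ => Nat) (0x20004170008a0) (0x4180003f6) (Nat.ble 2552 i)) (Nat.ble 2551 i)) (Bool.rec (motive := fun _ => Nat) (0x1000418000f41) (Bool.rec (motive := fun _ => Nat) (0x2000418000675) (0x419000375) (Nat.ble 2555 i)) (Nat.ble 2554 i)) (Nat.ble 2553 i)) (Bool.rec (motive := fun _ => Nat) (Bool.rec (motive := fun _ => Nat) (0x1000419000951) (Bool.rec (motive := fun _ => Nat) (0x41a0009e9) (0x300041a000d84) (Nat.ble 2558 i)) (Nat.ble 2557 i)) (Bool.rec (motive := fun _ => Nat) (0x41c0002ea) (Bool.rec (motive := fun _ => Nat) (0x300041e000f1c) (0x100041f000727) (Nat.ble 2561 i)) (Nat.ble 2560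 i)) (Nat.ble 2559 i)) (Nat.ble 2556 i)) (Nat.ble 2550 i)) (Bool.rec (motive := fun _ => Nat) (Bool.rec (motive := fun _ => Nat) (Bool.rec (motive := fun _ => Nat) (Bool.rec (motive := fun _ => Nat) (0x420000b50) (Bool.rec (motive := fun _ => Nat) (0x1000420000ba3) (0x200042000035d) (Nat.ble 2564 i)) (Nat.ble 2563 i)) (Bool.rec (motive := fun _ => Nat) (0x300042000030e) (Bool.rec (motive := fun _ => Nat) (0x421000d88) (0x1000423000756) (Nat.ble 2567 i)) (Nat.ble 2566 i)) (Nat.ble 2565 i)) (Bool.rec (motive := fun _ => Nat) (Bool.rec (motive := fun _ => Nat) (0x424000c98) (Bool.rec (motive := fun _ => Nat) (0x425000912) (0x42600037e) (Nat.ble 2570 i)) (Nat.ble 2569 i)) (Bool.rec (motive := fun _ => Nat) (0x300042900077a) (Bool.rec (motive := fun _ => Nat) (0x300042a000902) (0x42b000596) (Nat.ble 2573 i)) (Nat.ble 2572 i)) (Nat.ble 2571 i)) (Nat.ble 2568 i)) (Bool.rec (motive := fun _ => Nat) (Bool.rec (motive := fun _ => Nat) (Bool.rec (motive := fun _ => Nat) (0x200042b000d36) (Bool.rec (motive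 := fun _ => Nat) (0x300042b000a0f) (0x100042d000f40) (Nat.ble 2576 i)) (Nat.ble 2575 i)) (Bool.rec (motive := fun _ => Nat) (0x100042e000658) (Bool.rec (motive := fun _ => Nat) (0x200042e0002b5) (0x300042e0006b0) (Nat.ble 2579 i)) (Nat.ble 2578 i)) (Nat.ble 2577 i)) (Bool.rec (motive := fun _ => Nat) (Bool.rec (motive := fun _ => Nat) (0x430000c0d) (Bool.rec (motive := fun _ => Nat) (0x1000431000800) (0x432000ca1) (Nat.ble 2582 i)) (Nat.ble 2581 i)) (Bool.rec (motive := fun _ => Nat) (Bool.rec (motive := fun _ => Nat) (0x1000432000b28) (0x3000432000e8b) (Nat.ble 2584 i)) (Bool.rec (motive := fun _ => Nat) (0x433000cc7) (0x2000433000f1d) (Nat.ble 2586 i)) (Nat.ble 2585 i)) (Nat.ble 2583 i)) (Nat.ble 2580 i)) (Nat.ble 2574 i)) (Nat.ble 2562 i))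
noncomputable def CA1P_53 (i : Nat) : Nat := (Bool.rec (motive := fun _ => Nat) (Bool.rec (motive := fun _ => Nat) (Bool.rec (motive := fun _ => Nat) (Bool.rec (motive := fun _ => Nat) (Bool.rec (motive := fun _ => Nat) (0x43400084d) (Bool.rec (motive := fun _ => Nat) (0x2000435000dc4) (0x100043700079b) (Nat.ble 2589 i)) (Nat.ble 2588 i)) (Bool.rec (motive := fun _ => Nat) (0x2000438000af9) (Bool.rec (motive := fun _ => Nat) (0x43a000a74) (0x100043a000723) (Nat.ble 2592 i)) (Nat.ble 2591 i)) (Nat.ble 2590 i)) (Bool.rec (motive := fun _ => Nat) (Bool.rec (motive := fun _ => Nat) (0x200043a000c6b) (Bool.rec (motive := fun _ => Nat) (0x200043d000578) (0x43e0003c3) (Nat.ble 2595 i)) (Nat.ble 2594 i)) (Bool.rec (motive := fun _ => Nat) (0x200043e0002c3) (Bool.rec (motive := fun _ => Nat) (0x300043e000290) (0x100043f000bfe) (Nat.ble 2598 i)) (Nat.ble 2597 i)) (Nat.ble 2596 i)) (Nat.ble 2593 i)) (Bool.rec (motive := fun _ => Nat) (Bool.rec (motive := fun _ => Nat) (Bool.rec (motive := fun _ => Nat)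 (0x4400003e3) (Bool.rec (motive := fun _ => Nat) (0x2000440000b4b) (0x3000440000d9c) (Nat.ble 2601 i)) (Nat.ble 2600 i)) (Bool.rec (motive := fun _ => Nat) (0x2000441000666) (Bool.rec (motive := fun _ => Nat) (0x3000441000b3a) (0x1000442000d83) (Nat.ble 2604 i)) (Nat.ble 2603 i)) (Nat.ble 2602 i)) (Bool.rec (motive := fun _ => Nat) (Bool.rec (motive := fun _ => Nat) (0x3000442000d75) (Bool.rec (motive := fun _ => Nat) (0x4440004eb) (0x1000444000c4b) (Nat.ble 2607 i)) (Nat.ble 2606 i)) (Bool.rec (motive := fun _ => Nat) (0x3000444000aba) (Bool.rec (motive := fun _ => Nat) (0x445000699) (0x2000445000bf2) (Nat.ble 2610 i)) (Nat.ble 2609 i)) (Nat.ble 2608 i)) (Nat.ble 2605 i)) (Nat.ble 2599 i)) (Bool.rec (motive := fun _ => Nat) (Bool.rec (motive := fun _ => Nat) (Bool.rec (motive := fun _ => Nat) (Bool.rec (motive := fun _ => Nat) (0x3000445000d56) (Bool.rec (motive := fun _ => Nat) (0x44700031a) (0x10004470003b3) (Nat.ble 2613 i)) (Nat.ble 2612 i)) (Bool.rec (motive := fun _ => Nat) (0x448000715)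 (Bool.rec (motive := fun _ => Nat) (0x1000449000107) (0x2000449000d5e) (Nat.ble 2616 i)) (Nat.ble 2615 i)) (Nat.ble 2614 i)) (Bool.rec (motive := fun _ => Nat) (Bool.rec (motive := fun _ => Nat) (0x300044a00060f) (Bool.rec (motive := fun _ => Nat) (0x100044b000e6d) (0x44c0007c3) (Nat.ble 2619 i)) (Nat.ble 2618 i)) (Bool.rec (motive := fun _ => Nat) (0x100044c000b5d) (Bool.rec (motive := fun _ => Nat) (0x100044f000047) (0x200044f000ab7) (Nat.ble 2622 i)) (Nat.ble 2621 i)) (Nat.ble 2620 i)) (Nat.ble 2617 i)) (Bool.rec (motive := fun _ => Nat) (Bool.rec (motive := fun _ => Nat) (Bool.rec (motive := fun _ => Nat) (0x4500002c1) (Bool.rec (motive := fun _ => Nat) (0x2000450000306) (0x4510005a3) (Nat.ble 2625 i)) (Nat.ble 2624 i)) (Bool.rec (motive := fun _ => Nat) (0x10004510007ed) (Bool.rec (motive := fun _ => Nat) (0x30004510000a0) (0x452000e36) (Nat.ble 2628 i)) (Nat.ble 2627 i)) (Nat.ble 2626 i)) (Bool.rec (motive := fun _ => Nat) (Bool.rec (motive := fun _ => Nat) (0x457000108) (Bool.rec (motive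 := fun _ => Nat) (0x45a00063c) (0x300045a000548) (Nat.ble 2631 i)) (Nat.ble 2630 i)) (Bool.rec (motive := fun _ => Nat) (Bool.rec (motive := fun _ => Nat) (0x45b000314) (0x45c0003e8) (Nat.ble 2633 i)) (Bool.rec (motive := fun _ => Nat) (0x45d0005d8) (0x45e000f2d) (Nat.ble 2635 i)) (Nat.ble 2634 i)) (Nat.ble 2632 i)) (Nat.ble 2629 i)) (Nat.ble 2623 i)) (Nat.ble 2611 i))
noncomputable def CA1P_54 (i : Nat) : Nat := (Bool.rec (motive := fun _ => Nat) (Bool.rec (motive := fun _ => Nat) (Bool.rec (motive := fun _ => Nat) (Bool.rec (motive := fun _ => Nat) (Bool.rec (motive := fun _ => Nat) (0x300045e00021e) (Bool.rec (motive := fun _ => Nat) (0x4610001fa) (0x1000461000059) (Nat.ble 2638 i)) (Nat.ble 2637 i)) (Bool.rec (motive := fun _ => Nat) (0x300046100098c) (Bool.rec (motive := fun _ => Nat) (0x462000787) (0x2000462000b8e) (Nat.ble 2641 i)) (Nat.ble 2640 i)) (Nat.ble 2639 i)) (Bool.rec (motive := fun _ => Nat) (Bool.rec (motive := fun _ => Nat) (0x20004640002f0) (Bool.rec (motive := fun _ => Nat)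 (0x4670008fa) (0x30004680009aa) (Nat.ble 2644 i)) (Nat.ble 2643 i)) (Bool.rec (motive := fun _ => Nat) (0x1000469000850) (Bool.rec (motive := fun _ => Nat) (0x2000469000b0a) (0x200046a000af8) (Nat.ble 2647 i)) (Nat.ble 2646 i)) (Nat.ble 2645 i)) (Nat.ble 2642 i)) (Bool.rec (motive := fun _ => Nat) (Bool.rec (motive := fun _ => Nat) (Bool.rec (motive := fun _ => Nat) (0x46b000e3c) (Bool.rec (motive := fun _ => Nat) (0x300046b00071e) (0x300046c0008eb) (Nat.ble 2650 i)) (Nat.ble 2649 i)) (Bool.rec (motive := fun _ => Nat) (0x46d0008e2) (Bool.rec (motive := fun _ => Nat) (0x46e000738) (0x300046e000a98) (Nat.ble 2653 i)) (Nat.ble 2652 i)) (Nat.ble 2651 i)) (Bool.rec (motive := fun _ => Nat) (Bool.rec (motive := fun _ => Nat) (0x10004700007b2) (Bool.rec (motive := fun _ => Nat) (0x2000471000bd4) (0x1000472000864) (Nat.ble 2656 i)) (Nat.ble 2655 i)) (Bool.rec (motive := fun _ => Nat) (0x477000e80) (Bool.rec (motive := fun _ => Nat) (0x1000477000ee1) (0x2000477000469) (Nat.ble 2659 i)) (Nat.ble 2658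 i)) (Nat.ble 2657 i)) (Nat.ble 2654 i)) (Nat.ble 2648 i)) (Bool.rec (motive := fun _ => Nat) (Bool.rec (motive := fun _ => Nat) (Bool.rec (motive := fun _ => Nat) (Bool.rec (motive := fun _ => Nat) (0x30004770008f5) (Bool.rec (motive := fun _ => Nat) (0x4780005cc) (0x200047800099f) (Nat.ble 2662 i)) (Nat.ble 2661 i)) (Bool.rec (motive := fun _ => Nat) (0x479000aeb) (Bool.rec (motive := fun _ => Nat) (0x3000479000106) (0x47d000e69) (Nat.ble 2665 i)) (Nat.ble 2664 i)) (Nat.ble 2663 i)) (Bool.rec (motive := fun _ => Nat) (Bool.rec (motive := fun _ => Nat) (0x100047e00051a) (Bool.rec (motive := fun _ => Nat) (0x47f00093f) (0x4800007bb) (Nat.ble 2668 i)) (Nat.ble 2667 i)) (Bool.rec (motive := fun _ => Nat) (0x481000a45) (Bool.rec (motive := fun _ => Nat) (0x300048100026b) (0x2000482000a2e) (Nat.ble 2671 i)) (Nat.ble 2670 i)) (Nat.ble 2669 i)) (Nat.ble 2666 i)) (Bool.rec (motive := fun _ => Nat) (Bool.rec (motive := fun _ => Nat) (Bool.rec (motive := fun _ => Nat) (0x200048300045e) (Bool.rec (motive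 := fun _ => Nat) (0x2000484000d0d) (0x2000489000e8c) (Nat.ble 2674 i)) (Nat.ble 2673 i)) (Bool.rec (motive := fun _ => Nat) (0x3000489000d0e) (Bool.rec (motive := fun _ => Nat) (0x300048a0006fb) (0x300048b00085f) (Nat.ble 2677 i)) (Nat.ble 2676 i)) (Nat.ble 2675 i)) (Bool.rec (motive := fun _ => Nat) (Bool.rec (motive := fun _ => Nat) (0x300048d000f23) (Bool.rec (motive := fun _ => Nat) (0x200048f000798) (0x10004900006ea) (Nat.ble 2680 i)) (Nat.ble 2679 i)) (Bool.rec (motive := fun _ => Nat) (Bool.rec (motive := fun _ => Nat) (0x2000490000117) (0x3000490000123) (Nat.ble 2682 i)) (Bool.rec (motive := fun _ => Nat) (0x2000492000702) (0x3000492000338) (Nat.ble 2684 i)) (Nat.ble 2683 i)) (Nat.ble 2681 i)) (Nat.ble 2678 i)) (Nat.ble 2672 i)) (Nat.ble 2660 i))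
noncomputable def CA1P_55 (i : Nat) : Nat := (Bool.rec (motive := fun _ => Nat) (Bool.rec (motive := fun _ => Nat) (Bool.rec (motive := fun _ => Nat) (Bool.rec (motive := fun _ => Nat) (Bool.rec (motive := fun _ => Nat) (0x4930008e6) (Bool.rec (motive := fun _ => Nat) (0x2000494000613) (0x495000504) (Nat.ble 2687 i)) (Nat.ble 2686 i)) (Bool.rec (motive := fun _ => Nat) (0x10004950006dc) (Bool.rec (motive := fun _ => Nat) (0x2000495000775) (0x1000496000cd9) (Nat.ble 2690 i)) (Nat.ble 2689 i)) (Nat.ble 2688 i)) (Bool.rec (motive := fun _ => Nat) (Bool.rec (motive := fun _ => Nat) (0x200049600000c) (Bool.rec (motive := fun _ => Nat) (0x497000474) (0x498000ab5) (Nat.ble 2693 i)) (Nat.ble 2692 i)) (Bool.rec (motive := fun _ => Nat) (0x1000498000ceb) (Bool.rec (motive := fun _ => Nat) (0x2000499000bc7) (0x100049b000b76) (Nat.ble 2696 i)) (Nat.ble 2695 i)) (Nat.ble 2694 i)) (Nat.ble 2691 i)) (Bool.rec (motive := fun _ => Nat) (Bool.rec (motive := fun _ => Nat) (Bool.rec (motive := fun _ => Nat) (0x300049b000077)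 (Bool.rec (motive := fun _ => Nat) (0x100049c000250) (0x200049d000c63) (Nat.ble 2699 i)) (Nat.ble 2698 i)) (Bool.rec (motive := fun _ => Nat) (0x49e0008d6) (Bool.rec (motive := fun _ => Nat) (0x100049f000418) (0x300049f000246) (Nat.ble 2702 i)) (Nat.ble 2701 i)) (Nat.ble 2700 i)) (Bool.rec (motive := fun _ => Nat) (Bool.rec (motive := fun _ => Nat) (0x20004a0000c21) (Bool.rec (motive := fun _ => Nat) (0x4a1000d76) (0x30004a300035e) (Nat.ble 2705 i)) (Nat.ble 2704 i)) (Bool.rec (motive := fun _ => Nat) (0x10004a4000a1f) (Bool.rec (motive := fun _ => Nat) (0x20004a4000c10) (0x4a6000bdb) (Nat.ble 2708 i)) (Nat.ble 2707 i)) (Nat.ble 2706 i)) (Nat.ble 2703 i)) (Nat.ble 2697 i)) (Bool.rec (motive := fun _ => Nat) (Bool.rec (motive := fun _ => Nat) (Bool.rec (motive := fun _ => Nat) (Bool.rec (motive := fun _ => Nat) (0x10004a6000582) (Bool.rec (motive := fun _ => Nat) (0x30004a60007de) (0x20004a7000a11) (Nat.ble 2711 i)) (Nat.ble 2710 i)) (Bool.rec (motive := fun _ => Nat) (0x4a800000b) (Bool.rec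 (motive := fun _ => Nat) (0x4a9000f0f) (0x20004a9000b3c) (Nat.ble 2714 i)) (Nat.ble 2713 i)) (Nat.ble 2712 i)) (Bool.rec (motive := fun _ => Nat) (Bool.rec (motive := fun _ => Nat) (0x30004a9000eda) (Bool.rec (motive := fun _ => Nat) (0x10004aa000803) (0x20004aa000508) (Nat.ble 2717 i)) (Nat.ble 2716 i)) (Bool.rec (motive := fun _ => Nat) (0x30004aa000196) (Bool.rec (motive := fun _ => Nat) (0x10004ab0007f9) (0x30004ab0002d6) (Nat.ble 2720 i)) (Nat.ble 2719 i)) (Nat.ble 2718 i)) (Nat.ble 2715 i)) (Bool.rec (motive := fun _ => Nat) (Bool.rec (motive := fun _ => Nat) (Bool.rec (motive := fun _ => Nat) (0x10004ad00045c) (Bool.rec (motive := fun _ => Nat) (0x10004ae000da0) (0x30004ae000a87) (Nat.ble 2723 i)) (Nat.ble 2722 i)) (Bool.rec (motive := fun _ => Nat) (0x10004af000bbf) (Bool.rec (motive := fun _ => Nat) (0x10004b0000708) (0x20004b0000185) (Nat.ble 2726 i)) (Nat.ble 2725 i)) (Nat.ble 2724 i)) (Bool.rec (motive := fun _ => Nat) (Bool.rec (motive := fun _ => Nat) (0x4b20004f3) (Bool.rec (motive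 := fun _ => Nat) (0x20004b2000a6e) (0x20004b5000e6e) (Nat.ble 2729 i)) (Nat.ble 2728 i)) (Bool.rec (motive := fun _ => Nat) (Bool.rec (motive := fun _ => Nat) (0x10004b70003b0) (0x10004b9000a93) (Nat.ble 2731 i)) (Bool.rec (motive := fun _ => Nat) (0x10004bb000292) (0x20004bb000c09) (Nat.ble 2733 i)) (Nat.ble 2732 i)) (Nat.ble 2730 i)) (Nat.ble 2727 i)) (Nat.ble 2721 i)) (Nat.ble 2709 i))
noncomputable def CA1P_56 (i : Nat) : Nat := (Bool.rec (motive := fun _ => Nat) (Bool.rec (motive := fun _ => Nat) (Bool.rec (motive := fun _ => Nat) (Bool.rec (motive := fun _ => Nat) (Bool.rec (motive := fun _ => Nat) (0x10004bc000a1e) (Bool.rec (motive := fun _ => Nat) (0x30004be000868) (0x4bf000ca0) (Nat.ble 2736 i)) (Nat.ble 2735 i)) (Bool.rec (motive := fun _ => Nat) (0x10004bf000008) (Bool.rec (motive := fun _ => Nat) (0x4c1000e5a) (0x30004c2000c4a) (Nat.ble 2739 i)) (Nat.ble 2738 i)) (Nat.ble 2737 i)) (Bool.rec (motive := fun _ => Nat) (Bool.rec (motive := fun _ => Nat) (0x10004c30000a4) (Bool.rec (motive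 := fun _ => Nat) (0x20004c3000962) (0x30004c3000a27) (Nat.ble 2742 i)) (Nat.ble 2741 i)) (Bool.rec (motive := fun _ => Nat) (0x4c4000831) (Bool.rec (motive := fun _ => Nat) (0x4c5000cd2) (0x10004c5000334) (Nat.ble 2745 i)) (Nat.ble 2744 i)) (Nat.ble 2743 i)) (Nat.ble 2740 i)) (Bool.rec (motive := fun _ => Nat) (Bool.rec (motive := fun _ => Nat) (Bool.rec (motive := fun _ => Nat) (0x20004ca0003fa) (Bool.rec (motive := fun _ => Nat) (0x4cb000599) (0x20004cb000472) (Nat.ble 2748 i)) (Nat.ble 2747 i)) (Bool.rec (motive := fun _ => Nat) (0x4cc0004e5) (Bool.rec (motive := fun _ => Nat) (0x10004cc00053b) (0x20004cd00010b) (Nat.ble 2751 i)) (Nat.ble 2750 i)) (Nat.ble 2749 i)) (Bool.rec (motive := fun _ => Nat) (Bool.rec (motive := fun _ => Nat) (0x20004cf000232) (Bool.rec (motive := fun _ => Nat) (0x10004d0000c69) (0x4d4000e3d) (Nat.ble 2754 i)) (Nat.ble 2753 i)) (Bool.rec (motive := fun _ => Nat) (0x4d5000133) (Bool.rec (motive := fun _ => Nat) (0x30004d600032b) (0x4d70007be) (Nat.ble 2757 i)) (Nat.ble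 2756 i)) (Nat.ble 2755 i)) (Nat.ble 2752 i)) (Nat.ble 2746 i)) (Bool.rec (motive := fun _ => Nat) (Bool.rec (motive := fun _ => Nat) (Bool.rec (motive := fun _ => Nat) (Bool.rec (motive := fun _ => Nat) (0x30004d8000771) (Bool.rec (motive := fun _ => Nat) (0x30004d900032a) (0x4da00042a) (Nat.ble 2760 i)) (Nat.ble 2759 i)) (Bool.rec (motive := fun _ => Nat) (0x20004dc000296) (Bool.rec (motive := fun _ => Nat) (0x20004dd000ec2) (0x10004e0000256) (Nat.ble 2763 i)) (Nat.ble 2762 i)) (Nat.ble 2761 i)) (Bool.rec (motive := fun _ => Nat) (Bool.rec (motive := fun _ => Nat) (0x20004e1000c0e) (Bool.rec (motive := fun _ => Nat) (0x10004e2000d28) (0x10004e4000a2d) (Nat.ble 2766 i)) (Nat.ble 2765 i)) (Bool.rec (motive := fun _ => Nat) (0x30004e400095a) (Bool.rec (motive := fun _ => Nat) (0x30004e5000988) (0x30004e7000908) (Nat.ble 2769 i)) (Nat.ble 2768 i)) (Nat.ble 2767 i)) (Nat.ble 2764 i)) (Bool.rec (motive := fun _ => Nat) (Bool.rec (motive := fun _ => Nat) (Bool.rec (motive := fun _ => Nat) (0x4ea00081c)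 (Bool.rec (motive := fun _ => Nat) (0x10004ea000d7b) (0x20004ea000982) (Nat.ble 2772 i)) (Nat.ble 2771 i)) (Bool.rec (motive := fun _ => Nat) (0x20004ec00061e) (Bool.rec (motive := fun _ => Nat) (0x30004ec000c68) (0x30004ee0002da) (Nat.ble 2775 i)) (Nat.ble 2774 i)) (Nat.ble 2773 i)) (Bool.rec (motive := fun _ => Nat) (Bool.rec (motive := fun _ => Nat) (0x10004ef000884) (Bool.rec (motive := fun _ => Nat) (0x10004f10004e3) (0x20004f1000b1a) (Nat.ble 2778 i)) (Nat.ble 2777 i)) (Bool.rec (motive := fun _ => Nat) (0x20004f2000546) (Bool.rec (motive := fun _ => Nat) (0x30004f2000385) (0x20004f400027d) (Nat.ble 2781 i)) (Nat.ble 2780 i)) (Nat.ble 2779 i)) (Nat.ble 2776 i)) (Nat.ble 2770 i)) (Nat.ble 2758 i))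
noncomputable def CA1P_57 (i : Nat) : Nat := (Bool.rec (motive := fun _ => Nat) (Bool.rec (motive := fun _ => Nat) (Bool.rec (motive := fun _ => Nat) (Bool.rec (motive := fun _ => Nat) (Bool.rec (motive := fun _ => Nat) (0x30004f4000c30) (Bool.rec (motive := fun _ => Nat) (0x4f5000a44) (0x20004f5000a09) (Nat.ble 2784 i)) (Nat.ble 2783 i)) (Bool.rec (motive := fun _ => Nat) (0x30004f500079a) (Bool.rec (motive := fun _ => Nat) (0x10004f60007d8) (0x10004f7000ef9) (Nat.ble 2787 i)) (Nat.ble 2786 i)) (Nat.ble 2785 i)) (Bool.rec (motive := fun _ => Nat) (Bool.rec (motive := fun _ => Nat) (0x20004fb000799) (Bool.rec (motive := fun _ => Nat) (0x4fc0008da) (0x10004fc000755) (Nat.ble 2790 i)) (Nat.ble 2789 i)) (Bool.rec (motive := fun _ => Nat) (0x20004fc000ccd) (Bool.rec (motive := fun _ => Nat) (0x30004fc000ebe) (0x30004fd000c78) (Nat.ble 2793 i)) (Nat.ble 2792 i)) (Nat.ble 2791 i)) (Nat.ble 2788 i)) (Bool.rec (motive := fun _ => Nat) (Bool.rec (motive := fun _ => Nat) (Bool.rec (motive := fun _ =>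 Nat) (0x4fe0009d7) (Bool.rec (motive := fun _ => Nat) (0x1000500000b4e) (0x50100016b) (Nat.ble 2796 i)) (Nat.ble 2795 i)) (Bool.rec (motive := fun _ => Nat) (0x2000503000b8b) (Bool.rec (motive := fun _ => Nat) (0x10005040000ef) (0x2000504000574) (Nat.ble 2799 i)) (Nat.ble 2798 i)) (Nat.ble 2797 i)) (Bool.rec (motive := fun _ => Nat) (Bool.rec (motive := fun _ => Nat) (0x3000505000299) (Bool.rec (motive := fun _ => Nat) (0x3000506000bca) (0x2000508000dad) (Nat.ble 2802 i)) (Nat.ble 2801 i)) (Bool.rec (motive := fun _ => Nat) (0x3000509000b1c) (Bool.rec (motive := fun _ => Nat) (0x100050a00095d) (0x100050b0007e6) (Nat.ble 2805 i)) (Nat.ble 2804 i)) (Nat.ble 2803 i)) (Nat.ble 2800 i)) (Nat.ble 2794 i)) (Bool.rec (motive := fun _ => Nat) (Bool.rec (motive := fun _ => Nat) (Bool.rec (motive := fun _ => Nat) (Bool.rec (motive := fun _ => Nat) (0x50c000281) (Bool.rec (motive := fun _ => Nat) (0x100050c00054e) (0x300050f00003c) (Nat.ble 2808 i)) (Nat.ble 2807 i)) (Bool.rec (motive := fun _ => Nat) (0x510000db1)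 (Bool.rec (motive := fun _ => Nat) (0x3000510000e19) (0x1000513000880) (Nat.ble 2811 i)) (Nat.ble 2810 i)) (Nat.ble 2809 i)) (Bool.rec (motive := fun _ => Nat) (Bool.rec (motive := fun _ => Nat) (0x300051400085b) (Bool.rec (motive := fun _ => Nat) (0x1000516000f38) (0x3000518000820) (Nat.ble 2814 i)) (Nat.ble 2813 i)) (Bool.rec (motive := fun _ => Nat) (0x3000519000824) (Bool.rec (motive := fun _ => Nat) (0x100051b000714) (0x200051c000a7b) (Nat.ble 2817 i)) (Nat.ble 2816 i)) (Nat.ble 2815 i)) (Nat.ble 2812 i)) (Bool.rec (motive := fun _ => Nat) (Bool.rec (motive := fun _ => Nat) (Bool.rec (motive := fun _ => Nat) (0x51d000944) (Bool.rec (motive := fun _ => Nat) (0x300051d00034b) (0x200051e000991) (Nat.ble 2820 i)) (Nat.ble 2819 i)) (Bool.rec (motive := fun _ => Nat) (0x5200003ca) (Bool.rec (motive := fun _ => Nat) (0x2000520000a0c) (0x522000919) (Nat.ble 2823 i)) (Nat.ble 2822 i)) (Nat.ble 2821 i)) (Bool.rec (motive := fun _ => Nat) (Bool.rec (motive := fun _ => Nat) (0x524000f2a) (Bool.rec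 (motive := fun _ => Nat) (0x3000524000865) (0x52700090c) (Nat.ble 2826 i)) (Nat.ble 2825 i)) (Bool.rec (motive := fun _ => Nat) (Bool.rec (motive := fun _ => Nat) (0x52800091f) (0x529000534) (Nat.ble 2828 i)) (Bool.rec (motive := fun _ => Nat) (0x200052b000082) (0x200052e000663) (Nat.ble 2830 i)) (Nat.ble 2829 i)) (Nat.ble 2827 i)) (Nat.ble 2824 i)) (Nat.ble 2818 i)) (Nat.ble 2806 i))
noncomputable def CA1P_58 (i : Nat) : Nat := (Bool.rec (motive := fun _ => Nat) (Bool.rec (motive := fun _ => Nat) (Bool.rec (motive := fun _ => Nat) (Bool.rec (motive := fun _ => Nat) (Bool.rec (motive := fun _ => Nat) (0x530000d32) (Bool.rec (motive := fun _ => Nat) (0x10005300008a5) (0x20005310008d3) (Nat.ble 2833 i)) (Nat.ble 2832 i)) (Bool.rec (motive := fun _ => Nat) (0x2000532000539) (Bool.rec (motive := fun _ => Nat) (0x5330009eb) (0x2000534000309) (Nat.ble 2836 i)) (Nat.ble 2835 i)) (Nat.ble 2834 i)) (Bool.rec (motive := fun _ => Nat) (Bool.rec (motive := fun _ => Nat) (0x3000537000876) (Bool.rec (motive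 := fun _ => Nat) (0x53900032f) (0x20005390009bd) (Nat.ble 2839 i)) (Nat.ble 2838 i)) (Bool.rec (motive := fun _ => Nat) (0x100053a0007ad) (Bool.rec (motive := fun _ => Nat) (0x100053c000b92) (0x53d00042b) (Nat.ble 2842 i)) (Nat.ble 2841 i)) (Nat.ble 2840 i)) (Nat.ble 2837 i)) (Bool.rec (motive := fun _ => Nat) (Bool.rec (motive := fun _ => Nat) (Bool.rec (motive := fun _ => Nat) (0x200053f00089f) (Bool.rec (motive := fun _ => Nat) (0x10005420008d1) (0x546000655) (Nat.ble 2845 i)) (Nat.ble 2844 i)) (Bool.rec (motive := fun _ => Nat) (0x2000547000168) (Bool.rec (motive := fun _ => Nat) (0x30005470003bf) (0x54d000566) (Nat.ble 2848 i)) (Nat.ble 2847 i)) (Nat.ble 2846 i)) (Bool.rec (motive := fun _ => Nat) (Bool.rec (motive := fun _ => Nat) (0x100054d000b9e) (Bool.rec (motive := fun _ => Nat) (0x54e000834) (0x2000553000236) (Nat.ble 2851 i)) (Nat.ble 2850 i)) (Bool.rec (motive := fun _ => Nat) (0x300055300029d) (Bool.rec (motive := fun _ => Nat) (0x100055500000d) (0x200055600012d) (Nat.ble 2854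 i)) (Nat.ble 2853 i)) (Nat.ble 2852 i)) (Nat.ble 2849 i)) (Nat.ble 2843 i)) (Bool.rec (motive := fun _ => Nat) (Bool.rec (motive := fun _ => Nat) (Bool.rec (motive := fun _ => Nat) (Bool.rec (motive := fun _ => Nat) (0x1000557000556) (Bool.rec (motive := fun _ => Nat) (0x1000558000c91) (0x559000dcb) (Nat.ble 2857 i)) (Nat.ble 2856 i)) (Bool.rec (motive := fun _ => Nat) (0x100055900007a) (Bool.rec (motive := fun _ => Nat) (0x100055a00009d) (0x200055a000950) (Nat.ble 2860 i)) (Nat.ble 2859 i)) (Nat.ble 2858 i)) (Bool.rec (motive := fun _ => Nat) (Bool.rec (motive := fun _ => Nat) (0x100055c000636) (Bool.rec (motive := fun _ => Nat) (0x200055c000bb4) (0x100055d0006ec) (Nat.ble 2863 i)) (Nat.ble 2862 i)) (Bool.rec (motive := fun _ => Nat) (0x10005600008e4) (Bool.rec (motive := fun _ => Nat) (0x3000560000849) (0x20005610002fe) (Nat.ble 2866 i)) (Nat.ble 2865 i)) (Nat.ble 2864 i)) (Nat.ble 2861 i)) (Bool.rec (motive := fun _ => Nat) (Bool.rec (motive := fun _ => Nat) (Bool.rec (motive := fun _ =>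 Nat) (0x30005620005d0) (Bool.rec (motive := fun _ => Nat) (0x3000565000d94) (0x30005670003d2) (Nat.ble 2869 i)) (Nat.ble 2868 i)) (Bool.rec (motive := fun _ => Nat) (0x100056a0008f9) (Bool.rec (motive := fun _ => Nat) (0x56b000bc4) (0x100056b000c9c) (Nat.ble 2872 i)) (Nat.ble 2871 i)) (Nat.ble 2870 i)) (Bool.rec (motive := fun _ => Nat) (Bool.rec (motive := fun _ => Nat) (0x200056c0003db) (Bool.rec (motive := fun _ => Nat) (0x200056d000bd0) (0x10005720002a3) (Nat.ble 2875 i)) (Nat.ble 2874 i)) (Bool.rec (motive := fun _ => Nat) (Bool.rec (motive := fun _ => Nat) (0x3000572000c5d) (0x2000576000ea4) (Nat.ble 2877 i)) (Bool.rec (motive := fun _ => Nat) (0x3000576000785) (0x2000577000d53) (Nat.ble 2879 i)) (Nat.ble 2878 i)) (Nat.ble 2876 i)) (Nat.ble 2873 i)) (Nat.ble 2867 i)) (Nat.ble 2855 i))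
noncomputable def CA1P_59 (i : Nat) : Nat := (Bool.rec (motive := fun _ => Nat) (Bool.rec (motive := fun _ => Nat) (Bool.rec (motive := fun _ => Nat) (Bool.rec (motive := fun _ => Nat) (Bool.rec (motive := fun _ => Nat) (0x1000578000ce7) (Bool.rec (motive := fun _ => Nat) (0x200057a00067c) (0x100057d0003bc) (Nat.ble 2882 i)) (Nat.ble 2881 i)) (Bool.rec (motive := fun _ => Nat) (0x200057e00091a) (Bool.rec (motive := fun _ => Nat) (0x300057f000c28) (0x20005800007b5) (Nat.ble 2885 i)) (Nat.ble 2884 i)) (Nat.ble 2883 i)) (Bool.rec (motive := fun _ => Nat) (Bool.rec (motive := fun _ => Nat) (0x586000530) (Bool.rec (motive := fun _ => Nat) (0x300058800063f) (0x200058900058b) (Nat.ble 2888 i)) (Nat.ble 2887 i)) (Bool.rec (motive := fun _ => Nat) (0x200058a000e84) (Bool.rec (motive := fun _ => Nat) (0x100058b0006e1) (0x100058c000c08) (Nat.ble 2891 i)) (Nat.ble 2890 i)) (Nat.ble 2889 i)) (Nat.ble 2886 i)) (Bool.rec (motive := fun _ => Nat) (Bool.rec (motive := fun _ => Nat) (Bool.rec (motive := fun _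 => Nat) (0x200058c000b0b) (Bool.rec (motive := fun _ => Nat) (0x58d000713) (0x300058d00097a) (Nat.ble 2894 i)) (Nat.ble 2893 i)) (Bool.rec (motive := fun _ => Nat) (0x2000590000888) (Bool.rec (motive := fun _ => Nat) (0x59100028c) (0x3000592000b38) (Nat.ble 2897 i)) (Nat.ble 2896 i)) (Nat.ble 2895 i)) (Bool.rec (motive := fun _ => Nat) (Bool.rec (motive := fun _ => Nat) (0x594000eb6) (Bool.rec (motive := fun _ => Nat) (0x2000594000c72) (0x300059400083d) (Nat.ble 2900 i)) (Nat.ble 2899 i)) (Bool.rec (motive := fun _ => Nat) (0x10005990004dc) (Bool.rec (motive := fun _ => Nat) (0x2000599000f29) (0x200059a000b0f) (Nat.ble 2903 i)) (Nat.ble 2902 i)) (Nat.ble 2901 i)) (Nat.ble 2898 i)) (Nat.ble 2892 i)) (Bool.rec (motive := fun _ => Nat) (Bool.rec (motive := fun _ => Nat) (Bool.rec (motive := fun _ => Nat) (Bool.rec (motive := fun _ => Nat) (0x100059b000475) (Bool.rec (motive := fun _ => Nat) (0x200059b00074d) (0x59d000667) (Nat.ble 2906 i)) (Nat.ble 2905 i)) (Bool.rec (motive := fun _ => Nat) (0x300059e000bf8)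 (Bool.rec (motive := fun _ => Nat) (0x59f000580) (0x20005a1000745) (Nat.ble 2909 i)) (Nat.ble 2908 i)) (Nat.ble 2907 i)) (Bool.rec (motive := fun _ => Nat) (Bool.rec (motive := fun _ => Nat) (0x10005a2000976) (Bool.rec (motive := fun _ => Nat) (0x5a3000459) (0x5a50001eb) (Nat.ble 2912 i)) (Nat.ble 2911 i)) (Bool.rec (motive := fun _ => Nat) (0x20005a70006c5) (Bool.rec (motive := fun _ => Nat) (0x30005a800075a) (0x5aa000e79) (Nat.ble 2915 i)) (Nat.ble 2914 i)) (Nat.ble 2913 i)) (Nat.ble 2910 i)) (Bool.rec (motive := fun _ => Nat) (Bool.rec (motive := fun _ => Nat) (Bool.rec (motive := fun _ => Nat) (0x5ab0007fb) (Bool.rec (motive := fun _ => Nat) (0x30005ac00068b) (0x10005af000d09) (Nat.ble 2918 i)) (Nat.ble 2917 i)) (Bool.rec (motive := fun _ => Nat) (0x30005af000de8) (Bool.rec (motive := fun _ => Nat) (0x30005b0000be5) (0x30005b4000861) (Nat.ble 2921 i)) (Nat.ble 2920 i)) (Nat.ble 2919 i)) (Bool.rec (motive := fun _ => Nat) (Bool.rec (motive := fun _ => Nat) (0x30005b600071b) (Bool.rec (motive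 := fun _ => Nat) (0x10005b7000336) (0x20005b90008e1) (Nat.ble 2924 i)) (Nat.ble 2923 i)) (Bool.rec (motive := fun _ => Nat) (Bool.rec (motive := fun _ => Nat) (0x10005ba0008a2) (0x30005bc000c94) (Nat.ble 2926 i)) (Bool.rec (motive := fun _ => Nat) (0x10005bf000d4d) (0x5c00009d2) (Nat.ble 2928 i)) (Nat.ble 2927 i)) (Nat.ble 2925 i)) (Nat.ble 2922 i)) (Nat.ble 2916 i)) (Nat.ble 2904 i))
noncomputable def CA1P_60 (i : Nat) : Nat := (Bool.rec (motive := fun _ => Nat) (Bool.rec (motive := fun _ => Nat) (Bool.rec (motive := fun _ => Nat) (Bool.rec (motive := fun _ => Nat) (Bool.rec (motive := fun _ => Nat) (0x5c10000e7) (Bool.rec (motive := fun _ => Nat) (0x10005c20009b4) (0x5c7000476) (Nat.ble 2931 i)) (Nat.ble 2930 i)) (Bool.rec (motive := fun _ => Nat) (0x30005c800001e) (Bool.rec (motive := fun _ => Nat) (0x5d00009e8) (0x10005d10000a7) (Nat.ble 2934 i)) (Nat.ble 2933 i)) (Nat.ble 2932 i)) (Bool.rec (motive := fun _ => Nat) (Bool.rec (motive := fun _ => Nat) (0x5d40002c9) (Bool.rec (motive := fun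 _ => Nat) (0x10005d60002cd) (0x5dc000de7) (Nat.ble 2937 i)) (Nat.ble 2936 i)) (Bool.rec (motive := fun _ => Nat) (0x30005dc00047f) (Bool.rec (motive := fun _ => Nat) (0x20005e100018b) (0x10005e40001fb) (Nat.ble 2940 i)) (Nat.ble 2939 i)) (Nat.ble 2938 i)) (Nat.ble 2935 i)) (Bool.rec (motive := fun _ => Nat) (Bool.rec (motive := fun _ => Nat) (Bool.rec (motive := fun _ => Nat) (0x5e7000b56) (Bool.rec (motive := fun _ => Nat) (0x5e8000061) (0x5e9000c8a) (Nat.ble 2943 i)) (Nat.ble 2942 i)) (Bool.rec (motive := fun _ => Nat) (0x30005ea0005bf) (Bool.rec (motive := fun _ => Nat) (0x5eb0007c4) (0x10005ed000a6d) (Nat.ble 2946 i)) (Nat.ble 2945 i)) (Nat.ble 2944 i)) (Bool.rec (motive := fun _ => Nat) (Bool.rec (motive := fun _ => Nat) (0x30005ed00017e) (Bool.rec (motive := fun _ => Nat) (0x30005f100058f) (0x10005f2000452) (Nat.ble 2949 i)) (Nat.ble 2948 i)) (Bool.rec (motive := fun _ => Nat) (0x10005f7000b6e) (Bool.rec (motive := fun _ => Nat) (0x20005f9000bda) (0x5fa000ee8) (Nat.ble 2952 i)) (Nat.ble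 2951 i)) (Nat.ble 2950 i)) (Nat.ble 2947 i)) (Nat.ble 2941 i)) (Bool.rec (motive := fun _ => Nat) (Bool.rec (motive := fun _ => Nat) (Bool.rec (motive := fun _ => Nat) (Bool.rec (motive := fun _ => Nat) (0x20006010006a4) (Bool.rec (motive := fun _ => Nat) (0x3000604000bf9) (0x2000607000547) (Nat.ble 2955 i)) (Nat.ble 2954 i)) (Bool.rec (motive := fun _ => Nat) (0x6080009e6) (Bool.rec (motive := fun _ => Nat) (0x10006080007dc) (0x10006090009e2) (Nat.ble 2958 i)) (Nat.ble 2957 i)) (Nat.ble 2956 i)) (Bool.rec (motive := fun _ => Nat) (Bool.rec (motive := fun _ => Nat) (0x200060d000561) (Bool.rec (motive := fun _ => Nat) (0x300060f000d85) (0x3000615000f14) (Nat.ble 2961 i)) (Nat.ble 2960 i)) (Bool.rec (motive := fun _ => Nat) (0x100061a000e93) (Bool.rec (motive := fun _ => Nat) (0x100061b0003d6) (0x200061d0008b1) (Nat.ble 2964 i)) (Nat.ble 2963 i)) (Nat.ble 2962 i)) (Nat.ble 2959 i)) (Bool.rec (motive := fun _ => Nat) (Bool.rec (motive := fun _ => Nat) (Bool.rec (motive := fun _ => Nat) (0x200061e000bce)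 (Bool.rec (motive := fun _ => Nat) (0x2000620000cb0) (0x30006240008cf) (Nat.ble 2967 i)) (Nat.ble 2966 i)) (Bool.rec (motive := fun _ => Nat) (0x62a000d59) (Bool.rec (motive := fun _ => Nat) (0x1000630000d97) (0x2000630000c13) (Nat.ble 2970 i)) (Nat.ble 2969 i)) (Nat.ble 2968 i)) (Bool.rec (motive := fun _ => Nat) (Bool.rec (motive := fun _ => Nat) (0x2000633000a07) (Bool.rec (motive := fun _ => Nat) (0x634000d49) (0x639000815) (Nat.ble 2973 i)) (Nat.ble 2972 i)) (Bool.rec (motive := fun _ => Nat) (Bool.rec (motive := fun _ => Nat) (0x1000639000e71) (0x100063b00099d) (Nat.ble 2975 i)) (Bool.rec (motive := fun _ => Nat) (0x63e0008e0) (0x200063f000dcc) (Nat.ble 2977 i)) (Nat.ble 2976 i)) (Nat.ble 2974 i)) (Nat.ble 2971 i)) (Nat.ble 2965 i)) (Nat.ble 2953 i))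
noncomputable def CA1P_61 (i : Nat) : Nat := (Bool.rec (motive := fun _ => Nat) (Bool.rec (motive := fun _ => Nat) (Bool.rec (motive := fun _ => Nat) (Bool.rec (motive := fun _ => Nat) (Bool.rec (motive := fun _ => Nat) (0x10006420005b3) (Bool.rec (motive := fun _ => Nat) (0x2000642000aca) (0x10006460006a1) (Nat.ble 2980 i)) (Nat.ble 2979 i)) (Bool.rec (motive := fun _ => Nat) (0x200064600030c) (Bool.rec (motive := fun _ => Nat) (0x64a00047d) (0x300064c0004bb) (Nat.ble 2983 i)) (Nat.ble 2982 i)) (Nat.ble 2981 i)) (Bool.rec (motive := fun _ => Nat) (Bool.rec (motive := fun _ => Nat) (0x64f000ea6) (Bool.rec (motive := fun _ => Nat) (0x3000650000683) (0x652000e7b) (Nat.ble 2986 i)) (Nat.ble 2985 i)) (Bool.rec (motive := fun _ => Nat) (0x3000652000df9) (Bool.rec (motive := fun _ => Nat) (0x3000653000382) (0x1000654000213) (Nat.ble 2989 i)) (Nat.ble 2988 i)) (Nat.ble 2987 i)) (Nat.ble 2984 i)) (Bool.rec (motive := fun _ => Nat) (Bool.rec (motive := fun _ => Nat) (Bool.rec (motive := fun _ => Nat)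 (0x30006550002b2) (Bool.rec (motive := fun _ => Nat) (0x1000657000872) (0x300065c000b70) (Nat.ble 2992 i)) (Nat.ble 2991 i)) (Bool.rec (motive := fun _ => Nat) (0x65d0006d0) (Bool.rec (motive := fun _ => Nat) (0x2000667000044) (0x3000667000ef5) (Nat.ble 2995 i)) (Nat.ble 2994 i)) (Nat.ble 2993 i)) (Bool.rec (motive := fun _ => Nat) (Bool.rec (motive := fun _ => Nat) (0x300066c00024d) (Bool.rec (motive := fun _ => Nat) (0x300066e000aff) (0x671000db6) (Nat.ble 2998 i)) (Nat.ble 2997 i)) (Bool.rec (motive := fun _ => Nat) (0x679000efc) (Bool.rec (motive := fun _ => Nat) (0x10006790000db) (0x30006860003dd) (Nat.ble 3001 i)) (Nat.ble 3000 i)) (Nat.ble 2999 i)) (Nat.ble 2996 i)) (Nat.ble 2990 i)) (Bool.rec (motive := fun _ => Nat) (Bool.rec (motive := fun _ => Nat) (Bool.rec (motive := fun _ => Nat) (Bool.rec (motive := fun _ => Nat) (0x10006900001c9) (Bool.rec (motive := fun _ => Nat) (0x697000bed) (0x2000697000916) (Nat.ble 3004 i)) (Nat.ble 3003 i)) (Bool.rec (motive := fun _ => Nat) (0x69900041d)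 (Bool.rec (motive := fun _ => Nat) (0x3000699000aac) (0x300069a000bfd) (Nat.ble 3007 i)) (Nat.ble 3006 i)) (Nat.ble 3005 i)) (Bool.rec (motive := fun _ => Nat) (Bool.rec (motive := fun _ => Nat) (0x200069b000b87) (Bool.rec (motive := fun _ => Nat) (0x30006a0000b04) (0x30006a10000b7) (Nat.ble 3010 i)) (Nat.ble 3009 i)) (Bool.rec (motive := fun _ => Nat) (0x6a50008c3) (Bool.rec (motive := fun _ => Nat) (0x10006a500057c) (0x20006a6000eb3) (Nat.ble 3013 i)) (Nat.ble 3012 i)) (Nat.ble 3011 i)) (Nat.ble 3008 i)) (Bool.rec (motive := fun _ => Nat) (Bool.rec (motive := fun _ => Nat) (Bool.rec (motive := fun _ => Nat) (0x10006a7000101) (Bool.rec (motive := fun _ => Nat) (0x6ab000d17) (0x30006ab00098f) (Nat.ble 3016 i)) (Nat.ble 3015 i)) (Bool.rec (motive := fun _ => Nat) (0x20006b80006bf) (Bool.rec (motive := fun _ => Nat) (0x20006ba000d6e) (0x10006bc00027e) (Nat.ble 3019 i)) (Nat.ble 3018 i)) (Nat.ble 3017 i)) (Bool.rec (motive := fun _ => Nat) (Bool.rec (motive := fun _ => Nat) (0x30006be000d5a) (Bool.rec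 (motive := fun _ => Nat) (0x20006c0000cdf) (0x20006c2000e00) (Nat.ble 3022 i)) (Nat.ble 3021 i)) (Bool.rec (motive := fun _ => Nat) (Bool.rec (motive := fun _ => Nat) (0x10006c3000e97) (0x20006c4000ee5) (Nat.ble 3024 i)) (Bool.rec (motive := fun _ => Nat) (0x10006c5000960) (0x20006c9000b73) (Nat.ble 3026 i)) (Nat.ble 3025 i)) (Nat.ble 3023 i)) (Nat.ble 3020 i)) (Nat.ble 3014 i)) (Nat.ble 3002 i))
noncomputable def CA1P_62 (i : Nat) : Nat := (Bool.rec (motive := fun _ => Nat) (Bool.rec (motive := fun _ => Nat) (Bool.rec (motive := fun _ => Nat) (Bool.rec (motive := fun _ => Nat) (Bool.rec (motive := fun _ => Nat) (0x6ca000ea5) (Bool.rec (motive := fun _ => Nat) (0x6cb000cfb) (0x6d2000012) (Nat.ble 3029 i)) (Nat.ble 3028 i)) (Bool.rec (motive := fun _ => Nat) (0x10006e0000399) (Bool.rec (motive := fun _ => Nat) (0x20006e2000388) (0x30006e80002e1) (Nat.ble 3032 i)) (Nat.ble 3031 i)) (Nat.ble 3030 i)) (Bool.rec (motive := fun _ => Nat) (Bool.rec (motive := fun _ => Nat) (0x20006ec000ca4) (Bool.rec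 (motive := fun _ => Nat) (0x6ee000c4d) (0x30006ee000a90) (Nat.ble 3035 i)) (Nat.ble 3034 i)) (Bool.rec (motive := fun _ => Nat) (0x10006f3000c14) (Bool.rec (motive := fun _ => Nat) (0x20006f9000f3f) (0x20006fa000986) (Nat.ble 3038 i)) (Nat.ble 3037 i)) (Nat.ble 3036 i)) (Nat.ble 3033 i)) (Bool.rec (motive := fun _ => Nat) (Bool.rec (motive := fun _ => Nat) (Bool.rec (motive := fun _ => Nat) (0x10006fb000d96) (Bool.rec (motive := fun _ => Nat) (0x20006fc000c81) (0x6fd000029) (Nat.ble 3041 i)) (Nat.ble 3040 i)) (Bool.rec (motive := fun _ => Nat) (0x10006fd0006b8) (Bool.rec (motive := fun _ => Nat) (0x20006ff000ccc) (0x1000700000939) (Nat.ble 3044 i)) (Nat.ble 3043 i)) (Nat.ble 3042 i)) (Bool.rec (motive := fun _ => Nat) (Bool.rec (motive := fun _ => Nat) (0x2000701000de4) (Bool.rec (motive := fun _ => Nat) (0x3000706000dce) (0x2000709000137) (Nat.ble 3047 i)) (Nat.ble 3046 i)) (Bool.rec (motive := fun _ => Nat) (0x3000713000262) (Bool.rec (motive := fun _ => Nat) (0x1000719000ebd) (0x200071b000973)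 (Nat.ble 3050 i)) (Nat.ble 3049 i)) (Nat.ble 3048 i)) (Nat.ble 3045 i)) (Nat.ble 3039 i)) (Bool.rec (motive := fun _ => Nat) (Bool.rec (motive := fun _ => Nat) (Bool.rec (motive := fun _ => Nat) (Bool.rec (motive := fun _ => Nat) (0x71c000d2a) (Bool.rec (motive := fun _ => Nat) (0x100071c000e58) (0x71f0008b9) (Nat.ble 3053 i)) (Nat.ble 3052 i)) (Bool.rec (motive := fun _ => Nat) (0x100072000071f) (Bool.rec (motive := fun _ => Nat) (0x3000723000152) (0x100072b0000a9) (Nat.ble 3056 i)) (Nat.ble 3055 i)) (Nat.ble 3054 i)) (Bool.rec (motive := fun _ => Nat) (Bool.rec (motive := fun _ => Nat) (0x730000294) (Bool.rec (motive := fun _ => Nat) (0x3000733000970) (0x2000735000186) (Nat.ble 3059 i)) (Nat.ble 3058 i)) (Bool.rec (motive := fun _ => Nat) (0x739000931) (Bool.rec (motive := fun _ => Nat) (0x300073a000878) (0x300073b000b82) (Nat.ble 3062 i)) (Nat.ble 3061 i)) (Nat.ble 3060 i)) (Nat.ble 3057 i)) (Bool.rec (motive := fun _ => Nat) (Bool.rec (motive := fun _ => Nat) (Bool.rec (motive := fun _ =>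 Nat) (0x100073f000be8) (Bool.rec (motive := fun _ => Nat) (0x2000746000ef7) (0x100074b000bee) (Nat.ble 3065 i)) (Nat.ble 3064 i)) (Bool.rec (motive := fun _ => Nat) (0x300074b000739) (Bool.rec (motive := fun _ => Nat) (0x300074c0005de) (0x3000752000dbc) (Nat.ble 3068 i)) (Nat.ble 3067 i)) (Nat.ble 3066 i)) (Bool.rec (motive := fun _ => Nat) (Bool.rec (motive := fun _ => Nat) (0x1000755000e8f) (Bool.rec (motive := fun _ => Nat) (0x30007580002ef) (0x300075900078f) (Nat.ble 3071 i)) (Nat.ble 3070 i)) (Bool.rec (motive := fun _ => Nat) (Bool.rec (motive := fun _ => Nat) (0x75d0000d5) (0x30007600001fc) (Nat.ble 3073 i)) (Bool.rec (motive := fun _ => Nat) (0x2000762000afa) (0x2000769000ce4) (Nat.ble 3075 i)) (Nat.ble 3074 i)) (Nat.ble 3072 i)) (Nat.ble 3069 i)) (Nat.ble 3063 i)) (Nat.ble 3051 i))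
noncomputable def CA1P_63 (i : Nat) : Nat := (Bool.rec (motive := fun _ => Nat) (Bool.rec (motive := fun _ => Nat) (Bool.rec (motive := fun _ => Nat) (Bool.rec (motive := fun _ => Nat) (Bool.rec (motive := fun _ => Nat) (0x100076e00084a) (Bool.rec (motive := fun _ => Nat) (0x1000774000764) (0x1000787000795) (Nat.ble 3078 i)) (Nat.ble 3077 i)) (Bool.rec (motive := fun _ => Nat) (0x3000799000ece) (Bool.rec (motive := fun _ => Nat) (0x100079f000762) (0x30007ad00010a) (Nat.ble 3081 i)) (Nat.ble 3080 i)) (Nat.ble 3079 i)) (Bool.rec (motive := fun _ => Nat) (Bool.rec (motive := fun _ => Nat) (0x10007b7000687) (Bool.rec (motive := fun _ => Nat) (0x30007c1000c3c) (0x7c3000f35) (Nat.ble 3084 i)) (Nat.ble 3083 i)) (Bool.rec (motive := fun _ => Nat) (0x20007c6000b2d) (Bool.rec (motive := fun _ => Nat) (0x10007c800069c) (0x10007cf0006f3) (Nat.ble 3087 i)) (Nat.ble 3086 i)) (Nat.ble 3085 i)) (Nat.ble 3082 i)) (Bool.rec (motive := fun _ => Nat) (Bool.rec (motive := fun _ => Nat) (Bool.rec (motive := fun _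 => Nat) (0x30007e0000aa6) (Bool.rec (motive := fun _ => Nat) (0x7e90000dc) (0x10007ea0000e5) (Nat.ble 3090 i)) (Nat.ble 3089 i)) (Bool.rec (motive := fun _ => Nat) (0x20007f5000516) (Bool.rec (motive := fun _ => Nat) (0x30007fe000d4c) (0x1000819000195) (Nat.ble 3093 i)) (Nat.ble 3092 i)) (Nat.ble 3091 i)) (Bool.rec (motive := fun _ => Nat) (Bool.rec (motive := fun _ => Nat) (0x300082300070b) (Bool.rec (motive := fun _ => Nat) (0x200082d000aec) (0x100083a000911) (Nat.ble 3096 i)) (Nat.ble 3095 i)) (Bool.rec (motive := fun _ => Nat) (0x3000842000d63) (Bool.rec (motive := fun _ => Nat) (0x1000844000e5e) (0x3000847000c49) (Nat.ble 3099 i)) (Nat.ble 3098 i)) (Nat.ble 3097 i)) (Nat.ble 3094 i)) (Nat.ble 3088 i)) (Bool.rec (motive := fun _ => Nat) (Bool.rec (motive := fun _ => Nat) (Bool.rec (motive := fun _ => Nat) (Bool.rec (motive := fun _ => Nat) (0x100084b000ac9) (Bool.rec (motive := fun _ => Nat) (0x3000855000445) (0x300085d0009ca) (Nat.ble 3102 i)) (Nat.ble 3101 i)) (Bool.rec (motive := fun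 _ => Nat) (0x10008730002f8) (Bool.rec (motive := fun _ => Nat) (0x300087c000ad8) (0x2000884000be0) (Nat.ble 3105 i)) (Nat.ble 3104 i)) (Nat.ble 3103 i)) (Bool.rec (motive := fun _ => Nat) (Bool.rec (motive := fun _ => Nat) (0x1000888000432) (Bool.rec (motive := fun _ => Nat) (0x100088b000703) (0x100089400058e) (Nat.ble 3108 i)) (Nat.ble 3107 i)) (Bool.rec (motive := fun _ => Nat) (0x20008a6000b26) (Bool.rec (motive := fun _ => Nat) (0x10008b800076c) (0x20008c6000d40) (Nat.ble 3111 i)) (Nat.ble 3110 i)) (Nat.ble 3109 i)) (Nat.ble 3106 i)) (Bool.rec (motive := fun _ => Nat) (Bool.rec (motive := fun _ => Nat) (Bool.rec (motive := fun _ => Nat) (0x10008c7000dd6) (Bool.rec (motive := fun _ => Nat) (0x8c80009a8) (0x20008db000590) (Nat.ble 3114 i)) (Nat.ble 3113 i)) (Bool.rec (motive := fun _ => Nat) (0x30008e1000052) (Bool.rec (motive := fun _ => Nat) (0x10008ea000e31) (0x10008ee000265) (Nat.ble 3117 i)) (Nat.ble 3116 i)) (Nat.ble 3115 i)) (Bool.rec (motive := fun _ => Nat) (Bool.rec (motive := fun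 _ => Nat) (0x911000664) (Bool.rec (motive := fun _ => Nat) (0x300095c000187) (0x200095f0007c6) (Nat.ble 3120 i)) (Nat.ble 3119 i)) (Bool.rec (motive := fun _ => Nat) (Bool.rec (motive := fun _ => Nat) (0x30009850004e2) (0x9a20008bf) (Nat.ble 3122 i)) (Bool.rec (motive := fun _ => Nat) (0x3000a9e00043f) (0x3000ac5000682) (Nat.ble 3124 i)) (Nat.ble 3123 i)) (Nat.ble 3121 i)) (Nat.ble 3118 i)) (Nat.ble 3112 i)) (Nat.ble 3100 i))
noncomputable def CA1P (i : Nat) : Nat := (Bool.rec (motive := fun _ => Nat) (Bool.rec (motive := fun _ => Nat) (Bool.rec (motive := fun _ => Nat) (Bool.rec (motive := fun _ => Nat) (Bool.rec (motive := fun _ => Nat) (Bool.rec (motive := fun _ => Nat) (CA1P_0 i) (CA1P_1 i) (Nat.ble 48 i)) (Bool.rec (motive := fun _ => Nat) (CA1P_2 i) (CA1P_3 i) (Nat.ble 146 i)) (Nat.ble 97 i)) (Bool.rec (motive := fun _ => Nat) (Bool.rec (motive := fun _ => Nat) (CA1P_4 i) (CA1P_5 i) (Nat.ble 243 i)) (Bool.rec (motive := fun _ => Nat) (CA1P_6 i) (CA1P_7 i) (Nat.ble 341 i)) (Nat.ble 292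 i)) (Nat.ble 195 i)) (Bool.rec (motive := fun _ => Nat) (Bool.rec (motive := fun _ => Nat) (Bool.rec (motive := fun _ => Nat) (CA1P_8 i) (CA1P_9 i) (Nat.ble 438 i)) (Bool.rec (motive := fun _ => Nat) (CA1P_10 i) (CA1P_11 i) (Nat.ble 536 i)) (Nat.ble 487 i)) (Bool.rec (motive := fun _ => Nat) (Bool.rec (motive := fun _ => Nat) (CA1P_12 i) (CA1P_13 i) (Nat.ble 634 i)) (Bool.rec (motive := fun _ => Nat) (CA1P_14 i) (CA1P_15 i) (Nat.ble 732 i)) (Nat.ble 683 i)) (Nat.ble 585 i)) (Nat.ble 390 i)) (Bool.rec (motive := fun _ => Nat) (Bool.rec (motive := fun _ => Nat) (Bool.rec (motive := fun _ => Nat) (Bool.rec (motive := fun _ => Nat) (CA1P_16 i) (CA1P_17 i) (Nat.ble 829 i)) (Bool.rec (motive := fun _ => Nat) (CA1P_18 i) (CA1P_19 i) (Nat.ble 927 i)) (Nat.ble 878 i)) (Bool.rec (motive := fun _ => Nat) (Bool.rec (motive := fun _ => Nat) (CA1P_20 i) (CA1P_21 i) (Nat.ble 1024 i)) (Bool.rec (motive := fun _ => Nat) (CA1P_22 i) (CA1P_23 i) (Nat.ble 1122 i)) (Nat.ble 1073 i)) (Nat.ble 976 i)) (Bool.rec (motive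 := fun _ => Nat) (Bool.rec (motive := fun _ => Nat) (Bool.rec (motive := fun _ => Nat) (CA1P_24 i) (CA1P_25 i) (Nat.ble 1219 i)) (Bool.rec (motive := fun _ => Nat) (CA1P_26 i) (CA1P_27 i) (Nat.ble 1317 i)) (Nat.ble 1268 i)) (Bool.rec (motive := fun _ => Nat) (Bool.rec (motive := fun _ => Nat) (CA1P_28 i) (CA1P_29 i) (Nat.ble 1415 i)) (Bool.rec (motive := fun _ => Nat) (CA1P_30 i) (CA1P_31 i) (Nat.ble 1513 i)) (Nat.ble 1464 i)) (Nat.ble 1366 i)) (Nat.ble 1171 i)) (Nat.ble 781 i)) (Bool.rec (motive := fun _ => Nat) (Bool.rec (motive := fun _ => Nat) (Bool.rec (motive := fun _ => Nat) (Bool.rec (motive := fun _ => Nat) (Bool.rec (motive := fun _ => Nat) (CA1P_32 i) (CA1P_33 i) (Nat.ble 1610 i)) (Bool.rec (motive := fun _ => Nat) (CA1P_34 i) (CA1P_35 i) (Nat.ble 1708 i)) (Nat.ble 1659 i)) (Bool.rec (motive := fun _ => Nat) (Bool.rec (motive := fun _ => Nat) (CA1P_36 i) (CA1P_37 i) (Nat.ble 1805 i)) (Bool.rec (motive := fun _ => Nat) (CA1P_38 i) (CA1P_39 i) (Nat.ble 1903 i)) (Nat.ble 1854 i)) (Nat.ble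 1757 i)) (Bool.rec (motive := fun _ => Nat) (Bool.rec (motive := fun _ => Nat) (Bool.rec (motive := fun _ => Nat) (CA1P_40 i) (CA1P_41 i) (Nat.ble 2000 i)) (Bool.rec (motive := fun _ => Nat) (CA1P_42 i) (CA1P_43 i) (Nat.ble 2098 i)) (Nat.ble 2049 i)) (Bool.rec (motive := fun _ => Nat) (Bool.rec (motive := fun _ => Nat) (CA1P_44 i) (CA1P_45 i) (Nat.ble 2196 i)) (Bool.rec (motive := fun _ => Nat) (CA1P_46 i) (CA1P_47 i) (Nat.ble 2294 i)) (Nat.ble 2245 i)) (Nat.ble 2147 i)) (Nat.ble 1952 i)) (Bool.rec (motive := fun _ => Nat) (Bool.rec (motive := fun _ => Nat) (Bool.rec (motive := fun _ => Nat) (Bool.rec (motive := fun _ => Nat) (CA1P_48 i) (CA1P_49 i) (Nat.ble 2391 i)) (Bool.rec (motive := fun _ => Nat) (CA1P_50 i) (CA1P_51 i) (Nat.ble 2489 i)) (Nat.ble 2440 i)) (Bool.rec (motive := fun _ => Nat) (Bool.rec (motive := fun _ => Nat) (CA1P_52 i) (CA1P_53 i) (Nat.ble 2587 i)) (Bool.rec (motive := fun _ => Nat) (CA1P_54 i) (CA1P_55 i) (Nat.ble 2685 i)) (Nat.ble 2636 i)) (Nat.ble 2538 i)) (Bool.rec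 (motive := fun _ => Nat) (Bool.rec (motive := fun _ => Nat) (Bool.rec (motive := fun _ => Nat) (CA1P_56 i) (CA1P_57 i) (Nat.ble 2782 i)) (Bool.rec (motive := fun _ => Nat) (CA1P_58 i) (CA1P_59 i) (Nat.ble 2880 i)) (Nat.ble 2831 i)) (Bool.rec (motive := fun _ => Nat) (Bool.rec (motive := fun _ => Nat) (CA1P_60 i) (CA1P_61 i) (Nat.ble 2978 i)) (Bool.rec (motive := fun _ => Nat) (CA1P_62 i) (CA1P_63 i) (Nat.ble 3076 i)) (Nat.ble 3027 i)) (Nat.ble 2929 i)) (Nat.ble 2734 i)) (Nat.ble 2343 i)) (Nat.ble 1562 i))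
noncomputable def CA1InvB_0 (i : Nat) : Nat := (Bool.rec (motive := fun _ => Nat) (Bool.rec (motive := fun _ => Nat) (Bool.rec (motive := fun _ => Nat) (Bool.rec (motive := fun _ => Nat) (Bool.rec (motive := fun _ => Nat) (0x23b000af80009700008570000000000000000000000000000000000000000000000000009dd000696000000000000000000000000000000000000000be10009d40007760003cc0008b600015b00054700099100000000080d000621000b740006600005c600049100094400074600083c0005c20000000000000000000009dc000bd5000000000000000000000000000b25000a83000a980005ce000334000ab100046800065000000000066b00088700000000071f000000) (Bool.rec (motive := fun _ => Nat) (0x2810005c50000000002750001ff000b2a000228000561000a890006c10002ce00008800038f0000000000000000000002a20009f000034e0005eb0002bd00009200075a0000f80001370004d700092b000506000000000196000b7e0009ac00074b00071c00058600030200025500077e000a4e00098200000000000000012c0008fe0009db000c2b0005d400080b00036800006900045c0004ec00016f00034f000366000885000a3d00050f0001c8000bb2000964000867000153000719)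 (0x22f000000000000000000000000000000000000000000000bc20000000000000002e40005e70006ff0002c80005130007d80005930001b8000000000000000000000bf0000691000b7600090800078e000ab4000572000000000000000a43000581000890000b2b00000000000000000000001900095c00000000000000000000000000000000000000000000000000000000000000000000000000000000000000000000000000000000000000000000082c00023d000b0d00077b000826) (Nat.ble 2 i)) (Nat.ble 1 i)) (Bool.rec (motive := fun _ => Nat) (Bool.rec (motive := fun _ => Nat) (0x99f00099e0008470000c200007300075f0007520005ef0005fe00092300087f0000000002f00005bd000365000072000aee00020900006c0006c400098600062300019900062b000b710008fa000c120002c900021600033b00038e00088a000159000499000343000c11000bb800032b0009960000000000000000ad000c000008f60005ea000000000000000000000000000000000000000484000925000000000000000000000000000000000000000000000000000000000000000000) (0x1e700066400042d00000000094e00090900014a0009e2000be700015f0002d20000c3000ac30007e00006950001ac000000000176000b260009490009d10009a30000000006f40005b600023500053e0004b3000a7a00082800091d0004530000000002c000025f0007d40005330001a30008f40003d8000a790001600008fd0004320001910000000004000006a90005080004e70009a1000107000abf000c090004cc000a45000a37000a68000263000805000000000336000bc600074c)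 (Nat.ble 4 i)) (Bool.rec (motive := fun _ => Nat) (0x339000b8300065d00089700081a00080c0007110006b50000000001180007c600057c00025d0002710001580003e600056300020200069d0004b9000aec0000000005ba000b1e00003d00010600018900097100074400096e0003c100086c0000b20008650003b80009f600037e0002ba0003210005fd0007e500070800079800098b00038b000bef0007a200083000022000000000000000000000000000000000000b0002080000000000000000000007770002cf0008b30009a7000937) (0x3a60000000000000000000000000000000000000000000000000000000000000000000000000000460008b500019200000000000000000000000000000000000000000000000000000000000000000000000000016c0008ac00004b000000000000000000000000000054000000000666000437000729000000000a9e000c1500014000073c00097a0003930006f60000000004c90005d700083e000b7b0000fc00074a00093d000c2f000bf3000aa60000000000bf0007420000ed000350) (Nat.ble 6 i)) (Nat.ble 5 i)) (Nat.ble 3 i)) (Bool.rec (motive := fun _ => Nat) (Bool.rec (motive := fun _ => Nat) (Bool.rec (motive := fun _ => Nat) (0xc01000b7c000a4d0000000000000000000000000002e50002a70002da00066e00068e00005100066200093400000000031a000b600004090007d20005320004af0008200000000000000005ca000773000000000000000000000000000000000000000000000000000997000000000000000000000000000000000000000000000000000653000000000000000000000000000000000000000bba000000000000000000000000000000000000000000000000000000)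 (0x3e10001100007da0000000000000000000004450007d7000b23000000000000000000000ac00004a40000000000000000000000000000000000000000000000000007540005f8000000000000000000000000000000000000000000000000000a4c0000300000000000000000000000000000000000000000000000000003a0000bad0006c5000000000000000000000000000000000000000000000000000000000999000000000000000000000000000000000000000000000000) (Nat.ble 8 i)) (Bool.rec (motive := fun _ => Nat) (0x70e000bcb000add0000bc000000000000000000000000000000000465000000000000000000000000000000000000000000000884000000000000000a6e00054e0008d300018a000289000247000c2d0009d800008f000be80001fe0006060003e400039e00000000000000084b0008bc0002b100013000032e000acb000492000713000352000000000656000a8a00061100042f000bb40004190000be0008ba0005a3000480000663000a8e0005040000000000000005fb00084400017d) (0x79500074f00018e00032d0003f200076b00051500004f0004a900061f000a120002f40003ae000bae00020b00000000000000043b0001c20000790007a700049400039d0004a30000e70009d600001100028b000b3b0003000006ae0002eb00018300090e000b2400066c0001b200045b000af0000277000315000ac900005a000bf1000057000aac00032a000a250005710006de00091b000b5000090600092100044300027b0006170006a10007a900021f000000000000000af600029e)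 (Nat.ble 10 i)) (Nat.ble 9 i)) (Bool.rec (motive := fun _ => Nat) (Bool.rec (motive := fun _ => Nat) (0x50000b3200054f00098f000038000520000162000c1f0002ee0008220004100003fa00064e000490000748000a52000bfe0006a200034400057a0004c70009ff00003b00064c0000a600070a0009aa0008310009b60006f8000bd800045000000d0001b50009840009500004f6000ad700084500015400056e000aa00001e800059c00032300056b00085800010200061a000648000b7800008000072e00088e000b7700067200092400002c000478000175000a240004b1000a3f0005e0) (0x3dc0000000000000002680006c0000a7c0004d0000b6b00054d000ab900034d0000e90001bc000379000b160001d90003f70009af000ac4000ac70004720003e50001b40006000000180007db0005da0000000008a10000bb00067900063600061d00014c000811000a3400079b00071d00012b0009e3000330000a4800087b0004fe0005bb000535000607000a05000459000ba500055b00091e000b1400016d0007b2000a400000c400023400016b0003df00010f000809) (Nat.ble 12 i)) (Bool.rec (motive := fun _ => Nat) (0x9d7000a0a00007c00006200076500067000029500077d0009280000000009fb00051e0003ec0006270007c10004c800046300000000001a00040700052c00066f0008f90006e60000560001420008290000000000000009bf0002820002a9000724000a91000a040002180003e20005010004be00090f00063100040c00051c0006780002870005800007b800036c0000df000067000895000625000b03000000000000000000000105000901000000000000000000000000000000000000)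 (0xb1f0004610002b6000b420004710009670003aa0003c50008e500044400012d0001bf000a3500037c0007fe000aaa0008920000000000000000000000000000000000000004c10000250000000000000000000000000000dd0008ef0006f100063500065e0000000008de0007fb000834000bd60002fa0004420004de00085e00048c0004f70007f60009470005b10000c600077f0009ae0001250000d300013f0000c8000bd70004690004f5000adc000048000835000bac0000000004e0) (Nat.ble 14 i)) (Nat.ble 13 i)) (Nat.ble 11 i)) (Nat.ble 7 i)) (Bool.rec (motive := fun _ => Nat) (Bool.rec (motive := fun _ => Nat) (Bool.rec (motive := fun _ => Nat) (Bool.rec (motive := fun _ => Nat) (0x6ac0005490001800004b20004bb000aba0003db00069a0000000009f800085200031000077a0005460007970005bc0000cc0001120008e90002b50004d40007e80006e4000a490004380007ed00099c0005d0000a2700000000000000035e000545000790000bb9000068000b3900003f00015a0008c10008c2000b9300000000000000024a000b3500031d0006040001ad00037600009100092600007f000b050007f000034a0005c00006da0007c9000684000a230000360005f0000000) (0xc330004cb00055900065b0004f20002af0002a80004b70000000002510002fb00084c00099b000c220000a700044c0003e30008c000044900031c000b1a000ac800079900053f00047a0004dd0005420000000000860009e000094100097b0009190008b1000bbd0006030000000003f0000948000a8d00073a0006300000000000000000000000000008960008cf0000000000000000000000000000000001950000000000000000000000000000000004080001490002ef00058e000632)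 (Nat.ble 16 i)) (Bool.rec (motive := fun _ => Nat) (0xb7a00080e000ba60009940001040002450000000008c400022c000b73000b58000a840008ca000abc00055f0002c50007490005cf00036b0005760003560001c5000a630000000000000000000000000000000000000000000000000001f8000380000a700006dc000aa100000000014e000b5f00055d0007fc00000300085900081e000000000b850006e30003fb00041f0006450005ff0009330000000008820002ea0005e50004cd0004e2000c1d00010300001c00075300051a00058b) (0xba70002410000000000000000000000000000000000000000000000000000000000000000000000000000000000000000000000000000000000000007a400064a00000000000000000000000000000000000000000000000000000000003e0001cb00000000000000000000000000000000000000000000000000000000000000000000039800025b000000000000000000000000000000000000000000000000000000000000000000000000000001000081) (Nat.ble 18 i)) (Nat.ble 17 i)) (Bool.rec (motive := fun _ => Nat) (Bool.rec (motive := fun _ => Nat) (0x89f00024300000000051f00026a0005b700007a00002b0001560004f00004740009a5000aa700011100000000056900006a0001e100097700004e000a2e00043d00037500014b0000e00004c5000abd000298000ad9000c310005e90004f30003c30000aa000223000b550006440005aa0000000000000000000000000000000000000000000000c000018c000000000000000000000000000000000000000000000000000000000000000000000000000000000000000000000000000000)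 (0x40000640007a1000168000abe00088b000b120000b500098a0000ee0002ab000b0c0007dc0003d20008ed000b460001270005400004c40006f30006520000330008b70004b80002070005e200043e0003600006430008a00000000000000000000000000000000000000007cb000a6a0004fd0006a5000099000c130002a10001710001f600032c0009730002be00068b0006bc0004870008bb0004ac000000000000000a9d0001a900005c000405000a7f00050500038100082e000675) (Nat.ble 20 i)) (Bool.rec (motive := fun _ => Nat) (0xe500041d0003e0000bc40005f70006380002f9000a220008480007ec000309000aef00047c00045d0001e9000705000000000000000000000000000000000000000000000000000680000b20000000000000000000000000000b8f0000000000000000000000000000000000000000000007b300002400094b000b270001a50007870003420009b20004700000fb0006e0000af70000fd0001a70000000004a6000074000a47000b8b000adb00059100061b00012a0008cd0005cd000000) (0xb800009e10000000000000000000000000005220000000000000000000001e0000833000ba20004200003920007180000700008660005030000000000000000000000000000000000000000000000000005ae000a410007660005380002db0004e500000000035a0008a60006cf00003a000abb0003ea000023000a0d0000000007e9000337000335000987000c2a000b84000c240002960005bf000b480000d50000000007830003fc00026b0000e80001240006e8000a95000002000b5c)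 (Nat.ble 22 i)) (Nat.ble 21 i)) (Nat.ble 19 i)) (Bool.rec (motive := fun _ => Nat) (Bool.rec (motive := fun _ => Nat) (Bool.rec (motive := fun _ => Nat) (0x15100017e0000fe0005160005230000000000000000000000000009ea0008da0000000000000000000000000000000000000000000000000000000000000000000000000000000000000000000000000000000003fe000000000000000573000000000bfb0007350004d300009c00047e000237000a4a0000000000000000000000000000000007a60002b0000b33000000000000000000000a650000c10000000000000000000000000000000009ab000332000117000000000000000000) (0xb470006b90007be000a4600086e0000000001c10005a0000555000b2d00068c00061500049d00013d0009d30000e100007100037d0009c7000757000000000000000000000000000000000759000000000000000000000000000000000000000322000ad500087900011d0008600004e600001e00052400068500013600068f00097c000a7e00078d000254000579000a3900044d00000000021d0006ce0002ad0000000007eb0004ee00000000000000000000000000000000000000048e) (Nat.ble 24 i)) (Bool.rec (motive := fun _ => Nat) (0x95000b410003e90005a100024f00093000012f0004bc0009fa0007930008bf00045700046000081b0005890006760000000000000004730003380005fc000144000b5a000a2a000292000c2e000b0e0008d20008a40007910007c30002720003f6000620000519000763000147000a110001c9000655000b1d0002c300000000000000000000000000000000019f00005200046b0003730003cd0005a500055c00050900080a00017900000000082d0002c100043300014d)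 (0xbc90009220007020003640007f4000837000415000be20001d40003570004d900089a0007b50000f50003eb000a1300099d0004950004810008540008550006290005cc00073900027900045600045a000b890009c2000044000ba400074d0002bf0004c200058a000c0e0009040007f1000a310009b70001630002ed0001930009b40009f10005df0005260000e20003a10000b4000699000609000b650009a60009b30008f3000c0a00070c00027c000378000ba9000c340005d2000065) (Nat.ble 26 i)) (Nat.ble 25 i)) (Bool.rec (motive := fun _ => Nat) (Bool.rec (motive := fun _ => Nat) (0x7b0005d100089b0009c8000a740002170001850002aa0007510006860004400000ab000c0f0000e400023a00062c0002420000120003af000b2f0006e5000a780004ed0005d30007d600083f00034000030d00085c000819000b4a00051700073b00090c0005c8000a800002d00006260006fd0008e100040a0001f400067b0005de00060f0008120003b1000bb10005480004fb00013e0005f600085b00001700098e00091500024e0001b1000b6100050c0002f60004540004040006ee) (0x27400032f00028d00093100044a000076000bfa000a5c0006010003880000000000000000000000000000000000000000000000000000000000000000000007170008b000054a000a010005a80000ec00018b000a200009da000565000880000bee000a5900022b000126000b6a00062e0002f10008930002ca000511000a36000b00000b4d00040b0005c700038300093e0009e900000000069f000c1600081700059f000aa5000640000910000946000512000c23000a7b0001c300009f)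 (Nat.ble 28 i)) (Bool.rec (motive := fun _ => Nat) (0x89800000000000000000000059d000a0b0003b90009070004ef0000c7000a810008510007f500027f000ac60004f800053000078c000359000c260009540009920002d100022a0005c90003f300030b000c0500013c000c0800054100015e000936000738000649000000000201000b62000009000308000000000a07000ae60009170004280001fd00000000042300021e00093f000b590008060003f80004460000000001ae0001aa0000f3000b5d0002100009160005a400017a000418) (0x294000ac50003f1000836000a6c00056400000000011300011b000792000b45000129000267000a5e0000000009660005e400002e000b1800050b00049700009b0001b60002250008140008ea0003ad00008900000000058f0004960008710003f900003900072b000608000a1d000ae1000ae4000a770001000006f0000c060004270009350008ec0009630006e9000bff0001390005520006b100055700027600048200013a000a50000346000b3e000827000000000000000000000133) (Nat.ble 30 i)) (Nat.ble 29 i)) (Nat.ble 27 i)) (Nat.ble 23 i)) (Nat.ble 15 i)) (Bool.rec (motive := fun _ => Nat) (Bool.rec (motive := fun _ => Nat) (Bool.rec (motive := fun _ => Nat)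 (Bool.rec (motive := fun _ => Nat) (0x2000006cd0001f3000592000b640008fb000a9f0009c300097200001500095b00035b0007e300089e0002ac00058d000382000801000a4200088600086100087e0000000006a600081f000af500082f000439000063000007000722000956000628000a9600085d000b8d00082400021c0002f7000ae20004760005100000000006ed0003c200057f0002220000000004ce0004ea0000000000000000000000ca00006e000968000838000c300005b2000b81000a3b0003ac0005e8000706) (Bool.rec (motive := fun _ => Nat) (0x1db0008d0000b540001df00000000000000084200086d0001d3000314000574000b220000da0008f0000ab700024b0001380006db00020e0008f700096d00016a0005310005a90001730007470007c5000aff00026400026c00057e000afe0004df0000000009a0000ad20002d70002ec00064f0000d700017700013b000b9d0000000009e40002f30003de0003ee00025e0002d300045500080800000000000000075b0000000005d50004620000f2000307000a9c00044f000386000a15) (0x6000074100092f0009980009cf0003f40005b9000bf5000818000b1500000000034100065f000baf0005d80006a80009450007600005c30006020004010008b2000278000aaf00068900056d000b09000a600003630000a8000b6900017f000a750007c00009c100028a000afc0002e80003480003040009800008400000000000000000000002b300015c000a550009c00000b3000a1b0009e80008dd000c04000b310001f700000800057b00084e00059400076a00043c0000cf000324)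 (Nat.ble 33 i)) (Nat.ble 32 i)) (Bool.rec (motive := fun _ => Nat) (Bool.rec (motive := fun _ => Nat) (0xc3200043f00001f00031f0007800003d7000bed0004e3000000000000000000000543000000000000000b940000d0000000000000000000000732000000000000000000000000000000000000000b1000074e0005b8000b6d0000000009f7000b1b00072d0004eb0007d500069b00055a00034b00029900053a0005280004a70004b60003c700000000068d0000000006b20006a000059800000f0008b900014500019a000b4f0005530001dd0001f0000ad800086b00008a000493000afb) (0x49b0003a800023f0001fb0009e7000a53000b360008c8000447000211000a640006cc0000fa0009d500033e0009b90000af00088100033a00006f000a5a00094a0000ac0001bb000417000a7d00001d000b300002f2000a5b000b6c000ba000077800063b0001ba0004b000079e000ae500011f00072700077c000a8c0000d90007b1000b11000832000b1c000978000b9700000000000000005e0005ac000000000000000000000000000000000000000000000bc30003850005270005dd) (Nat.ble 35 i)) (Bool.rec (motive := fun _ => Nat) (0xa6b0006770006220008c60003b0000416000be40007710008af00007d0006ea0006160009eb000796000bf400074300008e0009b10007ea0002270007610009390006c20004660006870003890001ab0000000003190003330003670007bf000b0b0000ce0000130007d90007cc000b43000b070003900001eb000bbc0007280008d40006f9000a09000c1800029300016e0000a0000703000b0a0009650003bf0003bb000ad10002500002460003550005af00096c000a0c0004340008a8)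 (0x4510008e200076e0000db000b4e00004c000821000762000b5e0001a1000204000bea0001c700046a000bf20004ff0006ec00009700010100041200000000029f0005c100090200004900071400021b000929000ab50005c4000bd100096f000841000af400063f0005f9000acf0005fa00019e0000000000000000000000000000580008460009fc000b2c0001570005360002910009bc0004f100002f00098800020d0000200002210006e2000b0200032900018800002d0002bc) (Nat.ble 37 i)) (Nat.ble 36 i)) (Nat.ble 34 i)) (Bool.rec (motive := fun _ => Nat) (Bool.rec (motive := fun _ => Nat) (Bool.rec (motive := fun _ => Nat) (0xb170000000007cf0000c500099a000961000000000313000661000b7200056f0001e50008aa00084f00062a0000000004a200059000042a000a540007c4000c290002190003470000000000000000000000000007a3000312000a66000000000b9f0000420005ec0008c700018100082a0000000004310001a40005340001da00018d000b04000155000bc80008cc00040f000a4f0009ed00021500085f000ad0000328000bde00048f0001f90000ff000ad40008f80002d8) (0x1d50000000006820008cb0000000000000000000000000004aa0005500000000000000008ad0009a80000000000000000000000000009c4000803000b130009850009fd000b75000152000b8c000000000000000262000b8e00000000000000000000000000038c00015d0000000000000000000008d7000aea00045800002900059a000000000b700000a200038400090d0006bb00090500000000010e000c1e0004250008160000000003b7000737000000000000000000000000000000)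 (Nat.ble 39 i)) (Bool.rec (motive := fun _ => Nat) (0x2200059b00000000036d0006410000000000000000000000000000000000000000000000000000000000000000000000ae000a6f000ace0000000000000000000006a40008b8000ab60005830000410000000003a40000000004da000000000a92000aae0000000000000003260000000000000000000000000000000002c400026e0000000009f2000a970001a2000a0f0005e30005ed000b0600025c000285000ae0000464000b9b0000000000000000000000000000000000000008d6) (0x21a00000000084a000883000b010008df0005680006bf00007e0009130003b3000a1f0007c70001ee0003d90008e600052a000aa8000b820001d10009140009e50001ce00052e0000000000000004fc0001350000000001d80008a30000000000000000000001be0004bf0007200000d20000000001980005770008fc0000000000000001fa0000000000000000000000000000000000000000000000000000000002b4000280000000000000000a6d000adf0000000003d400078500011a) (Nat.ble 41 i)) (Nat.ble 40 i)) (Bool.rec (motive := fun _ => Nat) (Bool.rec (motive := fun _ => Nat) (0x402000000000000000000000000000a300000000007d3000a3e00028e000a850002d500049e00038700016400087700065100072300010a000bbe0001de00030a0005e6000301000618000c100007e70008db00000000000000000000000000000000000000000000000000000000079f000172000a5d00087d0005e10006dd0008eb000aab0005f4000839000bdb00087800000000002a00052b0001410007120000d800028c000aa30003d500009a0008a20000000000000000000009cc)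 (0xbb50008e80003ab0005870003c9000c02000a1e000a5700042b0006fb0005670007790000270000000000000001e4000000000000000000000c17000a670000000009420005ad00063900056600006b00020300095f0000770009c60002120007250003d100086200052900062400039100010b000c200009b800046d00088f00030500044800045f00036a00019c0005a60000f40003ca0000780004d8000ba3000c1c00036f0006a70001f20001b70008e00002bb0007b0000000000000) (Nat.ble 43 i)) (Bool.rec (motive := fun _ => Nat) (0x6930006cb0004f9000a9a000000000a2b0006c9000b510000590009520000260001430000940002380005990008f200011400049f000c0d00056c0003ef00027e0003c4000a17000166000c250001460005ab0006b600087500083d0003c80005b50001650009ef000af3000612000ada00031e00070100028600063300024c0007cd00094d000716000148000353000b570006810002700004c6000b4c000a560004060008000009bd000231000781000bc10004e800000000000000078a) (0x7dd0003720001f500068a0002df000226000869000000000303000a880003b400075c000bd20003a5000518000bb0000974000b8600026000061c0007f70004850008ee00063a00004d00008500091f0003490003160009e600047b0007e1000891000740000a3c0006e10007860004360004d200048b000441000b7d0009690008f10001780003a70002b8000a0200096a000aeb00060e0008d9000a280001220000340004210006f70001d200020c0008020009ec0003d30008e7000399)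 (Nat.ble 45 i)) (Nat.ble 44 i)) (Nat.ble 42 i)) (Nat.ble 38 i)) (Bool.rec (motive := fun _ => Nat) (Bool.rec (motive := fun _ => Nat) (Bool.rec (motive := fun _ => Nat) (Bool.rec (motive := fun _ => Nat) (0xaa40005a20000b800054c0002050009f300047500001b0000310006af000354000b2e0000ea0001870009750003960002e600000000072600044b0001e200067e00000000058500011c0000e600070400011e000a0300000000013200096b00027d000b2100014f0004030007670003be0009c500097d0002400005560006d20003e700029a000b1900064d000958000297000a5100008c000377000aed0009f50004ba000911000bc000070f0009000001900003a2000bf60001ef00033d) (0x6d5000a26000bbf00005500009e000502000b8a000b5b00053d0003180002cc0000140006b3000a320009600009ba000990000bf9000bbb0007bd0007de0006c3000637000bf70002560008a5000b680006f50003060002e20001c4000c2100047900030c0006d100050e000a94000b8700036e0008e400092d00009d000066000a5f00056a00088c0005a7000b3a0007b7000b950003cf0007820000b7000af10009950001fc000a870002130005db000b3700025700037a0006050001ca) (Nat.ble 47 i)) (Bool.rec (motive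 := fun _ => Nat) (0x41e0003250003c0000c0b00060c00005f0009ca00063c0007ae0000a100012100082b0007f90001d60009d9000ade0004a000090a00018200080700024d0007a500050d000b440001cc00020f0000a40006ef00042e000424000a8f00022e00062d0005cb0009620003fd0007f80004670004b50008ab0001280003ed00033f000bdc000b9a00020a000903000a93000311000acc000a140001ed000736000642000aad000b4b00041c0000cd00075d00025a00000000000e00008200095d) (0xa30006c800010c00026d0006d8000ae900067f0007210005b3000477000028000b5300078b0002cb0003740007ee00069000061e000a210002dd000ac1000ad600072f00060a00003700035c000a8b00004500051400017400040d0006d7000b3c00051b00076d0002610001b000019b0009a40008b400015000008d00087300003c0007750009530001a00005be000bda000290000a2f000ab3000c1b0009f400038d00070d0006fe00048600098d0000d600094c0006fc) (Nat.ble 49 i)) (Nat.ble 48 i)) (Bool.rec (motive := fun _ => Nat) (Bool.rec (motive := fun _ => Nat) (0x8d50005ee0007ff0006c70005840009bb00006100069c0004d600010800090b0005700000830006be00012e000b960006580001bd00035d00072a0000eb0007c20002de00057500037b00043a0003ba000bd900019400044e000a16000ab00008250004ab00041a000b380008dc00037f000989000a080007720008c30001ea000b6e0007a00000b9000b280006fa0005970002fe00016700062f000090000b7f0006540007d00008c50007e400041b00056000066a0000f0000be0000733)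 (0x7940000c90005370006ca000bd40003bd0002060000b100066d0008630009830007640002a60000000005620007b900086f00089c00017c000815000a860002ae0001970000cb000b4000028300089d000c030005b00002730003da0004a8000bcd0000b00006b0000683000788000005000a820005b40005210003b60006d600091c0002b9000ab800033c00039500027a0004bd000ae7000be30008490008560005780000f1000a190006650009a90004db0001150009cb000184000730) (Nat.ble 51 i)) (Bool.rec (motive := fun _ => Nat) (0x23e0000f700078f00002100071a0004d50000d40007a800087c000a0e00038a00052d0009ad000b0f0001af0004c3000769000912000000000000000000000beb00005b000acd0004e90009930000000000000000000001a80006d30000000000000000000000000000000002b200081c00000c00030e000bc700055e00018f00047d00091a00083a00032700053900064b000a73000a710000960007f3000430000b660002d90002390002580000160008740001610005950008e3000186) (0x86a0007b4000214000000000ad30007b60005dc0009760004a1000a90000a2d0006740002e30001a600053b000000000371000bca00065a0005f30000000007ca0005960007450003ce00060d0002a4000358000c1900093a00000000031700045e000a38000170000927000868000bcc000b980006d4000109000a330008720004e1000b3f0000000000000006df00091800058c000b6f000c140005d9000951000b9c0008a90000400006d00009430003a90008be0005f500071e000c27)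 (Nat.ble 53 i)) (Nat.ble 52 i)) (Nat.ble 50 i)) (Bool.rec (motive := fun _ => Nat) (Bool.rec (motive := fun _ => Nat) (Bool.rec (motive := fun _ => Nat) (0x3bc0009400008d1000bfc0002650000ef0008a70002a300073f000bb60005070008700002c2000755000af90000000000000007fd000af200037000052f00029c0000b60008ff0002e90000870002e70008f50008940001d00003c6000aa20002f5000500000613000a290000060005540003620009ee000b99000bdf0007e2000b340009be0004350006b400046c00083b00092a00049a0001e30002840003b5000938000a0600000a00079c000b900009fe000a2c0000a90004ca000667) (0x57d0009810004b40007ac00028f0006eb000bab00023c0004c00006100007fa0007500003ff0000000001ec00067c0007ef00067d0000350002240006980003940006e7000b67000b790007680004fa000be50004cf00010d00095e00034c0003f50002fc0007150009df0003b20009de0009d20001d700053c000c280002490007740005d60007840004e400046f00085a000be6000734000ba1000b290006d90004980001b30008d80006ba000709000a1c00009800094f000000000000) (Nat.ble 55 i)) (Bool.rec (motive := fun _ => Nat) (0x42c0006ad000ac2000a580000d100023300080f000413000864000a440005f20002dc0008530008c9000c2c0003200002880002c60009cd00067a00048300000000000000000000000000000000024800095900000000059e000000000000000000000000000000000889000093000000000afa00064600000000000000000000000000000000000000000000000000000000000000039b00075e000000000000000000000000000000000000000000000000000000000000000123000bce)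 (0x41100060b0000a5000551000baa00048d000b630000530003690001dc0002360001f10007f2000657000b9e0004ad000707000aa9000a3a0002d400079d000979000a690004520007e600029b0002b70008ce0002a00004290006710006b700069e000c1a00075600087600092c000ab20003dd000bec0006940002320005820007ab0008100001c00005580006190006730000f90005250007d100097e00073e0003a30002d600063d00069200039c0006590004f40000dc00093c0007c8) (Nat.ble 57 i)) (Nat.ble 56 i)) (Bool.rec (motive := fun _ => Nat) (Bool.rec (motive := fun _ => Nat) (0xae8000be90009c90006b8000955000588000253000116000b520002ff0003d0000bc500035f00084d00051d0004dc0002cd0008bd00076f0002e00000ba00069700046e0004ae000ba8000bd3000b3d0007100004d10008ae00022d0006bd0002fd00000000095a0006690003e80000e3000266000bcf000888000688000331000b9200004300011900081d000bfd000899000010000a72000a180002c700039a00092000050a0004890001b9000b490007ad00013400047f000a61) (0x95700048800029d000bb700019d00092e000ae3000075000bf800071b000bb30007700003cb0007df0008500007bb00042200026f0001c600065c00008b0007af000000000b880006aa00093b000bd0000229000032000804000a620001cf0000000007aa000084000614000000000a9b00081300031b0006470006f20007890000f600070b00039700084300082300098c000c070006680003d600076c0002e100054b00088d0000de0007ba00034500093200039f000aca00049c000000)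 (Nat.ble 59 i)) (Bool.rec (motive := fun _ => Nat) (0xbdd00006d00030f00012000025900040e000361000afd00000000072c000c0c0006ab00000000005d0001e60001690000000009b0000a4b0006a30009a2000b08000b560005440000bd00070000097f000269000a7600023000073d0002f80007580002a5000a1a000a000009d00009b50002520009ce00063e0007ce0005f1000b9100079a000351000244000731000a9900004a00048a0006c60001cd00041400000000000000017b0004a50000470001310007bc00087a000426000634) (0x9f9000a10) (Nat.ble 61 i)) (Nat.ble 60 i)) (Nat.ble 58 i)) (Nat.ble 54 i)) (Nat.ble 46 i)) (Nat.ble 31 i))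
noncomputable def CA1InvB (i : Nat) : Nat := (CA1InvB_0 i)
noncomputable def CA1Inv (i : Nat) : Nat := Nat.land (Nat.shiftRight (CA1InvB (Nat.shiftRight i 6)) (Nat.mul 24 (Nat.land i 63))) 16777215
/-- Generators of a level. -/
def CA2G : List (List Nat) := [[3, 0, 2, 13, 0, 16, 2, 11, 1], [3, 1, 3, 3, 1, 14, 13, 3, 1, 1], [1, 3, 3, 14, 1, 16, 15, 2, 1, 1], [0, 11, 2, 13, 14, 13]]
noncomputable def CA2P_0 (i : Nat) : Nat := (Bool.rec (motive := fun _ => Nat) (Bool.rec (motive := fun _ => Nat) (Bool.rec (motive := fun _ => Nat) (Bool.rec (motive := fun _ => Nat) (Bool.rec (motive := fun _ => Nat) (0x7bc) (Bool.rec (motive := fun _ => Nat) (0x6ab) (0x1000000000163) (Nat.ble 2 i)) (Nat.ble 1 i)) (Bool.rec (motive := fun _ => Nat) (Bool.rec (motive := fun _ => Nat) (0x2000000000b57) (0x300000000083c) (Nat.ble 4 i)) (Bool.rec (motive := fun _ => Nat) (0x10008cb) (0x1000001000566) (Nat.ble 6 i)) (Nat.ble 5 i)) (Nat.ble 3 i)) (Bool.rec (motive := fun _ => Nat) (Bool.rec (motive := fun _ => Nat) (Bool.rec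 (motive := fun _ => Nat) (0x20000010002dd) (0x3000001000191) (Nat.ble 8 i)) (Bool.rec (motive := fun _ => Nat) (0x200007b) (0x10000020006f9) (Nat.ble 10 i)) (Nat.ble 9 i)) (Bool.rec (motive := fun _ => Nat) (Bool.rec (motive := fun _ => Nat) (0x200000200053b) (0x3000002000455) (Nat.ble 12 i)) (Bool.rec (motive := fun _ => Nat) (0x1000003000847) (0x20000030009a0) (Nat.ble 14 i)) (Nat.ble 13 i)) (Nat.ble 11 i)) (Nat.ble 7 i)) (Bool.rec (motive := fun _ => Nat) (Bool.rec (motive := fun _ => Nat) (Bool.rec (motive := fun _ => Nat) (0x30000030002a8) (Bool.rec (motive := fun _ => Nat) (0x4000cc1) (0x20000040008fd) (Nat.ble 17 i)) (Nat.ble 16 i)) (Bool.rec (motive := fun _ => Nat) (Bool.rec (motive := fun _ => Nat) (0x3000004000d26) (0x5000980) (Nat.ble 19 i)) (Bool.rec (motive := fun _ => Nat) (0x10000050000fd) (0x200000500001c) (Nat.ble 21 i)) (Nat.ble 20 i)) (Nat.ble 18 i)) (Bool.rec (motive := fun _ => Nat) (Bool.rec (motive := fun _ => Nat) (Bool.rec (motive := fun _ => Nat) (0x300000500064e)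 (0x6000134) (Nat.ble 23 i)) (Bool.rec (motive := fun _ => Nat) (0x10000060006d9) (0x200000600087f) (Nat.ble 25 i)) (Nat.ble 24 i)) (Bool.rec (motive := fun _ => Nat) (Bool.rec (motive := fun _ => Nat) (0x3000006000286) (0x1000007000c1b) (Nat.ble 27 i)) (Bool.rec (motive := fun _ => Nat) (0x2000007000de5) (0x30000070000eb) (Nat.ble 29 i)) (Nat.ble 28 i)) (Nat.ble 26 i)) (Nat.ble 22 i)) (Nat.ble 15 i)) (Bool.rec (motive := fun _ => Nat) (Bool.rec (motive := fun _ => Nat) (Bool.rec (motive := fun _ => Nat) (Bool.rec (motive := fun _ => Nat) (0x8000b2d) (Bool.rec (motive := fun _ => Nat) (0x200000800054a) (0x3000008000958) (Nat.ble 32 i)) (Nat.ble 31 i)) (Bool.rec (motive := fun _ => Nat) (Bool.rec (motive := fun _ => Nat) (0x9000bee) (0x1000009000c5b) (Nat.ble 34 i)) (Bool.rec (motive := fun _ => Nat) (0x2000009000351) (0x300000900003d) (Nat.ble 36 i)) (Nat.ble 35 i)) (Nat.ble 33 i)) (Bool.rec (motive := fun _ => Nat) (Bool.rec (motive := fun _ => Nat) (Bool.rec (motive := fun _ => Nat) (0xa000a86)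 (0x100000a000b19) (Nat.ble 38 i)) (Bool.rec (motive := fun _ => Nat) (0x200000a0003d1) (0x300000a000673) (Nat.ble 40 i)) (Nat.ble 39 i)) (Bool.rec (motive := fun _ => Nat) (Bool.rec (motive := fun _ => Nat) (0x100000b000c20) (0x200000b000d39) (Nat.ble 42 i)) (Bool.rec (motive := fun _ => Nat) (0x300000b0006c8) (0x200000c00041f) (Nat.ble 44 i)) (Nat.ble 43 i)) (Nat.ble 41 i)) (Nat.ble 37 i)) (Bool.rec (motive := fun _ => Nat) (Bool.rec (motive := fun _ => Nat) (Bool.rec (motive := fun _ => Nat) (0x300000c000762) (Bool.rec (motive := fun _ => Nat) (0xd000c7b) (0x200000d0009ac) (Nat.ble 47 i)) (Nat.ble 46 i)) (Bool.rec (motive := fun _ => Nat) (Bool.rec (motive := fun _ => Nat) (0x300000d000c3d) (0x300000e000249) (Nat.ble 49 i)) (Bool.rec (motive := fun _ => Nat) (0xf000755) (0x200000f000cee) (Nat.ble 51 i)) (Nat.ble 50 i)) (Nat.ble 48 i)) (Bool.rec (motive := fun _ => Nat) (Bool.rec (motive := fun _ => Nat) (Bool.rec (motive := fun _ => Nat) (0x300000f000721) (0x10000dfb) (Nat.ble 53 i)) (Bool.rec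 (motive := fun _ => Nat) (0x1000010000241) (0x2000010000679) (Nat.ble 55 i)) (Nat.ble 54 i)) (Bool.rec (motive := fun _ => Nat) (Bool.rec (motive := fun _ => Nat) (0x3000010000f28) (0x2000011000080) (Nat.ble 57 i)) (Bool.rec (motive := fun _ => Nat) (0x3000011000ce4) (0x1200069c) (Nat.ble 59 i)) (Nat.ble 58 i)) (Nat.ble 56 i)) (Nat.ble 52 i)) (Nat.ble 45 i)) (Nat.ble 30 i))
noncomputable def CA2P_1 (i : Nat) : Nat := (Bool.rec (motive := fun _ => Nat) (Bool.rec (motive := fun _ => Nat) (Bool.rec (motive := fun _ => Nat) (Bool.rec (motive := fun _ => Nat) (Bool.rec (motive := fun _ => Nat) (0x2000012000b7d) (Bool.rec (motive := fun _ => Nat) (0x13000347) (0x1000013000b4c) (Nat.ble 62 i)) (Nat.ble 61 i)) (Bool.rec (motive := fun _ => Nat) (Bool.rec (motive := fun _ => Nat) (0x20000130006e7) (0x300001300047c) (Nat.ble 64 i)) (Bool.rec (motive := fun _ => Nat) (0x1400010d) (0x1000014000c1a) (Nat.ble 66 i)) (Nat.ble 65 i)) (Nat.ble 63 i)) (Bool.rec (motive := fun _ => Nat) (Bool.rec (motive := fun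 _ => Nat) (Bool.rec (motive := fun _ => Nat) (0x2000014000b6f) (0x3000014000c8a) (Nat.ble 68 i)) (Bool.rec (motive := fun _ => Nat) (0x1000015000c5c) (0x2000015000689) (Nat.ble 70 i)) (Nat.ble 69 i)) (Bool.rec (motive := fun _ => Nat) (Bool.rec (motive := fun _ => Nat) (0x300001500026b) (0x160008f8) (Nat.ble 72 i)) (Bool.rec (motive := fun _ => Nat) (0x20000160006a4) (0x300001600037d) (Nat.ble 74 i)) (Nat.ble 73 i)) (Nat.ble 71 i)) (Nat.ble 67 i)) (Bool.rec (motive := fun _ => Nat) (Bool.rec (motive := fun _ => Nat) (Bool.rec (motive := fun _ => Nat) (0x17000507) (Bool.rec (motive := fun _ => Nat) (0x10000170009ed) (0x2000017000285) (Nat.ble 77 i)) (Nat.ble 76 i)) (Bool.rec (motive := fun _ => Nat) (Bool.rec (motive := fun _ => Nat) (0x30000170006c9) (0x1800084d) (Nat.ble 79 i)) (Bool.rec (motive := fun _ => Nat) (0x1000018000bcf) (0x20000180006fd) (Nat.ble 81 i)) (Nat.ble 80 i)) (Nat.ble 78 i)) (Bool.rec (motive := fun _ => Nat) (Bool.rec (motive := fun _ => Nat) (Bool.rec (motive := fun _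 => Nat) (0x300001800042a) (0x1000019000e9e) (Nat.ble 83 i)) (Bool.rec (motive := fun _ => Nat) (0x20000190008db) (0x30000190002a4) (Nat.ble 85 i)) (Nat.ble 84 i)) (Bool.rec (motive := fun _ => Nat) (Bool.rec (motive := fun _ => Nat) (0x200001a000250) (0x300001a000744) (Nat.ble 87 i)) (Bool.rec (motive := fun _ => Nat) (0x1b0006f8) (0x200001b00097d) (Nat.ble 89 i)) (Nat.ble 88 i)) (Nat.ble 86 i)) (Nat.ble 82 i)) (Nat.ble 75 i)) (Bool.rec (motive := fun _ => Nat) (Bool.rec (motive := fun _ => Nat) (Bool.rec (motive := fun _ => Nat) (Bool.rec (motive := fun _ => Nat) (0x300001b000bf5) (Bool.rec (motive := fun _ => Nat) (0x300001c000e68) (0x1d000c27) (Nat.ble 92 i)) (Nat.ble 91 i)) (Bool.rec (motive := fun _ => Nat) (Bool.rec (motive := fun _ => Nat) (0x200001d00005b) (0x300001d000b7c) (Nat.ble 94 i)) (Bool.rec (motive := fun _ => Nat) (0x200001e00089b) (0x200001f000dc8) (Nat.ble 96 i)) (Nat.ble 95 i)) (Nat.ble 93 i)) (Bool.rec (motive := fun _ => Nat) (Bool.rec (motive := fun _ => Nat) (Bool.rec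 (motive := fun _ => Nat) (0x300001f000efc) (0x2000024b) (Nat.ble 98 i)) (Bool.rec (motive := fun _ => Nat) (0x20000200002db) (0x2100043b) (Nat.ble 100 i)) (Nat.ble 99 i)) (Bool.rec (motive := fun _ => Nat) (Bool.rec (motive := fun _ => Nat) (0x1000021000af3) (0x3000021000d4d) (Nat.ble 102 i)) (Bool.rec (motive := fun _ => Nat) (0x22000b0b) (0x1000022000b81) (Nat.ble 104 i)) (Nat.ble 103 i)) (Nat.ble 101 i)) (Nat.ble 97 i)) (Bool.rec (motive := fun _ => Nat) (Bool.rec (motive := fun _ => Nat) (Bool.rec (motive := fun _ => Nat) (0x200002200026a) (Bool.rec (motive := fun _ => Nat) (0x30000220006fa) (0x100002300045f) (Nat.ble 107 i)) (Nat.ble 106 i)) (Bool.rec (motive := fun _ => Nat) (Bool.rec (motive := fun _ => Nat) (0x2000023000bc7) (0x24000d4b) (Nat.ble 109 i)) (Bool.rec (motive := fun _ => Nat) (0x3000024000e6f) (0x1000025000cec) (Nat.ble 111 i)) (Nat.ble 110 i)) (Nat.ble 108 i)) (Bool.rec (motive := fun _ => Nat) (Bool.rec (motive := fun _ => Nat) (Bool.rec (motive := fun _ => Nat) (0x2000025000ecb)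 (0x100002600092b) (Nat.ble 113 i)) (Bool.rec (motive := fun _ => Nat) (0x200002600063f) (0x2000027000269) (Nat.ble 115 i)) (Nat.ble 114 i)) (Bool.rec (motive := fun _ => Nat) (Bool.rec (motive := fun _ => Nat) (0x300002700062d) (0x2000028000cb3) (Nat.ble 117 i)) (Bool.rec (motive := fun _ => Nat) (0x2900063b) (0x2000029000e72) (Nat.ble 119 i)) (Nat.ble 118 i)) (Nat.ble 116 i)) (Nat.ble 112 i)) (Nat.ble 105 i)) (Nat.ble 90 i))
noncomputable def CA2P_2 (i : Nat) : Nat := (Bool.rec (motive := fun _ => Nat) (Bool.rec (motive := fun _ => Nat) (Bool.rec (motive := fun _ => Nat) (Bool.rec (motive := fun _ => Nat) (Bool.rec (motive := fun _ => Nat) (0x3000029000b62) (Bool.rec (motive := fun _ => Nat) (0x300002a00096e) (0x2b000355) (Nat.ble 122 i)) (Nat.ble 121 i)) (Bool.rec (motive := fun _ => Nat) (Bool.rec (motive := fun _ => Nat) (0x200002b00031a) (0x300002b0000db) (Nat.ble 124 i)) (Bool.rec (motive := fun _ => Nat) (0x200002c000c33) (0x300002c000d8e) (Nat.ble 126 i)) (Nat.ble 125 i)) (Nat.ble 123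 i)) (Bool.rec (motive := fun _ => Nat) (Bool.rec (motive := fun _ => Nat) (Bool.rec (motive := fun _ => Nat) (0x2d0005e0) (0x200002d00047a) (Nat.ble 128 i)) (Bool.rec (motive := fun _ => Nat) (0x100002e000180) (0x200002e000c05) (Nat.ble 130 i)) (Nat.ble 129 i)) (Bool.rec (motive := fun _ => Nat) (Bool.rec (motive := fun _ => Nat) (0x100002f00090d) (0x300002f0002eb) (Nat.ble 132 i)) (Bool.rec (motive := fun _ => Nat) (0x200003000066f) (0x3000030000b67) (Nat.ble 134 i)) (Nat.ble 133 i)) (Nat.ble 131 i)) (Nat.ble 127 i)) (Bool.rec (motive := fun _ => Nat) (Bool.rec (motive := fun _ => Nat) (Bool.rec (motive := fun _ => Nat) (0x3100097e) (Bool.rec (motive := fun _ => Nat) (0x2000031000919) (0x30000310006ca) (Nat.ble 137 i)) (Nat.ble 136 i)) (Bool.rec (motive := fun _ => Nat) (Bool.rec (motive := fun _ => Nat) (0x200003200030b) (0x30000320003a1) (Nat.ble 139 i)) (Bool.rec (motive := fun _ => Nat) (0x200003300093b) (0x30000330002a9) (Nat.ble 141 i)) (Nat.ble 140 i)) (Nat.ble 138 i)) (Bool.rec (motive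 := fun _ => Nat) (Bool.rec (motive := fun _ => Nat) (Bool.rec (motive := fun _ => Nat) (0x340006ed) (0x20000340003b1) (Nat.ble 143 i)) (Bool.rec (motive := fun _ => Nat) (0x35000b4a) (0x300003500070f) (Nat.ble 145 i)) (Nat.ble 144 i)) (Bool.rec (motive := fun _ => Nat) (Bool.rec (motive := fun _ => Nat) (0x36000e85) (0x200003600057f) (Nat.ble 147 i)) (Bool.rec (motive := fun _ => Nat) (0x3000036000da9) (0x1000037000932) (Nat.ble 149 i)) (Nat.ble 148 i)) (Nat.ble 146 i)) (Nat.ble 142 i)) (Nat.ble 135 i)) (Bool.rec (motive := fun _ => Nat) (Bool.rec (motive := fun _ => Nat) (Bool.rec (motive := fun _ => Nat) (Bool.rec (motive := fun _ => Nat) (0x2000037000923) (Bool.rec (motive := fun _ => Nat) (0x30000370002c9) (0x30000380007dd) (Nat.ble 152 i)) (Nat.ble 151 i)) (Bool.rec (motive := fun _ => Nat) (Bool.rec (motive := fun _ => Nat) (0x3000039000b06) (0x3a000bc1) (Nat.ble 154 i)) (Bool.rec (motive := fun _ => Nat) (0x300003a000873) (0x3b0006ec) (Nat.ble 156 i)) (Nat.ble 155 i)) (Nat.ble 153 i))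 (Bool.rec (motive := fun _ => Nat) (Bool.rec (motive := fun _ => Nat) (Bool.rec (motive := fun _ => Nat) (0x100003b000efa) (0x200003b000251) (Nat.ble 158 i)) (Bool.rec (motive := fun _ => Nat) (0x300003b000ea3) (0x200003c000b2e) (Nat.ble 160 i)) (Nat.ble 159 i)) (Bool.rec (motive := fun _ => Nat) (Bool.rec (motive := fun _ => Nat) (0x300003c0003d3) (0x3d00011a) (Nat.ble 162 i)) (Bool.rec (motive := fun _ => Nat) (0x100003d000dca) (0x300003d000157) (Nat.ble 164 i)) (Nat.ble 163 i)) (Nat.ble 161 i)) (Nat.ble 157 i)) (Bool.rec (motive := fun _ => Nat) (Bool.rec (motive := fun _ => Nat) (Bool.rec (motive := fun _ => Nat) (0x3e000288) (Bool.rec (motive := fun _ => Nat) (0x100003e0000df) (0x300003e000bd2) (Nat.ble 167 i)) (Nat.ble 166 i)) (Bool.rec (motive := fun _ => Nat) (Bool.rec (motive := fun _ => Nat) (0x100003f000f0b) (0x200003f000dbe) (Nat.ble 169 i)) (Bool.rec (motive := fun _ => Nat) (0x4000093d) (0x3000040000906) (Nat.ble 171 i)) (Nat.ble 170 i)) (Nat.ble 168 i)) (Bool.rec (motive := fun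 _ => Nat) (Bool.rec (motive := fun _ => Nat) (Bool.rec (motive := fun _ => Nat) (0x1000041000280) (0x2000041000b23) (Nat.ble 173 i)) (Bool.rec (motive := fun _ => Nat) (0x4200034d) (0x1000042000231) (Nat.ble 175 i)) (Nat.ble 174 i)) (Bool.rec (motive := fun _ => Nat) (Bool.rec (motive := fun _ => Nat) (0x2000042000478) (0x20000430006a5) (Nat.ble 177 i)) (Bool.rec (motive := fun _ => Nat) (0x300004300010b) (0x3000044000b50) (Nat.ble 179 i)) (Nat.ble 178 i)) (Nat.ble 176 i)) (Nat.ble 172 i)) (Nat.ble 165 i)) (Nat.ble 150 i))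
noncomputable def CA2P_3 (i : Nat) : Nat := (Bool.rec (motive := fun _ => Nat) (Bool.rec (motive := fun _ => Nat) (Bool.rec (motive := fun _ => Nat) (Bool.rec (motive := fun _ => Nat) (Bool.rec (motive := fun _ => Nat) (0x450006e4) (Bool.rec (motive := fun _ => Nat) (0x20000450002ae) (0x3000045000c59) (Nat.ble 182 i)) (Nat.ble 181 i)) (Bool.rec (motive := fun _ => Nat) (Bool.rec (motive := fun _ => Nat) (0x3000046000284) (0x47000d4a) (Nat.ble 184 i)) (Bool.rec (motive := fun _ => Nat) (0x2000047000e78) (0x3000047000d91) (Nat.ble 186 i)) (Nat.ble 185 i)) (Nat.ble 183 i)) (Bool.rec (motive := fun _ => Nat) (Bool.rec (motive := fun _ => Nat) (Bool.rec (motive := fun _ => Nat) (0x20000480009cb) (0x2000049000123) (Nat.ble 188 i)) (Bool.rec (motive := fun _ => Nat) (0x300004900067d) (0x4a0007b4) (Nat.ble 190 i)) (Nat.ble 189 i)) (Bool.rec (motive := fun _ => Nat) (Bool.rec (motive := fun _ => Nat) (0x200004a000b70) (0x4b000de0) (Nat.ble 192 i)) (Bool.rec (motive := fun _ => Nat) (0x100004b000165)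 (0x300004b000a48) (Nat.ble 194 i)) (Nat.ble 193 i)) (Nat.ble 191 i)) (Nat.ble 187 i)) (Bool.rec (motive := fun _ => Nat) (Bool.rec (motive := fun _ => Nat) (Bool.rec (motive := fun _ => Nat) (0x4c000e32) (Bool.rec (motive := fun _ => Nat) (0x200004c000b00) (0x300004c000648) (Nat.ble 197 i)) (Nat.ble 196 i)) (Bool.rec (motive := fun _ => Nat) (Bool.rec (motive := fun _ => Nat) (0x200004d000ee7) (0x4e000403) (Nat.ble 199 i)) (Bool.rec (motive := fun _ => Nat) (0x300004e0003fd) (0x200004f000b36) (Nat.ble 201 i)) (Nat.ble 200 i)) (Nat.ble 198 i)) (Bool.rec (motive := fun _ => Nat) (Bool.rec (motive := fun _ => Nat) (Bool.rec (motive := fun _ => Nat) (0x200005000015f) (0x2000051000a7a) (Nat.ble 203 i)) (Bool.rec (motive := fun _ => Nat) (0x3000051000727) (0x20000520007b5) (Nat.ble 205 i)) (Nat.ble 204 i)) (Bool.rec (motive := fun _ => Nat) (Bool.rec (motive := fun _ => Nat) (0x5300031f) (0x3000053000827) (Nat.ble 207 i)) (Bool.rec (motive := fun _ => Nat) (0x300005400074b) (0x55000ea4) (Nat.ble 209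 i)) (Nat.ble 208 i)) (Nat.ble 206 i)) (Nat.ble 202 i)) (Nat.ble 195 i)) (Bool.rec (motive := fun _ => Nat) (Bool.rec (motive := fun _ => Nat) (Bool.rec (motive := fun _ => Nat) (Bool.rec (motive := fun _ => Nat) (0x2000055000e49) (Bool.rec (motive := fun _ => Nat) (0x300005500009d) (0x200005600052d) (Nat.ble 212 i)) (Nat.ble 211 i)) (Bool.rec (motive := fun _ => Nat) (Bool.rec (motive := fun _ => Nat) (0x57000a0d) (0x20000570007a8) (Nat.ble 214 i)) (Bool.rec (motive := fun _ => Nat) (0x1000058000942) (0x2000058000976) (Nat.ble 216 i)) (Nat.ble 215 i)) (Nat.ble 213 i)) (Bool.rec (motive := fun _ => Nat) (Bool.rec (motive := fun _ => Nat) (Bool.rec (motive := fun _ => Nat) (0x300005900059b) (0x200005a00077f) (Nat.ble 218 i)) (Bool.rec (motive := fun _ => Nat) (0x300005a000c65) (0x5b0002e5) (Nat.ble 220 i)) (Nat.ble 219 i)) (Bool.rec (motive := fun _ => Nat) (Bool.rec (motive := fun _ => Nat) (0x200005b000918) (0x300005b0000f5) (Nat.ble 222 i)) (Bool.rec (motive := fun _ => Nat) (0x200005c00050e)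 (0x300005d000a2e) (Nat.ble 224 i)) (Nat.ble 223 i)) (Nat.ble 221 i)) (Nat.ble 217 i)) (Bool.rec (motive := fun _ => Nat) (Bool.rec (motive := fun _ => Nat) (Bool.rec (motive := fun _ => Nat) (0x5e00079e) (Bool.rec (motive := fun _ => Nat) (0x200005e00046d) (0x100005f000475) (Nat.ble 227 i)) (Nat.ble 226 i)) (Bool.rec (motive := fun _ => Nat) (Bool.rec (motive := fun _ => Nat) (0x200005f000043) (0x30000600001a3) (Nat.ble 229 i)) (Bool.rec (motive := fun _ => Nat) (0x610007df) (0x3000061000be6) (Nat.ble 231 i)) (Nat.ble 230 i)) (Nat.ble 228 i)) (Bool.rec (motive := fun _ => Nat) (Bool.rec (motive := fun _ => Nat) (Bool.rec (motive := fun _ => Nat) (0x62000b9c) (0x100006200071a) (Nat.ble 233 i)) (Bool.rec (motive := fun _ => Nat) (0x2000062000b7e) (0x3000062000683) (Nat.ble 235 i)) (Nat.ble 234 i)) (Bool.rec (motive := fun _ => Nat) (Bool.rec (motive := fun _ => Nat) (0x3000063000868) (0x64000c37) (Nat.ble 237 i)) (Bool.rec (motive := fun _ => Nat) (0x30000640007f6) (0x65000dec) (Nat.ble 239 i))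 (Nat.ble 238 i)) (Nat.ble 236 i)) (Nat.ble 232 i)) (Nat.ble 225 i)) (Nat.ble 210 i))
noncomputable def CA2P_4 (i : Nat) : Nat := (Bool.rec (motive := fun _ => Nat) (Bool.rec (motive := fun _ => Nat) (Bool.rec (motive := fun _ => Nat) (Bool.rec (motive := fun _ => Nat) (Bool.rec (motive := fun _ => Nat) (0x30000650007e7) (Bool.rec (motive := fun _ => Nat) (0x660001ee) (0x3000066000153) (Nat.ble 242 i)) (Nat.ble 241 i)) (Bool.rec (motive := fun _ => Nat) (Bool.rec (motive := fun _ => Nat) (0x67000150) (0x1000067000064) (Nat.ble 244 i)) (Bool.rec (motive := fun _ => Nat) (0x20000670003ee) (0x1000068000508) (Nat.ble 246 i)) (Nat.ble 245 i)) (Nat.ble 243 i)) (Bool.rec (motive := fun _ => Nat) (Bool.rec (motive := fun _ => Nat) (Bool.rec (motive := fun _ => Nat) (0x200006800043f) (0x1000069000e71) (Nat.ble 248 i)) (Bool.rec (motive := fun _ => Nat) (0x2000069000300) (0x30000690007f2) (Nat.ble 250 i)) (Nat.ble 249 i)) (Bool.rec (motive := fun _ => Nat) (Bool.rec (motive := fun _ => Nat) (0x200006a000551)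 (0x200006b0006a0) (Nat.ble 252 i)) (Bool.rec (motive := fun _ => Nat) (0x300006b000805) (0x6e000bf9) (Nat.ble 254 i)) (Nat.ble 253 i)) (Nat.ble 251 i)) (Nat.ble 247 i)) (Bool.rec (motive := fun _ => Nat) (Bool.rec (motive := fun _ => Nat) (Bool.rec (motive := fun _ => Nat) (0x200006e000042) (Bool.rec (motive := fun _ => Nat) (0x6f000a91) (0x100006f000dfa) (Nat.ble 257 i)) (Nat.ble 256 i)) (Bool.rec (motive := fun _ => Nat) (Bool.rec (motive := fun _ => Nat) (0x200006f000886) (0x1000070000637) (Nat.ble 259 i)) (Bool.rec (motive := fun _ => Nat) (0x2000070000593) (0x2000071000060) (Nat.ble 261 i)) (Nat.ble 260 i)) (Nat.ble 258 i)) (Bool.rec (motive := fun _ => Nat) (Bool.rec (motive := fun _ => Nat) (Bool.rec (motive := fun _ => Nat) (0x30000730004f9) (0x2000074000cbc) (Nat.ble 263 i)) (Bool.rec (motive := fun _ => Nat) (0x3000074000cc4) (0x2000075000164) (Nat.ble 265 i)) (Nat.ble 264 i)) (Bool.rec (motive := fun _ => Nat) (Bool.rec (motive := fun _ => Nat) (0x3000075000240) (0x1000076000ec3)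 (Nat.ble 267 i)) (Bool.rec (motive := fun _ => Nat) (0x2000076000d0f) (0x3000077000bb5) (Nat.ble 269 i)) (Nat.ble 268 i)) (Nat.ble 266 i)) (Nat.ble 262 i)) (Nat.ble 255 i)) (Bool.rec (motive := fun _ => Nat) (Bool.rec (motive := fun _ => Nat) (Bool.rec (motive := fun _ => Nat) (Bool.rec (motive := fun _ => Nat) (0x3000078000004) (Bool.rec (motive := fun _ => Nat) (0x200007a000da1) (0x200007b000821) (Nat.ble 272 i)) (Nat.ble 271 i)) (Bool.rec (motive := fun _ => Nat) (Bool.rec (motive := fun _ => Nat) (0x300007b000898) (0x200007c000e6c) (Nat.ble 274 i)) (Bool.rec (motive := fun _ => Nat) (0x300007d000701) (0x7e000073) (Nat.ble 276 i)) (Nat.ble 275 i)) (Nat.ble 273 i)) (Bool.rec (motive := fun _ => Nat) (Bool.rec (motive := fun _ => Nat) (Bool.rec (motive := fun _ => Nat) (0x300007e000a40) (0x7f000ea7) (Nat.ble 278 i)) (Bool.rec (motive := fun _ => Nat) (0x100007f000c70) (0x200007f000404) (Nat.ble 280 i)) (Nat.ble 279 i)) (Bool.rec (motive := fun _ => Nat) (Bool.rec (motive := fun _ => Nat) (0x300007f000d04)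 (0x30000800000d9) (Nat.ble 282 i)) (Bool.rec (motive := fun _ => Nat) (0x10000810009af) (0x20000810003a8) (Nat.ble 284 i)) (Nat.ble 283 i)) (Nat.ble 281 i)) (Nat.ble 277 i)) (Bool.rec (motive := fun _ => Nat) (Bool.rec (motive := fun _ => Nat) (Bool.rec (motive := fun _ => Nat) (0x1000082000985) (Bool.rec (motive := fun _ => Nat) (0x8300076d) (0x30000830007a6) (Nat.ble 287 i)) (Nat.ble 286 i)) (Bool.rec (motive := fun _ => Nat) (Bool.rec (motive := fun _ => Nat) (0x84000680) (0x200008400025e) (Nat.ble 289 i)) (Bool.rec (motive := fun _ => Nat) (0x2000085000b18) (0x8600045d) (Nat.ble 291 i)) (Nat.ble 290 i)) (Nat.ble 288 i)) (Bool.rec (motive := fun _ => Nat) (Bool.rec (motive := fun _ => Nat) (Bool.rec (motive := fun _ => Nat) (0x2000086000921) (0x2000087000d46) (Nat.ble 293 i)) (Bool.rec (motive := fun _ => Nat) (0x30000870008f4) (0x30000880000d5) (Nat.ble 295 i)) (Nat.ble 294 i)) (Bool.rec (motive := fun _ => Nat) (Bool.rec (motive := fun _ => Nat) (0x2000089000b38) (0x200008a0007ca) (Nat.ble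 297 i)) (Bool.rec (motive := fun _ => Nat) (0x300008a0002d8) (0x300008c0008de) (Nat.ble 299 i)) (Nat.ble 298 i)) (Nat.ble 296 i)) (Nat.ble 292 i)) (Nat.ble 285 i)) (Nat.ble 270 i))
noncomputable def CA2P_5 (i : Nat) : Nat := (Bool.rec (motive := fun _ => Nat) (Bool.rec (motive := fun _ => Nat) (Bool.rec (motive := fun _ => Nat) (Bool.rec (motive := fun _ => Nat) (Bool.rec (motive := fun _ => Nat) (0x100008e00099a) (Bool.rec (motive := fun _ => Nat) (0x200008e000696) (0x300008f000aa9) (Nat.ble 302 i)) (Nat.ble 301 i)) (Bool.rec (motive := fun _ => Nat) (Bool.rec (motive := fun _ => Nat) (0x1000090000a3c) (0x20000910009a8) (Nat.ble 304 i)) (Bool.rec (motive := fun _ => Nat) (0x92000411) (0x2000092000b41) (Nat.ble 306 i)) (Nat.ble 305 i)) (Nat.ble 303 i)) (Bool.rec (motive := fun _ => Nat) (Bool.rec (motive := fun _ => Nat) (Bool.rec (motive := fun _ => Nat) (0x3000092000bfa) (0x10000930007a5) (Nat.ble 308 i)) (Bool.rec (motive := fun _ => Nat) (0x300009300066b) (0x2000094000227) (Nat.ble 310 i))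 (Nat.ble 309 i)) (Bool.rec (motive := fun _ => Nat) (Bool.rec (motive := fun _ => Nat) (0x95000023) (0x3000095000151) (Nat.ble 312 i)) (Bool.rec (motive := fun _ => Nat) (0x97000815) (0x2000097000158) (Nat.ble 314 i)) (Nat.ble 313 i)) (Nat.ble 311 i)) (Nat.ble 307 i)) (Bool.rec (motive := fun _ => Nat) (Bool.rec (motive := fun _ => Nat) (Bool.rec (motive := fun _ => Nat) (0x3000097000d4f) (Bool.rec (motive := fun _ => Nat) (0x98000be0) (0x99000d5a) (Nat.ble 317 i)) (Nat.ble 316 i)) (Bool.rec (motive := fun _ => Nat) (Bool.rec (motive := fun _ => Nat) (0x2000099000ef2) (0x300009a00065e) (Nat.ble 319 i)) (Bool.rec (motive := fun _ => Nat) (0x9b000788) (0x200009b00027d) (Nat.ble 321 i)) (Nat.ble 320 i)) (Nat.ble 318 i)) (Bool.rec (motive := fun _ => Nat) (Bool.rec (motive := fun _ => Nat) (Bool.rec (motive := fun _ => Nat) (0x9c000b47) (0x300009d00045e) (Nat.ble 323 i)) (Bool.rec (motive := fun _ => Nat) (0x200009e00047d) (0x300009e000cae) (Nat.ble 325 i)) (Nat.ble 324 i)) (Bool.rec (motive :=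 fun _ => Nat) (Bool.rec (motive := fun _ => Nat) (0xa1000263) (0x30000a10005a3) (Nat.ble 327 i)) (Bool.rec (motive := fun _ => Nat) (0xa2000017) (0x30000a20006e5) (Nat.ble 329 i)) (Nat.ble 328 i)) (Nat.ble 326 i)) (Nat.ble 322 i)) (Nat.ble 315 i)) (Bool.rec (motive := fun _ => Nat) (Bool.rec (motive := fun _ => Nat) (Bool.rec (motive := fun _ => Nat) (Bool.rec (motive := fun _ => Nat) (0xa3000d1b) (Bool.rec (motive := fun _ => Nat) (0x30000a30000a4) (0xa40005cb) (Nat.ble 332 i)) (Nat.ble 331 i)) (Bool.rec (motive := fun _ => Nat) (Bool.rec (motive := fun _ => Nat) (0x30000a40004fa) (0x10000a500019c) (Nat.ble 334 i)) (Bool.rec (motive := fun _ => Nat) (0xa8000bbf) (0x30000a80006d1) (Nat.ble 336 i)) (Nat.ble 335 i)) (Nat.ble 333 i)) (Bool.rec (motive := fun _ => Nat) (Bool.rec (motive := fun _ => Nat) (Bool.rec (motive := fun _ => Nat) (0xac00092c) (0x20000ac000c56) (Nat.ble 338 i)) (Bool.rec (motive := fun _ => Nat) (0x30000ac0006f7) (0x20000ad000187) (Nat.ble 340 i)) (Nat.ble 339 i)) (Bool.rec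 (motive := fun _ => Nat) (Bool.rec (motive := fun _ => Nat) (0x20000ae000d4c) (0x20000af00064c) (Nat.ble 342 i)) (Bool.rec (motive := fun _ => Nat) (0xb2000b3a) (0x20000b20008fa) (Nat.ble 344 i)) (Nat.ble 343 i)) (Nat.ble 341 i)) (Nat.ble 337 i)) (Bool.rec (motive := fun _ => Nat) (Bool.rec (motive := fun _ => Nat) (Bool.rec (motive := fun _ => Nat) (0x20000b3000458) (Bool.rec (motive := fun _ => Nat) (0x30000b6000e66) (0xb700059f) (Nat.ble 347 i)) (Nat.ble 346 i)) (Bool.rec (motive := fun _ => Nat) (Bool.rec (motive := fun _ => Nat) (0x30000b7000cdb) (0x20000b8000041) (Nat.ble 349 i)) (Bool.rec (motive := fun _ => Nat) (0x30000b900032e) (0x20000bb0000e2) (Nat.ble 351 i)) (Nat.ble 350 i)) (Nat.ble 348 i)) (Bool.rec (motive := fun _ => Nat) (Bool.rec (motive := fun _ => Nat) (Bool.rec (motive := fun _ => Nat) (0x30000bc000159) (0xbd000535) (Nat.ble 353 i)) (Bool.rec (motive := fun _ => Nat) (0xbe000c2f) (0x20000be000b49) (Nat.ble 355 i)) (Nat.ble 354 i)) (Bool.rec (motive := fun _ => Nat) (Bool.rec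 (motive := fun _ => Nat) (0x30000bf0003d9) (0xc1000e87) (Nat.ble 357 i)) (Bool.rec (motive := fun _ => Nat) (0x30000c10008d2) (0xc2000ba8) (Nat.ble 359 i)) (Nat.ble 358 i)) (Nat.ble 356 i)) (Nat.ble 352 i)) (Nat.ble 345 i)) (Nat.ble 330 i))
noncomputable def CA2P_6 (i : Nat) : Nat := (Bool.rec (motive := fun _ => Nat) (Bool.rec (motive := fun _ => Nat) (Bool.rec (motive := fun _ => Nat) (Bool.rec (motive := fun _ => Nat) (Bool.rec (motive := fun _ => Nat) (0x30000c2000810) (Bool.rec (motive := fun _ => Nat) (0xc3000970) (0x10000c3000cda) (Nat.ble 362 i)) (Nat.ble 361 i)) (Bool.rec (motive := fun _ => Nat) (Bool.rec (motive := fun _ => Nat) (0x20000c300076c) (0x10000c4000d79) (Nat.ble 364 i)) (Bool.rec (motive := fun _ => Nat) (0x30000c400053d) (0xc8000b10) (Nat.ble 366 i)) (Nat.ble 365 i)) (Nat.ble 363 i)) (Bool.rec (motive := fun _ => Nat) (Bool.rec (motive := fun _ => Nat) (Bool.rec (motive := fun _ => Nat) (0x20000c8000d7b) (0x30000cb0008dd) (Nat.ble 368 i)) (Bool.rec (motive := fun _ =>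 Nat) (0x30000cc000028) (0x30000cd000dc2) (Nat.ble 370 i)) (Nat.ble 369 i)) (Bool.rec (motive := fun _ => Nat) (Bool.rec (motive := fun _ => Nat) (0x30000cf00095e) (0x20000d1000c08) (Nat.ble 372 i)) (Bool.rec (motive := fun _ => Nat) (0x20000d200007f) (0x30000d2000b2b) (Nat.ble 374 i)) (Nat.ble 373 i)) (Nat.ble 371 i)) (Nat.ble 367 i)) (Bool.rec (motive := fun _ => Nat) (Bool.rec (motive := fun _ => Nat) (Bool.rec (motive := fun _ => Nat) (0x20000d3000823) (Bool.rec (motive := fun _ => Nat) (0x30000d4000908) (0x10000d50008f9) (Nat.ble 377 i)) (Nat.ble 376 i)) (Bool.rec (motive := fun _ => Nat) (Bool.rec (motive := fun _ => Nat) (0x30000d6000f1e) (0x20000d7000d82) (Nat.ble 379 i)) (Bool.rec (motive := fun _ => Nat) (0xd9000dab) (0x20000d9000863) (Nat.ble 381 i)) (Nat.ble 380 i)) (Nat.ble 378 i)) (Bool.rec (motive := fun _ => Nat) (Bool.rec (motive := fun _ => Nat) (Bool.rec (motive := fun _ => Nat) (0x20000da00004a) (0xdb000b22) (Nat.ble 383 i)) (Bool.rec (motive := fun _ => Nat) (0x20000db000ec2)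 (0x20000dc000e88) (Nat.ble 385 i)) (Nat.ble 384 i)) (Bool.rec (motive := fun _ => Nat) (Bool.rec (motive := fun _ => Nat) (0x30000dd000945) (0x10000e10002c8) (Nat.ble 387 i)) (Bool.rec (motive := fun _ => Nat) (0x20000e1000026) (0x30000e2000667) (Nat.ble 389 i)) (Nat.ble 388 i)) (Nat.ble 386 i)) (Nat.ble 382 i)) (Nat.ble 375 i)) (Bool.rec (motive := fun _ => Nat) (Bool.rec (motive := fun _ => Nat) (Bool.rec (motive := fun _ => Nat) (Bool.rec (motive := fun _ => Nat) (0xe3000dc4) (Bool.rec (motive := fun _ => Nat) (0x30000e3000392) (0xe50008be) (Nat.ble 392 i)) (Nat.ble 391 i)) (Bool.rec (motive := fun _ => Nat) (Bool.rec (motive := fun _ => Nat) (0x20000e5000b44) (0x30000e6000b48) (Nat.ble 394 i)) (Bool.rec (motive := fun _ => Nat) (0xee000974) (0x10000ef00060a) (Nat.ble 396 i)) (Nat.ble 395 i)) (Nat.ble 393 i)) (Bool.rec (motive := fun _ => Nat) (Bool.rec (motive := fun _ => Nat) (Bool.rec (motive := fun _ => Nat) (0x30000f0000870) (0x30000f30002e6) (Nat.ble 398 i)) (Bool.rec (motive := fun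 _ => Nat) (0xf4000b61) (0x20000f400065a) (Nat.ble 400 i)) (Nat.ble 399 i)) (Bool.rec (motive := fun _ => Nat) (Bool.rec (motive := fun _ => Nat) (0x20000f5000af6) (0x20000fa000a10) (Nat.ble 402 i)) (Bool.rec (motive := fun _ => Nat) (0x20000fb00031d) (0xfe000951) (Nat.ble 404 i)) (Nat.ble 403 i)) (Nat.ble 401 i)) (Nat.ble 397 i)) (Bool.rec (motive := fun _ => Nat) (Bool.rec (motive := fun _ => Nat) (Bool.rec (motive := fun _ => Nat) (0x20000fe000882) (Bool.rec (motive := fun _ => Nat) (0x30000ff0006a1) (0x100000eef) (Nat.ble 407 i)) (Nat.ble 406 i)) (Bool.rec (motive := fun _ => Nat) (Bool.rec (motive := fun _ => Nat) (0x2000100000e34) (0x2000101000c9f) (Nat.ble 409 i)) (Bool.rec (motive := fun _ => Nat) (0x1000102000c31) (0x2000103000259) (Nat.ble 411 i)) (Nat.ble 410 i)) (Nat.ble 408 i)) (Bool.rec (motive := fun _ => Nat) (Bool.rec (motive := fun _ => Nat) (Bool.rec (motive := fun _ => Nat) (0x30001030008dc) (0x2000107000ba3) (Nat.ble 413 i)) (Bool.rec (motive := fun _ => Nat) (0x2000108000889)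 (0x10e000a6d) (Nat.ble 415 i)) (Nat.ble 414 i)) (Bool.rec (motive := fun _ => Nat) (Bool.rec (motive := fun _ => Nat) (0x200010e000ec1) (0x200010f000417) (Nat.ble 417 i)) (Bool.rec (motive := fun _ => Nat) (0x3000110000c4c) (0x115000519) (Nat.ble 419 i)) (Nat.ble 418 i)) (Nat.ble 416 i)) (Nat.ble 412 i)) (Nat.ble 405 i)) (Nat.ble 390 i))
noncomputable def CA2P_7 (i : Nat) : Nat := (Bool.rec (motive := fun _ => Nat) (Bool.rec (motive := fun _ => Nat) (Bool.rec (motive := fun _ => Nat) (Bool.rec (motive := fun _ => Nat) (Bool.rec (motive := fun _ => Nat) (0x1160003eb) (Bool.rec (motive := fun _ => Nat) (0x11a0001a1) (0x300011a000bdd) (Nat.ble 422 i)) (Nat.ble 421 i)) (Bool.rec (motive := fun _ => Nat) (Bool.rec (motive := fun _ => Nat) (0x300011c000787) (0x200011d000cb8) (Nat.ble 424 i)) (Bool.rec (motive := fun _ => Nat) (0x300011d0008e5) (0x2000120000121) (Nat.ble 426 i)) (Nat.ble 425 i)) (Nat.ble 423 i)) (Bool.rec (motive := fun _ => Nat) (Bool.rec (motive := fun _ => Nat) (Bool.rec (motive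 := fun _ => Nat) (0x2000121000378) (0x300012300030a) (Nat.ble 428 i)) (Bool.rec (motive := fun _ => Nat) (0x12b000a76) (0x300012c000c4d) (Nat.ble 430 i)) (Nat.ble 429 i)) (Bool.rec (motive := fun _ => Nat) (Bool.rec (motive := fun _ => Nat) (0x300012d000c68) (0x300012e000b8d) (Nat.ble 432 i)) (Bool.rec (motive := fun _ => Nat) (0x12f000189) (0x300012f0002ac) (Nat.ble 434 i)) (Nat.ble 433 i)) (Nat.ble 431 i)) (Nat.ble 427 i)) (Bool.rec (motive := fun _ => Nat) (Bool.rec (motive := fun _ => Nat) (Bool.rec (motive := fun _ => Nat) (0x30001340008e0) (Bool.rec (motive := fun _ => Nat) (0x30001350008e3) (0x300013800097b) (Nat.ble 437 i)) (Nat.ble 436 i)) (Bool.rec (motive := fun _ => Nat) (Bool.rec (motive := fun _ => Nat) (0x13b000dc9) (0x200013d0005af) (Nat.ble 439 i)) (Bool.rec (motive := fun _ => Nat) (0x300013e000efe) (0x3000141000797) (Nat.ble 441 i)) (Nat.ble 440 i)) (Nat.ble 438 i)) (Bool.rec (motive := fun _ => Nat) (Bool.rec (motive := fun _ => Nat) (Bool.rec (motive := fun _ => Nat) (0x145000b13)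 (0x300014500051a) (Nat.ble 443 i)) (Bool.rec (motive := fun _ => Nat) (0x147000af5) (0x14e00043c) (Nat.ble 445 i)) (Nat.ble 444 i)) (Bool.rec (motive := fun _ => Nat) (Bool.rec (motive := fun _ => Nat) (0x200014e000d93) (0x300014e000524) (Nat.ble 447 i)) (Bool.rec (motive := fun _ => Nat) (0x1000151000840) (0x10001520005fb) (Nat.ble 449 i)) (Nat.ble 448 i)) (Nat.ble 446 i)) (Nat.ble 442 i)) (Nat.ble 435 i)) (Bool.rec (motive := fun _ => Nat) (Bool.rec (motive := fun _ => Nat) (Bool.rec (motive := fun _ => Nat) (Bool.rec (motive := fun _ => Nat) (0x3000152000b74) (Bool.rec (motive := fun _ => Nat) (0x200015700052c) (0x200015800085c) (Nat.ble 452 i)) (Nat.ble 451 i)) (Bool.rec (motive := fun _ => Nat) (Bool.rec (motive := fun _ => Nat) (0x300015800061c) (0x200015a000f2d) (Nat.ble 454 i)) (Bool.rec (motive := fun _ => Nat) (0x16000036b) (0x2000160000c77) (Nat.ble 456 i)) (Nat.ble 455 i)) (Nat.ble 453 i)) (Bool.rec (motive := fun _ => Nat) (Bool.rec (motive := fun _ => Nat) (Bool.rec (motive :=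 fun _ => Nat) (0x3000166000399) (0x3000169000cff) (Nat.ble 458 i)) (Bool.rec (motive := fun _ => Nat) (0x200016a0002da) (0x200016e000b32) (Nat.ble 460 i)) (Nat.ble 459 i)) (Bool.rec (motive := fun _ => Nat) (Bool.rec (motive := fun _ => Nat) (0x300016f000687) (0x200017400065b) (Nat.ble 462 i)) (Bool.rec (motive := fun _ => Nat) (0x300017500091a) (0x17a00034e) (Nat.ble 464 i)) (Nat.ble 463 i)) (Nat.ble 461 i)) (Nat.ble 457 i)) (Bool.rec (motive := fun _ => Nat) (Bool.rec (motive := fun _ => Nat) (Bool.rec (motive := fun _ => Nat) (0x300017a000198) (Bool.rec (motive := fun _ => Nat) (0x200017c000715) (0x200017d00095f) (Nat.ble 467 i)) (Nat.ble 466 i)) (Bool.rec (motive := fun _ => Nat) (Bool.rec (motive := fun _ => Nat) (0x2000188000ae4) (0x300018c00058a) (Nat.ble 469 i)) (Bool.rec (motive := fun _ => Nat) (0x200018d0008a5) (0x300018e000295) (Nat.ble 471 i)) (Nat.ble 470 i)) (Nat.ble 468 i)) (Bool.rec (motive := fun _ => Nat) (Bool.rec (motive := fun _ => Nat) (Bool.rec (motive := fun _ => Nat)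 (0x18f000f00) (0x100019000006f) (Nat.ble 473 i)) (Bool.rec (motive := fun _ => Nat) (0x300019f000ba6) (0x1a6000397) (Nat.ble 475 i)) (Nat.ble 474 i)) (Bool.rec (motive := fun _ => Nat) (Bool.rec (motive := fun _ => Nat) (0x1af0006f3) (0x30001af000e4a) (Nat.ble 477 i)) (Bool.rec (motive := fun _ => Nat) (0x1b00002a0) (0x10001b1000f36) (Nat.ble 479 i)) (Nat.ble 478 i)) (Nat.ble 476 i)) (Nat.ble 472 i)) (Nat.ble 465 i)) (Nat.ble 450 i))
noncomputable def CA2P (i : Nat) : Nat := (Bool.rec (motive := fun _ => Nat) (Bool.rec (motive := fun _ => Nat) (Bool.rec (motive := fun _ => Nat) (CA2P_0 i) (CA2P_1 i) (Nat.ble 60 i)) (Bool.rec (motive := fun _ => Nat) (CA2P_2 i) (CA2P_3 i) (Nat.ble 180 i)) (Nat.ble 120 i)) (Bool.rec (motive := fun _ => Nat) (Bool.rec (motive := fun _ => Nat) (CA2P_4 i) (CA2P_5 i) (Nat.ble 300 i)) (Bool.rec (motive := fun _ => Nat) (CA2P_6 i) (CA2P_7 i) (Nat.ble 420 i)) (Nat.ble 360 i)) (Nat.ble 240 i))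
noncomputable def CA2InvB_0 (i : Nat) : Nat := (Bool.rec (motive := fun _ => Nat) (Bool.rec (motive := fun _ => Nat) (Bool.rec (motive := fun _ => Nat) (Bool.rec (motive := fun _ => Nat) (Bool.rec (motive := fun _ => Nat) (0x2400000000000000000000000000000000000000000000000000000000000000000000000000000000000000000000000000000000000000000000000000017100000000018400000000000000013700000000000000000000000000000000000000001500000000000000000000000000014800000000000000000000000000000000000000000000000000000000000000000000000000000000000000000000000000000000000000010e000000000000000000000000) (Bool.rec (motive := fun _ => Nat) (0x1750000000000000000000000090000000000000000000000000000000000000000000001140000000000000000000001d90000000000000000000000000000000000000000000000000000000000000000f400000000000000000000010500000000000000000000000000005d00000000000000000000000000000000000000000000000000000000000000000000000000000000000000000000000000017e0000000000000000000000000000000000000000e40000ff00015d000000)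 (0x14b0000000000000000000000000000000000000000d3000000000000000000000000000000000000000000000000000000000000000000000000000000000000000000000000000000000000000000000000000000000000000000000000000000000000000000000000000039) (Nat.ble 2 i)) (Nat.ble 1 i)) (Bool.rec (motive := fun _ => Nat) (Bool.rec (motive := fun _ => Nat) (0x140000000000000000000000000000000000000000000000de00000000000000000000000000000000000000000000000000000000001d00000000000000000000000000000000000000000000000000015f0000000000000000a600000000000000000000007c00000000011a000000000000000000000127000000000000000000000000000000000000000000000000000000000000000000000000000000000000000000000000000000000000000000000000000000) (0x170000000000000000000000000000000000000000000000000000000000000000000000000000000000000000000000000000bc0000000001aa0000000000000000000000000000000000000000a20000000000000000000000000000000000000000000000000000000000000000000000000000410000000000b2000000000000000000000000000000000000000000000000000000000000000000)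 (Nat.ble 4 i)) (Bool.rec (motive := fun _ => Nat) (0xc10001090000020000000000000000000000ca00000000000000000000000000000000016000013a0000a40000000000000000000000f20000000001380000f3000000000000000000000000000000000000000000000000000000000000000000000000000000000000000000000000) (0xe50000000001a500000000000000000000000000014e0000000000000000000001d10000000000000000000000000000000000000000080000000000000000000000000000000000000000000001b1000000000154000000000000000000000000000000000000000081) (Nat.ble 6 i)) (Nat.ble 5 i)) (Nat.ble 3 i)) (Bool.rec (motive := fun _ => Nat) (Bool.rec (motive := fun _ => Nat) (Bool.rec (motive := fun _ => Nat) (0xf1000000000000000000000000000000000000000000000000000000000000000000000000000000000000000000000000000000000000000000000000000000000000000000000000000000000000000000000000000000000000000000000000000000000000000000000000000000000000000000000000000000000000000000000000000000000000) (0xaf000000000000000000000000000000000000000000000000000000000136000000000000000000000000000000000000000000000000000000000000000000000000000000000000000000000000000000000000000000000000000000000000000000000000000000000000000000000000000000000000000000000000000000000000000000000000000000000000000000)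 (Nat.ble 8 i)) (Bool.rec (motive := fun _ => Nat) (0x14100000000000000000000000000000000000000000000000000000000000000000000000000000000000000000000000000000000004700006900007300000000000000000000000000000000014600000000000000000000000000012100000000000000000000000000019b00000000000000000000000000000000000000000000009e00005600000000000000000000000000006200000000003100000000000000000000000000000000000000000000003600010a) (0xb50000000001b200000000000000008d00000f0000000000000000000000550000000000000000000001de0000000000000000000000000000000000000000000000000000000000000001d70000000000000000000000000000000000000000000000000000000000000000000000000000a500000000001a00004d0000b70000000000000000000000ac) (Nat.ble 10 i)) (Nat.ble 9 i)) (Bool.rec (motive := fun _ => Nat) (Bool.rec (motive := fun _ => Nat) (0x8400000000000000000000000000018e0000dc0000000000000000000000000000000000000000000000070000000000630001cb00000000012a000000000000000000000000000000000000000000000000000000000000000000000000000000000000000097000183000000000000000000000000000000000000000000000000)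 (0x15e0000000000000000000000000000000000000000000000000000000000000000000000000000000000000000ce00000000019300000000000000007b00000000000000000000000000000000000000000000000000000000000000000000000000000000000000008a0001ac0000000000000000000000000000000000000000000000000000000000f9) (Nat.ble 12 i)) (Bool.rec (motive := fun _ => Nat) (0x4a0000000000000000000000000001ab0000000000000000000000000000000000000000000000000000000000000000000000000001c700000000000000000000000000000000000000000000000000000000000000000000000000000000000000000000000000000000000000000000000000000000007a0000000000000000000000230000000000000001d00000ae00000000000000000000000000000000003d000000000000000000000000000000000000000000) (0x8f00000000000000000000000000000000000000000000000000011c00000000000000000000000000000000000000008b0000000000000000000000000000000000000000000001c90000000001db000000000000000000000000000187000000000000000000000000000000000000000000000000000000000000000000000000000000000000000000000000000000000000)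 (Nat.ble 14 i)) (Nat.ble 13 i)) (Nat.ble 11 i)) (Nat.ble 7 i)) (Bool.rec (motive := fun _ => Nat) (Bool.rec (motive := fun _ => Nat) (Bool.rec (motive := fun _ => Nat) (Bool.rec (motive := fun _ => Nat) (0xc80000000000000000000000000000000000000000000000000000000000000000000000000000000000000000f50000000000000001a40000000000000000000000000000000000000000000000000000000000000000000000000000000000000000000000000000000001640000000000000000000000000000000000a1000000000027000000000000000000000000000000000000000000000000000000000000000000000000000000000000000000000000000000) (0xf70000000000000001bd00006400000000000000000000000000000000000000000000000000000000000000000000000000000000000000000000000000005200000000000000000000000000000000000000000000000000000000000000002c0000000000000000000000000000000000000000000001a10000000000000000000000000000000001310000000000000000000000000000000000000000000000000000000000000000000000000001180000c7000000000000000000) (Nat.ble 16 i)) (Bool.rec (motive := fun _ =>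 Nat) (0x1440000400000000000800000000000b00000000000000000e30000000000000000000000000000000000000000000000e200000000000000000000000000000000000000000000000000000000000000000000000000000000006b00014300012300000000000000000000000000015900000000000000000c000000000000000000000000000000000000000000000000000000000000000000000000000000000000000000000000000000000000000000000000000000) (0) (Nat.ble 18 i)) (Nat.ble 17 i)) (Bool.rec (motive := fun _ => Nat) (Bool.rec (motive := fun _ => Nat) (0x14d000106000000000000000000000000000000000000000000000000000000000000000000000000000000000000000000000000000000000000000000000000000000000000000000000000000000000000000000000000000000000000000000000000000000000000000000000000000000000000000000000000000000000000000000000000000000000000000000000000000000000000000000000000000000000000000000000000000000) (0x16d00000000000b0000000000000000000000000000000001610000000000000000000000000000000000000000000000d40001c30000000000000000000000000000000000000000000001bf0000000000000000000000000000000000000000000000000000000001bb0001a30000000000000000000000000000000000000000000000000000000000000000df0000000000000000000000000000000000f600004b000000000000000000000000000000000000000000)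 (Nat.ble 20 i)) (Bool.rec (motive := fun _ => Nat) (0x930000000000000000000000000000000000000000000000000000000000000000000000000000000000000000000000000000000000000000000000000000000000000000000000000000060000000000000000000000000000000000000000000000000000000000000000000000000000000000000000000000000000000000000000000000000000fb00000000000000000000000000000000000000001f000000000000000000000000000000000000000000000000000000000000) (0x1b700000000000000000000000000000000000000000000000000000000000000000000014700000000000000000000015b0000000000000000000000d90000000000000000000000000000000000000000000001040000000000000000000000000000000000000000000000000001d5000000000000000000000000000000000000000000000000000000000000) (Nat.ble 22 i)) (Nat.ble 21 i)) (Nat.ble 19 i)) (Bool.rec (motive := fun _ => Nat) (Bool.rec (motive := fun _ => Nat) (Bool.rec (motive := fun _ => Nat) (0x1c100000000000000000000000000000000000000000000000000000000000000000000000000000000000000000000000000000000000000000000000000000000000000000000000000000000000000007f00000000000000000000000000000000000000000000000000000000000000000000000000000000000000000000000000000000000000000000000000014c000000000000000000000000000000000000000000000000000000000000000000)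 (0x720000000000000000000000760000000000000000000001030000000000000000000000000000000000000000000000000000000000740000000000000000000000000000000000000000000000000000000000000000000000000000000000000000000000000001c500000000000000000000000000000000000000000000000000000000000000000000000000000000000000000000000000000000018c000000000000000000000000000000000000000000000000000000000000) (Nat.ble 24 i)) (Bool.rec (motive := fun _ => Nat) (0xbd00000000000000000000003700000000000000000000000000000000002800000000000000000000008500000000000000000000013500000000000000000000018500000000000000000000000000000000000000000000000000013f0000000000000001ce0001900000000000000000000000000000000000000000000000000000000000000000000000160000000001560000000000000000000000c5000000000000000000000000000000000000000000000000) (0x10000000000000000000000000000000000b10000490000000000000001960000fc00000000000000000000003b00000000000000000000000000000000012d0000000000000000000000000000000000000000000000000000000000000000000000000000460000000001cd0000000000000000000000eb000000000000000120)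 (Nat.ble 26 i)) (Nat.ble 25 i)) (Bool.rec (motive := fun _ => Nat) (Bool.rec (motive := fun _ => Nat) (0x5100000000000000006a00000a0000580001530000000000000000000001dc00000000000000000000000000000000008e00009c00000000000000000000000000003f0000000001490000b400000000000000000000000000000000000000000000000000000000000000001800000000000000000000000000000000000000000000015000000000000000000000000000000000000000008900004e00002b000000000000000000000000000000000000000000000000) (0xcc0000000000000000000000000000000000340000000000000000000000000000000000000000e90000000000000000000000000001d2000000000000000000000000000000000091000000000000000000000000000000000000000000000000000000000000000000000000000000000113000000) (Nat.ble 28 i)) (Bool.rec (motive := fun _ => Nat) (0xda00000000000000000000000000000000000000000000000000000000000000000000000000000000000000000000000000000000011e00016b00000000000000000000000000000000000000000000000000000000002d0000000000000000000000000000000000000000000000000000000000000000000000000000320000000000000000000000000000000000000000000000000000000000d0000000000000000000000000000000000000000057000000000000000000000000)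 (0xcd0000be0000000000000000000000000000000000000000000000000000000000000000000000d600000000011f0001340000000000000000000000000000000000000000e10000000000000000000000000000000000000001b90000000000000000000000000000000000000000000000000000000000000000000000000000000000000001400001a7000000000000000000000000000000000000000000) (Nat.ble 30 i)) (Nat.ble 29 i)) (Nat.ble 27 i)) (Nat.ble 23 i)) (Nat.ble 15 i)) (Bool.rec (motive := fun _ => Nat) (Bool.rec (motive := fun _ => Nat) (Bool.rec (motive := fun _ => Nat) (Bool.rec (motive := fun _ => Nat) (0xee0000000000000000000000fa0000000000000000000000000000000000000000000000000000000000000000f00000000000000000000000000000000000000000000000e6000000000098000000000000000000000000000000000000000000000000000000000000000000000000000000000000000000000000000000000000000129000000000000000000000000000000000000000000000000000000000000) (Bool.rec (motive := fun _ => Nat) (0x40000000000000000000000000000000000000000000000000000000000000000000000000000000000000000000000000000000000000000000000000000cf0000000000000000000001770000000001100000000000000000000000000000000000000000000000000000000000000000000001390000000000000000000000000001680000000000000000000000000000000000000000000000000000000000000000fd000000000000000000000000000000)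 (0x1900000000000000000000000000000000000000000000000000000000000000000000009b00000000000000018d0000000000000000000000000000000000000000000000ec00000000000000000000000000017d0000000000000000000000000000000000000001c400000000000000000000000000000000000000000000000000000000000000000000000000000000000000004f00000000000000000000000000000000000d0000000000000000000000000000000000000001c0) (Nat.ble 33 i)) (Nat.ble 32 i)) (Bool.rec (motive := fun _ => Nat) (Bool.rec (motive := fun _ => Nat) (0x1880000000000000000000000000000000000000000000000000000000000000000000000000000000000000000000000000000000000000000000000000000000000000000000000000001d600000000000000000000000000000000000000000000000000000000005f00000000000000011100000000000000000000000000000000000000000000000000000000000000000000000000000000000000019e000000000000000102000000000000000000000195000000000000) (0x110000000000000001580001790000480000000000000000000001260000000000000000000000000000000000000000000000000000000000000000000000000000000000000001a90000000001b40000000000000001b300000000012b00017000019c000054000000000000000000000000000000000000000000000000000166000000000000000000000000000000000000000005000000000000000000000000000000000000000000000000000000000000000000)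 (Nat.ble 35 i)) (Bool.rec (motive := fun _ => Nat) (0xaa00000000008c0000000000000000000000000000000000000000000000000000950000000000000000000000000000000001510000710000000000000000000000000000000000000000000000960000000001240000000000000000000000000000000000000001cf0000880000dd0000000000000000000000000000000000000000000000000000000000000000830000000000000000000000000001780000000000ab000000000000000000000000000000000000) (0x870000590000000001b50000000000000000000000000000d800000000018b0000000000000000000001690000000000790000000000000000000000000000000000000000000000000000000000000000000000000000000000000001d30001730000000000000000000000000000000000200000000000000000000000000000000000000001940000000000000000000000000000000000000000000000000000000000000000000001820000000000000000d7000000000000) (Nat.ble 37 i)) (Nat.ble 36 i)) (Nat.ble 34 i)) (Bool.rec (motive := fun _ => Nat) (Bool.rec (motive := fun _ => Nat) (Bool.rec (motive := fun _ => Nat) (0x11b00000000000000002f00000000000000000000013000000000000000000000000000000000000000000000000e00000000000000000000000000000000012c00000000000000000000000000000000000000000000000000000000000000000000000000000000000000000000000000000000000000000000000000011d000000000000000000000000000013)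 (0x4c0000000000000000000000000000000000000000000000000000000000000000000000000000000000000000000000000000000000000000000000000000000000000000000000000000000000000000000000000000000000000000000000000000000000bb000000000000000000000000000000000000000000000000000000000000000000) (Nat.ble 39 i)) (Bool.rec (motive := fun _ => Nat) (0x12f0000000000000000000000000000000000000000000000000000000000000000000000000000000000e00000000000000000000000000000000000000000000000000000000000000000000000000000000000000000000000000000000000000000000000000000000000000000000000000000000000000000000000000000000001920000000000000000d5000000000000000000000000000000000000000000000000000000000000000000000000000000) (0xcb0000000000000000000001ad00000000000000000000000000000000000000000000000000019f0000000000000000000000000000000000000000000000000000000000000000000000000000000000000000000000000000000000000000000000000000000000000000000000000000000000000000000000000000000000000000000000000000000000000000000000000000c2000000000000000000000000000000000000000000000115)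 (Nat.ble 41 i)) (Nat.ble 40 i)) (Bool.rec (motive := fun _ => Nat) (Bool.rec (motive := fun _ => Nat) (0x12e000000000000000000000000000000000000000000000000000000000000000000000000000000000000000000000000000000000000000000000000000000000000000000000100000000000000000000000000000000000000000000000000000000000000000025000000000000000000000000000000000000) (0x1910001bc0000000000650000000000000000000000000000000000000000000000000000000000000000000000000000000000000001d4000000000000000000000000000000000000000000000000000000000000000000000000000000000000000000000000000000000000000000000000000000000000000000000000000000000000000000000000000000000000000000000000000000000000000000000000) (Nat.ble 43 i)) (Bool.rec (motive := fun _ => Nat) (0x1570000000001280000000000c90000000000000000000001cc0000000000000000000000a000001e0000000001760000000000000000000000000000000000000000000000ad00017f0000000000000000000000000000000000000000000000000000260001220000000000000000000000000001ba00000000000000016e0000000000000000000000000000670000000000000000000000000000990000000000000000000000000000000000c4)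 (0xea00003c00005e0000000000000000000000000000000000000000000001c20000000000000000000000bf00004300000000000000000000000000000000000000000000008600000000000000000000000000007800018f0000000000000000000000000000000000000000000000000000000000030000000000000000000000000000000000000000b300000000000000000000003e00000000009000016300018a000142000000000000000189000000000000000132000000) (Nat.ble 45 i)) (Nat.ble 44 i)) (Nat.ble 42 i)) (Nat.ble 38 i)) (Bool.rec (motive := fun _ => Nat) (Bool.rec (motive := fun _ => Nat) (Bool.rec (motive := fun _ => Nat) (Bool.rec (motive := fun _ => Nat) (0x14f00000000000000000000000000000000000000000000000000000000010d0000000000000000000000000000000000000000000000000000000000000000000000000001670000000001da00000000000000019d0000000000000000000000000000000000000000e80000000000000000000000000000000000000000000000000000000000000000000000000000000000000001b0000000000000000000000000000000000000000000000000000000000000000000000068000000) (0x1330000fe00000000000000000000005a0000000000000000000000000000000000000000210000000000000000000000000000000000000000000000e700000000000000000000000000000000013c0000000000000001a60000000000000000000000000000000000000000000000000000000000000000a700000000000000005000000000000000000000000000000000000000000000006c00000000000000000000000000000000009a000000)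 (Nat.ble 47 i)) (Bool.rec (motive := fun _ => Nat) (0x300000000000000000000000000000000000ed00000000000000000000007d00000000019a00000000016200000000000000000000000000000000000000000000005c00000000000000000000000000000000000000002900000000000000000000000000001b000042000000000000000000000000000000000000000000000000000000000000000000000000000000000000000000000000000000000174000000000000000082000000000000000000000000000000) (0x2e0000000000000000000001c80000000000000000000000000000000000000001170000000000000000000000000000000000000000000001af0000000000000000db0000000000000000000000000000000000000000000000000000450000220000000000b60000000000000001520000000000000000000000000000000000000000000000000001ae0001a2000000000000000000000000000000000000000000000000000000000000000000000000) (Nat.ble 49 i)) (Nat.ble 48 i)) (Bool.rec (motive := fun _ => Nat) (Bool.rec (motive := fun _ => Nat) (0x1070000000000000000000001a8000000000000000000000000000075000000000000000000000000000145000000000000000000000000000000000000000000000000000000000000000000000000000000000000000199000000000000000000000000000000000000000000000000000000000000000000000000000000000000000000000000000000000000000000000000000044000000000000000000000000000000000000000000000000000000000000)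 (0x1ca00000000000000000000000000000000000000000000000000000000000000000000000000000000000000000000000000003300000000006f00000000000000000000000000000000000000000000003a00000000000000000000000000000000000000000000000000015c00016a000000000000000000000000000000000000000000000000000000000000000000000000000000000000000000000000000000000000000000000000000000000108000000000000000010000000) (Nat.ble 51 i)) (Bool.rec (motive := fun _ => Nat) (0x2a00000000000000000000000000000000000000000000000000000000000000000000000000000000000000000000000000000000000000001200000000000000000000000000000000000000000000000000000000000000014a00000000000000000000000000000000000000000000000000000000000000000000010c000000000000000000000000000000000000000000000000000000000000000119000000000000000000000000) (0x16f00000000016c00000000000000000000000000000000000000000000000000000000000000000000000000000000000000000000000000000000000000000000000000000000000000000000000000000000000000000000000000000000000000013d00000000000000000000000000000000000000000000000000000000000000013b00000000006600015500006d0000b8000000000000000000000125000000000000000000000000000000000000)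 (Nat.ble 53 i)) (Nat.ble 52 i)) (Nat.ble 50 i)) (Bool.rec (motive := fun _ => Nat) (Bool.rec (motive := fun _ => Nat) (Bool.rec (motive := fun _ => Nat) (0xa900000000000000000000000000000000000000000000000000000000000000000000000000000000000000000000000000000000000000017c00000000009400000000000000000000000000000000000000000000010f0000000000000000000000000000000000000000000000000000000000000000000000000000000001be0000000000ba00000000000000007e00000000000000000000000000000000000000000000000000000000000000000000017b000000000000) (0x350001010000000000000000000000000000000000000000000000000000000000000000000000000000000000ef00000000000000000000000000000000000000001c0000000000000000000000000000c00000000000000000000000000000000000000000000000000000000000000000000000000000000000000000000000000000000000000000000000000000000000a30001b6000060000000000000000000000186000000000172000000000000) (Nat.ble 55 i)) (Bool.rec (motive := fun _ => Nat) (0x1980000000000c3000000000000000000000000000000000000000000000000000000000000000000000000000000000000000000000000000000000000000000000000000000000000000000000000000000000000000000000000000000000000000000000000000000000000000000000000000000000000000000000000000000000000000000000000000000000000000000000000000000000000)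 (0xb90000000000000000000000000000000000770000f800000000006e00000000000000011200000000000000000000005b00000000015a0000000000000000000000000000000000000000000000000000000000000000000000000000000000000000000000000000000000000000000000000000000000000000000000000000000000000000000001dd0000d2000000000000000000000000000000000000000000000000000000) (Nat.ble 57 i)) (Nat.ble 56 i)) (Bool.rec (motive := fun _ => Nat) (Bool.rec (motive := fun _ => Nat) (0x1160000000000000000d100009f000000000000000000000000000053000000000000000000000000000000000000000000000000000000000000000000000000000000000000000000000000000000000000000000000000000000000181000165000000000092000000000000000000000000000000) (0x1b800000000006100000000009d00000000000000000000000000000000000000000000013e0000000000000001970000000000000000000000000000000000000000000000c600000000000000000000000000000000000000000000000000000000000000000000000000000000000000000000000000000000000000000000000000000000000000000000000000000000000000000000007000000000000000000000000000000000000000000000010b0001800001a0000000)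 (Nat.ble 59 i)) (Bool.rec (motive := fun _ => Nat) (0x1df0000000000000000000000000000000000000000000000000001c600000000000000000000000000003800000000000000000000000000000000000000000000000000000000017a0000000000000000000000000000000000000000000000000000000000000000000000000000000000000000000000000000000000000000a80000000000000000000000000000000000000000000000000000000000000001d8) (0) (Nat.ble 61 i)) (Nat.ble 60 i)) (Nat.ble 58 i)) (Nat.ble 54 i)) (Nat.ble 46 i)) (Nat.ble 31 i))
noncomputable def CA2InvB (i : Nat) : Nat := (CA2InvB_0 i)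
noncomputable def CA2Inv (i : Nat) : Nat := Nat.land (Nat.shiftRight (CA2InvB (Nat.shiftRight i 6)) (Nat.mul 24 (Nat.land i 63))) 16777215
/-- Generators of a level. -/
def CK0G : List (List Nat) := [[4], [10], [12], [14], [16], [0], [2, 0, 3], [2, 2, 0, 3, 3]]
noncomputable def CK0P_0 (i : Nat) : Nat := (Bool.rec (motive := fun _ => Nat) (Bool.rec (motive := fun _ => Nat) (Bool.rec (motive := fun _ => Nat) (Bool.rec (motive := fun _ => Nat) (Bool.rec (motive := fun _ => Nat) (0x860) (Bool.rec (motive := fun _ => Nat) (0xd3e) (0x1000000000338) (Nat.ble 2 i)) (Nat.ble 1 i)) (Bool.rec (motive := fun _ => Nat) (0x2000000000d07) (Bool.rec (motive := fun _ => Nat) (0x3000000000f3f) (0x40000000009ce) (Nat.ble 5 i)) (Nat.ble 4 i)) (Nat.ble 3 i)) (Bool.rec (motive := fun _ => Nat) (Bool.rec (motive := fun _ => Nat) (0x5000000000d5a) (Bool.rec (motive := fun _ => Nat) (0x60000000007a4) (0x7000000000eeb) (Nat.ble 8 i)) (Nat.ble 7 i)) (Bool.rec (motive := fun _ => Nat) (0x10003c6) (Bool.rec (motive :=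 fun _ => Nat) (0x1000001000371) (0x2000001000a0b) (Nat.ble 11 i)) (Nat.ble 10 i)) (Nat.ble 9 i)) (Nat.ble 6 i)) (Bool.rec (motive := fun _ => Nat) (Bool.rec (motive := fun _ => Nat) (Bool.rec (motive := fun _ => Nat) (0x3000001000e57) (Bool.rec (motive := fun _ => Nat) (0x400000100035e) (0x5000001000f0f) (Nat.ble 14 i)) (Nat.ble 13 i)) (Bool.rec (motive := fun _ => Nat) (0x6000001000688) (Bool.rec (motive := fun _ => Nat) (0x7000001000686) (0x200071a) (Nat.ble 17 i)) (Nat.ble 16 i)) (Nat.ble 15 i)) (Bool.rec (motive := fun _ => Nat) (Bool.rec (motive := fun _ => Nat) (0x1000002000b06) (Bool.rec (motive := fun _ => Nat) (0x2000002000657) (0x3000002000a42) (Nat.ble 20 i)) (Nat.ble 19 i)) (Bool.rec (motive := fun _ => Nat) (0x400000200096d) (Bool.rec (motive := fun _ => Nat) (0x5000002000c58) (0x600000200087a) (Nat.ble 23 i)) (Nat.ble 22 i)) (Nat.ble 21 i)) (Nat.ble 18 i)) (Nat.ble 12 i)) (Bool.rec (motive := fun _ => Nat) (Bool.rec (motive := fun _ => Nat) (Bool.rec (motive := fun _ => Nat) (Bool.rec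 (motive := fun _ => Nat) (0x7000002000935) (Bool.rec (motive := fun _ => Nat) (0x30006ed) (0x1000003000428) (Nat.ble 26 i)) (Nat.ble 25 i)) (Bool.rec (motive := fun _ => Nat) (0x2000003000c37) (Bool.rec (motive := fun _ => Nat) (0x3000003000714) (0x4000003000f3a) (Nat.ble 29 i)) (Nat.ble 28 i)) (Nat.ble 27 i)) (Bool.rec (motive := fun _ => Nat) (Bool.rec (motive := fun _ => Nat) (0x5000003000c79) (Bool.rec (motive := fun _ => Nat) (0x6000003000c67) (0x4000c92) (Nat.ble 32 i)) (Nat.ble 31 i)) (Bool.rec (motive := fun _ => Nat) (0x2000004000915) (Bool.rec (motive := fun _ => Nat) (0x3000004000cc5) (0x4000004000a41) (Nat.ble 35 i)) (Nat.ble 34 i)) (Nat.ble 33 i)) (Nat.ble 30 i)) (Bool.rec (motive := fun _ => Nat) (Bool.rec (motive := fun _ => Nat) (Bool.rec (motive := fun _ => Nat) (0x5000004000e6c) (Bool.rec (motive := fun _ => Nat) (0x600000400053c) (0x7000004000d48) (Nat.ble 38 i)) (Nat.ble 37 i)) (Bool.rec (motive := fun _ => Nat) (0x40000050002f9) (Bool.rec (motive := fun _ => Nat) (0x500000500052c)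 (0x600000500066a) (Nat.ble 41 i)) (Nat.ble 40 i)) (Nat.ble 39 i)) (Bool.rec (motive := fun _ => Nat) (Bool.rec (motive := fun _ => Nat) (0x7000005000eaa) (Bool.rec (motive := fun _ => Nat) (0x6000c59) (0x2000006000aa6) (Nat.ble 44 i)) (Nat.ble 43 i)) (Bool.rec (motive := fun _ => Nat) (0x3000006000bf1) (Bool.rec (motive := fun _ => Nat) (0x4000006000c9f) (0x5000006000bf0) (Nat.ble 47 i)) (Nat.ble 46 i)) (Nat.ble 45 i)) (Nat.ble 42 i)) (Nat.ble 36 i)) (Nat.ble 24 i))
noncomputable def CK0P_1 (i : Nat) : Nat := (Bool.rec (motive := fun _ => Nat) (Bool.rec (motive := fun _ => Nat) (Bool.rec (motive := fun _ => Nat) (Bool.rec (motive := fun _ => Nat) (Bool.rec (motive := fun _ => Nat) (0x6000006000c82) (Bool.rec (motive := fun _ => Nat) (0x7000006000cde) (0x7000b45) (Nat.ble 50 i)) (Nat.ble 49 i)) (Bool.rec (motive := fun _ => Nat) (0x1000007000ee8) (Bool.rec (motive := fun _ => Nat) (0x2000007000ec2) (0x3000007000281) (Nat.ble 53 i)) (Nat.ble 52 i)) (Nat.ble 51 i)) (Bool.rec (motive := fun _ =>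 Nat) (Bool.rec (motive := fun _ => Nat) (0x4000007000785) (Bool.rec (motive := fun _ => Nat) (0x5000007000457) (0x7000007000975) (Nat.ble 56 i)) (Nat.ble 55 i)) (Bool.rec (motive := fun _ => Nat) (0x8000eda) (Bool.rec (motive := fun _ => Nat) (0x1000008000934) (0x2000008000f3b) (Nat.ble 59 i)) (Nat.ble 58 i)) (Nat.ble 57 i)) (Nat.ble 54 i)) (Bool.rec (motive := fun _ => Nat) (Bool.rec (motive := fun _ => Nat) (Bool.rec (motive := fun _ => Nat) (0x3000008000d9f) (Bool.rec (motive := fun _ => Nat) (0x4000008000eb7) (0x5000008000cdf) (Nat.ble 62 i)) (Nat.ble 61 i)) (Bool.rec (motive := fun _ => Nat) (0x6000008000772) (Bool.rec (motive := fun _ => Nat) (0x9000d84) (0x10000090000f8) (Nat.ble 65 i)) (Nat.ble 64 i)) (Nat.ble 63 i)) (Bool.rec (motive := fun _ => Nat) (Bool.rec (motive := fun _ => Nat) (0x20000090007f7) (Bool.rec (motive := fun _ => Nat) (0x3000009000575) (0x40000090006da) (Nat.ble 68 i)) (Nat.ble 67 i)) (Bool.rec (motive := fun _ => Nat) (0x5000009000d1b) (Bool.rec (motive := fun _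 => Nat) (0x6000009000581) (0x7000009000311) (Nat.ble 71 i)) (Nat.ble 70 i)) (Nat.ble 69 i)) (Nat.ble 66 i)) (Nat.ble 60 i)) (Bool.rec (motive := fun _ => Nat) (Bool.rec (motive := fun _ => Nat) (Bool.rec (motive := fun _ => Nat) (Bool.rec (motive := fun _ => Nat) (0xa0003fa) (Bool.rec (motive := fun _ => Nat) (0x100000a000293) (0x200000a000367) (Nat.ble 74 i)) (Nat.ble 73 i)) (Bool.rec (motive := fun _ => Nat) (0x300000a000600) (Bool.rec (motive := fun _ => Nat) (0x400000a00005b) (0x500000a000357) (Nat.ble 77 i)) (Nat.ble 76 i)) (Nat.ble 75 i)) (Bool.rec (motive := fun _ => Nat) (Bool.rec (motive := fun _ => Nat) (0x600000a000753) (Bool.rec (motive := fun _ => Nat) (0x700000a000848) (0xb000451) (Nat.ble 80 i)) (Nat.ble 79 i)) (Bool.rec (motive := fun _ => Nat) (0x100000b00036f) (Bool.rec (motive := fun _ => Nat) (0x200000b000ccb) (0x300000b000e33) (Nat.ble 83 i)) (Nat.ble 82 i)) (Nat.ble 81 i)) (Nat.ble 78 i)) (Bool.rec (motive := fun _ => Nat) (Bool.rec (motive := fun _ => Nat) (Bool.rec (motive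 := fun _ => Nat) (0x400000b000cc1) (Bool.rec (motive := fun _ => Nat) (0x500000b000455) (0x600000b000646) (Nat.ble 86 i)) (Nat.ble 85 i)) (Bool.rec (motive := fun _ => Nat) (0x700000b000f11) (Bool.rec (motive := fun _ => Nat) (0xc000dc6) (0x200000c0006c2) (Nat.ble 89 i)) (Nat.ble 88 i)) (Nat.ble 87 i)) (Bool.rec (motive := fun _ => Nat) (Bool.rec (motive := fun _ => Nat) (0x300000c000911) (Bool.rec (motive := fun _ => Nat) (0x400000c000cf0) (0x500000c000da1) (Nat.ble 92 i)) (Nat.ble 91 i)) (Bool.rec (motive := fun _ => Nat) (Bool.rec (motive := fun _ => Nat) (0x600000c000881) (0x700000c000c3c) (Nat.ble 94 i)) (Bool.rec (motive := fun _ => Nat) (0x400000d0002f4) (0x500000d0002e9) (Nat.ble 96 i)) (Nat.ble 95 i)) (Nat.ble 93 i)) (Nat.ble 90 i)) (Nat.ble 84 i)) (Nat.ble 72 i))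
noncomputable def CK0P_2 (i : Nat) : Nat := (Bool.rec (motive := fun _ => Nat) (Bool.rec (motive := fun _ => Nat) (Bool.rec (motive := fun _ => Nat) (Bool.rec (motive := fun _ => Nat) (Bool.rec (motive := fun _ => Nat) (0x600000d000574) (Bool.rec (motive := fun _ => Nat) (0x700000d000b1f) (0xe000bdb) (Nat.ble 99 i)) (Nat.ble 98 i)) (Bool.rec (motive := fun _ => Nat) (0x200000e000aaa) (Bool.rec (motive := fun _ => Nat) (0x300000e000cd1) (0x400000e000aa7) (Nat.ble 102 i)) (Nat.ble 101 i)) (Nat.ble 100 i)) (Bool.rec (motive := fun _ => Nat) (Bool.rec (motive := fun _ => Nat) (0x500000e000690) (Bool.rec (motive := fun _ => Nat) (0x700000e0000e5) (0xf000897) (Nat.ble 105 i)) (Nat.ble 104 i)) (Bool.rec (motive := fun _ => Nat) (0x100000f000ed6) (Bool.rec (motive := fun _ => Nat) (0x200000f000b11) (0x300000f000d04) (Nat.ble 108 i)) (Nat.ble 107 i)) (Nat.ble 106 i)) (Nat.ble 103 i)) (Bool.rec (motive := fun _ => Nat) (Bool.rec (motive := fun _ => Nat) (Bool.rec (motive := fun _ => Nat) (0x400000f00064d)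 (Bool.rec (motive := fun _ => Nat) (0x500000f000b22) (0x700000f000ad3) (Nat.ble 111 i)) (Nat.ble 110 i)) (Bool.rec (motive := fun _ => Nat) (0x1000093c) (Bool.rec (motive := fun _ => Nat) (0x1000010000208) (0x2000010000cdd) (Nat.ble 114 i)) (Nat.ble 113 i)) (Nat.ble 112 i)) (Bool.rec (motive := fun _ => Nat) (Bool.rec (motive := fun _ => Nat) (0x3000010000ec9) (Bool.rec (motive := fun _ => Nat) (0x4000010000aa5) (0x50000100000e4) (Nat.ble 117 i)) (Nat.ble 116 i)) (Bool.rec (motive := fun _ => Nat) (0x60000100008e1) (Bool.rec (motive := fun _ => Nat) (0x11000798) (0x10000110006d5) (Nat.ble 120 i)) (Nat.ble 119 i)) (Nat.ble 118 i)) (Nat.ble 115 i)) (Nat.ble 109 i)) (Bool.rec (motive := fun _ => Nat) (Bool.rec (motive := fun _ => Nat) (Bool.rec (motive := fun _ => Nat) (Bool.rec (motive := fun _ => Nat) (0x2000011000ce9) (Bool.rec (motive := fun _ => Nat) (0x300001100061f) (0x500001100080f) (Nat.ble 123 i)) (Nat.ble 122 i)) (Bool.rec (motive := fun _ => Nat) (0x600001100080c) (Bool.rec (motive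 := fun _ => Nat) (0x700001100079a) (0x12000c9a) (Nat.ble 126 i)) (Nat.ble 125 i)) (Nat.ble 124 i)) (Bool.rec (motive := fun _ => Nat) (Bool.rec (motive := fun _ => Nat) (0x1000012000861) (Bool.rec (motive := fun _ => Nat) (0x200001200095a) (0x3000012000231) (Nat.ble 129 i)) (Nat.ble 128 i)) (Bool.rec (motive := fun _ => Nat) (0x40000120008fa) (Bool.rec (motive := fun _ => Nat) (0x7000012000b31) (0x1000013000e38) (Nat.ble 132 i)) (Nat.ble 131 i)) (Nat.ble 130 i)) (Nat.ble 127 i)) (Bool.rec (motive := fun _ => Nat) (Bool.rec (motive := fun _ => Nat) (Bool.rec (motive := fun _ => Nat) (0x200001300098d) (Bool.rec (motive := fun _ => Nat) (0x30000130007dd) (0x5000013000889) (Nat.ble 135 i)) (Nat.ble 134 i)) (Bool.rec (motive := fun _ => Nat) (0x6000013000dce) (Bool.rec (motive := fun _ => Nat) (0x70000130007eb) (0x1400041e) (Nat.ble 138 i)) (Nat.ble 137 i)) (Nat.ble 136 i)) (Bool.rec (motive := fun _ => Nat) (Bool.rec (motive := fun _ => Nat) (0x2000014000746) (Bool.rec (motive := fun _ => Nat) (0x3000014000809)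 (0x40000140001c9) (Nat.ble 141 i)) (Nat.ble 140 i)) (Bool.rec (motive := fun _ => Nat) (Bool.rec (motive := fun _ => Nat) (0x5000014000827) (0x6000014000765) (Nat.ble 143 i)) (Bool.rec (motive := fun _ => Nat) (0x7000014000e2f) (0x400001500016e) (Nat.ble 145 i)) (Nat.ble 144 i)) (Nat.ble 142 i)) (Nat.ble 139 i)) (Nat.ble 133 i)) (Nat.ble 121 i))
noncomputable def CK0P_3 (i : Nat) : Nat := (Bool.rec (motive := fun _ => Nat) (Bool.rec (motive := fun _ => Nat) (Bool.rec (motive := fun _ => Nat) (Bool.rec (motive := fun _ => Nat) (Bool.rec (motive := fun _ => Nat) (0x5000015000d3a) (Bool.rec (motive := fun _ => Nat) (0x6000015000879) (0x700001500086f) (Nat.ble 148 i)) (Nat.ble 147 i)) (Bool.rec (motive := fun _ => Nat) (0x16000efa) (Bool.rec (motive := fun _ => Nat) (0x2000016000974) (0x3000016000d94) (Nat.ble 151 i)) (Nat.ble 150 i)) (Nat.ble 149 i)) (Bool.rec (motive := fun _ => Nat) (Bool.rec (motive := fun _ => Nat) (0x40000160009a6) (Bool.rec (motive := fun _ => Nat) (0x50000160002cd) (0x6000016000e3e)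 (Nat.ble 154 i)) (Nat.ble 153 i)) (Bool.rec (motive := fun _ => Nat) (0x70000160001ee) (Bool.rec (motive := fun _ => Nat) (0x17000543) (0x100001700082f) (Nat.ble 157 i)) (Nat.ble 156 i)) (Nat.ble 155 i)) (Nat.ble 152 i)) (Bool.rec (motive := fun _ => Nat) (Bool.rec (motive := fun _ => Nat) (Bool.rec (motive := fun _ => Nat) (0x2000017000b9b) (Bool.rec (motive := fun _ => Nat) (0x3000017000550) (0x4000017000135) (Nat.ble 160 i)) (Nat.ble 159 i)) (Bool.rec (motive := fun _ => Nat) (0x5000017000be7) (Bool.rec (motive := fun _ => Nat) (0x7000017000dfa) (0x180001a2) (Nat.ble 163 i)) (Nat.ble 162 i)) (Nat.ble 161 i)) (Bool.rec (motive := fun _ => Nat) (Bool.rec (motive := fun _ => Nat) (0x1000018000161) (Bool.rec (motive := fun _ => Nat) (0x200001800092b) (0x3000018000e93) (Nat.ble 166 i)) (Nat.ble 165 i)) (Bool.rec (motive := fun _ => Nat) (0x4000018000988) (Bool.rec (motive := fun _ => Nat) (0x50000180001e7) (0x6000018000eab) (Nat.ble 169 i)) (Nat.ble 168 i)) (Nat.ble 167 i)) (Nat.ble 164 i)) (Nat.ble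 158 i)) (Bool.rec (motive := fun _ => Nat) (Bool.rec (motive := fun _ => Nat) (Bool.rec (motive := fun _ => Nat) (Bool.rec (motive := fun _ => Nat) (0x190002bf) (Bool.rec (motive := fun _ => Nat) (0x100001900093e) (0x2000019000946) (Nat.ble 172 i)) (Nat.ble 171 i)) (Bool.rec (motive := fun _ => Nat) (0x3000019000cad) (Bool.rec (motive := fun _ => Nat) (0x4000019000c7b) (0x50000190002d8) (Nat.ble 175 i)) (Nat.ble 174 i)) (Nat.ble 173 i)) (Bool.rec (motive := fun _ => Nat) (Bool.rec (motive := fun _ => Nat) (0x6000019000b64) (Bool.rec (motive := fun _ => Nat) (0x7000019000ea8) (0x1a00041d) (Nat.ble 178 i)) (Nat.ble 177 i)) (Bool.rec (motive := fun _ => Nat) (0x100001a000b2c) (Bool.rec (motive := fun _ => Nat) (0x200001a00028c) (0x400001a00096b) (Nat.ble 181 i)) (Nat.ble 180 i)) (Nat.ble 179 i)) (Nat.ble 176 i)) (Bool.rec (motive := fun _ => Nat) (Bool.rec (motive := fun _ => Nat) (Bool.rec (motive := fun _ => Nat) (0x500001a0003eb) (Bool.rec (motive := fun _ => Nat) (0x600001a0003e0) (0x700001a00024f)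 (Nat.ble 184 i)) (Nat.ble 183 i)) (Bool.rec (motive := fun _ => Nat) (0x1b000ccf) (Bool.rec (motive := fun _ => Nat) (0x100001b000ae5) (0x200001b000937) (Nat.ble 187 i)) (Nat.ble 186 i)) (Nat.ble 185 i)) (Bool.rec (motive := fun _ => Nat) (Bool.rec (motive := fun _ => Nat) (0x300001b000c53) (Bool.rec (motive := fun _ => Nat) (0x400001b0008f5) (0x500001b00085c) (Nat.ble 190 i)) (Nat.ble 189 i)) (Bool.rec (motive := fun _ => Nat) (Bool.rec (motive := fun _ => Nat) (0x600001b000eb6) (0x200001c000bdf) (Nat.ble 192 i)) (Bool.rec (motive := fun _ => Nat) (0x300001c000c7a) (0x500001c000ecc) (Nat.ble 194 i)) (Nat.ble 193 i)) (Nat.ble 191 i)) (Nat.ble 188 i)) (Nat.ble 182 i)) (Nat.ble 170 i))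
noncomputable def CK0P_4 (i : Nat) : Nat := (Bool.rec (motive := fun _ => Nat) (Bool.rec (motive := fun _ => Nat) (Bool.rec (motive := fun _ => Nat) (Bool.rec (motive := fun _ => Nat) (Bool.rec (motive := fun _ => Nat) (0x600001c000948) (Bool.rec (motive := fun _ => Nat) (0x700001c000e59) (0x400001d000cc6) (Nat.ble 197 i)) (Nat.ble 196 i)) (Bool.rec (motive := fun _ => Nat) (0x500001d000ce8) (Bool.rec (motive := fun _ => Nat) (0x600001d000f1f) (0x1e000e70) (Nat.ble 200 i)) (Nat.ble 199 i)) (Nat.ble 198 i)) (Bool.rec (motive := fun _ => Nat) (Bool.rec (motive := fun _ => Nat) (0x200001e000b88) (Bool.rec (motive := fun _ => Nat) (0x300001e0002d5) (0x400001e00086b) (Nat.ble 203 i)) (Nat.ble 202 i)) (Bool.rec (motive := fun _ => Nat) (0x500001e0003f6) (Bool.rec (motive := fun _ => Nat) (0x600001e000efd) (0x1f000d88) (Nat.ble 206 i)) (Nat.ble 205 i)) (Nat.ble 204 i)) (Nat.ble 201 i)) (Bool.rec (motive := fun _ => Nat) (Bool.rec (motive := fun _ => Nat) (Bool.rec (motive := fun _ => Nat) (0x100001f000cf6)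 (Bool.rec (motive := fun _ => Nat) (0x200001f0003e3) (0x300001f000e9e) (Nat.ble 209 i)) (Nat.ble 208 i)) (Bool.rec (motive := fun _ => Nat) (0x400001f000cef) (Bool.rec (motive := fun _ => Nat) (0x500001f0006d6) (0x200002e1) (Nat.ble 212 i)) (Nat.ble 211 i)) (Nat.ble 210 i)) (Bool.rec (motive := fun _ => Nat) (Bool.rec (motive := fun _ => Nat) (0x100002000042b) (Bool.rec (motive := fun _ => Nat) (0x2000020000ec8) (0x300002000052a) (Nat.ble 215 i)) (Nat.ble 214 i)) (Bool.rec (motive := fun _ => Nat) (0x4000020000925) (Bool.rec (motive := fun _ => Nat) (0x5000020000e88) (0x60000200006b2) (Nat.ble 218 i)) (Nat.ble 217 i)) (Nat.ble 216 i)) (Nat.ble 213 i)) (Nat.ble 207 i)) (Bool.rec (motive := fun _ => Nat) (Bool.rec (motive := fun _ => Nat) (Bool.rec (motive := fun _ => Nat) (Bool.rec (motive := fun _ => Nat) (0x7000020000d89) (Bool.rec (motive := fun _ => Nat) (0x10000210009ed) (0x2000021000a09) (Nat.ble 221 i)) (Nat.ble 220 i)) (Bool.rec (motive := fun _ => Nat) (0x30000210007a7) (Bool.rec (motive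 := fun _ => Nat) (0x40000210009eb) (0x500002100060a) (Nat.ble 224 i)) (Nat.ble 223 i)) (Nat.ble 222 i)) (Bool.rec (motive := fun _ => Nat) (Bool.rec (motive := fun _ => Nat) (0x6000021000ddf) (Bool.rec (motive := fun _ => Nat) (0x22000ced) (0x2000022000972) (Nat.ble 227 i)) (Nat.ble 226 i)) (Bool.rec (motive := fun _ => Nat) (0x3000022000cba) (Bool.rec (motive := fun _ => Nat) (0x4000022000c7d) (0x5000022000997) (Nat.ble 230 i)) (Nat.ble 229 i)) (Nat.ble 228 i)) (Nat.ble 225 i)) (Bool.rec (motive := fun _ => Nat) (Bool.rec (motive := fun _ => Nat) (Bool.rec (motive := fun _ => Nat) (0x6000022000f03) (Bool.rec (motive := fun _ => Nat) (0x7000022000ddd) (0x40000230007d4) (Nat.ble 233 i)) (Nat.ble 232 i)) (Bool.rec (motive := fun _ => Nat) (0x5000023000b10) (Bool.rec (motive := fun _ => Nat) (0x6000023000c8e) (0x7000023000d8a) (Nat.ble 236 i)) (Nat.ble 235 i)) (Nat.ble 234 i)) (Bool.rec (motive := fun _ => Nat) (Bool.rec (motive := fun _ => Nat) (0x24000b00) (Bool.rec (motive := fun _ => Nat) (0x2000024000b94)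 (0x3000024000b39) (Nat.ble 239 i)) (Nat.ble 238 i)) (Bool.rec (motive := fun _ => Nat) (0x4000024000e85) (Bool.rec (motive := fun _ => Nat) (0x5000024000850) (0x6000024000cf3) (Nat.ble 242 i)) (Nat.ble 241 i)) (Nat.ble 240 i)) (Nat.ble 237 i)) (Nat.ble 231 i)) (Nat.ble 219 i))
noncomputable def CK0P_5 (i : Nat) : Nat := (Bool.rec (motive := fun _ => Nat) (Bool.rec (motive := fun _ => Nat) (Bool.rec (motive := fun _ => Nat) (Bool.rec (motive := fun _ => Nat) (Bool.rec (motive := fun _ => Nat) (0x25000a00) (Bool.rec (motive := fun _ => Nat) (0x2000025000ea4) (0x30000250000a4) (Nat.ble 245 i)) (Nat.ble 244 i)) (Bool.rec (motive := fun _ => Nat) (0x40000250009e7) (Bool.rec (motive := fun _ => Nat) (0x50000250003b6) (0x7000025000306) (Nat.ble 248 i)) (Nat.ble 247 i)) (Nat.ble 246 i)) (Bool.rec (motive := fun _ => Nat) (Bool.rec (motive := fun _ => Nat) (0x26000ef7) (Bool.rec (motive := fun _ => Nat) (0x1000026000a11) (0x3000026000ed1) (Nat.ble 251 i)) (Nat.ble 250 i)) (Bool.rec (motive := fun _ =>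 Nat) (0x4000026000ba0) (Bool.rec (motive := fun _ => Nat) (0x5000026000b0f) (0x6000026000c86) (Nat.ble 254 i)) (Nat.ble 253 i)) (Nat.ble 252 i)) (Nat.ble 249 i)) (Bool.rec (motive := fun _ => Nat) (Bool.rec (motive := fun _ => Nat) (Bool.rec (motive := fun _ => Nat) (0x40000270003b9) (Bool.rec (motive := fun _ => Nat) (0x5000027000cc4) (0x6000027000590) (Nat.ble 257 i)) (Nat.ble 256 i)) (Bool.rec (motive := fun _ => Nat) (0x7000027000d42) (Bool.rec (motive := fun _ => Nat) (0x28000d4f) (0x2000028000ca1) (Nat.ble 260 i)) (Nat.ble 259 i)) (Nat.ble 258 i)) (Bool.rec (motive := fun _ => Nat) (Bool.rec (motive := fun _ => Nat) (0x3000028000b79) (Bool.rec (motive := fun _ => Nat) (0x40000280006ac) (0x50000280005fc) (Nat.ble 263 i)) (Nat.ble 262 i)) (Bool.rec (motive := fun _ => Nat) (0x600002800085b) (Bool.rec (motive := fun _ => Nat) (0x700002800052e) (0x2900044c) (Nat.ble 266 i)) (Nat.ble 265 i)) (Nat.ble 264 i)) (Nat.ble 261 i)) (Nat.ble 255 i)) (Bool.rec (motive := fun _ => Nat) (Bool.rec (motive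 := fun _ => Nat) (Bool.rec (motive := fun _ => Nat) (Bool.rec (motive := fun _ => Nat) (0x1000029000992) (Bool.rec (motive := fun _ => Nat) (0x3000029000d65) (0x4000029000ba4) (Nat.ble 269 i)) (Nat.ble 268 i)) (Bool.rec (motive := fun _ => Nat) (0x500002900081b) (Bool.rec (motive := fun _ => Nat) (0x7000029000c61) (0x2a000e73) (Nat.ble 272 i)) (Nat.ble 271 i)) (Nat.ble 270 i)) (Bool.rec (motive := fun _ => Nat) (Bool.rec (motive := fun _ => Nat) (0x200002a0006b4) (Bool.rec (motive := fun _ => Nat) (0x400002a000ac4) (0x500002a000544) (Nat.ble 275 i)) (Nat.ble 274 i)) (Bool.rec (motive := fun _ => Nat) (0x600002a000ae0) (Bool.rec (motive := fun _ => Nat) (0x2b0002c9) (0x100002b000f20) (Nat.ble 278 i)) (Nat.ble 277 i)) (Nat.ble 276 i)) (Nat.ble 273 i)) (Bool.rec (motive := fun _ => Nat) (Bool.rec (motive := fun _ => Nat) (Bool.rec (motive := fun _ => Nat) (0x200002b000c66) (Bool.rec (motive := fun _ => Nat) (0x300002b000883) (0x400002b000e4a) (Nat.ble 281 i)) (Nat.ble 280 i)) (Bool.rec (motive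 := fun _ => Nat) (0x500002b0002ce) (Bool.rec (motive := fun _ => Nat) (0x700002b000942) (0x2c00036d) (Nat.ble 284 i)) (Nat.ble 283 i)) (Nat.ble 282 i)) (Bool.rec (motive := fun _ => Nat) (Bool.rec (motive := fun _ => Nat) (0x100002c0001fa) (Bool.rec (motive := fun _ => Nat) (0x200002c000ca4) (0x300002c00082a) (Nat.ble 287 i)) (Nat.ble 286 i)) (Bool.rec (motive := fun _ => Nat) (Bool.rec (motive := fun _ => Nat) (0x400002c0002e7) (0x600002c0009b9) (Nat.ble 289 i)) (Bool.rec (motive := fun _ => Nat) (0x700002c000519) (0x2d000eaf) (Nat.ble 291 i)) (Nat.ble 290 i)) (Nat.ble 288 i)) (Nat.ble 285 i)) (Nat.ble 279 i)) (Nat.ble 267 i))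
noncomputable def CK0P_6 (i : Nat) : Nat := (Bool.rec (motive := fun _ => Nat) (Bool.rec (motive := fun _ => Nat) (Bool.rec (motive := fun _ => Nat) (Bool.rec (motive := fun _ => Nat) (Bool.rec (motive := fun _ => Nat) (0x200002d000857) (Bool.rec (motive := fun _ => Nat) (0x300002d000612) (0x400002d000d9e) (Nat.ble 294 i)) (Nat.ble 293 i)) (Bool.rec (motive := fun _ => Nat) (0x500002d0008f9) (Bool.rec (motive := fun _ => Nat) (0x600002d000c97) (0x700002d000870) (Nat.ble 297 i)) (Nat.ble 296 i)) (Nat.ble 295 i)) (Bool.rec (motive := fun _ => Nat) (Bool.rec (motive := fun _ => Nat) (0x500002e000bce) (Bool.rec (motive := fun _ => Nat) (0x600002e000e51) (0x700002e000bc0) (Nat.ble 300 i)) (Nat.ble 299 i)) (Bool.rec (motive := fun _ => Nat) (0x2f000373) (Bool.rec (motive := fun _ => Nat) (0x200002f000cbe) (0x300002f000e5a) (Nat.ble 303 i)) (Nat.ble 302 i)) (Nat.ble 301 i)) (Nat.ble 298 i)) (Bool.rec (motive := fun _ => Nat) (Bool.rec (motive := fun _ => Nat) (Bool.rec (motive := fun _ => Nat) (0x400002f000f16)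 (Bool.rec (motive := fun _ => Nat) (0x500002f00030d) (0x600002f000834) (Nat.ble 306 i)) (Nat.ble 305 i)) (Bool.rec (motive := fun _ => Nat) (0x700002f000e1b) (Bool.rec (motive := fun _ => Nat) (0x3000084b) (0x1000030000cea) (Nat.ble 309 i)) (Nat.ble 308 i)) (Nat.ble 307 i)) (Bool.rec (motive := fun _ => Nat) (Bool.rec (motive := fun _ => Nat) (0x2000030000721) (Bool.rec (motive := fun _ => Nat) (0x3000030000e86) (0x4000030000928) (Nat.ble 312 i)) (Nat.ble 311 i)) (Bool.rec (motive := fun _ => Nat) (0x5000030000c91) (Bool.rec (motive := fun _ => Nat) (0x7000030000a71) (0x31000e0c) (Nat.ble 315 i)) (Nat.ble 314 i)) (Nat.ble 313 i)) (Nat.ble 310 i)) (Nat.ble 304 i)) (Bool.rec (motive := fun _ => Nat) (Bool.rec (motive := fun _ => Nat) (Bool.rec (motive := fun _ => Nat) (Bool.rec (motive := fun _ => Nat) (0x100003100062e) (Bool.rec (motive := fun _ => Nat) (0x2000031000ee0) (0x3000031000539) (Nat.ble 318 i)) (Nat.ble 317 i)) (Bool.rec (motive := fun _ => Nat) (0x4000031000aec) (Bool.rec (motive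 := fun _ => Nat) (0x5000031000bc4) (0x6000031000971) (Nat.ble 321 i)) (Nat.ble 320 i)) (Nat.ble 319 i)) (Bool.rec (motive := fun _ => Nat) (Bool.rec (motive := fun _ => Nat) (0x32000d32) (Bool.rec (motive := fun _ => Nat) (0x1000032000b2f) (0x2000032000d62) (Nat.ble 324 i)) (Nat.ble 323 i)) (Bool.rec (motive := fun _ => Nat) (0x30000320007f9) (Bool.rec (motive := fun _ => Nat) (0x4000032000b69) (0x5000032000def) (Nat.ble 327 i)) (Nat.ble 326 i)) (Nat.ble 325 i)) (Nat.ble 322 i)) (Bool.rec (motive := fun _ => Nat) (Bool.rec (motive := fun _ => Nat) (Bool.rec (motive := fun _ => Nat) (0x700003200015b) (Bool.rec (motive := fun _ => Nat) (0x33000b3f) (0x10000330009b0) (Nat.ble 330 i)) (Nat.ble 329 i)) (Bool.rec (motive := fun _ => Nat) (0x2000033000ad5) (Bool.rec (motive := fun _ => Nat) (0x3000033000764) (0x4000033000d8c) (Nat.ble 333 i)) (Nat.ble 332 i)) (Nat.ble 331 i)) (Bool.rec (motive := fun _ => Nat) (Bool.rec (motive := fun _ => Nat) (0x50000330009cb) (Bool.rec (motive := fun _ => Nat) (0x6000033000e76)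 (0x7000033000d8d) (Nat.ble 336 i)) (Nat.ble 335 i)) (Bool.rec (motive := fun _ => Nat) (Bool.rec (motive := fun _ => Nat) (0x34000dec) (0x1000034000d5b) (Nat.ble 338 i)) (Bool.rec (motive := fun _ => Nat) (0x20000340009f2) (0x3000034000741) (Nat.ble 340 i)) (Nat.ble 339 i)) (Nat.ble 337 i)) (Nat.ble 334 i)) (Nat.ble 328 i)) (Nat.ble 316 i))
noncomputable def CK0P_7 (i : Nat) : Nat := (Bool.rec (motive := fun _ => Nat) (Bool.rec (motive := fun _ => Nat) (Bool.rec (motive := fun _ => Nat) (Bool.rec (motive := fun _ => Nat) (Bool.rec (motive := fun _ => Nat) (0x400003400063b) (Bool.rec (motive := fun _ => Nat) (0x50000340005d1) (0x6000034000630) (Nat.ble 343 i)) (Nat.ble 342 i)) (Bool.rec (motive := fun _ => Nat) (0x7000034000e5b) (Bool.rec (motive := fun _ => Nat) (0x35000040) (0x2000035000bb7) (Nat.ble 346 i)) (Nat.ble 345 i)) (Nat.ble 344 i)) (Bool.rec (motive := fun _ => Nat) (Bool.rec (motive := fun _ => Nat) (0x30000350008f7) (Bool.rec (motive := fun _ => Nat) (0x4000035000bb8) (0x5000035000236)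 (Nat.ble 349 i)) (Nat.ble 348 i)) (Bool.rec (motive := fun _ => Nat) (0x600003500001f) (Bool.rec (motive := fun _ => Nat) (0x7000035000826) (0x5000036000477) (Nat.ble 352 i)) (Nat.ble 351 i)) (Nat.ble 350 i)) (Nat.ble 347 i)) (Bool.rec (motive := fun _ => Nat) (Bool.rec (motive := fun _ => Nat) (Bool.rec (motive := fun _ => Nat) (0x7000036000933) (Bool.rec (motive := fun _ => Nat) (0x37000a74) (0x20000370003c8) (Nat.ble 355 i)) (Nat.ble 354 i)) (Bool.rec (motive := fun _ => Nat) (0x300003700007b) (Bool.rec (motive := fun _ => Nat) (0x4000037000a28) (0x70000370000f5) (Nat.ble 358 i)) (Nat.ble 357 i)) (Nat.ble 356 i)) (Bool.rec (motive := fun _ => Nat) (Bool.rec (motive := fun _ => Nat) (0x38000173) (Bool.rec (motive := fun _ => Nat) (0x1000038000c4e) (0x3000038000c76) (Nat.ble 361 i)) (Nat.ble 360 i)) (Bool.rec (motive := fun _ => Nat) (0x4000038000720) (Bool.rec (motive := fun _ => Nat) (0x5000038000179) (0x39000ce2) (Nat.ble 364 i)) (Nat.ble 363 i)) (Nat.ble 362 i)) (Nat.ble 359 i)) (Nat.ble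 353 i)) (Bool.rec (motive := fun _ => Nat) (Bool.rec (motive := fun _ => Nat) (Bool.rec (motive := fun _ => Nat) (Bool.rec (motive := fun _ => Nat) (0x20000390006bc) (Bool.rec (motive := fun _ => Nat) (0x4000039000691) (0x5000039000882) (Nat.ble 367 i)) (Nat.ble 366 i)) (Bool.rec (motive := fun _ => Nat) (0x60000390007b0) (Bool.rec (motive := fun _ => Nat) (0x3a000e81) (0x100003a000919) (Nat.ble 370 i)) (Nat.ble 369 i)) (Nat.ble 368 i)) (Bool.rec (motive := fun _ => Nat) (Bool.rec (motive := fun _ => Nat) (0x200003a000d47) (Bool.rec (motive := fun _ => Nat) (0x300003a000ca6) (0x400003a000c46) (Nat.ble 373 i)) (Nat.ble 372 i)) (Bool.rec (motive := fun _ => Nat) (0x500003a00057f) (Bool.rec (motive := fun _ => Nat) (0x600003a000d00) (0x700003a000bc6) (Nat.ble 376 i)) (Nat.ble 375 i)) (Nat.ble 374 i)) (Nat.ble 371 i)) (Bool.rec (motive := fun _ => Nat) (Bool.rec (motive := fun _ => Nat) (Bool.rec (motive := fun _ => Nat) (0x3b000ca0) (Bool.rec (motive := fun _ => Nat) (0x200003b000cd2) (0x300003b000d33)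 (Nat.ble 379 i)) (Nat.ble 378 i)) (Bool.rec (motive := fun _ => Nat) (0x400003b000e4c) (Bool.rec (motive := fun _ => Nat) (0x500003b000838) (0x600003b000136) (Nat.ble 382 i)) (Nat.ble 381 i)) (Nat.ble 380 i)) (Bool.rec (motive := fun _ => Nat) (Bool.rec (motive := fun _ => Nat) (0x700003b00073c) (Bool.rec (motive := fun _ => Nat) (0x200003c000da4) (0x300003c0003e7) (Nat.ble 385 i)) (Nat.ble 384 i)) (Bool.rec (motive := fun _ => Nat) (Bool.rec (motive := fun _ => Nat) (0x400003c000755) (0x500003c000b8f) (Nat.ble 387 i)) (Bool.rec (motive := fun _ => Nat) (0x700003c000839) (0x500003d000be8) (Nat.ble 389 i)) (Nat.ble 388 i)) (Nat.ble 386 i)) (Nat.ble 383 i)) (Nat.ble 377 i)) (Nat.ble 365 i))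
noncomputable def CK0P_8 (i : Nat) : Nat := (Bool.rec (motive := fun _ => Nat) (Bool.rec (motive := fun _ => Nat) (Bool.rec (motive := fun _ => Nat) (Bool.rec (motive := fun _ => Nat) (Bool.rec (motive := fun _ => Nat) (0x600003d000bc2) (Bool.rec (motive := fun _ => Nat) (0x3e000a5c) (0x200003e000845) (Nat.ble 392 i)) (Nat.ble 391 i)) (Bool.rec (motive := fun _ => Nat) (0x300003e000ee4) (Bool.rec (motive := fun _ => Nat) (0x400003e000aeb) (0x600003e0006fb) (Nat.ble 395 i)) (Nat.ble 394 i)) (Nat.ble 393 i)) (Bool.rec (motive := fun _ => Nat) (Bool.rec (motive := fun _ => Nat) (0x700003e0002a7) (Bool.rec (motive := fun _ => Nat) (0x100003f000833) (0x200003f0008dc) (Nat.ble 398 i)) (Nat.ble 397 i)) (Bool.rec (motive := fun _ => Nat) (0x400003f000669) (Bool.rec (motive := fun _ => Nat) (0x500003f00078c) (0x1000040000596) (Nat.ble 401 i)) (Nat.ble 400 i)) (Nat.ble 399 i)) (Nat.ble 396 i)) (Bool.rec (motive := fun _ => Nat) (Bool.rec (motive := fun _ => Nat) (Bool.rec (motive := fun _ => Nat) (0x200004000078a)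 (Bool.rec (motive := fun _ => Nat) (0x3000040000bb9) (0x5000040000aaf) (Nat.ble 404 i)) (Nat.ble 403 i)) (Bool.rec (motive := fun _ => Nat) (0x6000040000be2) (Bool.rec (motive := fun _ => Nat) (0x700004000034c) (0x41000584) (Nat.ble 407 i)) (Nat.ble 406 i)) (Nat.ble 405 i)) (Bool.rec (motive := fun _ => Nat) (Bool.rec (motive := fun _ => Nat) (0x1000041000677) (Bool.rec (motive := fun _ => Nat) (0x2000041000752) (0x30000410004e0) (Nat.ble 410 i)) (Nat.ble 409 i)) (Bool.rec (motive := fun _ => Nat) (0x4000041000113) (Bool.rec (motive := fun _ => Nat) (0x500004100074e) (0x7000041000a78) (Nat.ble 413 i)) (Nat.ble 412 i)) (Nat.ble 411 i)) (Nat.ble 408 i)) (Nat.ble 402 i)) (Bool.rec (motive := fun _ => Nat) (Bool.rec (motive := fun _ => Nat) (Bool.rec (motive := fun _ => Nat) (Bool.rec (motive := fun _ => Nat) (0x42000304) (Bool.rec (motive := fun _ => Nat) (0x10000420004e2) (0x2000042000918) (Nat.ble 416 i)) (Nat.ble 415 i)) (Bool.rec (motive := fun _ => Nat) (0x30000420004df) (Bool.rec (motive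 := fun _ => Nat) (0x4000042000119) (0x5000042000458) (Nat.ble 419 i)) (Nat.ble 418 i)) (Nat.ble 417 i)) (Bool.rec (motive := fun _ => Nat) (Bool.rec (motive := fun _ => Nat) (0x6000042000b63) (Bool.rec (motive := fun _ => Nat) (0x70000420007f3) (0x43000324) (Nat.ble 422 i)) (Nat.ble 421 i)) (Bool.rec (motive := fun _ => Nat) (0x20000430000e6) (Bool.rec (motive := fun _ => Nat) (0x3000043000c57) (0x50000430006d3) (Nat.ble 425 i)) (Nat.ble 424 i)) (Nat.ble 423 i)) (Nat.ble 420 i)) (Bool.rec (motive := fun _ => Nat) (Bool.rec (motive := fun _ => Nat) (Bool.rec (motive := fun _ => Nat) (0x60000430006b7) (Bool.rec (motive := fun _ => Nat) (0x70000430007db) (0x40000440006e8) (Nat.ble 428 i)) (Nat.ble 427 i)) (Bool.rec (motive := fun _ => Nat) (0x500004400099b) (Bool.rec (motive := fun _ => Nat) (0x6000044000655) (0x70000440000b4) (Nat.ble 431 i)) (Nat.ble 430 i)) (Nat.ble 429 i)) (Bool.rec (motive := fun _ => Nat) (Bool.rec (motive := fun _ => Nat) (0x45000ba5) (Bool.rec (motive := fun _ => Nat) (0x20000450006ca)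 (0x300004500034f) (Nat.ble 434 i)) (Nat.ble 433 i)) (Bool.rec (motive := fun _ => Nat) (0x4000045000ae4) (Bool.rec (motive := fun _ => Nat) (0x600004500001e) (0x700004500013b) (Nat.ble 437 i)) (Nat.ble 436 i)) (Nat.ble 435 i)) (Nat.ble 432 i)) (Nat.ble 426 i)) (Nat.ble 414 i))
noncomputable def CK0P_9 (i : Nat) : Nat := (Bool.rec (motive := fun _ => Nat) (Bool.rec (motive := fun _ => Nat) (Bool.rec (motive := fun _ => Nat) (Bool.rec (motive := fun _ => Nat) (Bool.rec (motive := fun _ => Nat) (0x46000633) (Bool.rec (motive := fun _ => Nat) (0x10000460007d8) (0x2000046000266) (Nat.ble 440 i)) (Nat.ble 439 i)) (Bool.rec (motive := fun _ => Nat) (0x3000046000e69) (Bool.rec (motive := fun _ => Nat) (0x4000046000739) (0x5000046000d0a) (Nat.ble 443 i)) (Nat.ble 442 i)) (Nat.ble 441 i)) (Bool.rec (motive := fun _ => Nat) (Bool.rec (motive := fun _ => Nat) (0x7000046000b76) (Bool.rec (motive := fun _ => Nat) (0x470002b7) (0x100004700068a) (Nat.ble 446 i)) (Nat.ble 445 i)) (Bool.rec (motive := fun _ =>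 Nat) (0x20000470000f0) (Bool.rec (motive := fun _ => Nat) (0x30000470005b9) (0x4000047000313) (Nat.ble 449 i)) (Nat.ble 448 i)) (Nat.ble 447 i)) (Nat.ble 444 i)) (Bool.rec (motive := fun _ => Nat) (Bool.rec (motive := fun _ => Nat) (Bool.rec (motive := fun _ => Nat) (0x50000470000a9) (Bool.rec (motive := fun _ => Nat) (0x48000328) (0x1000048000666) (Nat.ble 452 i)) (Nat.ble 451 i)) (Bool.rec (motive := fun _ => Nat) (0x200004800018b) (Bool.rec (motive := fun _ => Nat) (0x30000480002ee) (0x50000480005b4) (Nat.ble 455 i)) (Nat.ble 454 i)) (Nat.ble 453 i)) (Bool.rec (motive := fun _ => Nat) (Bool.rec (motive := fun _ => Nat) (0x6000048000f2d) (Bool.rec (motive := fun _ => Nat) (0x70000480003ef) (0x49000b86) (Nat.ble 458 i)) (Nat.ble 457 i)) (Bool.rec (motive := fun _ => Nat) (0x1000049000111) (Bool.rec (motive := fun _ => Nat) (0x20000490008fe) (0x300004900081a) (Nat.ble 461 i)) (Nat.ble 460 i)) (Nat.ble 459 i)) (Nat.ble 456 i)) (Nat.ble 450 i)) (Bool.rec (motive := fun _ => Nat) (Bool.rec (motive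 := fun _ => Nat) (Bool.rec (motive := fun _ => Nat) (Bool.rec (motive := fun _ => Nat) (0x40000490002a6) (Bool.rec (motive := fun _ => Nat) (0x6000049000e30) (0x7000049000742) (Nat.ble 464 i)) (Nat.ble 463 i)) (Bool.rec (motive := fun _ => Nat) (0x100004a0008ed) (Bool.rec (motive := fun _ => Nat) (0x200004a00021e) (0x300004a0009b4) (Nat.ble 467 i)) (Nat.ble 466 i)) (Nat.ble 465 i)) (Bool.rec (motive := fun _ => Nat) (Bool.rec (motive := fun _ => Nat) (0x500004a0002dd) (Bool.rec (motive := fun _ => Nat) (0x600004a00087d) (0x700004a000ce0) (Nat.ble 470 i)) (Nat.ble 469 i)) (Bool.rec (motive := fun _ => Nat) (0x4b0007e0) (Bool.rec (motive := fun _ => Nat) (0x200004b000cb6) (0x300004b00046d) (Nat.ble 473 i)) (Nat.ble 472 i)) (Nat.ble 471 i)) (Nat.ble 468 i)) (Bool.rec (motive := fun _ => Nat) (Bool.rec (motive := fun _ => Nat) (Bool.rec (motive := fun _ => Nat) (0x400004b000370) (Bool.rec (motive := fun _ => Nat) (0x700004b00067c) (0x400004c000073) (Nat.ble 476 i)) (Nat.ble 475 i)) (Bool.rec (motive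 := fun _ => Nat) (0x500004c00036a) (Bool.rec (motive := fun _ => Nat) (0x600004c000df0) (0x700004c000698) (Nat.ble 479 i)) (Nat.ble 478 i)) (Nat.ble 477 i)) (Bool.rec (motive := fun _ => Nat) (Bool.rec (motive := fun _ => Nat) (0x200004d000b5a) (Bool.rec (motive := fun _ => Nat) (0x300004d0005b1) (0x400004d000265) (Nat.ble 482 i)) (Nat.ble 481 i)) (Bool.rec (motive := fun _ => Nat) (Bool.rec (motive := fun _ => Nat) (0x500004d0002e6) (0x600004d0009c8) (Nat.ble 484 i)) (Bool.rec (motive := fun _ => Nat) (0x700004d000351) (0x4e0004fc) (Nat.ble 486 i)) (Nat.ble 485 i)) (Nat.ble 483 i)) (Nat.ble 480 i)) (Nat.ble 474 i)) (Nat.ble 462 i))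
noncomputable def CK0P_10 (i : Nat) : Nat := (Bool.rec (motive := fun _ => Nat) (Bool.rec (motive := fun _ => Nat) (Bool.rec (motive := fun _ => Nat) (Bool.rec (motive := fun _ => Nat) (Bool.rec (motive := fun _ => Nat) (0x100004e0007bf) (Bool.rec (motive := fun _ => Nat) (0x200004e000c18) (0x300004e0008f3) (Nat.ble 489 i)) (Nat.ble 488 i)) (Bool.rec (motive := fun _ => Nat) (0x400004e000df4) (Bool.rec (motive := fun _ => Nat) (0x500004e000a12) (0x4f0007dc) (Nat.ble 492 i)) (Nat.ble 491 i)) (Nat.ble 490 i)) (Bool.rec (motive := fun _ => Nat) (Bool.rec (motive := fun _ => Nat) (0x100004f0004a7) (Bool.rec (motive := fun _ => Nat) (0x300004f000eb5) (0x400004f00073f) (Nat.ble 495 i)) (Nat.ble 494 i)) (Bool.rec (motive := fun _ => Nat) (0x500004f00089b) (Bool.rec (motive := fun _ => Nat) (0x600004f000b6a) (0x50000a92) (Nat.ble 498 i)) (Nat.ble 497 i)) (Nat.ble 496 i)) (Nat.ble 493 i)) (Bool.rec (motive := fun _ => Nat) (Bool.rec (motive := fun _ => Nat) (Bool.rec (motive := fun _ => Nat) (0x1000050000459)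 (Bool.rec (motive := fun _ => Nat) (0x200005000031a) (0x30000500006c6) (Nat.ble 501 i)) (Nat.ble 500 i)) (Bool.rec (motive := fun _ => Nat) (0x400005000081d) (Bool.rec (motive := fun _ => Nat) (0x6000050000b54) (0x70000500002c6) (Nat.ble 504 i)) (Nat.ble 503 i)) (Nat.ble 502 i)) (Bool.rec (motive := fun _ => Nat) (Bool.rec (motive := fun _ => Nat) (0x51000561) (Bool.rec (motive := fun _ => Nat) (0x1000051000645) (0x2000051000318) (Nat.ble 507 i)) (Nat.ble 506 i)) (Bool.rec (motive := fun _ => Nat) (0x5000051000943) (Bool.rec (motive := fun _ => Nat) (0x600005100050b) (0x7000051000b7f) (Nat.ble 510 i)) (Nat.ble 509 i)) (Nat.ble 508 i)) (Nat.ble 505 i)) (Nat.ble 499 i)) (Bool.rec (motive := fun _ => Nat) (Bool.rec (motive := fun _ => Nat) (Bool.rec (motive := fun _ => Nat) (Bool.rec (motive := fun _ => Nat) (0x520003d6) (Bool.rec (motive := fun _ => Nat) (0x1000052000425) (0x20000520003bc) (Nat.ble 513 i)) (Nat.ble 512 i)) (Bool.rec (motive := fun _ => Nat) (0x30000520006b6) (Bool.rec (motive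 := fun _ => Nat) (0x4000052000c90) (0x500005200069f) (Nat.ble 516 i)) (Nat.ble 515 i)) (Nat.ble 514 i)) (Bool.rec (motive := fun _ => Nat) (Bool.rec (motive := fun _ => Nat) (0x7000052000b7d) (Bool.rec (motive := fun _ => Nat) (0x2000053000ce4) (0x50000530007a1) (Nat.ble 519 i)) (Nat.ble 518 i)) (Bool.rec (motive := fun _ => Nat) (0x6000053000790) (Bool.rec (motive := fun _ => Nat) (0x50000540006f5) (0x60000540004da) (Nat.ble 522 i)) (Nat.ble 521 i)) (Nat.ble 520 i)) (Nat.ble 517 i)) (Bool.rec (motive := fun _ => Nat) (Bool.rec (motive := fun _ => Nat) (Bool.rec (motive := fun _ => Nat) (0x7000054000887) (Bool.rec (motive := fun _ => Nat) (0x5500057c) (0x20000550007f2) (Nat.ble 525 i)) (Nat.ble 524 i)) (Bool.rec (motive := fun _ => Nat) (0x30000550002d9) (Bool.rec (motive := fun _ => Nat) (0x400005500030a) (0x500005500082c) (Nat.ble 528 i)) (Nat.ble 527 i)) (Nat.ble 526 i)) (Bool.rec (motive := fun _ => Nat) (Bool.rec (motive := fun _ => Nat) (0x600005500088c) (Bool.rec (motive := fun _ => Nat)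 (0x7000055000904) (0x5600063c) (Nat.ble 531 i)) (Nat.ble 530 i)) (Bool.rec (motive := fun _ => Nat) (Bool.rec (motive := fun _ => Nat) (0x1000056000b91) (0x200005600076a) (Nat.ble 533 i)) (Bool.rec (motive := fun _ => Nat) (0x3000056000a6c) (0x4000056000d56) (Nat.ble 535 i)) (Nat.ble 534 i)) (Nat.ble 532 i)) (Nat.ble 529 i)) (Nat.ble 523 i)) (Nat.ble 511 i))
noncomputable def CK0P_11 (i : Nat) : Nat := (Bool.rec (motive := fun _ => Nat) (Bool.rec (motive := fun _ => Nat) (Bool.rec (motive := fun _ => Nat) (Bool.rec (motive := fun _ => Nat) (Bool.rec (motive := fun _ => Nat) (0x50000560004ed) (Bool.rec (motive := fun _ => Nat) (0x7000056000b42) (0x57000acc) (Nat.ble 538 i)) (Nat.ble 537 i)) (Bool.rec (motive := fun _ => Nat) (0x1000057000cfa) (Bool.rec (motive := fun _ => Nat) (0x200005700068c) (0x3000057000e82) (Nat.ble 541 i)) (Nat.ble 540 i)) (Nat.ble 539 i)) (Bool.rec (motive := fun _ => Nat) (Bool.rec (motive := fun _ => Nat) (0x4000057000ad1) (Bool.rec (motive := fun _ => Nat) (0x60000570008da)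 (0x5800057e) (Nat.ble 544 i)) (Nat.ble 543 i)) (Bool.rec (motive := fun _ => Nat) (0x100005800077b) (Bool.rec (motive := fun _ => Nat) (0x2000058000916) (0x30000580006a3) (Nat.ble 547 i)) (Nat.ble 546 i)) (Nat.ble 545 i)) (Nat.ble 542 i)) (Bool.rec (motive := fun _ => Nat) (Bool.rec (motive := fun _ => Nat) (Bool.rec (motive := fun _ => Nat) (0x4000058000cab) (Bool.rec (motive := fun _ => Nat) (0x5000058000582) (0x6000058000bd0) (Nat.ble 550 i)) (Nat.ble 549 i)) (Bool.rec (motive := fun _ => Nat) (0x700005800079b) (Bool.rec (motive := fun _ => Nat) (0x10000590004dd) (0x2000059000aa9) (Nat.ble 553 i)) (Nat.ble 552 i)) (Nat.ble 551 i)) (Bool.rec (motive := fun _ => Nat) (Bool.rec (motive := fun _ => Nat) (0x5000059000ea2) (Bool.rec (motive := fun _ => Nat) (0x6000059000d7e) (0x5a000c93) (Nat.ble 556 i)) (Nat.ble 555 i)) (Bool.rec (motive := fun _ => Nat) (0x200005a000ca8) (Bool.rec (motive := fun _ => Nat) (0x300005a000290) (0x500005a000c27) (Nat.ble 559 i)) (Nat.ble 558 i)) (Nat.ble 557 i)) (Nat.ble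 554 i)) (Nat.ble 548 i)) (Bool.rec (motive := fun _ => Nat) (Bool.rec (motive := fun _ => Nat) (Bool.rec (motive := fun _ => Nat) (Bool.rec (motive := fun _ => Nat) (0x600005a000b0e) (Bool.rec (motive := fun _ => Nat) (0x700005a0002fa) (0x400005b000cc3) (Nat.ble 562 i)) (Nat.ble 561 i)) (Bool.rec (motive := fun _ => Nat) (0x500005b000524) (Bool.rec (motive := fun _ => Nat) (0x700005b000b1b) (0x200005c000e6d) (Nat.ble 565 i)) (Nat.ble 564 i)) (Nat.ble 563 i)) (Bool.rec (motive := fun _ => Nat) (Bool.rec (motive := fun _ => Nat) (0x300005c0005fe) (Bool.rec (motive := fun _ => Nat) (0x500005c000de2) (0x600005c000c54) (Nat.ble 568 i)) (Nat.ble 567 i)) (Bool.rec (motive := fun _ => Nat) (0x700005c000f3c) (Bool.rec (motive := fun _ => Nat) (0x5d000f32) (0x200005d000e6e) (Nat.ble 571 i)) (Nat.ble 570 i)) (Nat.ble 569 i)) (Nat.ble 566 i)) (Bool.rec (motive := fun _ => Nat) (Bool.rec (motive := fun _ => Nat) (Bool.rec (motive := fun _ => Nat) (0x300005d000593) (Bool.rec (motive := fun _ => Nat) (0x500005d000bde)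 (0x700005d000b61) (Nat.ble 574 i)) (Nat.ble 573 i)) (Bool.rec (motive := fun _ => Nat) (0x5e000c39) (Bool.rec (motive := fun _ => Nat) (0x100005e0005a1) (0x200005e000c6d) (Nat.ble 577 i)) (Nat.ble 576 i)) (Nat.ble 575 i)) (Bool.rec (motive := fun _ => Nat) (Bool.rec (motive := fun _ => Nat) (0x500005e000cd9) (Bool.rec (motive := fun _ => Nat) (0x600005e000e8f) (0x400005f000305) (Nat.ble 580 i)) (Nat.ble 579 i)) (Bool.rec (motive := fun _ => Nat) (Bool.rec (motive := fun _ => Nat) (0x500005f000cc2) (0x600005f000674) (Nat.ble 582 i)) (Bool.rec (motive := fun _ => Nat) (0x700005f0002d4) (0x60000962) (Nat.ble 584 i)) (Nat.ble 583 i)) (Nat.ble 581 i)) (Nat.ble 578 i)) (Nat.ble 572 i)) (Nat.ble 560 i))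
noncomputable def CK0P_12 (i : Nat) : Nat := (Bool.rec (motive := fun _ => Nat) (Bool.rec (motive := fun _ => Nat) (Bool.rec (motive := fun _ => Nat) (Bool.rec (motive := fun _ => Nat) (Bool.rec (motive := fun _ => Nat) (0x200006000004b) (Bool.rec (motive := fun _ => Nat) (0x3000060000ca7) (0x5000060000ca5) (Nat.ble 587 i)) (Nat.ble 586 i)) (Bool.rec (motive := fun _ => Nat) (0x70000600006bd) (Bool.rec (motive := fun _ => Nat) (0x61000635) (0x1000061000e65) (Nat.ble 590 i)) (Nat.ble 589 i)) (Nat.ble 588 i)) (Bool.rec (motive := fun _ => Nat) (Bool.rec (motive := fun _ => Nat) (0x3000061000b36) (Bool.rec (motive := fun _ => Nat) (0x4000061000b5c) (0x5000061000c33) (Nat.ble 593 i)) (Nat.ble 592 i)) (Bool.rec (motive := fun _ => Nat) (0x100006200023e) (Bool.rec (motive := fun _ => Nat) (0x200006200078f) (0x300006200092f) (Nat.ble 596 i)) (Nat.ble 595 i)) (Nat.ble 594 i)) (Nat.ble 591 i)) (Bool.rec (motive := fun _ => Nat) (Bool.rec (motive := fun _ => Nat) (Bool.rec (motive := fun _ => Nat) (0x4000062000c75)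 (Bool.rec (motive := fun _ => Nat) (0x630002d0) (0x1000063000ab4) (Nat.ble 599 i)) (Nat.ble 598 i)) (Bool.rec (motive := fun _ => Nat) (0x2000063000567) (Bool.rec (motive := fun _ => Nat) (0x3000063000932) (0x600006300078d) (Nat.ble 602 i)) (Nat.ble 601 i)) (Nat.ble 600 i)) (Bool.rec (motive := fun _ => Nat) (Bool.rec (motive := fun _ => Nat) (0x640009f7) (Bool.rec (motive := fun _ => Nat) (0x1000064000dab) (0x2000064000c4f) (Nat.ble 605 i)) (Nat.ble 604 i)) (Bool.rec (motive := fun _ => Nat) (0x300006400069b) (Bool.rec (motive := fun _ => Nat) (0x5000064000c14) (0x6000064000473) (Nat.ble 608 i)) (Nat.ble 607 i)) (Nat.ble 606 i)) (Nat.ble 603 i)) (Nat.ble 597 i)) (Bool.rec (motive := fun _ => Nat) (Bool.rec (motive := fun _ => Nat) (Bool.rec (motive := fun _ => Nat) (Bool.rec (motive := fun _ => Nat) (0x7000064000d40) (Bool.rec (motive := fun _ => Nat) (0x65000411) (0x2000065000aa8) (Nat.ble 611 i)) (Nat.ble 610 i)) (Bool.rec (motive := fun _ => Nat) (0x3000065000366) (Bool.rec (motive := fun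 _ => Nat) (0x4000065000a0c) (0x5000065000aac) (Nat.ble 614 i)) (Nat.ble 613 i)) (Nat.ble 612 i)) (Bool.rec (motive := fun _ => Nat) (Bool.rec (motive := fun _ => Nat) (0x5000066000d9c) (Bool.rec (motive := fun _ => Nat) (0x6000066000cd0) (0x7000066000ef6) (Nat.ble 617 i)) (Nat.ble 616 i)) (Bool.rec (motive := fun _ => Nat) (0x67000f12) (Bool.rec (motive := fun _ => Nat) (0x3000067000ebc) (0x6000067000c2a) (Nat.ble 620 i)) (Nat.ble 619 i)) (Nat.ble 618 i)) (Nat.ble 615 i)) (Bool.rec (motive := fun _ => Nat) (Bool.rec (motive := fun _ => Nat) (Bool.rec (motive := fun _ => Nat) (0x7000067000514) (Bool.rec (motive := fun _ => Nat) (0x680006b3) (0x20000680006b8) (Nat.ble 623 i)) (Nat.ble 622 i)) (Bool.rec (motive := fun _ => Nat) (0x30000680006ba) (Bool.rec (motive := fun _ => Nat) (0x5000068000513) (0x69000401) (Nat.ble 626 i)) (Nat.ble 625 i)) (Nat.ble 624 i)) (Bool.rec (motive := fun _ => Nat) (Bool.rec (motive := fun _ => Nat) (0x1000069000ef0) (Bool.rec (motive := fun _ => Nat) (0x2000069000e46)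 (0x3000069000b2e) (Nat.ble 629 i)) (Nat.ble 628 i)) (Bool.rec (motive := fun _ => Nat) (Bool.rec (motive := fun _ => Nat) (0x40000690008e8) (0x5000069000e9c) (Nat.ble 631 i)) (Bool.rec (motive := fun _ => Nat) (0x6a000e72) (0x100006a000e18) (Nat.ble 633 i)) (Nat.ble 632 i)) (Nat.ble 630 i)) (Nat.ble 627 i)) (Nat.ble 621 i)) (Nat.ble 609 i))
noncomputable def CK0P_13 (i : Nat) : Nat := (Bool.rec (motive := fun _ => Nat) (Bool.rec (motive := fun _ => Nat) (Bool.rec (motive := fun _ => Nat) (Bool.rec (motive := fun _ => Nat) (Bool.rec (motive := fun _ => Nat) (0x200006a000bc9) (Bool.rec (motive := fun _ => Nat) (0x300006a000706) (0x400006a000deb) (Nat.ble 636 i)) (Nat.ble 635 i)) (Bool.rec (motive := fun _ => Nat) (0x600006a000ae8) (Bool.rec (motive := fun _ => Nat) (0x700006a000638) (0x6b0007ce) (Nat.ble 639 i)) (Nat.ble 638 i)) (Nat.ble 637 i)) (Bool.rec (motive := fun _ => Nat) (Bool.rec (motive := fun _ => Nat) (0x100006b000708) (Bool.rec (motive := fun _ => Nat) (0x200006b000823) (0x300006b000704)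 (Nat.ble 642 i)) (Nat.ble 641 i)) (Bool.rec (motive := fun _ => Nat) (0x400006b000c72) (Bool.rec (motive := fun _ => Nat) (0x500006b000d46) (0x600006b0006cf) (Nat.ble 645 i)) (Nat.ble 644 i)) (Nat.ble 643 i)) (Nat.ble 640 i)) (Bool.rec (motive := fun _ => Nat) (Bool.rec (motive := fun _ => Nat) (Bool.rec (motive := fun _ => Nat) (0x700006b000be9) (Bool.rec (motive := fun _ => Nat) (0x6c000bbf) (0x200006c000323) (Nat.ble 648 i)) (Nat.ble 647 i)) (Bool.rec (motive := fun _ => Nat) (0x300006c000a6b) (Bool.rec (motive := fun _ => Nat) (0x400006c000df1) (0x500006c000be3) (Nat.ble 651 i)) (Nat.ble 650 i)) (Nat.ble 649 i)) (Bool.rec (motive := fun _ => Nat) (Bool.rec (motive := fun _ => Nat) (0x600006c000920) (Bool.rec (motive := fun _ => Nat) (0x700006c000e5f) (0x500006d000af3) (Nat.ble 654 i)) (Nat.ble 653 i)) (Bool.rec (motive := fun _ => Nat) (0x700006d000bbb) (Bool.rec (motive := fun _ => Nat) (0x6e000b21) (0x200006e000240) (Nat.ble 657 i)) (Nat.ble 656 i)) (Nat.ble 655 i)) (Nat.ble 652 i)) (Nat.ble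 646 i)) (Bool.rec (motive := fun _ => Nat) (Bool.rec (motive := fun _ => Nat) (Bool.rec (motive := fun _ => Nat) (Bool.rec (motive := fun _ => Nat) (0x300006e000c2e) (Bool.rec (motive := fun _ => Nat) (0x400006e000c0c) (0x700006e00028f) (Nat.ble 660 i)) (Nat.ble 659 i)) (Bool.rec (motive := fun _ => Nat) (0x6f000395) (Bool.rec (motive := fun _ => Nat) (0x200006f000213) (0x300006f000e9a) (Nat.ble 663 i)) (Nat.ble 662 i)) (Nat.ble 661 i)) (Bool.rec (motive := fun _ => Nat) (Bool.rec (motive := fun _ => Nat) (0x600006f000c6c) (Bool.rec (motive := fun _ => Nat) (0x70000ce1) (0x1000070000276) (Nat.ble 666 i)) (Nat.ble 665 i)) (Bool.rec (motive := fun _ => Nat) (0x3000070000d3f) (Bool.rec (motive := fun _ => Nat) (0x71000185) (0x10000710007b8) (Nat.ble 669 i)) (Nat.ble 668 i)) (Nat.ble 667 i)) (Nat.ble 664 i)) (Bool.rec (motive := fun _ => Nat) (Bool.rec (motive := fun _ => Nat) (Bool.rec (motive := fun _ => Nat) (0x20000710009a7) (Bool.rec (motive := fun _ => Nat) (0x30000710005c3) (0x4000071000ac3)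 (Nat.ble 672 i)) (Nat.ble 671 i)) (Bool.rec (motive := fun _ => Nat) (0x5000071000ac2) (Bool.rec (motive := fun _ => Nat) (0x6000071000e3c) (0x700007100054e) (Nat.ble 675 i)) (Nat.ble 674 i)) (Nat.ble 673 i)) (Bool.rec (motive := fun _ => Nat) (Bool.rec (motive := fun _ => Nat) (0x100007200060c) (Bool.rec (motive := fun _ => Nat) (0x200007200095e) (0x3000072000b92) (Nat.ble 678 i)) (Nat.ble 677 i)) (Bool.rec (motive := fun _ => Nat) (Bool.rec (motive := fun _ => Nat) (0x500007200050f) (0x6000072000684) (Nat.ble 680 i)) (Bool.rec (motive := fun _ => Nat) (0x2000073000697) (0x300007300095f) (Nat.ble 682 i)) (Nat.ble 681 i)) (Nat.ble 679 i)) (Nat.ble 676 i)) (Nat.ble 670 i)) (Nat.ble 658 i))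
noncomputable def CK0P_14 (i : Nat) : Nat := (Bool.rec (motive := fun _ => Nat) (Bool.rec (motive := fun _ => Nat) (Bool.rec (motive := fun _ => Nat) (Bool.rec (motive := fun _ => Nat) (Bool.rec (motive := fun _ => Nat) (0x4000073000c81) (Bool.rec (motive := fun _ => Nat) (0x600007300012c) (0x7000073000d6a) (Nat.ble 685 i)) (Nat.ble 684 i)) (Bool.rec (motive := fun _ => Nat) (0x5000074000eff) (Bool.rec (motive := fun _ => Nat) (0x6000074000df5) (0x750006a9) (Nat.ble 688 i)) (Nat.ble 687 i)) (Nat.ble 686 i)) (Bool.rec (motive := fun _ => Nat) (Bool.rec (motive := fun _ => Nat) (0x20000750006ae) (Bool.rec (motive := fun _ => Nat) (0x30000750006af) (0x40000750006b1) (Nat.ble 691 i)) (Nat.ble 690 i)) (Bool.rec (motive := fun _ => Nat) (0x60000750008ec) (Bool.rec (motive := fun _ => Nat) (0x7000075000d82) (0x4000076000b59) (Nat.ble 694 i)) (Nat.ble 693 i)) (Nat.ble 692 i)) (Nat.ble 689 i)) (Bool.rec (motive := fun _ => Nat) (Bool.rec (motive := fun _ => Nat) (Bool.rec (motive := fun _ => Nat) (0x5000076000c38)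 (Bool.rec (motive := fun _ => Nat) (0x770008d0) (0x5000077000d63) (Nat.ble 697 i)) (Nat.ble 696 i)) (Bool.rec (motive := fun _ => Nat) (0x6000077000b41) (Bool.rec (motive := fun _ => Nat) (0x7000077000abf) (0x78000c04) (Nat.ble 700 i)) (Nat.ble 699 i)) (Nat.ble 698 i)) (Bool.rec (motive := fun _ => Nat) (Bool.rec (motive := fun _ => Nat) (0x100007800053b) (Bool.rec (motive := fun _ => Nat) (0x2000078000bda) (0x3000078000b46) (Nat.ble 703 i)) (Nat.ble 702 i)) (Bool.rec (motive := fun _ => Nat) (0x5000078000c60) (Bool.rec (motive := fun _ => Nat) (0x60000780006bf) (0x7000078000b1a) (Nat.ble 706 i)) (Nat.ble 705 i)) (Nat.ble 704 i)) (Nat.ble 701 i)) (Nat.ble 695 i)) (Bool.rec (motive := fun _ => Nat) (Bool.rec (motive := fun _ => Nat) (Bool.rec (motive := fun _ => Nat) (Bool.rec (motive := fun _ => Nat) (0x2000079000350) (Bool.rec (motive := fun _ => Nat) (0x3000079000ab3) (0x500007900030b) (Nat.ble 709 i)) (Nat.ble 708 i)) (Bool.rec (motive := fun _ => Nat) (0x600007900085d) (Bool.rec (motive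 := fun _ => Nat) (0x700007900084f) (0x7a000321) (Nat.ble 712 i)) (Nat.ble 711 i)) (Nat.ble 710 i)) (Bool.rec (motive := fun _ => Nat) (Bool.rec (motive := fun _ => Nat) (0x300007a00047a) (Bool.rec (motive := fun _ => Nat) (0x500007a00035d) (0x700007a0004ba) (Nat.ble 715 i)) (Nat.ble 714 i)) (Bool.rec (motive := fun _ => Nat) (0x7b000bec) (Bool.rec (motive := fun _ => Nat) (0x200007b0006d2) (0x300007b0008ac) (Nat.ble 718 i)) (Nat.ble 717 i)) (Nat.ble 716 i)) (Nat.ble 713 i)) (Bool.rec (motive := fun _ => Nat) (Bool.rec (motive := fun _ => Nat) (Bool.rec (motive := fun _ => Nat) (0x400007b000416) (Bool.rec (motive := fun _ => Nat) (0x500007b0004e5) (0x600007b000ceb) (Nat.ble 721 i)) (Nat.ble 720 i)) (Bool.rec (motive := fun _ => Nat) (0x700007b00067d) (Bool.rec (motive := fun _ => Nat) (0x7c000554) (0x100007c0003e6) (Nat.ble 724 i)) (Nat.ble 723 i)) (Nat.ble 722 i)) (Bool.rec (motive := fun _ => Nat) (Bool.rec (motive := fun _ => Nat) (0x200007c00051a) (Bool.rec (motive := fun _ => Nat) (0x300007c000984)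 (0x400007c000d15) (Nat.ble 727 i)) (Nat.ble 726 i)) (Bool.rec (motive := fun _ => Nat) (Bool.rec (motive := fun _ => Nat) (0x500007c000a1b) (0x7d0007aa) (Nat.ble 729 i)) (Bool.rec (motive := fun _ => Nat) (0x100007d0005b2) (0x200007d000314) (Nat.ble 731 i)) (Nat.ble 730 i)) (Nat.ble 728 i)) (Nat.ble 725 i)) (Nat.ble 719 i)) (Nat.ble 707 i))
noncomputable def CK0P_15 (i : Nat) : Nat := (Bool.rec (motive := fun _ => Nat) (Bool.rec (motive := fun _ => Nat) (Bool.rec (motive := fun _ => Nat) (Bool.rec (motive := fun _ => Nat) (Bool.rec (motive := fun _ => Nat) (0x300007d000ece) (Bool.rec (motive := fun _ => Nat) (0x400007d000a73) (0x500007d00093b) (Nat.ble 734 i)) (Nat.ble 733 i)) (Bool.rec (motive := fun _ => Nat) (0x600007d000287) (Bool.rec (motive := fun _ => Nat) (0x7e0007d6) (0x100007e000de5) (Nat.ble 737 i)) (Nat.ble 736 i)) (Nat.ble 735 i)) (Bool.rec (motive := fun _ => Nat) (Bool.rec (motive := fun _ => Nat) (0x200007e000b7a) (Bool.rec (motive := fun _ => Nat) (0x300007e000b68) (0x700007e000dc7)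 (Nat.ble 740 i)) (Nat.ble 739 i)) (Bool.rec (motive := fun _ => Nat) (0x7f000dc2) (Bool.rec (motive := fun _ => Nat) (0x100007f000132) (0x200007f000d4e) (Nat.ble 743 i)) (Nat.ble 742 i)) (Nat.ble 741 i)) (Nat.ble 738 i)) (Bool.rec (motive := fun _ => Nat) (Bool.rec (motive := fun _ => Nat) (Bool.rec (motive := fun _ => Nat) (0x300007f000b04) (Bool.rec (motive := fun _ => Nat) (0x400007f000f22) (0x700007f000da0) (Nat.ble 746 i)) (Nat.ble 745 i)) (Bool.rec (motive := fun _ => Nat) (0x1000080000da8) (Bool.rec (motive := fun _ => Nat) (0x2000080000bf4) (0x3000080000566) (Nat.ble 749 i)) (Nat.ble 748 i)) (Nat.ble 747 i)) (Bool.rec (motive := fun _ => Nat) (Bool.rec (motive := fun _ => Nat) (0x5000080000d73) (Bool.rec (motive := fun _ => Nat) (0x60000800006df) (0x7000080000512) (Nat.ble 752 i)) (Nat.ble 751 i)) (Bool.rec (motive := fun _ => Nat) (0x81000af0) (Bool.rec (motive := fun _ => Nat) (0x200008100063f) (0x300008100081f) (Nat.ble 755 i)) (Nat.ble 754 i)) (Nat.ble 753 i)) (Nat.ble 750 i)) (Nat.ble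 744 i)) (Bool.rec (motive := fun _ => Nat) (Bool.rec (motive := fun _ => Nat) (Bool.rec (motive := fun _ => Nat) (Bool.rec (motive := fun _ => Nat) (0x4000081000a40) (Bool.rec (motive := fun _ => Nat) (0x600008100039e) (0x4000082000906) (Nat.ble 758 i)) (Nat.ble 757 i)) (Bool.rec (motive := fun _ => Nat) (0x7000082000e8d) (Bool.rec (motive := fun _ => Nat) (0x83000e99) (0x1000083000b37) (Nat.ble 761 i)) (Nat.ble 760 i)) (Nat.ble 759 i)) (Bool.rec (motive := fun _ => Nat) (Bool.rec (motive := fun _ => Nat) (0x20000830006ab) (Bool.rec (motive := fun _ => Nat) (0x3000083000767) (0x4000083000f41) (Nat.ble 764 i)) (Nat.ble 763 i)) (Bool.rec (motive := fun _ => Nat) (0x5000083000679) (Bool.rec (motive := fun _ => Nat) (0x6000083000b98) (0x10000840004f0) (Nat.ble 767 i)) (Nat.ble 766 i)) (Nat.ble 765 i)) (Nat.ble 762 i)) (Bool.rec (motive := fun _ => Nat) (Bool.rec (motive := fun _ => Nat) (Bool.rec (motive := fun _ => Nat) (0x2000084000661) (Bool.rec (motive := fun _ => Nat) (0x5000084000a79) (0x600008400058b)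 (Nat.ble 770 i)) (Nat.ble 769 i)) (Bool.rec (motive := fun _ => Nat) (0x70000840008e6) (Bool.rec (motive := fun _ => Nat) (0x850003ca) (0x1000085000245) (Nat.ble 773 i)) (Nat.ble 772 i)) (Nat.ble 771 i)) (Bool.rec (motive := fun _ => Nat) (Bool.rec (motive := fun _ => Nat) (0x2000085000402) (Bool.rec (motive := fun _ => Nat) (0x3000085000db2) (0x5000085000ab7) (Nat.ble 776 i)) (Nat.ble 775 i)) (Bool.rec (motive := fun _ => Nat) (Bool.rec (motive := fun _ => Nat) (0x7000085000780) (0x2000086000776) (Nat.ble 778 i)) (Bool.rec (motive := fun _ => Nat) (0x30000860004ea) (0x5000086000dba) (Nat.ble 780 i)) (Nat.ble 779 i)) (Nat.ble 777 i)) (Nat.ble 774 i)) (Nat.ble 768 i)) (Nat.ble 756 i))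
noncomputable def CK0P_16 (i : Nat) : Nat := (Bool.rec (motive := fun _ => Nat) (Bool.rec (motive := fun _ => Nat) (Bool.rec (motive := fun _ => Nat) (Bool.rec (motive := fun _ => Nat) (Bool.rec (motive := fun _ => Nat) (0x7000086000f36) (Bool.rec (motive := fun _ => Nat) (0x87000139) (0x2000087000a5d) (Nat.ble 783 i)) (Nat.ble 782 i)) (Bool.rec (motive := fun _ => Nat) (0x40000870005af) (Bool.rec (motive := fun _ => Nat) (0x50000870003f2) (0x600008700037d) (Nat.ble 786 i)) (Nat.ble 785 i)) (Nat.ble 784 i)) (Bool.rec (motive := fun _ => Nat) (Bool.rec (motive := fun _ => Nat) (0x70000870002d2) (Bool.rec (motive := fun _ => Nat) (0x88000e7e) (0x1000088000da7) (Nat.ble 789 i)) (Nat.ble 788 i)) (Bool.rec (motive := fun _ => Nat) (0x200008800052f) (Bool.rec (motive := fun _ => Nat) (0x3000088000d4c) (0x4000088000d90) (Nat.ble 792 i)) (Nat.ble 791 i)) (Nat.ble 790 i)) (Nat.ble 787 i)) (Bool.rec (motive := fun _ => Nat) (Bool.rec (motive := fun _ => Nat) (Bool.rec (motive := fun _ => Nat) (0x500008800082b)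 (Bool.rec (motive := fun _ => Nat) (0x7000088000394) (0x89000c1b) (Nat.ble 795 i)) (Nat.ble 794 i)) (Bool.rec (motive := fun _ => Nat) (0x1000089000b52) (Bool.rec (motive := fun _ => Nat) (0x3000089000717) (0x4000089000b55) (Nat.ble 798 i)) (Nat.ble 797 i)) (Nat.ble 796 i)) (Bool.rec (motive := fun _ => Nat) (Bool.rec (motive := fun _ => Nat) (0x500008900025a) (Bool.rec (motive := fun _ => Nat) (0x600008900081c) (0x100008a00027e) (Nat.ble 801 i)) (Nat.ble 800 i)) (Bool.rec (motive := fun _ => Nat) (0x200008a0006cb) (Bool.rec (motive := fun _ => Nat) (0x300008a000a3c) (0x500008a0002f2) (Nat.ble 804 i)) (Nat.ble 803 i)) (Nat.ble 802 i)) (Nat.ble 799 i)) (Nat.ble 793 i)) (Bool.rec (motive := fun _ => Nat) (Bool.rec (motive := fun _ => Nat) (Bool.rec (motive := fun _ => Nat) (Bool.rec (motive := fun _ => Nat) (0x600008a000eee) (Bool.rec (motive := fun _ => Nat) (0x100008b0009f6) (0x200008b0004ec) (Nat.ble 807 i)) (Nat.ble 806 i)) (Bool.rec (motive := fun _ => Nat) (0x300008b0005e3) (Bool.rec (motive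 := fun _ => Nat) (0x500008b000d49) (0x600008b000a70) (Nat.ble 810 i)) (Nat.ble 809 i)) (Nat.ble 808 i)) (Bool.rec (motive := fun _ => Nat) (Bool.rec (motive := fun _ => Nat) (0x700008b000f06) (Bool.rec (motive := fun _ => Nat) (0x200008c000389) (0x300008c000339) (Nat.ble 813 i)) (Nat.ble 812 i)) (Bool.rec (motive := fun _ => Nat) (0x400008c0009c5) (Bool.rec (motive := fun _ => Nat) (0x600008c0008b4) (0x400008d00096c) (Nat.ble 816 i)) (Nat.ble 815 i)) (Nat.ble 814 i)) (Nat.ble 811 i)) (Bool.rec (motive := fun _ => Nat) (Bool.rec (motive := fun _ => Nat) (Bool.rec (motive := fun _ => Nat) (0x600008d00037f) (Bool.rec (motive := fun _ => Nat) (0x700008d000537) (0x8e00050d) (Nat.ble 819 i)) (Nat.ble 818 i)) (Bool.rec (motive := fun _ => Nat) (0x200008e000ab8) (Bool.rec (motive := fun _ => Nat) (0x400008e00053d) (0x500008e0001f5) (Nat.ble 822 i)) (Nat.ble 821 i)) (Nat.ble 820 i)) (Bool.rec (motive := fun _ => Nat) (Bool.rec (motive := fun _ => Nat) (0x600008e00087f) (Bool.rec (motive := fun _ => Nat)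 (0x700008e0004e8) (0x8f000748) (Nat.ble 825 i)) (Nat.ble 824 i)) (Bool.rec (motive := fun _ => Nat) (0x100008f00068e) (Bool.rec (motive := fun _ => Nat) (0x200008f000333) (0x400008f000557) (Nat.ble 828 i)) (Nat.ble 827 i)) (Nat.ble 826 i)) (Nat.ble 823 i)) (Nat.ble 817 i)) (Nat.ble 805 i))
noncomputable def CK0P_17 (i : Nat) : Nat := (Bool.rec (motive := fun _ => Nat) (Bool.rec (motive := fun _ => Nat) (Bool.rec (motive := fun _ => Nat) (Bool.rec (motive := fun _ => Nat) (Bool.rec (motive := fun _ => Nat) (0x500008f0001e8) (Bool.rec (motive := fun _ => Nat) (0x700008f000448) (0x1000090000ec5) (Nat.ble 831 i)) (Nat.ble 830 i)) (Bool.rec (motive := fun _ => Nat) (0x2000090000979) (Bool.rec (motive := fun _ => Nat) (0x3000090000c65) (0x4000090000b53) (Nat.ble 834 i)) (Nat.ble 833 i)) (Nat.ble 832 i)) (Bool.rec (motive := fun _ => Nat) (Bool.rec (motive := fun _ => Nat) (0x50000900004de) (Bool.rec (motive := fun _ => Nat) (0x6000090000435) (0x5000091000968) (Nat.ble 837 i)) (Nat.ble 836 i)) (Bool.rec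 (motive := fun _ => Nat) (0x6000091000d9a) (Bool.rec (motive := fun _ => Nat) (0x7000091000880) (0x92000d39) (Nat.ble 840 i)) (Nat.ble 839 i)) (Nat.ble 838 i)) (Nat.ble 835 i)) (Bool.rec (motive := fun _ => Nat) (Bool.rec (motive := fun _ => Nat) (Bool.rec (motive := fun _ => Nat) (0x200009200071b) (Bool.rec (motive := fun _ => Nat) (0x5000092000bcc) (0x7000092000a86) (Nat.ble 843 i)) (Nat.ble 842 i)) (Bool.rec (motive := fun _ => Nat) (0x93000a07) (Bool.rec (motive := fun _ => Nat) (0x1000093000dd0) (0x3000093000db6) (Nat.ble 846 i)) (Nat.ble 845 i)) (Nat.ble 844 i)) (Bool.rec (motive := fun _ => Nat) (Bool.rec (motive := fun _ => Nat) (0x4000093000ea6) (Bool.rec (motive := fun _ => Nat) (0x5000093000c88) (0x7000093000648) (Nat.ble 849 i)) (Nat.ble 848 i)) (Bool.rec (motive := fun _ => Nat) (0x940005ad) (Bool.rec (motive := fun _ => Nat) (0x10000940003ba) (0x2000094000134) (Nat.ble 852 i)) (Nat.ble 851 i)) (Nat.ble 850 i)) (Nat.ble 847 i)) (Nat.ble 841 i)) (Bool.rec (motive := fun _ => Nat)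 (Bool.rec (motive := fun _ => Nat) (Bool.rec (motive := fun _ => Nat) (Bool.rec (motive := fun _ => Nat) (0x3000094000843) (Bool.rec (motive := fun _ => Nat) (0x4000094000c85) (0x6000094000f04) (Nat.ble 855 i)) (Nat.ble 854 i)) (Bool.rec (motive := fun _ => Nat) (0x2000095000830) (Bool.rec (motive := fun _ => Nat) (0x3000095000dd3) (0x500009500064b) (Nat.ble 858 i)) (Nat.ble 857 i)) (Nat.ble 856 i)) (Bool.rec (motive := fun _ => Nat) (Bool.rec (motive := fun _ => Nat) (0x7000095000447) (Bool.rec (motive := fun _ => Nat) (0x100009600080d) (0x2000096000768) (Nat.ble 861 i)) (Nat.ble 860 i)) (Bool.rec (motive := fun _ => Nat) (0x4000096000a0d) (Bool.rec (motive := fun _ => Nat) (0x5000096000174) (0x700009600077a) (Nat.ble 864 i)) (Nat.ble 863 i)) (Nat.ble 862 i)) (Nat.ble 859 i)) (Bool.rec (motive := fun _ => Nat) (Bool.rec (motive := fun _ => Nat) (Bool.rec (motive := fun _ => Nat) (0x2000097000ce3) (Bool.rec (motive := fun _ => Nat) (0x3000097000dde) (0x4000097000ec7) (Nat.ble 867 i)) (Nat.ble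 866 i)) (Bool.rec (motive := fun _ => Nat) (0x5000097000966) (Bool.rec (motive := fun _ => Nat) (0x7000097000e32) (0x5000098000d66) (Nat.ble 870 i)) (Nat.ble 869 i)) (Nat.ble 868 i)) (Bool.rec (motive := fun _ => Nat) (Bool.rec (motive := fun _ => Nat) (0x6000098000d5e) (Bool.rec (motive := fun _ => Nat) (0x70000980006f8) (0x990004e6) (Nat.ble 873 i)) (Nat.ble 872 i)) (Bool.rec (motive := fun _ => Nat) (Bool.rec (motive := fun _ => Nat) (0x20000990005fd) (0x3000099000813) (Nat.ble 875 i)) (Bool.rec (motive := fun _ => Nat) (0x4000099000a96) (0x500009900091c) (Nat.ble 877 i)) (Nat.ble 876 i)) (Nat.ble 874 i)) (Nat.ble 871 i)) (Nat.ble 865 i)) (Nat.ble 853 i))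
noncomputable def CK0P_18 (i : Nat) : Nat := (Bool.rec (motive := fun _ => Nat) (Bool.rec (motive := fun _ => Nat) (Bool.rec (motive := fun _ => Nat) (Bool.rec (motive := fun _ => Nat) (Bool.rec (motive := fun _ => Nat) (0x600009900058a) (Bool.rec (motive := fun _ => Nat) (0x70000990008bb) (0x9a000acd) (Nat.ble 880 i)) (Nat.ble 879 i)) (Bool.rec (motive := fun _ => Nat) (0x100009a00057b) (Bool.rec (motive := fun _ => Nat) (0x200009a000d44) (0x400009a000d11) (Nat.ble 883 i)) (Nat.ble 882 i)) (Nat.ble 881 i)) (Bool.rec (motive := fun _ => Nat) (Bool.rec (motive := fun _ => Nat) (0x500009a000c3a) (Bool.rec (motive := fun _ => Nat) (0x700009a000859) (0x9b0008e4) (Nat.ble 886 i)) (Nat.ble 885 i)) (Bool.rec (motive := fun _ => Nat) (0x100009b000a84) (Bool.rec (motive := fun _ => Nat) (0x200009b00075b) (0x300009b000264) (Nat.ble 889 i)) (Nat.ble 888 i)) (Nat.ble 887 i)) (Nat.ble 884 i)) (Bool.rec (motive := fun _ => Nat) (Bool.rec (motive := fun _ => Nat) (Bool.rec (motive := fun _ => Nat) (0x400009b000a85)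 (Bool.rec (motive := fun _ => Nat) (0x500009b0008c2) (0x600009b00062d) (Nat.ble 892 i)) (Nat.ble 891 i)) (Bool.rec (motive := fun _ => Nat) (0x9c000de4) (Bool.rec (motive := fun _ => Nat) (0x200009c0000a5) (0x300009c000ea9) (Nat.ble 895 i)) (Nat.ble 894 i)) (Nat.ble 893 i)) (Bool.rec (motive := fun _ => Nat) (Bool.rec (motive := fun _ => Nat) (0x400009c00061a) (Bool.rec (motive := fun _ => Nat) (0x500009c000297) (0x600009c00070f) (Nat.ble 898 i)) (Nat.ble 897 i)) (Bool.rec (motive := fun _ => Nat) (0x700009c000759) (Bool.rec (motive := fun _ => Nat) (0x9d000615) (0x100009d00098c) (Nat.ble 901 i)) (Nat.ble 900 i)) (Nat.ble 899 i)) (Nat.ble 896 i)) (Nat.ble 890 i)) (Bool.rec (motive := fun _ => Nat) (Bool.rec (motive := fun _ => Nat) (Bool.rec (motive := fun _ => Nat) (Bool.rec (motive := fun _ => Nat) (0x300009d000eba) (Bool.rec (motive := fun _ => Nat) (0x400009d000876) (0x500009d000dcd) (Nat.ble 904 i)) (Nat.ble 903 i)) (Bool.rec (motive := fun _ => Nat) (0x700009d0009b8) (Bool.rec (motive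 := fun _ => Nat) (0x9e000844) (0x200009e000267) (Nat.ble 907 i)) (Nat.ble 906 i)) (Nat.ble 905 i)) (Bool.rec (motive := fun _ => Nat) (Bool.rec (motive := fun _ => Nat) (0x300009e000add) (Bool.rec (motive := fun _ => Nat) (0x400009e000518) (0x600009e000152) (Nat.ble 910 i)) (Nat.ble 909 i)) (Bool.rec (motive := fun _ => Nat) (0x9f000e6a) (Bool.rec (motive := fun _ => Nat) (0x200009f000e0d) (0x300009f00087b) (Nat.ble 913 i)) (Nat.ble 912 i)) (Nat.ble 911 i)) (Nat.ble 908 i)) (Bool.rec (motive := fun _ => Nat) (Bool.rec (motive := fun _ => Nat) (Bool.rec (motive := fun _ => Nat) (0x400009f00071d) (Bool.rec (motive := fun _ => Nat) (0x600009f000006) (0x700009f000237) (Nat.ble 916 i)) (Nat.ble 915 i)) (Bool.rec (motive := fun _ => Nat) (0x50000a0000871) (Bool.rec (motive := fun _ => Nat) (0x70000a0000258) (0xa1000df8) (Nat.ble 919 i)) (Nat.ble 918 i)) (Nat.ble 917 i)) (Bool.rec (motive := fun _ => Nat) (Bool.rec (motive := fun _ => Nat) (0x20000a1000bf9) (Bool.rec (motive := fun _ => Nat) (0x30000a1000938)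 (0x40000a1000e35) (Nat.ble 922 i)) (Nat.ble 921 i)) (Bool.rec (motive := fun _ => Nat) (Bool.rec (motive := fun _ => Nat) (0x70000a10001a3) (0xa2000b3e) (Nat.ble 924 i)) (Bool.rec (motive := fun _ => Nat) (0x20000a20007ad) (0x30000a200075f) (Nat.ble 926 i)) (Nat.ble 925 i)) (Nat.ble 923 i)) (Nat.ble 920 i)) (Nat.ble 914 i)) (Nat.ble 902 i))
noncomputable def CK0P_19 (i : Nat) : Nat := (Bool.rec (motive := fun _ => Nat) (Bool.rec (motive := fun _ => Nat) (Bool.rec (motive := fun _ => Nat) (Bool.rec (motive := fun _ => Nat) (Bool.rec (motive := fun _ => Nat) (0x40000a2000b3a) (Bool.rec (motive := fun _ => Nat) (0x50000a2000a29) (0x60000a200066e) (Nat.ble 929 i)) (Nat.ble 928 i)) (Bool.rec (motive := fun _ => Nat) (0xa30006e1) (Bool.rec (motive := fun _ => Nat) (0x10000a300004d) (0x20000a300013a) (Nat.ble 932 i)) (Nat.ble 931 i)) (Nat.ble 930 i)) (Bool.rec (motive := fun _ => Nat) (Bool.rec (motive := fun _ => Nat) (0x30000a30009e8) (Bool.rec (motive := fun _ => Nat) (0x40000a30003bb) (0x50000a3000030)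 (Nat.ble 935 i)) (Nat.ble 934 i)) (Bool.rec (motive := fun _ => Nat) (0x60000a3000346) (Bool.rec (motive := fun _ => Nat) (0x70000a30009fc) (0xa40002ff) (Nat.ble 938 i)) (Nat.ble 937 i)) (Nat.ble 936 i)) (Nat.ble 933 i)) (Bool.rec (motive := fun _ => Nat) (Bool.rec (motive := fun _ => Nat) (Bool.rec (motive := fun _ => Nat) (0x10000a400017e) (Bool.rec (motive := fun _ => Nat) (0x20000a4000023) (0x60000a4000e63) (Nat.ble 941 i)) (Nat.ble 940 i)) (Bool.rec (motive := fun _ => Nat) (0x70000a40003f4) (Bool.rec (motive := fun _ => Nat) (0xa5000196) (0x10000a5000164) (Nat.ble 944 i)) (Nat.ble 943 i)) (Nat.ble 942 i)) (Bool.rec (motive := fun _ => Nat) (Bool.rec (motive := fun _ => Nat) (0x20000a5000865) (Bool.rec (motive := fun _ => Nat) (0x30000a5000cda) (0x40000a5000516) (Nat.ble 947 i)) (Nat.ble 946 i)) (Bool.rec (motive := fun _ => Nat) (0x60000a50006cc) (Bool.rec (motive := fun _ => Nat) (0x70000a500074b) (0xa6000886) (Nat.ble 950 i)) (Nat.ble 949 i)) (Nat.ble 948 i)) (Nat.ble 945 i)) (Nat.ble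 939 i)) (Bool.rec (motive := fun _ => Nat) (Bool.rec (motive := fun _ => Nat) (Bool.rec (motive := fun _ => Nat) (Bool.rec (motive := fun _ => Nat) (0x20000a6000cbc) (Bool.rec (motive := fun _ => Nat) (0x30000a6000939) (0x40000a60009ff) (Nat.ble 953 i)) (Nat.ble 952 i)) (Bool.rec (motive := fun _ => Nat) (0x50000a6000885) (Bool.rec (motive := fun _ => Nat) (0x60000a6000e83) (0x70000a600074d) (Nat.ble 956 i)) (Nat.ble 955 i)) (Nat.ble 954 i)) (Bool.rec (motive := fun _ => Nat) (Bool.rec (motive := fun _ => Nat) (0x60000a7000dd9) (Bool.rec (motive := fun _ => Nat) (0xa8000807) (0x30000a80007e4) (Nat.ble 959 i)) (Nat.ble 958 i)) (Bool.rec (motive := fun _ => Nat) (0x70000a8000678) (Bool.rec (motive := fun _ => Nat) (0x10000a9000e95) (0x20000a9000dfc) (Nat.ble 962 i)) (Nat.ble 961 i)) (Nat.ble 960 i)) (Nat.ble 957 i)) (Bool.rec (motive := fun _ => Nat) (Bool.rec (motive := fun _ => Nat) (Bool.rec (motive := fun _ => Nat) (0x30000a9000545) (Bool.rec (motive := fun _ => Nat) (0x40000a9000e61) (0x50000aa000123)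 (Nat.ble 965 i)) (Nat.ble 964 i)) (Bool.rec (motive := fun _ => Nat) (0x70000aa000047) (Bool.rec (motive := fun _ => Nat) (0x50000ab000163) (0xac000165) (Nat.ble 968 i)) (Nat.ble 967 i)) (Nat.ble 966 i)) (Bool.rec (motive := fun _ => Nat) (Bool.rec (motive := fun _ => Nat) (0x40000ac000ae6) (Bool.rec (motive := fun _ => Nat) (0x50000ac000576) (0x70000ac000503) (Nat.ble 971 i)) (Nat.ble 970 i)) (Bool.rec (motive := fun _ => Nat) (Bool.rec (motive := fun _ => Nat) (0x20000ad0002eb) (0x50000ad000ea5) (Nat.ble 973 i)) (Bool.rec (motive := fun _ => Nat) (0x40000ae0006ec) (0xaf000523) (Nat.ble 975 i)) (Nat.ble 974 i)) (Nat.ble 972 i)) (Nat.ble 969 i)) (Nat.ble 963 i)) (Nat.ble 951 i))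
noncomputable def CK0P_20 (i : Nat) : Nat := (Bool.rec (motive := fun _ => Nat) (Bool.rec (motive := fun _ => Nat) (Bool.rec (motive := fun _ => Nat) (Bool.rec (motive := fun _ => Nat) (Bool.rec (motive := fun _ => Nat) (0x20000af0006db) (Bool.rec (motive := fun _ => Nat) (0x30000af000049) (0x50000af00052b) (Nat.ble 978 i)) (Nat.ble 977 i)) (Bool.rec (motive := fun _ => Nat) (0x60000af00088d) (Bool.rec (motive := fun _ => Nat) (0x70000af000a08) (0xb0000b3c) (Nat.ble 981 i)) (Nat.ble 980 i)) (Nat.ble 979 i)) (Bool.rec (motive := fun _ => Nat) (Bool.rec (motive := fun _ => Nat) (0x30000b0000afa) (Bool.rec (motive := fun _ => Nat) (0x50000b00004ee) (0x70000b00003ed) (Nat.ble 984 i)) (Nat.ble 983 i)) (Bool.rec (motive := fun _ => Nat) (0xb1000d53) (Bool.rec (motive := fun _ => Nat) (0x10000b1000d18) (0x20000b1000541) (Nat.ble 987 i)) (Nat.ble 986 i)) (Nat.ble 985 i)) (Nat.ble 982 i)) (Bool.rec (motive := fun _ => Nat) (Bool.rec (motive := fun _ => Nat) (Bool.rec (motive := fun _ => Nat) (0x60000b1000b27)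 (Bool.rec (motive := fun _ => Nat) (0x50000b200045d) (0x60000b2000cc0) (Nat.ble 990 i)) (Nat.ble 989 i)) (Bool.rec (motive := fun _ => Nat) (0x70000b2000c11) (Bool.rec (motive := fun _ => Nat) (0x40000b30008d8) (0x60000b3000cc7) (Nat.ble 993 i)) (Nat.ble 992 i)) (Nat.ble 991 i)) (Bool.rec (motive := fun _ => Nat) (Bool.rec (motive := fun _ => Nat) (0x70000b3000b99) (Bool.rec (motive := fun _ => Nat) (0x10000b4000736) (0x20000b40003a0) (Nat.ble 996 i)) (Nat.ble 995 i)) (Bool.rec (motive := fun _ => Nat) (0x50000b4000616) (Bool.rec (motive := fun _ => Nat) (0x40000b50009a9) (0x50000b500092a) (Nat.ble 999 i)) (Nat.ble 998 i)) (Nat.ble 997 i)) (Nat.ble 994 i)) (Nat.ble 988 i)) (Bool.rec (motive := fun _ => Nat) (Bool.rec (motive := fun _ => Nat) (Bool.rec (motive := fun _ => Nat) (Bool.rec (motive := fun _ => Nat) (0x60000b500083f) (Bool.rec (motive := fun _ => Nat) (0xb60009d8) (0x20000b6000da6) (Nat.ble 1002 i)) (Nat.ble 1001 i)) (Bool.rec (motive := fun _ => Nat) (0x40000b6000ba6) (Bool.rec (motive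 := fun _ => Nat) (0x50000b600006d) (0x60000b600043f) (Nat.ble 1005 i)) (Nat.ble 1004 i)) (Nat.ble 1003 i)) (Bool.rec (motive := fun _ => Nat) (Bool.rec (motive := fun _ => Nat) (0x70000b6000048) (Bool.rec (motive := fun _ => Nat) (0xb7000692) (0x10000b700015e) (Nat.ble 1008 i)) (Nat.ble 1007 i)) (Bool.rec (motive := fun _ => Nat) (0x20000b7000d8f) (Bool.rec (motive := fun _ => Nat) (0x30000b7000347) (0x40000b7000431) (Nat.ble 1011 i)) (Nat.ble 1010 i)) (Nat.ble 1009 i)) (Nat.ble 1006 i)) (Bool.rec (motive := fun _ => Nat) (Bool.rec (motive := fun _ => Nat) (Bool.rec (motive := fun _ => Nat) (0x50000b7000301) (Bool.rec (motive := fun _ => Nat) (0x70000b7000060) (0x20000b800076b) (Nat.ble 1014 i)) (Nat.ble 1013 i)) (Bool.rec (motive := fun _ => Nat) (0x50000b800003b) (Bool.rec (motive := fun _ => Nat) (0x60000b80004ef) (0xb9000970) (Nat.ble 1017 i)) (Nat.ble 1016 i)) (Nat.ble 1015 i)) (Bool.rec (motive := fun _ => Nat) (Bool.rec (motive := fun _ => Nat) (0x20000b90002fd) (Bool.rec (motive := fun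 _ => Nat) (0x30000b9000cae) (0x50000b9000ec4) (Nat.ble 1020 i)) (Nat.ble 1019 i)) (Bool.rec (motive := fun _ => Nat) (0x70000b900065e) (Bool.rec (motive := fun _ => Nat) (0x10000ba000410) (0x20000ba000422) (Nat.ble 1023 i)) (Nat.ble 1022 i)) (Nat.ble 1021 i)) (Nat.ble 1018 i)) (Nat.ble 1012 i)) (Nat.ble 1000 i))
noncomputable def CK0P_21 (i : Nat) : Nat := (Bool.rec (motive := fun _ => Nat) (Bool.rec (motive := fun _ => Nat) (Bool.rec (motive := fun _ => Nat) (Bool.rec (motive := fun _ => Nat) (Bool.rec (motive := fun _ => Nat) (0x40000ba00034b) (Bool.rec (motive := fun _ => Nat) (0x60000ba000985) (0x70000ba000a69) (Nat.ble 1026 i)) (Nat.ble 1025 i)) (Bool.rec (motive := fun _ => Nat) (0xbb000a89) (Bool.rec (motive := fun _ => Nat) (0x10000bb000186) (0x20000bb000303) (Nat.ble 1029 i)) (Nat.ble 1028 i)) (Nat.ble 1027 i)) (Bool.rec (motive := fun _ => Nat) (Bool.rec (motive := fun _ => Nat) (0x30000bb0006e5) (Bool.rec (motive := fun _ => Nat) (0x40000bb00098a) (0x50000bb000e9b) (Nat.ble 1032 i))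 (Nat.ble 1031 i)) (Bool.rec (motive := fun _ => Nat) (0x60000bb000c52) (Bool.rec (motive := fun _ => Nat) (0x70000bb00087e) (0x20000bc000b4c) (Nat.ble 1035 i)) (Nat.ble 1034 i)) (Nat.ble 1033 i)) (Nat.ble 1030 i)) (Bool.rec (motive := fun _ => Nat) (Bool.rec (motive := fun _ => Nat) (Bool.rec (motive := fun _ => Nat) (0x50000bc000e3b) (Bool.rec (motive := fun _ => Nat) (0x70000bc0007d3) (0x40000bd000ee7) (Nat.ble 1038 i)) (Nat.ble 1037 i)) (Bool.rec (motive := fun _ => Nat) (0x50000bd000ea7) (Bool.rec (motive := fun _ => Nat) (0xbe000db4) (0x20000be000aff) (Nat.ble 1041 i)) (Nat.ble 1040 i)) (Nat.ble 1039 i)) (Bool.rec (motive := fun _ => Nat) (Bool.rec (motive := fun _ => Nat) (0x30000be000f3d) (Bool.rec (motive := fun _ => Nat) (0x40000be000ec3) (0x60000be0008de) (Nat.ble 1044 i)) (Nat.ble 1043 i)) (Bool.rec (motive := fun _ => Nat) (0x70000be000c35) (Bool.rec (motive := fun _ => Nat) (0xbf0006bb) (0x40000bf000d58) (Nat.ble 1047 i)) (Nat.ble 1046 i)) (Nat.ble 1045 i)) (Nat.ble 1042 i)) (Nat.ble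 1036 i)) (Bool.rec (motive := fun _ => Nat) (Bool.rec (motive := fun _ => Nat) (Bool.rec (motive := fun _ => Nat) (Bool.rec (motive := fun _ => Nat) (0x10000c0000c1c) (Bool.rec (motive := fun _ => Nat) (0x20000c0000300) (0x30000c00009fd) (Nat.ble 1050 i)) (Nat.ble 1049 i)) (Bool.rec (motive := fun _ => Nat) (0x50000c0000b56) (Bool.rec (motive := fun _ => Nat) (0x70000c0000bed) (0x20000c1000aa4) (Nat.ble 1053 i)) (Nat.ble 1052 i)) (Nat.ble 1051 i)) (Bool.rec (motive := fun _ => Nat) (Bool.rec (motive := fun _ => Nat) (0x50000c1000c31) (Bool.rec (motive := fun _ => Nat) (0x60000c10008e0) (0x70000c1000504) (Nat.ble 1056 i)) (Nat.ble 1055 i)) (Bool.rec (motive := fun _ => Nat) (0x20000c2000a7a) (Bool.rec (motive := fun _ => Nat) (0x30000c200085f) (0x50000c2000c12) (Nat.ble 1059 i)) (Nat.ble 1058 i)) (Nat.ble 1057 i)) (Nat.ble 1054 i)) (Bool.rec (motive := fun _ => Nat) (Bool.rec (motive := fun _ => Nat) (Bool.rec (motive := fun _ => Nat) (0x60000c2000e8a) (Bool.rec (motive := fun _ => Nat) (0x20000c3000d54)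 (0x30000c3000552) (Nat.ble 1062 i)) (Nat.ble 1061 i)) (Bool.rec (motive := fun _ => Nat) (0x50000c300039f) (Bool.rec (motive := fun _ => Nat) (0xc4000efc) (0x40000c50006de) (Nat.ble 1065 i)) (Nat.ble 1064 i)) (Nat.ble 1063 i)) (Bool.rec (motive := fun _ => Nat) (Bool.rec (motive := fun _ => Nat) (0x50000c50006ce) (Bool.rec (motive := fun _ => Nat) (0x60000c50007ef) (0xc6000441) (Nat.ble 1068 i)) (Nat.ble 1067 i)) (Bool.rec (motive := fun _ => Nat) (Bool.rec (motive := fun _ => Nat) (0x30000c600050c) (0x40000c6000888) (Nat.ble 1070 i)) (Bool.rec (motive := fun _ => Nat) (0x50000c6000d0d) (0x60000c6000e48) (Nat.ble 1072 i)) (Nat.ble 1071 i)) (Nat.ble 1069 i)) (Nat.ble 1066 i)) (Nat.ble 1060 i)) (Nat.ble 1048 i))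
noncomputable def CK0P_22 (i : Nat) : Nat := (Bool.rec (motive := fun _ => Nat) (Bool.rec (motive := fun _ => Nat) (Bool.rec (motive := fun _ => Nat) (Bool.rec (motive := fun _ => Nat) (Bool.rec (motive := fun _ => Nat) (0xc7000d87) (Bool.rec (motive := fun _ => Nat) (0x30000c7000e47) (0x40000c7000c9e) (Nat.ble 1075 i)) (Nat.ble 1074 i)) (Bool.rec (motive := fun _ => Nat) (0x50000c7000c98) (Bool.rec (motive := fun _ => Nat) (0xc8000da5) (0x20000c800060b) (Nat.ble 1078 i)) (Nat.ble 1077 i)) (Nat.ble 1076 i)) (Bool.rec (motive := fun _ => Nat) (Bool.rec (motive := fun _ => Nat) (0x30000c8000511) (Bool.rec (motive := fun _ => Nat) (0x50000c800094e) (0x60000c8000e4d) (Nat.ble 1081 i)) (Nat.ble 1080 i)) (Bool.rec (motive := fun _ => Nat) (0x70000c800051b) (Bool.rec (motive := fun _ => Nat) (0xc9000d74) (0x40000c9000adc) (Nat.ble 1084 i)) (Nat.ble 1083 i)) (Nat.ble 1082 i)) (Nat.ble 1079 i)) (Bool.rec (motive := fun _ => Nat) (Bool.rec (motive := fun _ => Nat) (Bool.rec (motive := fun _ => Nat) (0x50000c9000d45)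 (Bool.rec (motive := fun _ => Nat) (0x60000c9000dd4) (0x70000c9000192) (Nat.ble 1087 i)) (Nat.ble 1086 i)) (Bool.rec (motive := fun _ => Nat) (0xca000b81) (Bool.rec (motive := fun _ => Nat) (0x20000ca0008eb) (0x30000ca000538) (Nat.ble 1090 i)) (Nat.ble 1089 i)) (Nat.ble 1088 i)) (Bool.rec (motive := fun _ => Nat) (Bool.rec (motive := fun _ => Nat) (0x40000ca000133) (Bool.rec (motive := fun _ => Nat) (0x50000ca000821) (0x60000ca000c5f) (Nat.ble 1093 i)) (Nat.ble 1092 i)) (Bool.rec (motive := fun _ => Nat) (0x70000ca000b6e) (Bool.rec (motive := fun _ => Nat) (0x50000cb000b5e) (0x60000cb000b97) (Nat.ble 1096 i)) (Nat.ble 1095 i)) (Nat.ble 1094 i)) (Nat.ble 1091 i)) (Nat.ble 1085 i)) (Bool.rec (motive := fun _ => Nat) (Bool.rec (motive := fun _ => Nat) (Bool.rec (motive := fun _ => Nat) (Bool.rec (motive := fun _ => Nat) (0x20000cc000536) (Bool.rec (motive := fun _ => Nat) (0x30000cc000dae) (0x40000cc000ad2) (Nat.ble 1099 i)) (Nat.ble 1098 i)) (Bool.rec (motive := fun _ => Nat) (0x60000cc000b57)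 (Bool.rec (motive := fun _ => Nat) (0xcd000e3a) (0x10000cd0009dd) (Nat.ble 1102 i)) (Nat.ble 1101 i)) (Nat.ble 1100 i)) (Bool.rec (motive := fun _ => Nat) (Bool.rec (motive := fun _ => Nat) (0x20000cd000840) (Bool.rec (motive := fun _ => Nat) (0x30000cd0007f0) (0x40000cd0008f0) (Nat.ble 1105 i)) (Nat.ble 1104 i)) (Bool.rec (motive := fun _ => Nat) (0x70000cd000c29) (Bool.rec (motive := fun _ => Nat) (0xce000553) (0x20000ce000d99) (Nat.ble 1108 i)) (Nat.ble 1107 i)) (Nat.ble 1106 i)) (Nat.ble 1103 i)) (Bool.rec (motive := fun _ => Nat) (Bool.rec (motive := fun _ => Nat) (Bool.rec (motive := fun _ => Nat) (0x30000ce000517) (Bool.rec (motive := fun _ => Nat) (0x40000ce0003ce) (0x50000ce00097d) (Nat.ble 1111 i)) (Nat.ble 1110 i)) (Bool.rec (motive := fun _ => Nat) (0x60000ce000705) (Bool.rec (motive := fun _ => Nat) (0x70000ce000c45) (0x10000cf00075a) (Nat.ble 1114 i)) (Nat.ble 1113 i)) (Nat.ble 1112 i)) (Bool.rec (motive := fun _ => Nat) (Bool.rec (motive := fun _ => Nat) (0x20000cf000558) (Bool.rec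 (motive := fun _ => Nat) (0x30000cf000bb0) (0x70000cf000de1) (Nat.ble 1117 i)) (Nat.ble 1116 i)) (Bool.rec (motive := fun _ => Nat) (Bool.rec (motive := fun _ => Nat) (0xd0000586) (0x20000d0000b80) (Nat.ble 1119 i)) (Bool.rec (motive := fun _ => Nat) (0x30000d0000d95) (0x40000d0000d96) (Nat.ble 1121 i)) (Nat.ble 1120 i)) (Nat.ble 1118 i)) (Nat.ble 1115 i)) (Nat.ble 1109 i)) (Nat.ble 1097 i))
noncomputable def CK0P_23 (i : Nat) : Nat := (Bool.rec (motive := fun _ => Nat) (Bool.rec (motive := fun _ => Nat) (Bool.rec (motive := fun _ => Nat) (Bool.rec (motive := fun _ => Nat) (Bool.rec (motive := fun _ => Nat) (0x60000d0000cd7) (Bool.rec (motive := fun _ => Nat) (0x70000d00000df) (0xd1000535) (Nat.ble 1124 i)) (Nat.ble 1123 i)) (Bool.rec (motive := fun _ => Nat) (0x20000d1000f0a) (Bool.rec (motive := fun _ => Nat) (0x40000d1000dca) (0x70000d1000510) (Nat.ble 1127 i)) (Nat.ble 1126 i)) (Nat.ble 1125 i)) (Bool.rec (motive := fun _ => Nat) (Bool.rec (motive := fun _ => Nat) (0x50000d200030e) (Bool.rec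 (motive := fun _ => Nat) (0xd30006e4) (0x20000d3000804) (Nat.ble 1130 i)) (Nat.ble 1129 i)) (Bool.rec (motive := fun _ => Nat) (0x40000d30002fe) (Bool.rec (motive := fun _ => Nat) (0x70000d3000b17) (0xd400094c) (Nat.ble 1133 i)) (Nat.ble 1132 i)) (Nat.ble 1131 i)) (Nat.ble 1128 i)) (Bool.rec (motive := fun _ => Nat) (Bool.rec (motive := fun _ => Nat) (Bool.rec (motive := fun _ => Nat) (0x40000d400090f) (Bool.rec (motive := fun _ => Nat) (0x50000d4000579) (0x60000d4000c8d) (Nat.ble 1136 i)) (Nat.ble 1135 i)) (Bool.rec (motive := fun _ => Nat) (0x70000d40002c0) (Bool.rec (motive := fun _ => Nat) (0x30000d5000778) (0x50000d6000d78) (Nat.ble 1139 i)) (Nat.ble 1138 i)) (Nat.ble 1137 i)) (Bool.rec (motive := fun _ => Nat) (Bool.rec (motive := fun _ => Nat) (0x60000d60006cd) (Bool.rec (motive := fun _ => Nat) (0xd7000a5a) (0x30000d7000adf) (Nat.ble 1142 i)) (Nat.ble 1141 i)) (Bool.rec (motive := fun _ => Nat) (0x50000d7000c3d) (Bool.rec (motive := fun _ => Nat) (0x60000d7000f1a) (0x70000d70000e9) (Nat.ble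 1145 i)) (Nat.ble 1144 i)) (Nat.ble 1143 i)) (Nat.ble 1140 i)) (Nat.ble 1134 i)) (Bool.rec (motive := fun _ => Nat) (Bool.rec (motive := fun _ => Nat) (Bool.rec (motive := fun _ => Nat) (Bool.rec (motive := fun _ => Nat) (0x50000d8000e87) (Bool.rec (motive := fun _ => Nat) (0xd9000ad0) (0x20000d9000d21) (Nat.ble 1148 i)) (Nat.ble 1147 i)) (Bool.rec (motive := fun _ => Nat) (0x50000d9000a0e) (Bool.rec (motive := fun _ => Nat) (0x60000d90006c0) (0x70000d9000ee3) (Nat.ble 1151 i)) (Nat.ble 1150 i)) (Nat.ble 1149 i)) (Bool.rec (motive := fun _ => Nat) (Bool.rec (motive := fun _ => Nat) (0xda000ecf) (Bool.rec (motive := fun _ => Nat) (0x30000da00061c) (0x50000da000c1d) (Nat.ble 1154 i)) (Nat.ble 1153 i)) (Bool.rec (motive := fun _ => Nat) (0xdb000ee1) (Bool.rec (motive := fun _ => Nat) (0x20000db0003ee) (0x30000db0006a8) (Nat.ble 1157 i)) (Nat.ble 1156 i)) (Nat.ble 1155 i)) (Nat.ble 1152 i)) (Bool.rec (motive := fun _ => Nat) (Bool.rec (motive := fun _ => Nat) (Bool.rec (motive := fun _ => Nat) (0x50000db000ee2)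 (Bool.rec (motive := fun _ => Nat) (0x60000db00088f) (0x10000dc000250) (Nat.ble 1160 i)) (Nat.ble 1159 i)) (Bool.rec (motive := fun _ => Nat) (0x50000dc0009e3) (Bool.rec (motive := fun _ => Nat) (0x60000dc000d8b) (0x70000dc000eef) (Nat.ble 1163 i)) (Nat.ble 1162 i)) (Nat.ble 1161 i)) (Bool.rec (motive := fun _ => Nat) (Bool.rec (motive := fun _ => Nat) (0x10000dd0009ec) (Bool.rec (motive := fun _ => Nat) (0x20000dd0005a3) (0x40000dd000c95) (Nat.ble 1166 i)) (Nat.ble 1165 i)) (Bool.rec (motive := fun _ => Nat) (Bool.rec (motive := fun _ => Nat) (0x50000dd000724) (0x70000dd000bb6) (Nat.ble 1168 i)) (Bool.rec (motive := fun _ => Nat) (0x20000de0002e3) (0x30000de000387) (Nat.ble 1170 i)) (Nat.ble 1169 i)) (Nat.ble 1167 i)) (Nat.ble 1164 i)) (Nat.ble 1158 i)) (Nat.ble 1146 i))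
noncomputable def CK0P_24 (i : Nat) : Nat := (Bool.rec (motive := fun _ => Nat) (Bool.rec (motive := fun _ => Nat) (Bool.rec (motive := fun _ => Nat) (Bool.rec (motive := fun _ => Nat) (Bool.rec (motive := fun _ => Nat) (0x50000de000c9d) (Bool.rec (motive := fun _ => Nat) (0x70000de000e84) (0x50000df000d7b) (Nat.ble 1173 i)) (Nat.ble 1172 i)) (Bool.rec (motive := fun _ => Nat) (0x60000df00089d) (Bool.rec (motive := fun _ => Nat) (0xe0000b4f) (0x30000e0000bbd) (Nat.ble 1176 i)) (Nat.ble 1175 i)) (Nat.ble 1174 i)) (Bool.rec (motive := fun _ => Nat) (Bool.rec (motive := fun _ => Nat) (0x40000e00003a8) (Bool.rec (motive := fun _ => Nat) (0x60000e000067b) (0x70000e0000c4d) (Nat.ble 1179 i)) (Nat.ble 1178 i)) (Bool.rec (motive := fun _ => Nat) (0xe1000a8a) (Bool.rec (motive := fun _ => Nat) (0x20000e1000d4b) (0x40000e1000a14) (Nat.ble 1182 i)) (Nat.ble 1181 i)) (Nat.ble 1180 i)) (Nat.ble 1177 i)) (Bool.rec (motive := fun _ => Nat) (Bool.rec (motive := fun _ => Nat) (Bool.rec (motive := fun _ => Nat)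 (0x50000e100098e) (Bool.rec (motive := fun _ => Nat) (0xe20008cc) (0x10000e2000378) (Nat.ble 1185 i)) (Nat.ble 1184 i)) (Bool.rec (motive := fun _ => Nat) (0x40000e2000c5e) (Bool.rec (motive := fun _ => Nat) (0x50000e2000ea3) (0x60000e20007d9) (Nat.ble 1188 i)) (Nat.ble 1187 i)) (Nat.ble 1186 i)) (Bool.rec (motive := fun _ => Nat) (Bool.rec (motive := fun _ => Nat) (0x70000e2000105) (Bool.rec (motive := fun _ => Nat) (0x10000e3000559) (0x20000e3000a3f) (Nat.ble 1191 i)) (Nat.ble 1190 i)) (Bool.rec (motive := fun _ => Nat) (0x30000e3000172) (Bool.rec (motive := fun _ => Nat) (0x50000e3000efe) (0x20000e4000973) (Nat.ble 1194 i)) (Nat.ble 1193 i)) (Nat.ble 1192 i)) (Nat.ble 1189 i)) (Nat.ble 1183 i)) (Bool.rec (motive := fun _ => Nat) (Bool.rec (motive := fun _ => Nat) (Bool.rec (motive := fun _ => Nat) (Bool.rec (motive := fun _ => Nat) (0x30000e40002f0) (Bool.rec (motive := fun _ => Nat) (0x40000e4000812) (0x50000e400079e) (Nat.ble 1197 i)) (Nat.ble 1196 i)) (Bool.rec (motive := fun _ => Nat)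 (0x60000e4000c7c) (Bool.rec (motive := fun _ => Nat) (0x70000e4000b09) (0x40000e5000e91) (Nat.ble 1200 i)) (Nat.ble 1199 i)) (Nat.ble 1198 i)) (Bool.rec (motive := fun _ => Nat) (Bool.rec (motive := fun _ => Nat) (0x50000e5000b9e) (Bool.rec (motive := fun _ => Nat) (0x60000e5000e41) (0xe60002bc) (Nat.ble 1203 i)) (Nat.ble 1202 i)) (Bool.rec (motive := fun _ => Nat) (0x20000e6000b48) (Bool.rec (motive := fun _ => Nat) (0x30000e6000249) (0x40000e6000907) (Nat.ble 1206 i)) (Nat.ble 1205 i)) (Nat.ble 1204 i)) (Nat.ble 1201 i)) (Bool.rec (motive := fun _ => Nat) (Bool.rec (motive := fun _ => Nat) (Bool.rec (motive := fun _ => Nat) (0xe7000c22) (Bool.rec (motive := fun _ => Nat) (0x40000e7000ea1) (0x70000e700059b) (Nat.ble 1209 i)) (Nat.ble 1208 i)) (Bool.rec (motive := fun _ => Nat) (0xe8000695) (Bool.rec (motive := fun _ => Nat) (0x10000e80006e6) (0x30000e8000d5d) (Nat.ble 1212 i)) (Nat.ble 1211 i)) (Nat.ble 1210 i)) (Bool.rec (motive := fun _ => Nat) (Bool.rec (motive := fun _ => Nat) (0x50000e8000d30)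 (Bool.rec (motive := fun _ => Nat) (0x20000ea000dac) (0x40000ea000e66) (Nat.ble 1215 i)) (Nat.ble 1214 i)) (Bool.rec (motive := fun _ => Nat) (0x50000ea000e43) (Bool.rec (motive := fun _ => Nat) (0x60000ea000ce6) (0x70000ea000f01) (Nat.ble 1218 i)) (Nat.ble 1217 i)) (Nat.ble 1216 i)) (Nat.ble 1213 i)) (Nat.ble 1207 i)) (Nat.ble 1195 i))
noncomputable def CK0P_25 (i : Nat) : Nat := (Bool.rec (motive := fun _ => Nat) (Bool.rec (motive := fun _ => Nat) (Bool.rec (motive := fun _ => Nat) (Bool.rec (motive := fun _ => Nat) (Bool.rec (motive := fun _ => Nat) (0xeb0002df) (Bool.rec (motive := fun _ => Nat) (0x30000eb000352) (0x40000eb000bf7) (Nat.ble 1221 i)) (Nat.ble 1220 i)) (Bool.rec (motive := fun _ => Nat) (0x50000eb000d55) (Bool.rec (motive := fun _ => Nat) (0x10000ec0003d8) (0x40000ec000e90) (Nat.ble 1224 i)) (Nat.ble 1223 i)) (Nat.ble 1222 i)) (Bool.rec (motive := fun _ => Nat) (Bool.rec (motive := fun _ => Nat) (0x50000ec000cf8) (Bool.rec (motive := fun _ => Nat) (0xed000c1a) (0x20000ed0004f8)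 (Nat.ble 1227 i)) (Nat.ble 1226 i)) (Bool.rec (motive := fun _ => Nat) (0x40000ed000b44) (Bool.rec (motive := fun _ => Nat) (0x50000ed000afb) (0x60000ed0000cb) (Nat.ble 1230 i)) (Nat.ble 1229 i)) (Nat.ble 1228 i)) (Nat.ble 1225 i)) (Bool.rec (motive := fun _ => Nat) (Bool.rec (motive := fun _ => Nat) (Bool.rec (motive := fun _ => Nat) (0x70000ed00009f) (Bool.rec (motive := fun _ => Nat) (0x20000ee00086d) (0x30000ee0002ab) (Nat.ble 1233 i)) (Nat.ble 1232 i)) (Bool.rec (motive := fun _ => Nat) (0x40000ee000f24) (Bool.rec (motive := fun _ => Nat) (0x60000ee000a27) (0x70000ee000122) (Nat.ble 1236 i)) (Nat.ble 1235 i)) (Nat.ble 1234 i)) (Bool.rec (motive := fun _ => Nat) (Bool.rec (motive := fun _ => Nat) (0x20000ef000831) (Bool.rec (motive := fun _ => Nat) (0x30000ef0005d8) (0x50000ef000248) (Nat.ble 1239 i)) (Nat.ble 1238 i)) (Bool.rec (motive := fun _ => Nat) (0x60000ef0009f3) (Bool.rec (motive := fun _ => Nat) (0x70000ef000bd4) (0x50000f0000f2c) (Nat.ble 1242 i)) (Nat.ble 1241 i)) (Nat.ble 1240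 i)) (Nat.ble 1237 i)) (Nat.ble 1231 i)) (Bool.rec (motive := fun _ => Nat) (Bool.rec (motive := fun _ => Nat) (Bool.rec (motive := fun _ => Nat) (Bool.rec (motive := fun _ => Nat) (0x60000f0000ce7) (Bool.rec (motive := fun _ => Nat) (0xf1000976) (0x20000f1000eca) (Nat.ble 1245 i)) (Nat.ble 1244 i)) (Bool.rec (motive := fun _ => Nat) (0x30000f1000d7d) (Bool.rec (motive := fun _ => Nat) (0x60000f1000d06) (0xf2000818) (Nat.ble 1248 i)) (Nat.ble 1247 i)) (Nat.ble 1246 i)) (Bool.rec (motive := fun _ => Nat) (Bool.rec (motive := fun _ => Nat) (0x20000f2000ed4) (Bool.rec (motive := fun _ => Nat) (0x40000f2000eb4) (0x50000f200089c) (Nat.ble 1251 i)) (Nat.ble 1250 i)) (Bool.rec (motive := fun _ => Nat) (0xf3000d72) (Bool.rec (motive := fun _ => Nat) (0x10000f3000c55) (0x20000f3000e74) (Nat.ble 1254 i)) (Nat.ble 1253 i)) (Nat.ble 1252 i)) (Nat.ble 1249 i)) (Bool.rec (motive := fun _ => Nat) (Bool.rec (motive := fun _ => Nat) (Bool.rec (motive := fun _ => Nat) (0x30000f300073b) (Bool.rec (motive := fun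 _ => Nat) (0x40000f3000c8f) (0x60000f3000dd6) (Nat.ble 1257 i)) (Nat.ble 1256 i)) (Bool.rec (motive := fun _ => Nat) (0x70000f3000afc) (Bool.rec (motive := fun _ => Nat) (0xf400088e) (0x20000f4000cf4) (Nat.ble 1260 i)) (Nat.ble 1259 i)) (Nat.ble 1258 i)) (Bool.rec (motive := fun _ => Nat) (Bool.rec (motive := fun _ => Nat) (0x30000f4000d02) (Bool.rec (motive := fun _ => Nat) (0xf5000534) (0x20000f500053a) (Nat.ble 1263 i)) (Nat.ble 1262 i)) (Bool.rec (motive := fun _ => Nat) (Bool.rec (motive := fun _ => Nat) (0x40000f50001a1) (0x50000f5000532) (Nat.ble 1265 i)) (Bool.rec (motive := fun _ => Nat) (0x50000f60002b3) (0xf7000bd6) (Nat.ble 1267 i)) (Nat.ble 1266 i)) (Nat.ble 1264 i)) (Nat.ble 1261 i)) (Nat.ble 1255 i)) (Nat.ble 1243 i))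
noncomputable def CK0P_26 (i : Nat) : Nat := (Bool.rec (motive := fun _ => Nat) (Bool.rec (motive := fun _ => Nat) (Bool.rec (motive := fun _ => Nat) (Bool.rec (motive := fun _ => Nat) (Bool.rec (motive := fun _ => Nat) (0x20000f7000803) (Bool.rec (motive := fun _ => Nat) (0x30000f7000064) (0x40000f700029f) (Nat.ble 1270 i)) (Nat.ble 1269 i)) (Bool.rec (motive := fun _ => Nat) (0x70000f7000b13) (Bool.rec (motive := fun _ => Nat) (0xf800049c) (0x10000f8000427) (Nat.ble 1273 i)) (Nat.ble 1272 i)) (Nat.ble 1271 i)) (Bool.rec (motive := fun _ => Nat) (Bool.rec (motive := fun _ => Nat) (0x20000f800004e) (Bool.rec (motive := fun _ => Nat) (0x30000f8000c0d) (0xf900088b) (Nat.ble 1276 i)) (Nat.ble 1275 i)) (Bool.rec (motive := fun _ => Nat) (0x20000f9000d0e) (Bool.rec (motive := fun _ => Nat) (0x30000f900086e) (0x60000f9000c83) (Nat.ble 1279 i)) (Nat.ble 1278 i)) (Nat.ble 1277 i)) (Nat.ble 1274 i)) (Bool.rec (motive := fun _ => Nat) (Bool.rec (motive := fun _ => Nat) (Bool.rec (motive := fun _ => Nat)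 (0x70000f9000e3d) (Bool.rec (motive := fun _ => Nat) (0x10000fa0001b2) (0x30000fa0008d4) (Nat.ble 1282 i)) (Nat.ble 1281 i)) (Bool.rec (motive := fun _ => Nat) (0x40000fa000c63) (Bool.rec (motive := fun _ => Nat) (0x50000fa000815) (0x70000fa000e4f) (Nat.ble 1285 i)) (Nat.ble 1284 i)) (Nat.ble 1283 i)) (Bool.rec (motive := fun _ => Nat) (Bool.rec (motive := fun _ => Nat) (0x20000fb000e75) (Bool.rec (motive := fun _ => Nat) (0x50000fb000594) (0x60000fb000bd3) (Nat.ble 1288 i)) (Nat.ble 1287 i)) (Bool.rec (motive := fun _ => Nat) (0x50000fc000cf9) (Bool.rec (motive := fun _ => Nat) (0x20000fd0008d7) (0x40000fd000c71) (Nat.ble 1291 i)) (Nat.ble 1290 i)) (Nat.ble 1289 i)) (Nat.ble 1286 i)) (Nat.ble 1280 i)) (Bool.rec (motive := fun _ => Nat) (Bool.rec (motive := fun _ => Nat) (Bool.rec (motive := fun _ => Nat) (Bool.rec (motive := fun _ => Nat) (0x60000fd0006f6) (Bool.rec (motive := fun _ => Nat) (0x70000fd000cb9) (0x10000fe0002dc) (Nat.ble 1294 i)) (Nat.ble 1293 i)) (Bool.rec (motive := fun _ =>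 Nat) (0x20000fe000867) (Bool.rec (motive := fun _ => Nat) (0x30000fe000d0f) (0x40000fe000863) (Nat.ble 1297 i)) (Nat.ble 1296 i)) (Nat.ble 1295 i)) (Bool.rec (motive := fun _ => Nat) (Bool.rec (motive := fun _ => Nat) (0x50000fe00070b) (Bool.rec (motive := fun _ => Nat) (0x1000006fa) (0x2000100000c01) (Nat.ble 1300 i)) (Nat.ble 1299 i)) (Bool.rec (motive := fun _ => Nat) (0x500010000071f) (Bool.rec (motive := fun _ => Nat) (0x6000100000dc3) (0x10100090e) (Nat.ble 1303 i)) (Nat.ble 1302 i)) (Nat.ble 1301 i)) (Nat.ble 1298 i)) (Bool.rec (motive := fun _ => Nat) (Bool.rec (motive := fun _ => Nat) (Bool.rec (motive := fun _ => Nat) (0x1000101000ac7) (Bool.rec (motive := fun _ => Nat) (0x7000101000993) (0x1020006b9) (Nat.ble 1306 i)) (Nat.ble 1305 i)) (Bool.rec (motive := fun _ => Nat) (0x2000102000f38) (Bool.rec (motive := fun _ => Nat) (0x500010200054d) (0x6000102000763) (Nat.ble 1309 i)) (Nat.ble 1308 i)) (Nat.ble 1307 i)) (Bool.rec (motive := fun _ => Nat) (Bool.rec (motive := fun _ => Nat) (0x103000c68)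 (Bool.rec (motive := fun _ => Nat) (0x3000103000db7) (0x4000103000f17) (Nat.ble 1312 i)) (Nat.ble 1311 i)) (Bool.rec (motive := fun _ => Nat) (Bool.rec (motive := fun _ => Nat) (0x5000103000722) (0x7000103000b72) (Nat.ble 1314 i)) (Bool.rec (motive := fun _ => Nat) (0x104000eb0) (0x10001040002ec) (Nat.ble 1316 i)) (Nat.ble 1315 i)) (Nat.ble 1313 i)) (Nat.ble 1310 i)) (Nat.ble 1304 i)) (Nat.ble 1292 i))
noncomputable def CK0P_27 (i : Nat) : Nat := (Bool.rec (motive := fun _ => Nat) (Bool.rec (motive := fun _ => Nat) (Bool.rec (motive := fun _ => Nat) (Bool.rec (motive := fun _ => Nat) (Bool.rec (motive := fun _ => Nat) (0x3000104000614) (Bool.rec (motive := fun _ => Nat) (0x60001040006be) (0x7000104000b9c) (Nat.ble 1319 i)) (Nat.ble 1318 i)) (Bool.rec (motive := fun _ => Nat) (0x20001050007c1) (Bool.rec (motive := fun _ => Nat) (0x3000105000618) (0x4000105000a0f) (Nat.ble 1322 i)) (Nat.ble 1321 i)) (Nat.ble 1320 i)) (Bool.rec (motive := fun _ => Nat) (Bool.rec (motive := fun _ => Nat) (0x500010500025e)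 (Bool.rec (motive := fun _ => Nat) (0x20001070006dd) (0x3000107000eed) (Nat.ble 1325 i)) (Nat.ble 1324 i)) (Bool.rec (motive := fun _ => Nat) (0x60001070007f5) (Bool.rec (motive := fun _ => Nat) (0x7000107000af8) (0x1000108000982) (Nat.ble 1328 i)) (Nat.ble 1327 i)) (Nat.ble 1326 i)) (Nat.ble 1323 i)) (Bool.rec (motive := fun _ => Nat) (Bool.rec (motive := fun _ => Nat) (Bool.rec (motive := fun _ => Nat) (0x2000108000131) (Bool.rec (motive := fun _ => Nat) (0x5000108000515) (0x5000109000af5) (Nat.ble 1331 i)) (Nat.ble 1330 i)) (Bool.rec (motive := fun _ => Nat) (0x10a0006a4) (Bool.rec (motive := fun _ => Nat) (0x300010a00028b) (0x400010a000289) (Nat.ble 1334 i)) (Nat.ble 1333 i)) (Nat.ble 1332 i)) (Bool.rec (motive := fun _ => Nat) (Bool.rec (motive := fun _ => Nat) (0x700010a0002c3) (Bool.rec (motive := fun _ => Nat) (0x100010b00017f) (0x200010b000884) (Nat.ble 1337 i)) (Nat.ble 1336 i)) (Bool.rec (motive := fun _ => Nat) (0x400010b0008a4) (Bool.rec (motive := fun _ => Nat) (0x500010b00045f)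 (0x600010b000862) (Nat.ble 1340 i)) (Nat.ble 1339 i)) (Nat.ble 1338 i)) (Nat.ble 1335 i)) (Nat.ble 1329 i)) (Bool.rec (motive := fun _ => Nat) (Bool.rec (motive := fun _ => Nat) (Bool.rec (motive := fun _ => Nat) (Bool.rec (motive := fun _ => Nat) (0x300010c000bc1) (Bool.rec (motive := fun _ => Nat) (0x400010c000d67) (0x500010c0008d5) (Nat.ble 1343 i)) (Nat.ble 1342 i)) (Bool.rec (motive := fun _ => Nat) (0x700010c000e4e) (Bool.rec (motive := fun _ => Nat) (0x200010e0001d9) (0x700010e000260) (Nat.ble 1346 i)) (Nat.ble 1345 i)) (Nat.ble 1344 i)) (Bool.rec (motive := fun _ => Nat) (Bool.rec (motive := fun _ => Nat) (0x10f00097a) (Bool.rec (motive := fun _ => Nat) (0x300010f0006c7) (0x500010f0002cc) (Nat.ble 1349 i)) (Nat.ble 1348 i)) (Bool.rec (motive := fun _ => Nat) (0x4000110000f18) (Bool.rec (motive := fun _ => Nat) (0x7000110000c28) (0x2000111000cbb) (Nat.ble 1352 i)) (Nat.ble 1351 i)) (Nat.ble 1350 i)) (Nat.ble 1347 i)) (Bool.rec (motive := fun _ => Nat) (Bool.rec (motive := fun _ => Nat)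 (Bool.rec (motive := fun _ => Nat) (0x30001110003e9) (Bool.rec (motive := fun _ => Nat) (0x4000111000ea0) (0x5000111000446) (Nat.ble 1355 i)) (Nat.ble 1354 i)) (Bool.rec (motive := fun _ => Nat) (0x7000111000665) (Bool.rec (motive := fun _ => Nat) (0x3000113000e8e) (0x6000113000df3) (Nat.ble 1358 i)) (Nat.ble 1357 i)) (Nat.ble 1356 i)) (Bool.rec (motive := fun _ => Nat) (Bool.rec (motive := fun _ => Nat) (0x700011300062f) (Bool.rec (motive := fun _ => Nat) (0x1000114000d6d) (0x2000114000e7c) (Nat.ble 1361 i)) (Nat.ble 1360 i)) (Bool.rec (motive := fun _ => Nat) (Bool.rec (motive := fun _ => Nat) (0x50001140003b2) (0x1000115000a9a) (Nat.ble 1363 i)) (Bool.rec (motive := fun _ => Nat) (0x20001150000f2) (0x4000115000c5b) (Nat.ble 1365 i)) (Nat.ble 1364 i)) (Nat.ble 1362 i)) (Nat.ble 1359 i)) (Nat.ble 1353 i)) (Nat.ble 1341 i))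
noncomputable def CK0P_28 (i : Nat) : Nat := (Bool.rec (motive := fun _ => Nat) (Bool.rec (motive := fun _ => Nat) (Bool.rec (motive := fun _ => Nat) (Bool.rec (motive := fun _ => Nat) (Bool.rec (motive := fun _ => Nat) (0x6000115000858) (Bool.rec (motive := fun _ => Nat) (0x700011500007a) (0x116000b90) (Nat.ble 1368 i)) (Nat.ble 1367 i)) (Bool.rec (motive := fun _ => Nat) (0x1000116000daa) (Bool.rec (motive := fun _ => Nat) (0x2000116000917) (0x3000116000c56) (Nat.ble 1371 i)) (Nat.ble 1370 i)) (Nat.ble 1369 i)) (Bool.rec (motive := fun _ => Nat) (Bool.rec (motive := fun _ => Nat) (0x20001170008b0) (Bool.rec (motive := fun _ => Nat) (0x3000117000eb1) (0x60001170006a2) (Nat.ble 1374 i)) (Nat.ble 1373 i)) (Bool.rec (motive := fun _ => Nat) (0x7000117000ebe) (Bool.rec (motive := fun _ => Nat) (0x2000118000b30) (0x4000118000d5f) (Nat.ble 1377 i)) (Nat.ble 1376 i)) (Nat.ble 1375 i)) (Nat.ble 1372 i)) (Bool.rec (motive := fun _ => Nat) (Bool.rec (motive := fun _ => Nat) (Bool.rec (motive := fun _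 => Nat) (0x5000118000a5b) (Bool.rec (motive := fun _ => Nat) (0x6000118000007) (0x5000119000723) (Nat.ble 1380 i)) (Nat.ble 1379 i)) (Bool.rec (motive := fun _ => Nat) (0x7000119000cec) (Bool.rec (motive := fun _ => Nat) (0x300011a00083c) (0x400011a000c6a) (Nat.ble 1383 i)) (Nat.ble 1382 i)) (Nat.ble 1381 i)) (Bool.rec (motive := fun _ => Nat) (Bool.rec (motive := fun _ => Nat) (0x700011a0006e7) (Bool.rec (motive := fun _ => Nat) (0x11b0002be) (0x500011b0004f4) (Nat.ble 1386 i)) (Nat.ble 1385 i)) (Bool.rec (motive := fun _ => Nat) (0x600011b000f19) (Bool.rec (motive := fun _ => Nat) (0x100011c0002e2) (0x200011c000d1a) (Nat.ble 1389 i)) (Nat.ble 1388 i)) (Nat.ble 1387 i)) (Nat.ble 1384 i)) (Nat.ble 1378 i)) (Bool.rec (motive := fun _ => Nat) (Bool.rec (motive := fun _ => Nat) (Bool.rec (motive := fun _ => Nat) (Bool.rec (motive := fun _ => Nat) (0x300011c000d50) (Bool.rec (motive := fun _ => Nat) (0x400011c00071c) (0x600011c000577) (Nat.ble 1392 i)) (Nat.ble 1391 i)) (Bool.rec (motive := fun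 _ => Nat) (0x700011c0009e6) (Bool.rec (motive := fun _ => Nat) (0x11d0002cb) (0x100011d0007a6) (Nat.ble 1395 i)) (Nat.ble 1394 i)) (Nat.ble 1393 i)) (Bool.rec (motive := fun _ => Nat) (Bool.rec (motive := fun _ => Nat) (0x200011d000819) (Bool.rec (motive := fun _ => Nat) (0x600011d000c02) (0x700011d000a15) (Nat.ble 1398 i)) (Nat.ble 1397 i)) (Bool.rec (motive := fun _ => Nat) (0x11e000c07) (Bool.rec (motive := fun _ => Nat) (0x100011e0002e8) (0x300011e0007c3) (Nat.ble 1401 i)) (Nat.ble 1400 i)) (Nat.ble 1399 i)) (Nat.ble 1396 i)) (Bool.rec (motive := fun _ => Nat) (Bool.rec (motive := fun _ => Nat) (Bool.rec (motive := fun _ => Nat) (0x400011e000c2d) (Bool.rec (motive := fun _ => Nat) (0x600011e000247) (0x200011f000df7) (Nat.ble 1404 i)) (Nat.ble 1403 i)) (Bool.rec (motive := fun _ => Nat) (0x300011f000d2e) (Bool.rec (motive := fun _ => Nat) (0x500011f0007bc) (0x600012000035b) (Nat.ble 1407 i)) (Nat.ble 1406 i)) (Nat.ble 1405 i)) (Bool.rec (motive := fun _ => Nat) (Bool.rec (motive := fun _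 => Nat) (0x700012000054a) (Bool.rec (motive := fun _ => Nat) (0x100012100018c) (0x2000121000921) (Nat.ble 1410 i)) (Nat.ble 1409 i)) (Bool.rec (motive := fun _ => Nat) (Bool.rec (motive := fun _ => Nat) (0x3000121000c50) (0x4000121000940) (Nat.ble 1412 i)) (Bool.rec (motive := fun _ => Nat) (0x70001210006ee) (0x122000828) (Nat.ble 1414 i)) (Nat.ble 1413 i)) (Nat.ble 1411 i)) (Nat.ble 1408 i)) (Nat.ble 1402 i)) (Nat.ble 1390 i))
noncomputable def CK0P_29 (i : Nat) : Nat := (Bool.rec (motive := fun _ => Nat) (Bool.rec (motive := fun _ => Nat) (Bool.rec (motive := fun _ => Nat) (Bool.rec (motive := fun _ => Nat) (Bool.rec (motive := fun _ => Nat) (0x20001220007c6) (Bool.rec (motive := fun _ => Nat) (0x4000122000c06) (0x5000122000c64) (Nat.ble 1417 i)) (Nat.ble 1416 i)) (Bool.rec (motive := fun _ => Nat) (0x1000123000d81) (Bool.rec (motive := fun _ => Nat) (0x2000123000547) (0x3000123000e71) (Nat.ble 1420 i)) (Nat.ble 1419 i)) (Nat.ble 1418 i)) (Bool.rec (motive := fun _ => Nat) (Bool.rec (motive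 := fun _ => Nat) (0x4000123000d09) (Bool.rec (motive := fun _ => Nat) (0x5000123000878) (0x6000123000050) (Nat.ble 1423 i)) (Nat.ble 1422 i)) (Bool.rec (motive := fun _ => Nat) (0x700012300089a) (Bool.rec (motive := fun _ => Nat) (0x10001240002ea) (0x2000124000d9b) (Nat.ble 1426 i)) (Nat.ble 1425 i)) (Nat.ble 1424 i)) (Nat.ble 1421 i)) (Bool.rec (motive := fun _ => Nat) (Bool.rec (motive := fun _ => Nat) (Bool.rec (motive := fun _ => Nat) (0x50001240002a9) (Bool.rec (motive := fun _ => Nat) (0x6000124000ba7) (0x7000124000284) (Nat.ble 1429 i)) (Nat.ble 1428 i)) (Bool.rec (motive := fun _ => Nat) (0x125000dc8) (Bool.rec (motive := fun _ => Nat) (0x3000125000d01) (0x4000125000a0a) (Nat.ble 1432 i)) (Nat.ble 1431 i)) (Nat.ble 1430 i)) (Bool.rec (motive := fun _ => Nat) (Bool.rec (motive := fun _ => Nat) (0x60001250009b3) (Bool.rec (motive := fun _ => Nat) (0x5000126000762) (0x127000c99) (Nat.ble 1435 i)) (Nat.ble 1434 i)) (Bool.rec (motive := fun _ => Nat) (0x20001270008ff) (Bool.rec (motive :=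 fun _ => Nat) (0x400012700095c) (0x7000127000b34) (Nat.ble 1438 i)) (Nat.ble 1437 i)) (Nat.ble 1436 i)) (Nat.ble 1433 i)) (Nat.ble 1427 i)) (Bool.rec (motive := fun _ => Nat) (Bool.rec (motive := fun _ => Nat) (Bool.rec (motive := fun _ => Nat) (Bool.rec (motive := fun _ => Nat) (0x1280006e3) (Bool.rec (motive := fun _ => Nat) (0x1000128000383) (0x2000128000308) (Nat.ble 1441 i)) (Nat.ble 1440 i)) (Bool.rec (motive := fun _ => Nat) (0x3000128000926) (Bool.rec (motive := fun _ => Nat) (0x70001280008ee) (0x1290009d1) (Nat.ble 1444 i)) (Nat.ble 1443 i)) (Nat.ble 1442 i)) (Bool.rec (motive := fun _ => Nat) (Bool.rec (motive := fun _ => Nat) (0x1000129000986) (Bool.rec (motive := fun _ => Nat) (0x20001290009cf) (0x3000129000a2e) (Nat.ble 1447 i)) (Nat.ble 1446 i)) (Bool.rec (motive := fun _ => Nat) (0x5000129000c41) (Bool.rec (motive := fun _ => Nat) (0x12a00046a) (0x600012a000442) (Nat.ble 1450 i)) (Nat.ble 1449 i)) (Nat.ble 1448 i)) (Nat.ble 1445 i)) (Bool.rec (motive := fun _ => Nat) (Bool.rec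 (motive := fun _ => Nat) (Bool.rec (motive := fun _ => Nat) (0x100012b00069e) (Bool.rec (motive := fun _ => Nat) (0x300012b000e9f) (0x500012b0004fe) (Nat.ble 1453 i)) (Nat.ble 1452 i)) (Bool.rec (motive := fun _ => Nat) (0x700012b000a97) (Bool.rec (motive := fun _ => Nat) (0x12c000d71) (0x500012c000288) (Nat.ble 1456 i)) (Nat.ble 1455 i)) (Nat.ble 1454 i)) (Bool.rec (motive := fun _ => Nat) (Bool.rec (motive := fun _ => Nat) (0x12d000d37) (Bool.rec (motive := fun _ => Nat) (0x300012d000d57) (0x400012d000ce5) (Nat.ble 1459 i)) (Nat.ble 1458 i)) (Bool.rec (motive := fun _ => Nat) (Bool.rec (motive := fun _ => Nat) (0x500012d00005c) (0x600012d00060e) (Nat.ble 1461 i)) (Bool.rec (motive := fun _ => Nat) (0x700012d000130) (0x200012e000ad7) (Nat.ble 1463 i)) (Nat.ble 1462 i)) (Nat.ble 1460 i)) (Nat.ble 1457 i)) (Nat.ble 1451 i)) (Nat.ble 1439 i))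
noncomputable def CK0P_30 (i : Nat) : Nat := (Bool.rec (motive := fun _ => Nat) (Bool.rec (motive := fun _ => Nat) (Bool.rec (motive := fun _ => Nat) (Bool.rec (motive := fun _ => Nat) (Bool.rec (motive := fun _ => Nat) (0x300012e000d35) (Bool.rec (motive := fun _ => Nat) (0x500012e000792) (0x700012e0007af) (Nat.ble 1466 i)) (Nat.ble 1465 i)) (Bool.rec (motive := fun _ => Nat) (0x12f000849) (Bool.rec (motive := fun _ => Nat) (0x400012f000eea) (0x6000130000dfe) (Nat.ble 1469 i)) (Nat.ble 1468 i)) (Nat.ble 1467 i)) (Bool.rec (motive := fun _ => Nat) (Bool.rec (motive := fun _ => Nat) (0x7000130000228) (Bool.rec (motive := fun _ => Nat) (0x1310002c8) (0x3000131000059) (Nat.ble 1472 i)) (Nat.ble 1471 i)) (Bool.rec (motive := fun _ => Nat) (0x40001310002f5) (Bool.rec (motive := fun _ => Nat) (0x5000131000500) (0x3000132000ccd) (Nat.ble 1475 i)) (Nat.ble 1474 i)) (Nat.ble 1473 i)) (Nat.ble 1470 i)) (Bool.rec (motive := fun _ => Nat) (Bool.rec (motive := fun _ => Nat) (Bool.rec (motive := fun _ =>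 Nat) (0x500013200018e) (Bool.rec (motive := fun _ => Nat) (0x1000133000642) (0x4000133000af9) (Nat.ble 1478 i)) (Nat.ble 1477 i)) (Bool.rec (motive := fun _ => Nat) (0x5000133000ee5) (Bool.rec (motive := fun _ => Nat) (0x200013400012d) (0x3000134000e52) (Nat.ble 1481 i)) (Nat.ble 1480 i)) (Nat.ble 1479 i)) (Bool.rec (motive := fun _ => Nat) (Bool.rec (motive := fun _ => Nat) (0x4000134000a6f) (Bool.rec (motive := fun _ => Nat) (0x10001350003af) (0x30001350005dc) (Nat.ble 1484 i)) (Nat.ble 1483 i)) (Bool.rec (motive := fun _ => Nat) (0x40001350008ba) (Bool.rec (motive := fun _ => Nat) (0x6000135000597) (0x10001360006a0) (Nat.ble 1487 i)) (Nat.ble 1486 i)) (Nat.ble 1485 i)) (Nat.ble 1482 i)) (Nat.ble 1476 i)) (Bool.rec (motive := fun _ => Nat) (Bool.rec (motive := fun _ => Nat) (Bool.rec (motive := fun _ => Nat) (Bool.rec (motive := fun _ => Nat) (0x2000136000ddc) (Bool.rec (motive := fun _ => Nat) (0x400013600069c) (0x50001360009d7) (Nat.ble 1490 i)) (Nat.ble 1489 i)) (Bool.rec (motive := fun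 _ => Nat) (0x600013600037a) (Bool.rec (motive := fun _ => Nat) (0x40001370008b9) (0x50001370006d1) (Nat.ble 1493 i)) (Nat.ble 1492 i)) (Nat.ble 1491 i)) (Bool.rec (motive := fun _ => Nat) (Bool.rec (motive := fun _ => Nat) (0x60001370001ec) (Bool.rec (motive := fun _ => Nat) (0x5000138000e77) (0x300013900054c) (Nat.ble 1496 i)) (Nat.ble 1495 i)) (Bool.rec (motive := fun _ => Nat) (0x4000139000ef3) (Bool.rec (motive := fun _ => Nat) (0x7000139000551) (0x200013a000238) (Nat.ble 1499 i)) (Nat.ble 1498 i)) (Nat.ble 1497 i)) (Nat.ble 1494 i)) (Bool.rec (motive := fun _ => Nat) (Bool.rec (motive := fun _ => Nat) (Bool.rec (motive := fun _ => Nat) (0x300013a0005dd) (Bool.rec (motive := fun _ => Nat) (0x500013a0004f2) (0x600013a000d27) (Nat.ble 1502 i)) (Nat.ble 1501 i)) (Bool.rec (motive := fun _ => Nat) (0x13b000580) (Bool.rec (motive := fun _ => Nat) (0x100013b000810) (0x300013b000869) (Nat.ble 1505 i)) (Nat.ble 1504 i)) (Nat.ble 1503 i)) (Bool.rec (motive := fun _ => Nat) (Bool.rec (motive := fun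 _ => Nat) (0x500013b000dd7) (Bool.rec (motive := fun _ => Nat) (0x13c000c70) (0x100013c00046e) (Nat.ble 1508 i)) (Nat.ble 1507 i)) (Bool.rec (motive := fun _ => Nat) (Bool.rec (motive := fun _ => Nat) (0x200013c000bd9) (0x300013c0006d4) (Nat.ble 1510 i)) (Bool.rec (motive := fun _ => Nat) (0x300013d00087c) (0x500013d000b7c) (Nat.ble 1512 i)) (Nat.ble 1511 i)) (Nat.ble 1509 i)) (Nat.ble 1506 i)) (Nat.ble 1500 i)) (Nat.ble 1488 i))
noncomputable def CK0P_31 (i : Nat) : Nat := (Bool.rec (motive := fun _ => Nat) (Bool.rec (motive := fun _ => Nat) (Bool.rec (motive := fun _ => Nat) (Bool.rec (motive := fun _ => Nat) (Bool.rec (motive := fun _ => Nat) (0x400013e0009d6) (Bool.rec (motive := fun _ => Nat) (0x600013e000a8b) (0x700013e0002f1) (Nat.ble 1515 i)) (Nat.ble 1514 i)) (Bool.rec (motive := fun _ => Nat) (0x500013f000227) (Bool.rec (motive := fun _ => Nat) (0x600013f00082e) (0x140000901) (Nat.ble 1518 i)) (Nat.ble 1517 i)) (Nat.ble 1516 i)) (Bool.rec (motive := fun _ => Nat) (Bool.rec (motive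 := fun _ => Nat) (0x200014000059d) (Bool.rec (motive := fun _ => Nat) (0x30001400008e7) (0x4000140000af6) (Nat.ble 1521 i)) (Nat.ble 1520 i)) (Bool.rec (motive := fun _ => Nat) (0x6000140000a88) (Bool.rec (motive := fun _ => Nat) (0x20001410003ea) (0x5000141000337) (Nat.ble 1524 i)) (Nat.ble 1523 i)) (Nat.ble 1522 i)) (Nat.ble 1519 i)) (Bool.rec (motive := fun _ => Nat) (Bool.rec (motive := fun _ => Nat) (Bool.rec (motive := fun _ => Nat) (0x1000142000f3e) (Bool.rec (motive := fun _ => Nat) (0x2000142000b05) (0x30001420008dd) (Nat.ble 1527 i)) (Nat.ble 1526 i)) (Bool.rec (motive := fun _ => Nat) (0x40001420008cb) (Bool.rec (motive := fun _ => Nat) (0x5000142000dd8) (0x143000d86) (Nat.ble 1530 i)) (Nat.ble 1529 i)) (Nat.ble 1528 i)) (Bool.rec (motive := fun _ => Nat) (Bool.rec (motive := fun _ => Nat) (0x2000143000f29) (Bool.rec (motive := fun _ => Nat) (0x60001430003e8) (0x7000143000649) (Nat.ble 1533 i)) (Nat.ble 1532 i)) (Bool.rec (motive := fun _ => Nat) (0x1000144000e92) (Bool.rec (motive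 := fun _ => Nat) (0x2000144000b70) (0x300014400043b) (Nat.ble 1536 i)) (Nat.ble 1535 i)) (Nat.ble 1534 i)) (Nat.ble 1531 i)) (Nat.ble 1525 i)) (Bool.rec (motive := fun _ => Nat) (Bool.rec (motive := fun _ => Nat) (Bool.rec (motive := fun _ => Nat) (Bool.rec (motive := fun _ => Nat) (0x5000144000e1c) (Bool.rec (motive := fun _ => Nat) (0x145000be6) (0x20001450008db) (Nat.ble 1539 i)) (Nat.ble 1538 i)) (Bool.rec (motive := fun _ => Nat) (0x400014500038e) (Bool.rec (motive := fun _ => Nat) (0x5000145000176) (0x5000146000b8b) (Nat.ble 1542 i)) (Nat.ble 1541 i)) (Nat.ble 1540 i)) (Bool.rec (motive := fun _ => Nat) (Bool.rec (motive := fun _ => Nat) (0x70001460006c4) (Bool.rec (motive := fun _ => Nat) (0x1470008d9) (0x2000147000909) (Nat.ble 1545 i)) (Nat.ble 1544 i)) (Bool.rec (motive := fun _ => Nat) (0x3000147000454) (Bool.rec (motive := fun _ => Nat) (0x4000147000bc5) (0x7000147000637) (Nat.ble 1548 i)) (Nat.ble 1547 i)) (Nat.ble 1546 i)) (Nat.ble 1543 i)) (Bool.rec (motive := fun _ => Nat) (Bool.rec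 (motive := fun _ => Nat) (Bool.rec (motive := fun _ => Nat) (0x1480002d1) (Bool.rec (motive := fun _ => Nat) (0x100014800040a) (0x4000148000794) (Nat.ble 1551 i)) (Nat.ble 1550 i)) (Bool.rec (motive := fun _ => Nat) (0x149000f2b) (Bool.rec (motive := fun _ => Nat) (0x20001490006f0) (0x14a000acb) (Nat.ble 1554 i)) (Nat.ble 1553 i)) (Nat.ble 1552 i)) (Bool.rec (motive := fun _ => Nat) (Bool.rec (motive := fun _ => Nat) (0x100014a0003de) (Bool.rec (motive := fun _ => Nat) (0x400014a0003da) (0x500014b000672) (Nat.ble 1557 i)) (Nat.ble 1556 i)) (Bool.rec (motive := fun _ => Nat) (Bool.rec (motive := fun _ => Nat) (0x700014b000a2d) (0x14c0000fd) (Nat.ble 1559 i)) (Bool.rec (motive := fun _ => Nat) (0x200014c000ad6) (0x300014c000654) (Nat.ble 1561 i)) (Nat.ble 1560 i)) (Nat.ble 1558 i)) (Nat.ble 1555 i)) (Nat.ble 1549 i)) (Nat.ble 1537 i))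
noncomputable def CK0P_32 (i : Nat) : Nat := (Bool.rec (motive := fun _ => Nat) (Bool.rec (motive := fun _ => Nat) (Bool.rec (motive := fun _ => Nat) (Bool.rec (motive := fun _ => Nat) (Bool.rec (motive := fun _ => Nat) (0x600014c000c6b) (Bool.rec (motive := fun _ => Nat) (0x700014c000e58) (0x500014d000478) (Nat.ble 1564 i)) (Nat.ble 1563 i)) (Bool.rec (motive := fun _ => Nat) (0x700014d000af7) (Bool.rec (motive := fun _ => Nat) (0x14e000805) (0x200014e000a25) (Nat.ble 1567 i)) (Nat.ble 1566 i)) (Nat.ble 1565 i)) (Bool.rec (motive := fun _ => Nat) (Bool.rec (motive := fun _ => Nat) (0x300014e000194) (Bool.rec (motive := fun _ => Nat) (0x500014e000835) (0x700014e00091b) (Nat.ble 1570 i)) (Nat.ble 1569 i)) (Bool.rec (motive := fun _ => Nat) (0x400014f000e40) (Bool.rec (motive := fun _ => Nat) (0x500014f000ed7) (0x30001500003df) (Nat.ble 1573 i)) (Nat.ble 1572 i)) (Nat.ble 1571 i)) (Nat.ble 1568 i)) (Bool.rec (motive := fun _ => Nat) (Bool.rec (motive := fun _ => Nat) (Bool.rec (motive := fun _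 => Nat) (0x5000150000643) (Bool.rec (motive := fun _ => Nat) (0x1000151000548) (0x2000151000b6f) (Nat.ble 1576 i)) (Nat.ble 1575 i)) (Bool.rec (motive := fun _ => Nat) (0x3000151000b19) (Bool.rec (motive := fun _ => Nat) (0x4000151000b18) (0x152000ac9) (Nat.ble 1579 i)) (Nat.ble 1578 i)) (Nat.ble 1577 i)) (Bool.rec (motive := fun _ => Nat) (Bool.rec (motive := fun _ => Nat) (0x50001520003c3) (Bool.rec (motive := fun _ => Nat) (0x70001520007de) (0x153000b47) (Nat.ble 1582 i)) (Nat.ble 1581 i)) (Bool.rec (motive := fun _ => Nat) (0x1000153000709) (Bool.rec (motive := fun _ => Nat) (0x2000153000251) (0x500015300048e) (Nat.ble 1585 i)) (Nat.ble 1584 i)) (Nat.ble 1583 i)) (Nat.ble 1580 i)) (Nat.ble 1574 i)) (Bool.rec (motive := fun _ => Nat) (Bool.rec (motive := fun _ => Nat) (Bool.rec (motive := fun _ => Nat) (Bool.rec (motive := fun _ => Nat) (0x70001530001fb) (Bool.rec (motive := fun _ => Nat) (0x2000154000df9) (0x7000154000de7) (Nat.ble 1588 i)) (Nat.ble 1587 i)) (Bool.rec (motive := fun _ =>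 Nat) (0x6000155000c84) (Bool.rec (motive := fun _ => Nat) (0x1560000fe) (0x200015600058e) (Nat.ble 1591 i)) (Nat.ble 1590 i)) (Nat.ble 1589 i)) (Bool.rec (motive := fun _ => Nat) (Bool.rec (motive := fun _ => Nat) (0x3000156000793) (Bool.rec (motive := fun _ => Nat) (0x5000156000cc9) (0x60001560007c9) (Nat.ble 1594 i)) (Nat.ble 1593 i)) (Bool.rec (motive := fun _ => Nat) (0x100015700013e) (Bool.rec (motive := fun _ => Nat) (0x2000157000de3) (0x400015700086c) (Nat.ble 1597 i)) (Nat.ble 1596 i)) (Nat.ble 1595 i)) (Nat.ble 1592 i)) (Bool.rec (motive := fun _ => Nat) (Bool.rec (motive := fun _ => Nat) (Bool.rec (motive := fun _ => Nat) (0x158000d98) (Bool.rec (motive := fun _ => Nat) (0x3000158000cfe) (0x4000158000ab5) (Nat.ble 1600 i)) (Nat.ble 1599 i)) (Bool.rec (motive := fun _ => Nat) (0x5000158000893) (Bool.rec (motive := fun _ => Nat) (0x159000280) (0x2000159000286) (Nat.ble 1603 i)) (Nat.ble 1602 i)) (Nat.ble 1601 i)) (Bool.rec (motive := fun _ => Nat) (Bool.rec (motive := fun _ => Nat) (0x400015900028a)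 (Bool.rec (motive := fun _ => Nat) (0x500015900027c) (0x100015a000cdc) (Nat.ble 1606 i)) (Nat.ble 1605 i)) (Bool.rec (motive := fun _ => Nat) (0x200015a000d05) (Bool.rec (motive := fun _ => Nat) (0x300015a000800) (0x700015a0006b0) (Nat.ble 1609 i)) (Nat.ble 1608 i)) (Nat.ble 1607 i)) (Nat.ble 1604 i)) (Nat.ble 1598 i)) (Nat.ble 1586 i))
noncomputable def CK0P_33 (i : Nat) : Nat := (Bool.rec (motive := fun _ => Nat) (Bool.rec (motive := fun _ => Nat) (Bool.rec (motive := fun _ => Nat) (Bool.rec (motive := fun _ => Nat) (Bool.rec (motive := fun _ => Nat) (0x200015b000689) (Bool.rec (motive := fun _ => Nat) (0x400015b000680) (0x600015b00064a) (Nat.ble 1612 i)) (Nat.ble 1611 i)) (Bool.rec (motive := fun _ => Nat) (0x500015c0008a3) (Bool.rec (motive := fun _ => Nat) (0x600015c00019a) (0x700015c000d16) (Nat.ble 1615 i)) (Nat.ble 1614 i)) (Nat.ble 1613 i)) (Bool.rec (motive := fun _ => Nat) (Bool.rec (motive := fun _ => Nat) (0x200015d00015d) (Bool.rec (motive := fun _ => Nat) (0x600015d000bff) (0x700015d000891)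 (Nat.ble 1618 i)) (Nat.ble 1617 i)) (Bool.rec (motive := fun _ => Nat) (0x300015e000138) (Bool.rec (motive := fun _ => Nat) (0x500015e000004) (0x700015e000316) (Nat.ble 1621 i)) (Nat.ble 1620 i)) (Nat.ble 1619 i)) (Nat.ble 1616 i)) (Bool.rec (motive := fun _ => Nat) (Bool.rec (motive := fun _ => Nat) (Bool.rec (motive := fun _ => Nat) (0x100015f000baf) (Bool.rec (motive := fun _ => Nat) (0x400015f000a7d) (0x600015f000b25) (Nat.ble 1624 i)) (Nat.ble 1623 i)) (Bool.rec (motive := fun _ => Nat) (0x160000335) (Bool.rec (motive := fun _ => Nat) (0x20001600004d2) (0x3000160000124) (Nat.ble 1627 i)) (Nat.ble 1626 i)) (Nat.ble 1625 i)) (Bool.rec (motive := fun _ => Nat) (Bool.rec (motive := fun _ => Nat) (0x70001600000db) (Bool.rec (motive := fun _ => Nat) (0x10001610002cf) (0x1620007a0) (Nat.ble 1630 i)) (Nat.ble 1629 i)) (Bool.rec (motive := fun _ => Nat) (0x2000162000327) (Bool.rec (motive := fun _ => Nat) (0x30001620005a2) (0x40001620003f0) (Nat.ble 1633 i)) (Nat.ble 1632 i)) (Nat.ble 1631 i)) (Nat.ble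 1628 i)) (Nat.ble 1622 i)) (Bool.rec (motive := fun _ => Nat) (Bool.rec (motive := fun _ => Nat) (Bool.rec (motive := fun _ => Nat) (Bool.rec (motive := fun _ => Nat) (0x7000162000436) (Bool.rec (motive := fun _ => Nat) (0x1000163000b4b) (0x30001630000f9) (Nat.ble 1636 i)) (Nat.ble 1635 i)) (Bool.rec (motive := fun _ => Nat) (0x700016300042d) (Bool.rec (motive := fun _ => Nat) (0x164000452) (0x2000164000456) (Nat.ble 1639 i)) (Nat.ble 1638 i)) (Nat.ble 1637 i)) (Bool.rec (motive := fun _ => Nat) (Bool.rec (motive := fun _ => Nat) (0x300016400012a) (Bool.rec (motive := fun _ => Nat) (0x500016400043a) (0x600016400042f) (Nat.ble 1642 i)) (Nat.ble 1641 i)) (Bool.rec (motive := fun _ => Nat) (0x7000164000b49) (Bool.rec (motive := fun _ => Nat) (0x700016500032e) (0x400016600034e) (Nat.ble 1645 i)) (Nat.ble 1644 i)) (Nat.ble 1643 i)) (Nat.ble 1640 i)) (Bool.rec (motive := fun _ => Nat) (Bool.rec (motive := fun _ => Nat) (Bool.rec (motive := fun _ => Nat) (0x10001670007fa) (Bool.rec (motive := fun _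 => Nat) (0x2000167000977) (0x3000167000978) (Nat.ble 1648 i)) (Nat.ble 1647 i)) (Bool.rec (motive := fun _ => Nat) (0x400016700039b) (Bool.rec (motive := fun _ => Nat) (0x5000167000025) (0x70001670002f6) (Nat.ble 1651 i)) (Nat.ble 1650 i)) (Nat.ble 1649 i)) (Bool.rec (motive := fun _ => Nat) (Bool.rec (motive := fun _ => Nat) (0x10001680002f8) (Bool.rec (motive := fun _ => Nat) (0x3000168000cb1) (0x6000168000ee6) (Nat.ble 1654 i)) (Nat.ble 1653 i)) (Bool.rec (motive := fun _ => Nat) (Bool.rec (motive := fun _ => Nat) (0x7000168000e55) (0x169000c47) (Nat.ble 1656 i)) (Bool.rec (motive := fun _ => Nat) (0x3000169000dc9) (0x400016900085a) (Nat.ble 1658 i)) (Nat.ble 1657 i)) (Nat.ble 1655 i)) (Nat.ble 1652 i)) (Nat.ble 1646 i)) (Nat.ble 1634 i))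
noncomputable def CK0P_34 (i : Nat) : Nat := (Bool.rec (motive := fun _ => Nat) (Bool.rec (motive := fun _ => Nat) (Bool.rec (motive := fun _ => Nat) (Bool.rec (motive := fun _ => Nat) (Bool.rec (motive := fun _ => Nat) (0x5000169000c4a) (Bool.rec (motive := fun _ => Nat) (0x7000169000d2a) (0x600016a0005f6) (Nat.ble 1661 i)) (Nat.ble 1660 i)) (Bool.rec (motive := fun _ => Nat) (0x700016b00010e) (Bool.rec (motive := fun _ => Nat) (0x16c00094d) (0x400016c0006c3) (Nat.ble 1664 i)) (Nat.ble 1663 i)) (Nat.ble 1662 i)) (Bool.rec (motive := fun _ => Nat) (Bool.rec (motive := fun _ => Nat) (0x600016c000419) (Bool.rec (motive := fun _ => Nat) (0x200016d000e2c) (0x16f00036b) (Nat.ble 1667 i)) (Nat.ble 1666 i)) (Bool.rec (motive := fun _ => Nat) (0x200016f000556) (Bool.rec (motive := fun _ => Nat) (0x700016f0002b2) (0x170000533) (Nat.ble 1670 i)) (Nat.ble 1669 i)) (Nat.ble 1668 i)) (Nat.ble 1665 i)) (Bool.rec (motive := fun _ => Nat) (Bool.rec (motive := fun _ => Nat) (Bool.rec (motive := fun _ => Nat)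 (0x10001700007df) (Bool.rec (motive := fun _ => Nat) (0x20001700008b1) (0x3000170000b32) (Nat.ble 1673 i)) (Nat.ble 1672 i)) (Bool.rec (motive := fun _ => Nat) (0x4000170000d26) (Bool.rec (motive := fun _ => Nat) (0x1710008d1) (0x5000171000dad) (Nat.ble 1676 i)) (Nat.ble 1675 i)) (Nat.ble 1674 i)) (Bool.rec (motive := fun _ => Nat) (Bool.rec (motive := fun _ => Nat) (0x6000171000525) (Bool.rec (motive := fun _ => Nat) (0x3000172000b3d) (0x7000172000ec1) (Nat.ble 1679 i)) (Nat.ble 1678 i)) (Bool.rec (motive := fun _ => Nat) (0x500017300036c) (Bool.rec (motive := fun _ => Nat) (0x7000173000e56) (0x5000174000f00) (Nat.ble 1682 i)) (Nat.ble 1681 i)) (Nat.ble 1680 i)) (Nat.ble 1677 i)) (Nat.ble 1671 i)) (Bool.rec (motive := fun _ => Nat) (Bool.rec (motive := fun _ => Nat) (Bool.rec (motive := fun _ => Nat) (Bool.rec (motive := fun _ => Nat) (0x7000174000e62) (Bool.rec (motive := fun _ => Nat) (0x6000176000b8a) (0x7000176000da9) (Nat.ble 1685 i)) (Nat.ble 1684 i)) (Bool.rec (motive := fun _ => Nat)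 (0x2000177000417) (Bool.rec (motive := fun _ => Nat) (0x50001770003bf) (0x2000179000902) (Nat.ble 1688 i)) (Nat.ble 1687 i)) (Nat.ble 1686 i)) (Bool.rec (motive := fun _ => Nat) (Bool.rec (motive := fun _ => Nat) (0x400017a000c87) (Bool.rec (motive := fun _ => Nat) (0x300017b000430) (0x500017b00097b) (Nat.ble 1691 i)) (Nat.ble 1690 i)) (Bool.rec (motive := fun _ => Nat) (0x600017b000960) (Bool.rec (motive := fun _ => Nat) (0x500017c000d34) (0x700017c000b93) (Nat.ble 1694 i)) (Nat.ble 1693 i)) (Nat.ble 1692 i)) (Nat.ble 1689 i)) (Bool.rec (motive := fun _ => Nat) (Bool.rec (motive := fun _ => Nat) (Bool.rec (motive := fun _ => Nat) (0x200017d000e53) (Bool.rec (motive := fun _ => Nat) (0x300017d000e31) (0x400017d000e00) (Nat.ble 1697 i)) (Nat.ble 1696 i)) (Bool.rec (motive := fun _ => Nat) (0x500017d000c51) (Bool.rec (motive := fun _ => Nat) (0x17e0006d8) (0x700017e000162) (Nat.ble 1700 i)) (Nat.ble 1699 i)) (Nat.ble 1698 i)) (Bool.rec (motive := fun _ => Nat) (Bool.rec (motive := fun _ => Nat)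 (0x200017f000d6c) (Bool.rec (motive := fun _ => Nat) (0x300017f000443) (0x400017f00074a) (Nat.ble 1703 i)) (Nat.ble 1702 i)) (Bool.rec (motive := fun _ => Nat) (Bool.rec (motive := fun _ => Nat) (0x20001800007e8) (0x5000180000a10) (Nat.ble 1705 i)) (Bool.rec (motive := fun _ => Nat) (0x6000180000a57) (0x200018100006c) (Nat.ble 1707 i)) (Nat.ble 1706 i)) (Nat.ble 1704 i)) (Nat.ble 1701 i)) (Nat.ble 1695 i)) (Nat.ble 1683 i))
noncomputable def CK0P_35 (i : Nat) : Nat := (Bool.rec (motive := fun _ => Nat) (Bool.rec (motive := fun _ => Nat) (Bool.rec (motive := fun _ => Nat) (Bool.rec (motive := fun _ => Nat) (Bool.rec (motive := fun _ => Nat) (0x500018100016d) (Bool.rec (motive := fun _ => Nat) (0x7000181000e6b) (0x7000182000dff) (Nat.ble 1710 i)) (Nat.ble 1709 i)) (Bool.rec (motive := fun _ => Nat) (0x3000183000f0d) (Bool.rec (motive := fun _ => Nat) (0x184000db3) (0x3000184000128) (Nat.ble 1713 i)) (Nat.ble 1712 i)) (Nat.ble 1711 i)) (Bool.rec (motive := fun _ => Nat) (Bool.rec (motive := fun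 _ => Nat) (0x4000184000e01) (Bool.rec (motive := fun _ => Nat) (0x5000184000dfb) (0x6000184000eac) (Nat.ble 1716 i)) (Nat.ble 1715 i)) (Bool.rec (motive := fun _ => Nat) (0x200018500054f) (Bool.rec (motive := fun _ => Nat) (0x3000185000d28) (0x7000185000291) (Nat.ble 1719 i)) (Nat.ble 1718 i)) (Nat.ble 1717 i)) (Nat.ble 1714 i)) (Bool.rec (motive := fun _ => Nat) (Bool.rec (motive := fun _ => Nat) (Bool.rec (motive := fun _ => Nat) (0x1000186000beb) (Bool.rec (motive := fun _ => Nat) (0x5000186000298) (0x1000187000d4a) (Nat.ble 1722 i)) (Nat.ble 1721 i)) (Bool.rec (motive := fun _ => Nat) (0x2000187000549) (Bool.rec (motive := fun _ => Nat) (0x3000187000f1d) (0x188000449) (Nat.ble 1725 i)) (Nat.ble 1724 i)) (Nat.ble 1723 i)) (Bool.rec (motive := fun _ => Nat) (Bool.rec (motive := fun _ => Nat) (0x3000188000802) (Bool.rec (motive := fun _ => Nat) (0x500018800044d) (0x189000dbb) (Nat.ble 1728 i)) (Nat.ble 1727 i)) (Bool.rec (motive := fun _ => Nat) (0x20001890009d0) (Bool.rec (motive := fun _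 => Nat) (0x5000189000d10) (0x70001890004e7) (Nat.ble 1731 i)) (Nat.ble 1730 i)) (Nat.ble 1729 i)) (Nat.ble 1726 i)) (Nat.ble 1720 i)) (Bool.rec (motive := fun _ => Nat) (Bool.rec (motive := fun _ => Nat) (Bool.rec (motive := fun _ => Nat) (Bool.rec (motive := fun _ => Nat) (0x600018a000836) (Bool.rec (motive := fun _ => Nat) (0x700018a000ade) (0x300018b000d38) (Nat.ble 1734 i)) (Nat.ble 1733 i)) (Bool.rec (motive := fun _ => Nat) (0x400018b000444) (Bool.rec (motive := fun _ => Nat) (0x500018b000397) (0x200018c000043) (Nat.ble 1737 i)) (Nat.ble 1736 i)) (Nat.ble 1735 i)) (Bool.rec (motive := fun _ => Nat) (Bool.rec (motive := fun _ => Nat) (0x400018c00029e) (Bool.rec (motive := fun _ => Nat) (0x100018d000ca3) (0x200018d000ed8) (Nat.ble 1740 i)) (Nat.ble 1739 i)) (Bool.rec (motive := fun _ => Nat) (0x500018d000178) (Bool.rec (motive := fun _ => Nat) (0x600018d000460) (0x18e000440) (Nat.ble 1743 i)) (Nat.ble 1742 i)) (Nat.ble 1741 i)) (Nat.ble 1738 i)) (Bool.rec (motive := fun _ => Nat) (Bool.rec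 (motive := fun _ => Nat) (Bool.rec (motive := fun _ => Nat) (0x200018e00070c) (Bool.rec (motive := fun _ => Nat) (0x300018e000b8d) (0x500018e000951) (Nat.ble 1746 i)) (Nat.ble 1745 i)) (Bool.rec (motive := fun _ => Nat) (0x600018e0007fc) (Bool.rec (motive := fun _ => Nat) (0x500018f0000dc) (0x190000573) (Nat.ble 1749 i)) (Nat.ble 1748 i)) (Nat.ble 1747 i)) (Bool.rec (motive := fun _ => Nat) (Bool.rec (motive := fun _ => Nat) (0x2000190000263) (Bool.rec (motive := fun _ => Nat) (0x30001900007da) (0x4000190000104) (Nat.ble 1752 i)) (Nat.ble 1751 i)) (Bool.rec (motive := fun _ => Nat) (Bool.rec (motive := fun _ => Nat) (0x700019000061d) (0x1000191000d3b) (Nat.ble 1754 i)) (Bool.rec (motive := fun _ => Nat) (0x20001910001f1) (0x300019100037e) (Nat.ble 1756 i)) (Nat.ble 1755 i)) (Nat.ble 1753 i)) (Nat.ble 1750 i)) (Nat.ble 1744 i)) (Nat.ble 1732 i))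
noncomputable def CK0P_36 (i : Nat) : Nat := (Bool.rec (motive := fun _ => Nat) (Bool.rec (motive := fun _ => Nat) (Bool.rec (motive := fun _ => Nat) (Bool.rec (motive := fun _ => Nat) (Bool.rec (motive := fun _ => Nat) (0x7000191000b4e) (Bool.rec (motive := fun _ => Nat) (0x10001920004a6) (0x2000192000945) (Nat.ble 1759 i)) (Nat.ble 1758 i)) (Bool.rec (motive := fun _ => Nat) (0x3000192000c6e) (Bool.rec (motive := fun _ => Nat) (0x5000192000262) (0x20001930006c1) (Nat.ble 1762 i)) (Nat.ble 1761 i)) (Nat.ble 1760 i)) (Bool.rec (motive := fun _ => Nat) (Bool.rec (motive := fun _ => Nat) (0x5000193000716) (Bool.rec (motive := fun _ => Nat) (0x70001930008ef) (0x2000194000e34) (Nat.ble 1765 i)) (Nat.ble 1764 i)) (Bool.rec (motive := fun _ => Nat) (0x300019400075e) (Bool.rec (motive := fun _ => Nat) (0x4000194000639) (0x195000d64) (Nat.ble 1768 i)) (Nat.ble 1767 i)) (Nat.ble 1766 i)) (Nat.ble 1763 i)) (Bool.rec (motive := fun _ => Nat) (Bool.rec (motive := fun _ => Nat) (Bool.rec (motive := fun _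 => Nat) (0x1000195000d93) (Bool.rec (motive := fun _ => Nat) (0x3000195000ede) (0x4000195000668) (Nat.ble 1771 i)) (Nat.ble 1770 i)) (Bool.rec (motive := fun _ => Nat) (0x1000196000825) (Bool.rec (motive := fun _ => Nat) (0x4000196000681) (0x5000196000d2f) (Nat.ble 1774 i)) (Nat.ble 1773 i)) (Nat.ble 1772 i)) (Bool.rec (motive := fun _ => Nat) (Bool.rec (motive := fun _ => Nat) (0x1970008a0) (Bool.rec (motive := fun _ => Nat) (0x2000197000a93) (0x3000197000329) (Nat.ble 1777 i)) (Nat.ble 1776 i)) (Bool.rec (motive := fun _ => Nat) (0x6000197000b33) (Bool.rec (motive := fun _ => Nat) (0x7000197000bb1) (0x1000198000445) (Nat.ble 1780 i)) (Nat.ble 1779 i)) (Nat.ble 1778 i)) (Nat.ble 1775 i)) (Nat.ble 1769 i)) (Bool.rec (motive := fun _ => Nat) (Bool.rec (motive := fun _ => Nat) (Bool.rec (motive := fun _ => Nat) (Bool.rec (motive := fun _ => Nat) (0x70001980001f0) (Bool.rec (motive := fun _ => Nat) (0x1000199000ada) (0x200019900031e) (Nat.ble 1783 i)) (Nat.ble 1782 i)) (Bool.rec (motive := fun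 _ => Nat) (0x30001990004e4) (Bool.rec (motive := fun _ => Nat) (0x70001990000f6) (0x19a000181) (Nat.ble 1786 i)) (Nat.ble 1785 i)) (Nat.ble 1784 i)) (Bool.rec (motive := fun _ => Nat) (Bool.rec (motive := fun _ => Nat) (0x200019a000098) (Bool.rec (motive := fun _ => Nat) (0x700019a0000fa) (0x400019b000330) (Nat.ble 1789 i)) (Nat.ble 1788 i)) (Bool.rec (motive := fun _ => Nat) (0x500019b0007d1) (Bool.rec (motive := fun _ => Nat) (0x700019b000a65) (0x300019c0001eb) (Nat.ble 1792 i)) (Nat.ble 1791 i)) (Nat.ble 1790 i)) (Nat.ble 1787 i)) (Bool.rec (motive := fun _ => Nat) (Bool.rec (motive := fun _ => Nat) (Bool.rec (motive := fun _ => Nat) (0x600019c000bab) (Bool.rec (motive := fun _ => Nat) (0x19d0001ea) (0x100019d000786) (Nat.ble 1795 i)) (Nat.ble 1794 i)) (Bool.rec (motive := fun _ => Nat) (0x300019d000be4) (Bool.rec (motive := fun _ => Nat) (0x500019d0002ca) (0x100019e000214) (Nat.ble 1798 i)) (Nat.ble 1797 i)) (Nat.ble 1796 i)) (Bool.rec (motive := fun _ => Nat) (Bool.rec (motive := fun _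 => Nat) (0x200019e0008d2) (Bool.rec (motive := fun _ => Nat) (0x300019e00091e) (0x500019e000737) (Nat.ble 1801 i)) (Nat.ble 1800 i)) (Bool.rec (motive := fun _ => Nat) (0x19f000167) (Bool.rec (motive := fun _ => Nat) (0x100019f00059a) (0x700019f0002d6) (Nat.ble 1804 i)) (Nat.ble 1803 i)) (Nat.ble 1802 i)) (Nat.ble 1799 i)) (Nat.ble 1793 i)) (Nat.ble 1781 i))
noncomputable def CK0P_37 (i : Nat) : Nat := (Bool.rec (motive := fun _ => Nat) (Bool.rec (motive := fun _ => Nat) (Bool.rec (motive := fun _ => Nat) (Bool.rec (motive := fun _ => Nat) (Bool.rec (motive := fun _ => Nat) (0x1a0000898) (Bool.rec (motive := fun _ => Nat) (0x10001a00001d0) (0x20001a00002c5) (Nat.ble 1807 i)) (Nat.ble 1806 i)) (Bool.rec (motive := fun _ => Nat) (0x50001a00001f3) (Bool.rec (motive := fun _ => Nat) (0x70001a1000cac) (0x50001a200001c) (Nat.ble 1810 i)) (Nat.ble 1809 i)) (Nat.ble 1808 i)) (Bool.rec (motive := fun _ => Nat) (Bool.rec (motive := fun _ => Nat) (0x70001a20002c7) (Bool.rec (motive := fun _ => Nat) (0x1a30000b2)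 (0x20001a3000331) (Nat.ble 1813 i)) (Nat.ble 1812 i)) (Bool.rec (motive := fun _ => Nat) (0x50001a30007f1) (Bool.rec (motive := fun _ => Nat) (0x1a4000d4d) (0x10001a4000a1e) (Nat.ble 1816 i)) (Nat.ble 1815 i)) (Nat.ble 1814 i)) (Nat.ble 1811 i)) (Bool.rec (motive := fun _ => Nat) (Bool.rec (motive := fun _ => Nat) (Bool.rec (motive := fun _ => Nat) (0x50001a400025b) (Bool.rec (motive := fun _ => Nat) (0x10001a50007e1) (0x20001a5000b6d) (Nat.ble 1819 i)) (Nat.ble 1818 i)) (Bool.rec (motive := fun _ => Nat) (0x30001a5000232) (Bool.rec (motive := fun _ => Nat) (0x40001a50009d4) (0x50001a50002bd) (Nat.ble 1822 i)) (Nat.ble 1821 i)) (Nat.ble 1820 i)) (Bool.rec (motive := fun _ => Nat) (Bool.rec (motive := fun _ => Nat) (0x60001a500011a) (Bool.rec (motive := fun _ => Nat) (0x10001a6000053) (0x20001a6000312) (Nat.ble 1825 i)) (Nat.ble 1824 i)) (Bool.rec (motive := fun _ => Nat) (0x50001a600032b) (Bool.rec (motive := fun _ => Nat) (0x70001a6000bf5) (0x10001a70004e3) (Nat.ble 1828 i)) (Nat.ble 1827 i))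 (Nat.ble 1826 i)) (Nat.ble 1823 i)) (Nat.ble 1817 i)) (Bool.rec (motive := fun _ => Nat) (Bool.rec (motive := fun _ => Nat) (Bool.rec (motive := fun _ => Nat) (Bool.rec (motive := fun _ => Nat) (0x30001a70006c5) (Bool.rec (motive := fun _ => Nat) (0x1a8000ba8) (0x60001a8000ef8) (Nat.ble 1831 i)) (Nat.ble 1830 i)) (Bool.rec (motive := fun _ => Nat) (0x1a9000961) (Bool.rec (motive := fun _ => Nat) (0x20001a9000148) (0x50001a900065b) (Nat.ble 1834 i)) (Nat.ble 1833 i)) (Nat.ble 1832 i)) (Bool.rec (motive := fun _ => Nat) (Bool.rec (motive := fun _ => Nat) (0x60001a9000626) (Bool.rec (motive := fun _ => Nat) (0x1aa000db9) (0x50001aa000f1e) (Nat.ble 1837 i)) (Nat.ble 1836 i)) (Bool.rec (motive := fun _ => Nat) (0x1ab0007e6) (Bool.rec (motive := fun _ => Nat) (0x20001ab000429) (0x40001ac000420) (Nat.ble 1840 i)) (Nat.ble 1839 i)) (Nat.ble 1838 i)) (Nat.ble 1835 i)) (Bool.rec (motive := fun _ => Nat) (Bool.rec (motive := fun _ => Nat) (Bool.rec (motive := fun _ => Nat) (0x50001ac00076c) (Bool.rec (motive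 := fun _ => Nat) (0x60001ac000572) (0x70001ac0000b3) (Nat.ble 1843 i)) (Nat.ble 1842 i)) (Bool.rec (motive := fun _ => Nat) (0x30001ad000384) (Bool.rec (motive := fun _ => Nat) (0x40001ad00031f) (0x1ae000750) (Nat.ble 1846 i)) (Nat.ble 1845 i)) (Nat.ble 1844 i)) (Bool.rec (motive := fun _ => Nat) (Bool.rec (motive := fun _ => Nat) (0x50001ae000e39) (Bool.rec (motive := fun _ => Nat) (0x1af000144) (0x10001af0000d6) (Nat.ble 1849 i)) (Nat.ble 1848 i)) (Bool.rec (motive := fun _ => Nat) (Bool.rec (motive := fun _ => Nat) (0x30001af000598) (0x40001af000013) (Nat.ble 1851 i)) (Bool.rec (motive := fun _ => Nat) (0x50001af000126) (0x10001b0000be0) (Nat.ble 1853 i)) (Nat.ble 1852 i)) (Nat.ble 1850 i)) (Nat.ble 1847 i)) (Nat.ble 1841 i)) (Nat.ble 1829 i))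
noncomputable def CK0P_38 (i : Nat) : Nat := (Bool.rec (motive := fun _ => Nat) (Bool.rec (motive := fun _ => Nat) (Bool.rec (motive := fun _ => Nat) (Bool.rec (motive := fun _ => Nat) (Bool.rec (motive := fun _ => Nat) (0x20001b0000a61) (Bool.rec (motive := fun _ => Nat) (0x30001b00003b8) (0x1b1000641) (Nat.ble 1856 i)) (Nat.ble 1855 i)) (Bool.rec (motive := fun _ => Nat) (0x20001b1000474) (Bool.rec (motive := fun _ => Nat) (0x60001b10003b1) (0x1b20002f7) (Nat.ble 1859 i)) (Nat.ble 1858 i)) (Nat.ble 1857 i)) (Bool.rec (motive := fun _ => Nat) (Bool.rec (motive := fun _ => Nat) (0x30001b200005a) (Bool.rec (motive := fun _ => Nat) (0x40001b200021d) (0x60001b300001d) (Nat.ble 1862 i)) (Nat.ble 1861 i)) (Bool.rec (motive := fun _ => Nat) (0x10001b400003c) (Bool.rec (motive := fun _ => Nat) (0x20001b40000fb) (0x30001b4000117) (Nat.ble 1865 i)) (Nat.ble 1864 i)) (Nat.ble 1863 i)) (Nat.ble 1860 i)) (Bool.rec (motive := fun _ => Nat) (Bool.rec (motive := fun _ => Nat) (Bool.rec (motive := fun _ =>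 Nat) (0x40001b4000003) (Bool.rec (motive := fun _ => Nat) (0x50001b400012b) (0x70001b400090c) (Nat.ble 1868 i)) (Nat.ble 1867 i)) (Bool.rec (motive := fun _ => Nat) (0x10001b5000051) (Bool.rec (motive := fun _ => Nat) (0x50001b500019c) (0x1b6000bd8) (Nat.ble 1871 i)) (Nat.ble 1870 i)) (Nat.ble 1869 i)) (Bool.rec (motive := fun _ => Nat) (Bool.rec (motive := fun _ => Nat) (0x20001b6000894) (Bool.rec (motive := fun _ => Nat) (0x40001b6000bd7) (0x20001b7000851) (Nat.ble 1874 i)) (Nat.ble 1873 i)) (Bool.rec (motive := fun _ => Nat) (0x1b8000631) (Bool.rec (motive := fun _ => Nat) (0x20001b80007e5) (0x40001b8000b95) (Nat.ble 1877 i)) (Nat.ble 1876 i)) (Nat.ble 1875 i)) (Nat.ble 1872 i)) (Nat.ble 1866 i)) (Bool.rec (motive := fun _ => Nat) (Bool.rec (motive := fun _ => Nat) (Bool.rec (motive := fun _ => Nat) (Bool.rec (motive := fun _ => Nat) (0x70001b800027d) (Bool.rec (motive := fun _ => Nat) (0x1b9000bcb) (0x20001b90008e3) (Nat.ble 1880 i)) (Nat.ble 1879 i)) (Bool.rec (motive := fun _ => Nat) (0x30001b9000953)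 (Bool.rec (motive := fun _ => Nat) (0x50001b9000f02) (0x30001bb0006f9) (Nat.ble 1883 i)) (Nat.ble 1882 i)) (Nat.ble 1881 i)) (Bool.rec (motive := fun _ => Nat) (Bool.rec (motive := fun _ => Nat) (0x30001bc000bd2) (Bool.rec (motive := fun _ => Nat) (0x50001bc000987) (0x1bd000198) (Nat.ble 1886 i)) (Nat.ble 1885 i)) (Bool.rec (motive := fun _ => Nat) (0x10001bd0000d3) (Bool.rec (motive := fun _ => Nat) (0x30001bd000183) (0x40001bd0002bb) (Nat.ble 1889 i)) (Nat.ble 1888 i)) (Nat.ble 1887 i)) (Nat.ble 1884 i)) (Bool.rec (motive := fun _ => Nat) (Bool.rec (motive := fun _ => Nat) (Bool.rec (motive := fun _ => Nat) (0x60001bd0007f8) (Bool.rec (motive := fun _ => Nat) (0x70001bd0003c7) (0x10001be000b7e) (Nat.ble 1892 i)) (Nat.ble 1891 i)) (Bool.rec (motive := fun _ => Nat) (0x40001be0000e0) (Bool.rec (motive := fun _ => Nat) (0x1bf000713) (0x20001bf0005d2) (Nat.ble 1895 i)) (Nat.ble 1894 i)) (Nat.ble 1893 i)) (Bool.rec (motive := fun _ => Nat) (Bool.rec (motive := fun _ => Nat) (0x1c0000141) (Bool.rec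 (motive := fun _ => Nat) (0x30001c0000326) (0x60001c00008c0) (Nat.ble 1898 i)) (Nat.ble 1897 i)) (Bool.rec (motive := fun _ => Nat) (Bool.rec (motive := fun _ => Nat) (0x50001c10000a8) (0x40001c2000012) (Nat.ble 1900 i)) (Bool.rec (motive := fun _ => Nat) (0x70001c2000067) (0x1c3000a53) (Nat.ble 1902 i)) (Nat.ble 1901 i)) (Nat.ble 1899 i)) (Nat.ble 1896 i)) (Nat.ble 1890 i)) (Nat.ble 1878 i))
noncomputable def CK0P_39 (i : Nat) : Nat := (Bool.rec (motive := fun _ => Nat) (Bool.rec (motive := fun _ => Nat) (Bool.rec (motive := fun _ => Nat) (Bool.rec (motive := fun _ => Nat) (Bool.rec (motive := fun _ => Nat) (0x60001c3000e89) (Bool.rec (motive := fun _ => Nat) (0x70001c3000a23) (0x10001c4000de6) (Nat.ble 1905 i)) (Nat.ble 1904 i)) (Bool.rec (motive := fun _ => Nat) (0x30001c4000cb7) (Bool.rec (motive := fun _ => Nat) (0x70001c40000ef) (0x20001c5000052) (Nat.ble 1908 i)) (Nat.ble 1907 i)) (Nat.ble 1906 i)) (Bool.rec (motive := fun _ => Nat) (Bool.rec (motive := fun _ => Nat) (0x30001c50009b5)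 (Bool.rec (motive := fun _ => Nat) (0x50001c5000027) (0x60001c5000cbf) (Nat.ble 1911 i)) (Nat.ble 1910 i)) (Bool.rec (motive := fun _ => Nat) (0x70001c5000359) (Bool.rec (motive := fun _ => Nat) (0x1c600037b) (0x50001c600004c) (Nat.ble 1914 i)) (Nat.ble 1913 i)) (Nat.ble 1912 i)) (Nat.ble 1909 i)) (Bool.rec (motive := fun _ => Nat) (Bool.rec (motive := fun _ => Nat) (Bool.rec (motive := fun _ => Nat) (0x30001c70000b7) (Bool.rec (motive := fun _ => Nat) (0x50001c7000391) (0x60001c7000c49) (Nat.ble 1917 i)) (Nat.ble 1916 i)) (Bool.rec (motive := fun _ => Nat) (0x70001c70008fd) (Bool.rec (motive := fun _ => Nat) (0x10001c8000e94) (0x30001c8000873) (Nat.ble 1920 i)) (Nat.ble 1919 i)) (Nat.ble 1918 i)) (Bool.rec (motive := fun _ => Nat) (Bool.rec (motive := fun _ => Nat) (0x10001c900073a) (Bool.rec (motive := fun _ => Nat) (0x30001c9000471) (0x40001c9000a95) (Nat.ble 1923 i)) (Nat.ble 1922 i)) (Bool.rec (motive := fun _ => Nat) (0x10001ca0009b6) (Bool.rec (motive := fun _ => Nat) (0x20001ca0007fe)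 (0x70001ca00058d) (Nat.ble 1926 i)) (Nat.ble 1925 i)) (Nat.ble 1924 i)) (Nat.ble 1921 i)) (Nat.ble 1915 i)) (Bool.rec (motive := fun _ => Nat) (Bool.rec (motive := fun _ => Nat) (Bool.rec (motive := fun _ => Nat) (Bool.rec (motive := fun _ => Nat) (0x1cb0007c5) (Bool.rec (motive := fun _ => Nat) (0x20001cb0007c8) (0x40001cb0007ca) (Nat.ble 1929 i)) (Nat.ble 1928 i)) (Bool.rec (motive := fun _ => Nat) (0x60001cb0008b8) (Bool.rec (motive := fun _ => Nat) (0x10001cc000309) (0x20001cc000673) (Nat.ble 1932 i)) (Nat.ble 1931 i)) (Nat.ble 1930 i)) (Bool.rec (motive := fun _ => Nat) (Bool.rec (motive := fun _ => Nat) (0x30001cc000ab1) (Bool.rec (motive := fun _ => Nat) (0x70001cc000e37) (0x30001cd00029b) (Nat.ble 1935 i)) (Nat.ble 1934 i)) (Bool.rec (motive := fun _ => Nat) (0x70001cd000b14) (Bool.rec (motive := fun _ => Nat) (0x40001ce00041c) (0x70001ce000a6a) (Nat.ble 1938 i)) (Nat.ble 1937 i)) (Nat.ble 1936 i)) (Nat.ble 1933 i)) (Bool.rec (motive := fun _ => Nat) (Bool.rec (motive := fun _ => Nat)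 (Bool.rec (motive := fun _ => Nat) (0x1cf0004db) (Bool.rec (motive := fun _ => Nat) (0x20001cf000c42) (0x1d0000923) (Nat.ble 1941 i)) (Nat.ble 1940 i)) (Bool.rec (motive := fun _ => Nat) (0x10001d0000a62) (Bool.rec (motive := fun _ => Nat) (0x20001d0000b77) (0x50001d0000959) (Nat.ble 1944 i)) (Nat.ble 1943 i)) (Nat.ble 1942 i)) (Bool.rec (motive := fun _ => Nat) (Bool.rec (motive := fun _ => Nat) (0x10001d1000832) (Bool.rec (motive := fun _ => Nat) (0x20001d1000153) (0x1d200011d) (Nat.ble 1947 i)) (Nat.ble 1946 i)) (Bool.rec (motive := fun _ => Nat) (Bool.rec (motive := fun _ => Nat) (0x30001d2000ae7) (0x50001d20002fc) (Nat.ble 1949 i)) (Bool.rec (motive := fun _ => Nat) (0x70001d3000526) (0x1d40006ef) (Nat.ble 1951 i)) (Nat.ble 1950 i)) (Nat.ble 1948 i)) (Nat.ble 1945 i)) (Nat.ble 1939 i)) (Nat.ble 1927 i))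
noncomputable def CK0P_40 (i : Nat) : Nat := (Bool.rec (motive := fun _ => Nat) (Bool.rec (motive := fun _ => Nat) (Bool.rec (motive := fun _ => Nat) (Bool.rec (motive := fun _ => Nat) (Bool.rec (motive := fun _ => Nat) (0x30001d400004a) (Bool.rec (motive := fun _ => Nat) (0x1d5000db1) (0x70001d5000587) (Nat.ble 1954 i)) (Nat.ble 1953 i)) (Bool.rec (motive := fun _ => Nat) (0x1d60004f3) (Bool.rec (motive := fun _ => Nat) (0x60001d6000682) (0x10001d7000bb2) (Nat.ble 1957 i)) (Nat.ble 1956 i)) (Nat.ble 1955 i)) (Bool.rec (motive := fun _ => Nat) (Bool.rec (motive := fun _ => Nat) (0x20001d70001fc) (Bool.rec (motive := fun _ => Nat) (0x70001d7000019) (0x10001d8000ab0) (Nat.ble 1960 i)) (Nat.ble 1959 i)) (Bool.rec (motive := fun _ => Nat) (0x20001d800038b) (Bool.rec (motive := fun _ => Nat) (0x70001d8000726) (0x30001d900007e) (Nat.ble 1963 i)) (Nat.ble 1962 i)) (Nat.ble 1961 i)) (Nat.ble 1958 i)) (Bool.rec (motive := fun _ => Nat) (Bool.rec (motive := fun _ => Nat) (Bool.rec (motive := fun _ =>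 Nat) (0x50001d9000d0c) (Bool.rec (motive := fun _ => Nat) (0x20001db0001ef) (0x30001db000cf5) (Nat.ble 1966 i)) (Nat.ble 1965 i)) (Bool.rec (motive := fun _ => Nat) (0x50001db0000de) (Bool.rec (motive := fun _ => Nat) (0x40001dc00041f) (0x60001dd000941) (Nat.ble 1969 i)) (Nat.ble 1968 i)) (Nat.ble 1967 i)) (Bool.rec (motive := fun _ => Nat) (Bool.rec (motive := fun _ => Nat) (0x70001dd00064e) (Bool.rec (motive := fun _ => Nat) (0x10001de000d9d) (0x50001de000a2f) (Nat.ble 1972 i)) (Nat.ble 1971 i)) (Bool.rec (motive := fun _ => Nat) (0x1df0003e4) (Bool.rec (motive := fun _ => Nat) (0x10001df00076f) (0x30001df000947) (Nat.ble 1975 i)) (Nat.ble 1974 i)) (Nat.ble 1973 i)) (Nat.ble 1970 i)) (Nat.ble 1964 i)) (Bool.rec (motive := fun _ => Nat) (Bool.rec (motive := fun _ => Nat) (Bool.rec (motive := fun _ => Nat) (Bool.rec (motive := fun _ => Nat) (0x20001e0000770) (Bool.rec (motive := fun _ => Nat) (0x40001e0000358) (0x70001e000031b) (Nat.ble 1978 i)) (Nat.ble 1977 i)) (Bool.rec (motive := fun _ =>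 Nat) (0x1e10005d9) (Bool.rec (motive := fun _ => Nat) (0x30001e1000ca9) (0x70001e1000bea) (Nat.ble 1981 i)) (Nat.ble 1980 i)) (Nat.ble 1979 i)) (Bool.rec (motive := fun _ => Nat) (Bool.rec (motive := fun _ => Nat) (0x60001e2000c62) (Bool.rec (motive := fun _ => Nat) (0x20001e300053e) (0x30001e30003cf) (Nat.ble 1984 i)) (Nat.ble 1983 i)) (Bool.rec (motive := fun _ => Nat) (0x50001e3000c9b) (Bool.rec (motive := fun _ => Nat) (0x70001e300088a) (0x10001e4000191) (Nat.ble 1987 i)) (Nat.ble 1986 i)) (Nat.ble 1985 i)) (Nat.ble 1982 i)) (Bool.rec (motive := fun _ => Nat) (Bool.rec (motive := fun _ => Nat) (Bool.rec (motive := fun _ => Nat) (0x70001e40007ae) (Bool.rec (motive := fun _ => Nat) (0x1e50008e9) (0x10001e5000ad4) (Nat.ble 1990 i)) (Nat.ble 1989 i)) (Bool.rec (motive := fun _ => Nat) (0x20001e5000b12) (Bool.rec (motive := fun _ => Nat) (0x30001e50000ad) (0x1e600009e) (Nat.ble 1993 i)) (Nat.ble 1992 i)) (Nat.ble 1991 i)) (Bool.rec (motive := fun _ => Nat) (Bool.rec (motive := fun _ => Nat) (0x20001e6000846)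 (Bool.rec (motive := fun _ => Nat) (0x30001e60003b5) (0x40001e6000bf3) (Nat.ble 1996 i)) (Nat.ble 1995 i)) (Bool.rec (motive := fun _ => Nat) (0x50001e6000983) (Bool.rec (motive := fun _ => Nat) (0x60001e6000a3b) (0x1e7000110) (Nat.ble 1999 i)) (Nat.ble 1998 i)) (Nat.ble 1997 i)) (Nat.ble 1994 i)) (Nat.ble 1988 i)) (Nat.ble 1976 i))
noncomputable def CK0P_41 (i : Nat) : Nat := (Bool.rec (motive := fun _ => Nat) (Bool.rec (motive := fun _ => Nat) (Bool.rec (motive := fun _ => Nat) (Bool.rec (motive := fun _ => Nat) (Bool.rec (motive := fun _ => Nat) (0x40001e700065d) (Bool.rec (motive := fun _ => Nat) (0x50001e700031c) (0x70001e700070a) (Nat.ble 2002 i)) (Nat.ble 2001 i)) (Bool.rec (motive := fun _ => Nat) (0x60001e8000017) (Bool.rec (motive := fun _ => Nat) (0x1e9000546) (0x20001e9000154) (Nat.ble 2005 i)) (Nat.ble 2004 i)) (Nat.ble 2003 i)) (Bool.rec (motive := fun _ => Nat) (Bool.rec (motive := fun _ => Nat) (0x30001e9000b87) (Bool.rec (motive := fun _ => Nat) (0x60001e9000570) (0x70001e90000af)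 (Nat.ble 2008 i)) (Nat.ble 2007 i)) (Bool.rec (motive := fun _ => Nat) (0x50001ea000a80) (Bool.rec (motive := fun _ => Nat) (0x20001eb0009ba) (0x70001eb00099c) (Nat.ble 2011 i)) (Nat.ble 2010 i)) (Nat.ble 2009 i)) (Nat.ble 2006 i)) (Bool.rec (motive := fun _ => Nat) (Bool.rec (motive := fun _ => Nat) (Bool.rec (motive := fun _ => Nat) (0x10001ec0004eb) (Bool.rec (motive := fun _ => Nat) (0x30001ec000607) (0x40001ec00099f) (Nat.ble 2014 i)) (Nat.ble 2013 i)) (Bool.rec (motive := fun _ => Nat) (0x70001ec00034d) (Bool.rec (motive := fun _ => Nat) (0x1ed0007ac) (0x10001ed000789) (Nat.ble 2017 i)) (Nat.ble 2016 i)) (Nat.ble 2015 i)) (Bool.rec (motive := fun _ => Nat) (Bool.rec (motive := fun _ => Nat) (0x20001ed00091a) (Bool.rec (motive := fun _ => Nat) (0x30001ed000a76) (0x50001ed000a49) (Nat.ble 2020 i)) (Nat.ble 2019 i)) (Bool.rec (motive := fun _ => Nat) (0x70001ed00000a) (Bool.rec (motive := fun _ => Nat) (0x40001ee000f30) (0x60001ee000660) (Nat.ble 2023 i)) (Nat.ble 2022 i)) (Nat.ble 2021 i))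 (Nat.ble 2018 i)) (Nat.ble 2012 i)) (Bool.rec (motive := fun _ => Nat) (Bool.rec (motive := fun _ => Nat) (Bool.rec (motive := fun _ => Nat) (Bool.rec (motive := fun _ => Nat) (0x50001ef0009a0) (Bool.rec (motive := fun _ => Nat) (0x60001ef000647) (0x30001f000068d) (Nat.ble 2026 i)) (Nat.ble 2025 i)) (Bool.rec (motive := fun _ => Nat) (0x50001f100059f) (Bool.rec (motive := fun _ => Nat) (0x50001f300007c) (0x70001f30000e8) (Nat.ble 2029 i)) (Nat.ble 2028 i)) (Nat.ble 2027 i)) (Bool.rec (motive := fun _ => Nat) (Bool.rec (motive := fun _ => Nat) (0x1f4000cff) (Bool.rec (motive := fun _ => Nat) (0x20001f40006e9) (0x50001f4000400) (Nat.ble 2032 i)) (Nat.ble 2031 i)) (Bool.rec (motive := fun _ => Nat) (0x20001f5000c4b) (Bool.rec (motive := fun _ => Nat) (0x1f7000e49) (0x50001f7000820) (Nat.ble 2035 i)) (Nat.ble 2034 i)) (Nat.ble 2033 i)) (Nat.ble 2030 i)) (Bool.rec (motive := fun _ => Nat) (Bool.rec (motive := fun _ => Nat) (Bool.rec (motive := fun _ => Nat) (0x70001f700026e) (Bool.rec (motive :=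 fun _ => Nat) (0x1f80003dd) (0x10001f8000c3b) (Nat.ble 2038 i)) (Nat.ble 2037 i)) (Bool.rec (motive := fun _ => Nat) (0x20001f80006ea) (Bool.rec (motive := fun _ => Nat) (0x30001f8000b0d) (0x60001f8000285) (Nat.ble 2041 i)) (Nat.ble 2040 i)) (Nat.ble 2039 i)) (Bool.rec (motive := fun _ => Nat) (Bool.rec (motive := fun _ => Nat) (0x50001f9000193) (Bool.rec (motive := fun _ => Nat) (0x70001f90002ef) (0x10001fa000856) (Nat.ble 2044 i)) (Nat.ble 2043 i)) (Bool.rec (motive := fun _ => Nat) (Bool.rec (motive := fun _ => Nat) (0x50001fb0003c2) (0x70001fb000c10) (Nat.ble 2046 i)) (Bool.rec (motive := fun _ => Nat) (0x1fc000310) (0x20001fc0005be) (Nat.ble 2048 i)) (Nat.ble 2047 i)) (Nat.ble 2045 i)) (Nat.ble 2042 i)) (Nat.ble 2036 i)) (Nat.ble 2024 i))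
noncomputable def CK0P_42 (i : Nat) : Nat := (Bool.rec (motive := fun _ => Nat) (Bool.rec (motive := fun _ => Nat) (Bool.rec (motive := fun _ => Nat) (Bool.rec (motive := fun _ => Nat) (Bool.rec (motive := fun _ => Nat) (0x60001fc000613) (Bool.rec (motive := fun _ => Nat) (0x1fd000d6f) (0x1fe000eec) (Nat.ble 2051 i)) (Nat.ble 2050 i)) (Bool.rec (motive := fun _ => Nat) (0x20001fe000b9a) (Bool.rec (motive := fun _ => Nat) (0x30001fe000421) (0x50001fe00090a) (Nat.ble 2054 i)) (Nat.ble 2053 i)) (Nat.ble 2052 i)) (Bool.rec (motive := fun _ => Nat) (Bool.rec (motive := fun _ => Nat) (0x70001ff0002a2) (Bool.rec (motive := fun _ => Nat) (0x1000200000b2b) (0x2000200000074) (Nat.ble 2057 i)) (Nat.ble 2056 i)) (Bool.rec (motive := fun _ => Nat) (0x5000200000610) (Bool.rec (motive := fun _ => Nat) (0x7000200000ded) (0x201000949) (Nat.ble 2060 i)) (Nat.ble 2059 i)) (Nat.ble 2058 i)) (Nat.ble 2055 i)) (Bool.rec (motive := fun _ => Nat) (Bool.rec (motive := fun _ => Nat) (Bool.rec (motive := fun _ => Nat)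 (0x20002010006f2) (Bool.rec (motive := fun _ => Nat) (0x3000201000bfe) (0x7000201000aae) (Nat.ble 2063 i)) (Nat.ble 2062 i)) (Bool.rec (motive := fun _ => Nat) (0x20002020002a1) (Bool.rec (motive := fun _ => Nat) (0x3000202000cb2) (0x7000202000e7d) (Nat.ble 2066 i)) (Nat.ble 2065 i)) (Nat.ble 2064 i)) (Bool.rec (motive := fun _ => Nat) (Bool.rec (motive := fun _ => Nat) (0x5000203000a8c) (Bool.rec (motive := fun _ => Nat) (0x700020300066f) (0x4000204000910) (Nat.ble 2069 i)) (Nat.ble 2068 i)) (Bool.rec (motive := fun _ => Nat) (0x60002040009e9) (Bool.rec (motive := fun _ => Nat) (0x205000eb9) (0x400020500050e) (Nat.ble 2072 i)) (Nat.ble 2071 i)) (Nat.ble 2070 i)) (Nat.ble 2067 i)) (Nat.ble 2061 i)) (Bool.rec (motive := fun _ => Nat) (Bool.rec (motive := fun _ => Nat) (Bool.rec (motive := fun _ => Nat) (Bool.rec (motive := fun _ => Nat) (0x5000205000b24) (Bool.rec (motive := fun _ => Nat) (0x1000206000950) (0x207000e67) (Nat.ble 2075 i)) (Nat.ble 2074 i)) (Bool.rec (motive := fun _ => Nat) (0x2000207000f15)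 (Bool.rec (motive := fun _ => Nat) (0x3000207000d6e) (0x208000d91) (Nat.ble 2078 i)) (Nat.ble 2077 i)) (Nat.ble 2076 i)) (Bool.rec (motive := fun _ => Nat) (Bool.rec (motive := fun _ => Nat) (0x209000801) (Bool.rec (motive := fun _ => Nat) (0x30002090000ec) (0x40002090000eb) (Nat.ble 2081 i)) (Nat.ble 2080 i)) (Bool.rec (motive := fun _ => Nat) (0x5000209000e2b) (Bool.rec (motive := fun _ => Nat) (0x7000209000bf6) (0x20a000e2d) (Nat.ble 2084 i)) (Nat.ble 2083 i)) (Nat.ble 2082 i)) (Nat.ble 2079 i)) (Bool.rec (motive := fun _ => Nat) (Bool.rec (motive := fun _ => Nat) (Bool.rec (motive := fun _ => Nat) (0x500020a000099) (Bool.rec (motive := fun _ => Nat) (0x700020a000439) (0x20b000d60) (Nat.ble 2087 i)) (Nat.ble 2086 i)) (Bool.rec (motive := fun _ => Nat) (0x200020b000d14) (Bool.rec (motive := fun _ => Nat) (0x400020b0006f1) (0x600020b0002b4) (Nat.ble 2090 i)) (Nat.ble 2089 i)) (Nat.ble 2088 i)) (Bool.rec (motive := fun _ => Nat) (Bool.rec (motive := fun _ => Nat) (0x300020c0000ae) (Bool.rec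 (motive := fun _ => Nat) (0x700020c0006aa) (0x500020d000506) (Nat.ble 2093 i)) (Nat.ble 2092 i)) (Bool.rec (motive := fun _ => Nat) (Bool.rec (motive := fun _ => Nat) (0x20e000914) (0x600020e000c74) (Nat.ble 2095 i)) (Bool.rec (motive := fun _ => Nat) (0x500020f000b26) (0x600020f0009d2) (Nat.ble 2097 i)) (Nat.ble 2096 i)) (Nat.ble 2094 i)) (Nat.ble 2091 i)) (Nat.ble 2085 i)) (Nat.ble 2073 i))
noncomputable def CK0P_43 (i : Nat) : Nat := (Bool.rec (motive := fun _ => Nat) (Bool.rec (motive := fun _ => Nat) (Bool.rec (motive := fun _ => Nat) (Bool.rec (motive := fun _ => Nat) (Bool.rec (motive := fun _ => Nat) (0x700020f000903) (Bool.rec (motive := fun _ => Nat) (0x40002100006eb) (0x6000210000761) (Nat.ble 2100 i)) (Nat.ble 2099 i)) (Bool.rec (motive := fun _ => Nat) (0x100021100030f) (Bool.rec (motive := fun _ => Nat) (0x212000d08) (0x1000212000e50) (Nat.ble 2103 i)) (Nat.ble 2102 i)) (Nat.ble 2101 i)) (Bool.rec (motive := fun _ => Nat) (Bool.rec (motive := fun _ => Nat) (0x3000212000a98) (Bool.rec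 (motive := fun _ => Nat) (0x4000212000663) (0x5000212000269) (Nat.ble 2106 i)) (Nat.ble 2105 i)) (Bool.rec (motive := fun _ => Nat) (0x6000212000c69) (Bool.rec (motive := fun _ => Nat) (0x400021300069a) (0x500021300095b) (Nat.ble 2109 i)) (Nat.ble 2108 i)) (Nat.ble 2107 i)) (Nat.ble 2104 i)) (Bool.rec (motive := fun _ => Nat) (Bool.rec (motive := fun _ => Nat) (Bool.rec (motive := fun _ => Nat) (0x6000213000ef5) (Bool.rec (motive := fun _ => Nat) (0x700021300032d) (0x200021400084d) (Nat.ble 2112 i)) (Nat.ble 2111 i)) (Bool.rec (motive := fun _ => Nat) (0x3000215000cd5) (Bool.rec (motive := fun _ => Nat) (0x4000216000d7f) (0x5000216000744) (Nat.ble 2115 i)) (Nat.ble 2114 i)) (Nat.ble 2113 i)) (Bool.rec (motive := fun _ => Nat) (Bool.rec (motive := fun _ => Nat) (0x6000216000f14) (Bool.rec (motive := fun _ => Nat) (0x7000216000683) (0x50002170007ab) (Nat.ble 2118 i)) (Nat.ble 2117 i)) (Bool.rec (motive := fun _ => Nat) (0x200021800038c) (Bool.rec (motive := fun _ => Nat) (0x30002180007e3) (0x4000218000aba)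 (Nat.ble 2121 i)) (Nat.ble 2120 i)) (Nat.ble 2119 i)) (Nat.ble 2116 i)) (Nat.ble 2110 i)) (Bool.rec (motive := fun _ => Nat) (Bool.rec (motive := fun _ => Nat) (Bool.rec (motive := fun _ => Nat) (Bool.rec (motive := fun _ => Nat) (0x7000218000b40) (Bool.rec (motive := fun _ => Nat) (0x21900043d) (0x2000219000ec6) (Nat.ble 2124 i)) (Nat.ble 2123 i)) (Bool.rec (motive := fun _ => Nat) (0x30002190007b2) (Bool.rec (motive := fun _ => Nat) (0x5000219000c44) (0x200021a000ed5) (Nat.ble 2127 i)) (Nat.ble 2126 i)) (Nat.ble 2125 i)) (Bool.rec (motive := fun _ => Nat) (Bool.rec (motive := fun _ => Nat) (0x400021a000d43) (Bool.rec (motive := fun _ => Nat) (0x21b000cce) (0x100021b000315) (Nat.ble 2130 i)) (Nat.ble 2129 i)) (Bool.rec (motive := fun _ => Nat) (0x600021b000ba1) (Bool.rec (motive := fun _ => Nat) (0x21c0007ee) (0x200021c000c5c) (Nat.ble 2133 i)) (Nat.ble 2132 i)) (Nat.ble 2131 i)) (Nat.ble 2128 i)) (Bool.rec (motive := fun _ => Nat) (Bool.rec (motive := fun _ => Nat) (Bool.rec (motive := fun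 _ => Nat) (0x300021c000ecd) (Bool.rec (motive := fun _ => Nat) (0x500021c0000e1) (0x700021c000022) (Nat.ble 2136 i)) (Nat.ble 2135 i)) (Bool.rec (motive := fun _ => Nat) (0x300021d000868) (Bool.rec (motive := fun _ => Nat) (0x600021e000d83) (0x100021f000432) (Nat.ble 2139 i)) (Nat.ble 2138 i)) (Nat.ble 2137 i)) (Bool.rec (motive := fun _ => Nat) (Bool.rec (motive := fun _ => Nat) (0x200021f000bef) (Bool.rec (motive := fun _ => Nat) (0x300021f0002b5) (0x500021f000dbd) (Nat.ble 2142 i)) (Nat.ble 2141 i)) (Bool.rec (motive := fun _ => Nat) (Bool.rec (motive := fun _ => Nat) (0x4000220000712) (0x3000221000102) (Nat.ble 2144 i)) (Bool.rec (motive := fun _ => Nat) (0x500022100035f) (0x7000221000054) (Nat.ble 2146 i)) (Nat.ble 2145 i)) (Nat.ble 2143 i)) (Nat.ble 2140 i)) (Nat.ble 2134 i)) (Nat.ble 2122 i))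
noncomputable def CK0P_44 (i : Nat) : Nat := (Bool.rec (motive := fun _ => Nat) (Bool.rec (motive := fun _ => Nat) (Bool.rec (motive := fun _ => Nat) (Bool.rec (motive := fun _ => Nat) (Bool.rec (motive := fun _ => Nat) (0x5000223000f0e) (Bool.rec (motive := fun _ => Nat) (0x6000223000dda) (0x50002240006a6) (Nat.ble 2149 i)) (Nat.ble 2148 i)) (Bool.rec (motive := fun _ => Nat) (0x22500092e) (Bool.rec (motive := fun _ => Nat) (0x5000225000dc4) (0x6000225000187) (Nat.ble 2152 i)) (Nat.ble 2151 i)) (Nat.ble 2150 i)) (Bool.rec (motive := fun _ => Nat) (Bool.rec (motive := fun _ => Nat) (0x226000754) (Bool.rec (motive := fun _ => Nat) (0x5000226000727) (0x2270007a5) (Nat.ble 2155 i)) (Nat.ble 2154 i)) (Bool.rec (motive := fun _ => Nat) (0x1000227000f0c) (Bool.rec (motive := fun _ => Nat) (0x2000227000981) (0x30002270001bf) (Nat.ble 2158 i)) (Nat.ble 2157 i)) (Nat.ble 2156 i)) (Nat.ble 2153 i)) (Bool.rec (motive := fun _ => Nat) (Bool.rec (motive := fun _ => Nat) (Bool.rec (motive := fun _ => Nat)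 (0x5000227000c80) (Bool.rec (motive := fun _ => Nat) (0x100022800062c) (0x7000228000e8c) (Nat.ble 2161 i)) (Nat.ble 2160 i)) (Bool.rec (motive := fun _ => Nat) (0x1000229000ad9) (Bool.rec (motive := fun _ => Nat) (0x600022a000be5) (0x22b000c4c) (Nat.ble 2164 i)) (Nat.ble 2163 i)) (Nat.ble 2162 i)) (Bool.rec (motive := fun _ => Nat) (Bool.rec (motive := fun _ => Nat) (0x100022b000cc8) (Bool.rec (motive := fun _ => Nat) (0x500022b0003b4) (0x500022c000d8e) (Nat.ble 2167 i)) (Nat.ble 2166 i)) (Bool.rec (motive := fun _ => Nat) (0x600022c000eb3) (Bool.rec (motive := fun _ => Nat) (0x22f0002b8) (0x200022f000c8c) (Nat.ble 2170 i)) (Nat.ble 2169 i)) (Nat.ble 2168 i)) (Nat.ble 2165 i)) (Nat.ble 2159 i)) (Bool.rec (motive := fun _ => Nat) (Bool.rec (motive := fun _ => Nat) (Bool.rec (motive := fun _ => Nat) (Bool.rec (motive := fun _ => Nat) (0x700022f000bcf) (Bool.rec (motive := fun _ => Nat) (0x1000231000061) (0x5000231000c15) (Nat.ble 2173 i)) (Nat.ble 2172 i)) (Bool.rec (motive := fun _ => Nat) (0x5000232000f23)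 (Bool.rec (motive := fun _ => Nat) (0x234000d68) (0x235000f35) (Nat.ble 2176 i)) (Nat.ble 2175 i)) (Nat.ble 2174 i)) (Bool.rec (motive := fun _ => Nat) (Bool.rec (motive := fun _ => Nat) (0x1000235000e22) (Bool.rec (motive := fun _ => Nat) (0x5000235000d0b) (0x6000235000418) (Nat.ble 2179 i)) (Nat.ble 2178 i)) (Bool.rec (motive := fun _ => Nat) (0x3000236000166) (Bool.rec (motive := fun _ => Nat) (0x5000236000a58) (0x5000237000796) (Nat.ble 2182 i)) (Nat.ble 2181 i)) (Nat.ble 2180 i)) (Nat.ble 2177 i)) (Bool.rec (motive := fun _ => Nat) (Bool.rec (motive := fun _ => Nat) (Bool.rec (motive := fun _ => Nat) (0x6000237000294) (Bool.rec (motive := fun _ => Nat) (0x7000237000501) (0x10002380003f1) (Nat.ble 2185 i)) (Nat.ble 2184 i)) (Bool.rec (motive := fun _ => Nat) (0x4000238000cf1) (Bool.rec (motive := fun _ => Nat) (0x50002380004ff) (0x23900093a) (Nat.ble 2188 i)) (Nat.ble 2187 i)) (Nat.ble 2186 i)) (Bool.rec (motive := fun _ => Nat) (Bool.rec (motive := fun _ => Nat) (0x3000239000c0f) (Bool.rec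 (motive := fun _ => Nat) (0x4000239000f07) (0x60002390006c9) (Nat.ble 2191 i)) (Nat.ble 2190 i)) (Bool.rec (motive := fun _ => Nat) (Bool.rec (motive := fun _ => Nat) (0x23a000c94) (0x200023a000ac8) (Nat.ble 2193 i)) (Bool.rec (motive := fun _ => Nat) (0x700023a000989) (0x23b000e96) (Nat.ble 2195 i)) (Nat.ble 2194 i)) (Nat.ble 2192 i)) (Nat.ble 2189 i)) (Nat.ble 2183 i)) (Nat.ble 2171 i))
noncomputable def CK0P_45 (i : Nat) : Nat := (Bool.rec (motive := fun _ => Nat) (Bool.rec (motive := fun _ => Nat) (Bool.rec (motive := fun _ => Nat) (Bool.rec (motive := fun _ => Nat) (Bool.rec (motive := fun _ => Nat) (0x700023b000c9c) (Bool.rec (motive := fun _ => Nat) (0x23c000e60) (0x300023d0007b6) (Nat.ble 2198 i)) (Nat.ble 2197 i)) (Bool.rec (motive := fun _ => Nat) (0x300023e000bfc) (Bool.rec (motive := fun _ => Nat) (0x200023f0008a5) (0x500023f000a90) (Nat.ble 2201 i)) (Nat.ble 2200 i)) (Nat.ble 2199 i)) (Bool.rec (motive := fun _ => Nat) (Bool.rec (motive := fun _ => Nat) (0x600023f00065c) (Bool.rec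 (motive := fun _ => Nat) (0x240000bbe) (0x200024000099d) (Nat.ble 2204 i)) (Nat.ble 2203 i)) (Bool.rec (motive := fun _ => Nat) (0x6000240000434) (Bool.rec (motive := fun _ => Nat) (0x5000241000c8a) (0x7000241000738) (Nat.ble 2207 i)) (Nat.ble 2206 i)) (Nat.ble 2205 i)) (Nat.ble 2202 i)) (Bool.rec (motive := fun _ => Nat) (Bool.rec (motive := fun _ => Nat) (Bool.rec (motive := fun _ => Nat) (0x2000242000cb3) (Bool.rec (motive := fun _ => Nat) (0x6000242000632) (0x1000243000994) (Nat.ble 2210 i)) (Nat.ble 2209 i)) (Bool.rec (motive := fun _ => Nat) (0x4000243000d76) (Bool.rec (motive := fun _ => Nat) (0x246000b9d) (0x5000246000f0b) (Nat.ble 2213 i)) (Nat.ble 2212 i)) (Nat.ble 2211 i)) (Bool.rec (motive := fun _ => Nat) (Bool.rec (motive := fun _ => Nat) (0x7000249000760) (Bool.rec (motive := fun _ => Nat) (0x300024a0002f3) (0x300024b00094b) (Nat.ble 2216 i)) (Nat.ble 2215 i)) (Bool.rec (motive := fun _ => Nat) (0x24d000908) (Bool.rec (motive := fun _ => Nat) (0x400024d000905) (0x24e000d79) (Nat.ble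 2219 i)) (Nat.ble 2218 i)) (Nat.ble 2217 i)) (Nat.ble 2214 i)) (Nat.ble 2208 i)) (Bool.rec (motive := fun _ => Nat) (Bool.rec (motive := fun _ => Nat) (Bool.rec (motive := fun _ => Nat) (Bool.rec (motive := fun _ => Nat) (0x200024f000745) (Bool.rec (motive := fun _ => Nat) (0x600024f0008d3) (0x700024f000ef4) (Nat.ble 2222 i)) (Nat.ble 2221 i)) (Bool.rec (motive := fun _ => Nat) (0x3000251000bb4) (Bool.rec (motive := fun _ => Nat) (0x700025100095d) (0x1000252000b1e) (Nat.ble 2225 i)) (Nat.ble 2224 i)) (Nat.ble 2223 i)) (Bool.rec (motive := fun _ => Nat) (Bool.rec (motive := fun _ => Nat) (0x3000252000b20) (Bool.rec (motive := fun _ => Nat) (0x70002520000a6) (0x1000253000cb4) (Nat.ble 2228 i)) (Nat.ble 2227 i)) (Bool.rec (motive := fun _ => Nat) (0x200025300092c) (Bool.rec (motive := fun _ => Nat) (0x3000253000b58) (0x5000253000dee) (Nat.ble 2231 i)) (Nat.ble 2230 i)) (Nat.ble 2229 i)) (Nat.ble 2226 i)) (Bool.rec (motive := fun _ => Nat) (Bool.rec (motive := fun _ => Nat) (Bool.rec (motive :=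 fun _ => Nat) (0x2000254000db8) (Bool.rec (motive := fun _ => Nat) (0x3000254000ba3) (0x6000256000936) (Nat.ble 2234 i)) (Nat.ble 2233 i)) (Bool.rec (motive := fun _ => Nat) (0x7000256000169) (Bool.rec (motive := fun _ => Nat) (0x10002570008be) (0x30002570005f5) (Nat.ble 2237 i)) (Nat.ble 2236 i)) (Nat.ble 2235 i)) (Bool.rec (motive := fun _ => Nat) (Bool.rec (motive := fun _ => Nat) (0x600025700046b) (Bool.rec (motive := fun _ => Nat) (0x2580009cd) (0x300025800078e) (Nat.ble 2240 i)) (Nat.ble 2239 i)) (Bool.rec (motive := fun _ => Nat) (Bool.rec (motive := fun _ => Nat) (0x3000259000afe) (0x25b0002d3) (Nat.ble 2242 i)) (Bool.rec (motive := fun _ => Nat) (0x100025b00098b) (0x200025b000b0c) (Nat.ble 2244 i)) (Nat.ble 2243 i)) (Nat.ble 2241 i)) (Nat.ble 2238 i)) (Nat.ble 2232 i)) (Nat.ble 2220 i))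
noncomputable def CK0P_46 (i : Nat) : Nat := (Bool.rec (motive := fun _ => Nat) (Bool.rec (motive := fun _ => Nat) (Bool.rec (motive := fun _ => Nat) (Bool.rec (motive := fun _ => Nat) (Bool.rec (motive := fun _ => Nat) (0x300025b000caa) (Bool.rec (motive := fun _ => Nat) (0x600025b00061e) (0x700025b000ac6) (Nat.ble 2247 i)) (Nat.ble 2246 i)) (Bool.rec (motive := fun _ => Nat) (0x25c0009c9) (Bool.rec (motive := fun _ => Nat) (0x200025c00047b) (0x500025c000470) (Nat.ble 2250 i)) (Nat.ble 2249 i)) (Nat.ble 2248 i)) (Bool.rec (motive := fun _ => Nat) (Bool.rec (motive := fun _ => Nat) (0x700025c000df6) (Bool.rec (motive := fun _ => Nat) (0x25d0002c4) (0x500025d000e64) (Nat.ble 2253 i)) (Nat.ble 2252 i)) (Bool.rec (motive := fun _ => Nat) (0x600025d00067a) (Bool.rec (motive := fun _ => Nat) (0x300025e0002e0) (0x400025f000caf) (Nat.ble 2256 i)) (Nat.ble 2255 i)) (Nat.ble 2254 i)) (Nat.ble 2251 i)) (Bool.rec (motive := fun _ => Nat) (Bool.rec (motive := fun _ => Nat) (Bool.rec (motive := fun _ =>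 Nat) (0x600025f000e5e) (Bool.rec (motive := fun _ => Nat) (0x260000476) (0x200026000007f) (Nat.ble 2259 i)) (Nat.ble 2258 i)) (Bool.rec (motive := fun _ => Nat) (0x3000260000774) (Bool.rec (motive := fun _ => Nat) (0x50002600003f8) (0x2000261000998) (Nat.ble 2262 i)) (Nat.ble 2261 i)) (Nat.ble 2260 i)) (Bool.rec (motive := fun _ => Nat) (Bool.rec (motive := fun _ => Nat) (0x3000261000bba) (Bool.rec (motive := fun _ => Nat) (0x5000261000361) (0x6000261000bca) (Nat.ble 2265 i)) (Nat.ble 2264 i)) (Bool.rec (motive := fun _ => Nat) (0x1000262000ae2) (Bool.rec (motive := fun _ => Nat) (0x2000262000699) (0x30002620006d9) (Nat.ble 2268 i)) (Nat.ble 2267 i)) (Nat.ble 2266 i)) (Nat.ble 2263 i)) (Nat.ble 2257 i)) (Bool.rec (motive := fun _ => Nat) (Bool.rec (motive := fun _ => Nat) (Bool.rec (motive := fun _ => Nat) (Bool.rec (motive := fun _ => Nat) (0x70002620002da) (Bool.rec (motive := fun _ => Nat) (0x2000264000c96) (0x40002640001b1) (Nat.ble 2271 i)) (Nat.ble 2270 i)) (Bool.rec (motive := fun _ =>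 Nat) (0x6000264000675) (Bool.rec (motive := fun _ => Nat) (0x7000264000c73) (0x2000266000a87) (Nat.ble 2274 i)) (Nat.ble 2273 i)) (Nat.ble 2272 i)) (Bool.rec (motive := fun _ => Nat) (Bool.rec (motive := fun _ => Nat) (0x3000266000a91) (Bool.rec (motive := fun _ => Nat) (0x4000266000b96) (0x60002660002db) (Nat.ble 2277 i)) (Nat.ble 2276 i)) (Bool.rec (motive := fun _ => Nat) (0x267000ac5) (Bool.rec (motive := fun _ => Nat) (0x6000267000d29) (0x10002680009aa) (Nat.ble 2280 i)) (Nat.ble 2279 i)) (Nat.ble 2278 i)) (Nat.ble 2275 i)) (Bool.rec (motive := fun _ => Nat) (Bool.rec (motive := fun _ => Nat) (Bool.rec (motive := fun _ => Nat) (0x20002690008f2) (Bool.rec (motive := fun _ => Nat) (0x300026a000ead) (0x600026a000bc3) (Nat.ble 2283 i)) (Nat.ble 2282 i)) (Bool.rec (motive := fun _ => Nat) (0x700026a000bcd) (Bool.rec (motive := fun _ => Nat) (0x26b000e5c) (0x600026b000931) (Nat.ble 2286 i)) (Nat.ble 2285 i)) (Nat.ble 2284 i)) (Bool.rec (motive := fun _ => Nat) (Bool.rec (motive := fun _ => Nat)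 (0x700026b000ef9) (Bool.rec (motive := fun _ => Nat) (0x100026c000b0a) (0x400026c000e79) (Nat.ble 2289 i)) (Nat.ble 2288 i)) (Bool.rec (motive := fun _ => Nat) (Bool.rec (motive := fun _ => Nat) (0x300026d0003e5) (0x500026d000c1f) (Nat.ble 2291 i)) (Bool.rec (motive := fun _ => Nat) (0x600026d0007be) (0x26e000ab2) (Nat.ble 2293 i)) (Nat.ble 2292 i)) (Nat.ble 2290 i)) (Nat.ble 2287 i)) (Nat.ble 2281 i)) (Nat.ble 2269 i))
noncomputable def CK0P_47 (i : Nat) : Nat := (Bool.rec (motive := fun _ => Nat) (Bool.rec (motive := fun _ => Nat) (Bool.rec (motive := fun _ => Nat) (Bool.rec (motive := fun _ => Nat) (Bool.rec (motive := fun _ => Nat) (0x200026e0002c1) (Bool.rec (motive := fun _ => Nat) (0x700026e000c2b) (0x26f000f1c) (Nat.ble 2296 i)) (Nat.ble 2295 i)) (Bool.rec (motive := fun _ => Nat) (0x2000270000e7a) (Bool.rec (motive := fun _ => Nat) (0x2000272000bac) (0x40002720002a4) (Nat.ble 2299 i)) (Nat.ble 2298 i)) (Nat.ble 2297 i)) (Bool.rec (motive := fun _ => Nat) (Bool.rec (motive := fun _ =>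 Nat) (0x6000273000ef2) (Bool.rec (motive := fun _ => Nat) (0x10002740004f6) (0x20002740008e5) (Nat.ble 2302 i)) (Nat.ble 2301 i)) (Bool.rec (motive := fun _ => Nat) (0x2000275000257) (Bool.rec (motive := fun _ => Nat) (0x277000c3e) (0x7000277000c16) (Nat.ble 2305 i)) (Nat.ble 2304 i)) (Nat.ble 2303 i)) (Nat.ble 2300 i)) (Bool.rec (motive := fun _ => Nat) (Bool.rec (motive := fun _ => Nat) (Bool.rec (motive := fun _ => Nat) (0x2780008f4) (Bool.rec (motive := fun _ => Nat) (0x279000f13) (0x10002790007ba) (Nat.ble 2308 i)) (Nat.ble 2307 i)) (Bool.rec (motive := fun _ => Nat) (0x3000279000a44) (Bool.rec (motive := fun _ => Nat) (0x7000279000f2e) (0x200027a000c25) (Nat.ble 2311 i)) (Nat.ble 2310 i)) (Nat.ble 2309 i)) (Bool.rec (motive := fun _ => Nat) (Bool.rec (motive := fun _ => Nat) (0x500027a000640) (Bool.rec (motive := fun _ => Nat) (0x600027a00038f) (0x200027b0000ee) (Nat.ble 2314 i)) (Nat.ble 2313 i)) (Bool.rec (motive := fun _ => Nat) (0x300027b000747) (Bool.rec (motive := fun _ => Nat) (0x600027b000bfd)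 (0x700027b000c78) (Nat.ble 2317 i)) (Nat.ble 2316 i)) (Nat.ble 2315 i)) (Nat.ble 2312 i)) (Nat.ble 2306 i)) (Bool.rec (motive := fun _ => Nat) (Bool.rec (motive := fun _ => Nat) (Bool.rec (motive := fun _ => Nat) (Bool.rec (motive := fun _ => Nat) (0x27d000dfd) (Bool.rec (motive := fun _ => Nat) (0x500027d00027f) (0x200027e00012e) (Nat.ble 2320 i)) (Nat.ble 2319 i)) (Bool.rec (motive := fun _ => Nat) (0x300027e00032a) (Bool.rec (motive := fun _ => Nat) (0x500027e0000d4) (0x27f0009a8) (Nat.ble 2323 i)) (Nat.ble 2322 i)) (Nat.ble 2321 i)) (Bool.rec (motive := fun _ => Nat) (Bool.rec (motive := fun _ => Nat) (0x200027f000259) (Bool.rec (motive := fun _ => Nat) (0x500027f000f39) (0x700027f0005cb) (Nat.ble 2326 i)) (Nat.ble 2325 i)) (Bool.rec (motive := fun _ => Nat) (0x2000280000852) (Bool.rec (motive := fun _ => Nat) (0x700028300078b) (0x2000284000571) (Nat.ble 2329 i)) (Nat.ble 2328 i)) (Nat.ble 2327 i)) (Nat.ble 2324 i)) (Bool.rec (motive := fun _ => Nat) (Bool.rec (motive := fun _ => Nat) (Bool.rec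 (motive := fun _ => Nat) (0x2850006a5) (Bool.rec (motive := fun _ => Nat) (0x40002850000e7) (0x5000285000159) (Nat.ble 2332 i)) (Nat.ble 2331 i)) (Bool.rec (motive := fun _ => Nat) (0x30002860005db) (Bool.rec (motive := fun _ => Nat) (0x4000286000795) (0x2870008cf) (Nat.ble 2335 i)) (Nat.ble 2334 i)) (Nat.ble 2333 i)) (Bool.rec (motive := fun _ => Nat) (Bool.rec (motive := fun _ => Nat) (0x20002880009ac) (Bool.rec (motive := fun _ => Nat) (0x5000288000334) (0x7000289000aad) (Nat.ble 2338 i)) (Nat.ble 2337 i)) (Bool.rec (motive := fun _ => Nat) (Bool.rec (motive := fun _ => Nat) (0x200028b000b16) (0x300028b00058c) (Nat.ble 2340 i)) (Bool.rec (motive := fun _ => Nat) (0x500028b00086a) (0x28d000e25) (Nat.ble 2342 i)) (Nat.ble 2341 i)) (Nat.ble 2339 i)) (Nat.ble 2336 i)) (Nat.ble 2330 i)) (Nat.ble 2318 i))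
noncomputable def CK0P_48 (i : Nat) : Nat := (Bool.rec (motive := fun _ => Nat) (Bool.rec (motive := fun _ => Nat) (Bool.rec (motive := fun _ => Nat) (Bool.rec (motive := fun _ => Nat) (Bool.rec (motive := fun _ => Nat) (0x500028d000bb5) (Bool.rec (motive := fun _ => Nat) (0x600028d0000b1) (0x300028e000bf8) (Nat.ble 2345 i)) (Nat.ble 2344 i)) (Bool.rec (motive := fun _ => Nat) (0x300028f0004fb) (Bool.rec (motive := fun _ => Nat) (0x2000290000bfa) (0x4000290000bd1) (Nat.ble 2348 i)) (Nat.ble 2347 i)) (Nat.ble 2346 i)) (Bool.rec (motive := fun _ => Nat) (Bool.rec (motive := fun _ => Nat) (0x7000290000bb3) (Bool.rec (motive := fun _ => Nat) (0x4000291000b23) (0x7000291000382) (Nat.ble 2351 i)) (Nat.ble 2350 i)) (Bool.rec (motive := fun _ => Nat) (0x4000292000d80) (Bool.rec (motive := fun _ => Nat) (0x5000292000de9) (0x700029300016b) (Nat.ble 2354 i)) (Nat.ble 2353 i)) (Nat.ble 2352 i)) (Nat.ble 2349 i)) (Bool.rec (motive := fun _ => Nat) (Bool.rec (motive := fun _ => Nat) (Bool.rec (motive := fun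 _ => Nat) (0x294000041) (Bool.rec (motive := fun _ => Nat) (0x4000294000155) (0x2000295000766) (Nat.ble 2357 i)) (Nat.ble 2356 i)) (Bool.rec (motive := fun _ => Nat) (0x3000295000af4) (Bool.rec (motive := fun _ => Nat) (0x6000295000b1d) (0x296000380) (Nat.ble 2360 i)) (Nat.ble 2359 i)) (Nat.ble 2358 i)) (Bool.rec (motive := fun _ => Nat) (Bool.rec (motive := fun _ => Nat) (0x2000297000b71) (Bool.rec (motive := fun _ => Nat) (0x600029700005e) (0x7000297000137) (Nat.ble 2363 i)) (Nat.ble 2362 i)) (Bool.rec (motive := fun _ => Nat) (0x3000298000cf7) (Bool.rec (motive := fun _ => Nat) (0x500029800057a) (0x299000bfb) (Nat.ble 2366 i)) (Nat.ble 2365 i)) (Nat.ble 2364 i)) (Nat.ble 2361 i)) (Nat.ble 2355 i)) (Bool.rec (motive := fun _ => Nat) (Bool.rec (motive := fun _ => Nat) (Bool.rec (motive := fun _ => Nat) (Bool.rec (motive := fun _ => Nat) (0x200029a000bad) (Bool.rec (motive := fun _ => Nat) (0x300029a000360) (0x300029b000f27) (Nat.ble 2369 i)) (Nat.ble 2368 i)) (Bool.rec (motive := fun _ => Nat)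 (0x200029d000151) (Bool.rec (motive := fun _ => Nat) (0x300029e000255) (0x200029f000a7b) (Nat.ble 2372 i)) (Nat.ble 2371 i)) (Nat.ble 2370 i)) (Bool.rec (motive := fun _ => Nat) (Bool.rec (motive := fun _ => Nat) (0x300029f0003ec) (Bool.rec (motive := fun _ => Nat) (0x400029f000320) (0x500029f000295) (Nat.ble 2375 i)) (Nat.ble 2374 i)) (Bool.rec (motive := fun _ => Nat) (0x10002a2000eb8) (Bool.rec (motive := fun _ => Nat) (0x30002a2000b5f) (0x2a30005ae) (Nat.ble 2378 i)) (Nat.ble 2377 i)) (Nat.ble 2376 i)) (Nat.ble 2373 i)) (Bool.rec (motive := fun _ => Nat) (Bool.rec (motive := fun _ => Nat) (Bool.rec (motive := fun _ => Nat) (0x50002a3000dcc) (Bool.rec (motive := fun _ => Nat) (0x10002a4000b74) (0x20002a4000356) (Nat.ble 2381 i)) (Nat.ble 2380 i)) (Bool.rec (motive := fun _ => Nat) (0x2a5000958) (Bool.rec (motive := fun _ => Nat) (0x10002a5000cb5) (0x40002a7000b84) (Nat.ble 2384 i)) (Nat.ble 2383 i)) (Nat.ble 2382 i)) (Bool.rec (motive := fun _ => Nat) (Bool.rec (motive := fun _ => Nat) (0x10002a9000d03)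 (Bool.rec (motive := fun _ => Nat) (0x50002a9000db5) (0x50002aa00042a) (Nat.ble 2387 i)) (Nat.ble 2386 i)) (Bool.rec (motive := fun _ => Nat) (0x70002aa000662) (Bool.rec (motive := fun _ => Nat) (0x2ac0000da) (0x70002ac0003cc) (Nat.ble 2390 i)) (Nat.ble 2389 i)) (Nat.ble 2388 i)) (Nat.ble 2385 i)) (Nat.ble 2379 i)) (Nat.ble 2367 i))
noncomputable def CK0P_49 (i : Nat) : Nat := (Bool.rec (motive := fun _ => Nat) (Bool.rec (motive := fun _ => Nat) (Bool.rec (motive := fun _ => Nat) (Bool.rec (motive := fun _ => Nat) (Bool.rec (motive := fun _ => Nat) (0x40002ad000617) (Bool.rec (motive := fun _ => Nat) (0x50002af000f21) (0x2b0000c5a) (Nat.ble 2393 i)) (Nat.ble 2392 i)) (Bool.rec (motive := fun _ => Nat) (0x60002b000029c) (Bool.rec (motive := fun _ => Nat) (0x2b1000d41) (0x20002b1000dd2) (Nat.ble 2396 i)) (Nat.ble 2395 i)) (Nat.ble 2394 i)) (Bool.rec (motive := fun _ => Nat) (Bool.rec (motive := fun _ => Nat) (0x30002b1000c00) (Bool.rec (motive := fun _ => Nat) (0x50002b40006e2) (0x70002b7000895)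 (Nat.ble 2399 i)) (Nat.ble 2398 i)) (Bool.rec (motive := fun _ => Nat) (0x20002b9000a77) (Bool.rec (motive := fun _ => Nat) (0x30002b9000385) (0x10002ba00032c) (Nat.ble 2402 i)) (Nat.ble 2401 i)) (Nat.ble 2400 i)) (Nat.ble 2397 i)) (Bool.rec (motive := fun _ => Nat) (Bool.rec (motive := fun _ => Nat) (Bool.rec (motive := fun _ => Nat) (0x20002ba000b35) (Bool.rec (motive := fun _ => Nat) (0x50002ba000799) (0x30002bb000296) (Nat.ble 2405 i)) (Nat.ble 2404 i)) (Bool.rec (motive := fun _ => Nat) (0x60002bb0004e1) (Bool.rec (motive := fun _ => Nat) (0x70002bc000710) (0x2bd000837) (Nat.ble 2408 i)) (Nat.ble 2407 i)) (Nat.ble 2406 i)) (Bool.rec (motive := fun _ => Nat) (Bool.rec (motive := fun _ => Nat) (0x20002bd00061b) (Bool.rec (motive := fun _ => Nat) (0x30002bd000e7b) (0x30002be000c30) (Nat.ble 2411 i)) (Nat.ble 2410 i)) (Bool.rec (motive := fun _ => Nat) (0x70002bf00069d) (Bool.rec (motive := fun _ => Nat) (0x2c0000cb0) (0x2c100091d) (Nat.ble 2414 i)) (Nat.ble 2413 i)) (Nat.ble 2412 i)) (Nat.ble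 2409 i)) (Nat.ble 2403 i)) (Bool.rec (motive := fun _ => Nat) (Bool.rec (motive := fun _ => Nat) (Bool.rec (motive := fun _ => Nat) (Bool.rec (motive := fun _ => Nat) (0x2c2000cdb) (Bool.rec (motive := fun _ => Nat) (0x70002c40007c7) (0x2c500004f) (Nat.ble 2417 i)) (Nat.ble 2416 i)) (Bool.rec (motive := fun _ => Nat) (0x20002c50006d7) (Bool.rec (motive := fun _ => Nat) (0x30002c50006a1) (0x60002c50005cc) (Nat.ble 2420 i)) (Nat.ble 2419 i)) (Nat.ble 2418 i)) (Bool.rec (motive := fun _ => Nat) (Bool.rec (motive := fun _ => Nat) (0x70002c50006a7) (Bool.rec (motive := fun _ => Nat) (0x2c600098f) (0x30002c6000dd1) (Nat.ble 2423 i)) (Nat.ble 2422 i)) (Bool.rec (motive := fun _ => Nat) (0x2c7000ebd) (Bool.rec (motive := fun _ => Nat) (0x30002c7000718) (0x70002c8000332) (Nat.ble 2426 i)) (Nat.ble 2425 i)) (Nat.ble 2424 i)) (Nat.ble 2421 i)) (Bool.rec (motive := fun _ => Nat) (Bool.rec (motive := fun _ => Nat) (Bool.rec (motive := fun _ => Nat) (0x60002ca000944) (Bool.rec (motive := fun _ => Nat) (0x50002cb0002ad)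 (0x70002cc0008f1) (Nat.ble 2429 i)) (Nat.ble 2428 i)) (Bool.rec (motive := fun _ => Nat) (0x10002cd00076e) (Bool.rec (motive := fun _ => Nat) (0x70002cd000398) (0x20002d00003d0) (Nat.ble 2432 i)) (Nat.ble 2431 i)) (Nat.ble 2430 i)) (Bool.rec (motive := fun _ => Nat) (Bool.rec (motive := fun _ => Nat) (0x10002d10003a1) (Bool.rec (motive := fun _ => Nat) (0x70002d10005b3) (0x20002d200035c) (Nat.ble 2435 i)) (Nat.ble 2434 i)) (Bool.rec (motive := fun _ => Nat) (Bool.rec (motive := fun _ => Nat) (0x30002d2000253) (0x60002d200096e) (Nat.ble 2437 i)) (Bool.rec (motive := fun _ => Nat) (0x10002d30007c4) (0x20002d30000a7) (Nat.ble 2439 i)) (Nat.ble 2438 i)) (Nat.ble 2436 i)) (Nat.ble 2433 i)) (Nat.ble 2427 i)) (Nat.ble 2415 i))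
noncomputable def CK0P_50 (i : Nat) : Nat := (Bool.rec (motive := fun _ => Nat) (Bool.rec (motive := fun _ => Nat) (Bool.rec (motive := fun _ => Nat) (Bool.rec (motive := fun _ => Nat) (Bool.rec (motive := fun _ => Nat) (0x40002d30007c0) (Bool.rec (motive := fun _ => Nat) (0x50002d3000ebb) (0x60002d3000671) (Nat.ble 2442 i)) (Nat.ble 2441 i)) (Bool.rec (motive := fun _ => Nat) (0x40002d400082d) (Bool.rec (motive := fun _ => Nat) (0x70002d40007d2) (0x30002d50000a0) (Nat.ble 2445 i)) (Nat.ble 2444 i)) (Nat.ble 2443 i)) (Bool.rec (motive := fun _ => Nat) (Bool.rec (motive := fun _ => Nat) (0x50002d500096f) (Bool.rec (motive := fun _ => Nat) (0x40002d600053f) (0x60002d600013d) (Nat.ble 2448 i)) (Nat.ble 2447 i)) (Bool.rec (motive := fun _ => Nat) (0x70002d6000585) (Bool.rec (motive := fun _ => Nat) (0x50002d700044e) (0x20002d80007fd) (Nat.ble 2451 i)) (Nat.ble 2450 i)) (Nat.ble 2449 i)) (Nat.ble 2446 i)) (Bool.rec (motive := fun _ => Nat) (Bool.rec (motive := fun _ => Nat) (Bool.rec (motive := fun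 _ => Nat) (0x70002d80004dc) (Bool.rec (motive := fun _ => Nat) (0x10002d900010c) (0x40002d9000adb) (Nat.ble 2454 i)) (Nat.ble 2453 i)) (Bool.rec (motive := fun _ => Nat) (0x50002d90007b7) (Bool.rec (motive := fun _ => Nat) (0x2da0003f3) (0x20002da000588) (Nat.ble 2457 i)) (Nat.ble 2456 i)) (Nat.ble 2455 i)) (Bool.rec (motive := fun _ => Nat) (Bool.rec (motive := fun _ => Nat) (0x30002da000baa) (Bool.rec (motive := fun _ => Nat) (0x50002da0003f9) (0x70002da000076) (Nat.ble 2460 i)) (Nat.ble 2459 i)) (Bool.rec (motive := fun _ => Nat) (0x20002db000c8b) (Bool.rec (motive := fun _ => Nat) (0x40002dc0008ea) (0x70002dc000362) (Nat.ble 2463 i)) (Nat.ble 2462 i)) (Nat.ble 2461 i)) (Nat.ble 2458 i)) (Nat.ble 2452 i)) (Bool.rec (motive := fun _ => Nat) (Bool.rec (motive := fun _ => Nat) (Bool.rec (motive := fun _ => Nat) (Bool.rec (motive := fun _ => Nat) (0x50002dd0008d6) (Bool.rec (motive := fun _ => Nat) (0x60002dd000d69) (0x30002df0004bb) (Nat.ble 2466 i)) (Nat.ble 2465 i)) (Bool.rec (motive := fun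 _ => Nat) (0x50002df0007b5) (Bool.rec (motive := fun _ => Nat) (0x70002e0000711) (0x60002e1000a68) (Nat.ble 2469 i)) (Nat.ble 2468 i)) (Nat.ble 2467 i)) (Bool.rec (motive := fun _ => Nat) (Bool.rec (motive := fun _ => Nat) (0x30002e3000b29) (Bool.rec (motive := fun _ => Nat) (0x10002e4000423) (0x50002e4000b9f) (Nat.ble 2472 i)) (Nat.ble 2471 i)) (Bool.rec (motive := fun _ => Nat) (0x30002e500060f) (Bool.rec (motive := fun _ => Nat) (0x60002e5000ed9) (0x30002e6000864) (Nat.ble 2475 i)) (Nat.ble 2474 i)) (Nat.ble 2473 i)) (Nat.ble 2470 i)) (Bool.rec (motive := fun _ => Nat) (Bool.rec (motive := fun _ => Nat) (Bool.rec (motive := fun _ => Nat) (0x40002e6000866) (Bool.rec (motive := fun _ => Nat) (0x60002e600000b) (0x30002e8000e36) (Nat.ble 2478 i)) (Nat.ble 2477 i)) (Bool.rec (motive := fun _ => Nat) (0x20002ec000b75) (Bool.rec (motive := fun _ => Nat) (0x30002ec0002b1) (0x20002ed000b67) (Nat.ble 2481 i)) (Nat.ble 2480 i)) (Nat.ble 2479 i)) (Bool.rec (motive := fun _ => Nat) (Bool.rec (motive :=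 fun _ => Nat) (0x20002ee0003a7) (Bool.rec (motive := fun _ => Nat) (0x50002ee000c43) (0x10002ef0000ff) (Nat.ble 2484 i)) (Nat.ble 2483 i)) (Bool.rec (motive := fun _ => Nat) (Bool.rec (motive := fun _ => Nat) (0x20002ef00057d) (0x50002ef000d59) (Nat.ble 2486 i)) (Bool.rec (motive := fun _ => Nat) (0x30002f1000b2a) (0x20002f2000b2d) (Nat.ble 2488 i)) (Nat.ble 2487 i)) (Nat.ble 2485 i)) (Nat.ble 2482 i)) (Nat.ble 2476 i)) (Nat.ble 2464 i))
noncomputable def CK0P_51 (i : Nat) : Nat := (Bool.rec (motive := fun _ => Nat) (Bool.rec (motive := fun _ => Nat) (Bool.rec (motive := fun _ => Nat) (Bool.rec (motive := fun _ => Nat) (Bool.rec (motive := fun _ => Nat) (0x50002f2000d75) (Bool.rec (motive := fun _ => Nat) (0x30002f300090b) (0x40002f300083d) (Nat.ble 2491 i)) (Nat.ble 2490 i)) (Bool.rec (motive := fun _ => Nat) (0x70002f3000995) (Bool.rec (motive := fun _ => Nat) (0x2f50003bd) (0x10002f5000062) (Nat.ble 2494 i)) (Nat.ble 2493 i)) (Nat.ble 2492 i)) (Bool.rec (motive := fun _ => Nat) (Bool.rec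 (motive := fun _ => Nat) (0x20002f50002de) (Bool.rec (motive := fun _ => Nat) (0x30002f5000c89) (0x70002f6000dbc) (Nat.ble 2497 i)) (Nat.ble 2496 i)) (Bool.rec (motive := fun _ => Nat) (0x2f7000531) (Bool.rec (motive := fun _ => Nat) (0x30002f70009e2) (0x40002f7000527) (Nat.ble 2500 i)) (Nat.ble 2499 i)) (Nat.ble 2498 i)) (Nat.ble 2495 i)) (Bool.rec (motive := fun _ => Nat) (Bool.rec (motive := fun _ => Nat) (Bool.rec (motive := fun _ => Nat) (0x50002f7000b89) (Bool.rec (motive := fun _ => Nat) (0x50002f8000c26) (0x30002fb000930) (Nat.ble 2503 i)) (Nat.ble 2502 i)) (Bool.rec (motive := fun _ => Nat) (0x70002fb000f28) (Bool.rec (motive := fun _ => Nat) (0x50002fc000c05) (0x40002fd000696) (Nat.ble 2506 i)) (Nat.ble 2505 i)) (Nat.ble 2504 i)) (Bool.rec (motive := fun _ => Nat) (Bool.rec (motive := fun _ => Nat) (0x70002fd000b5d) (Bool.rec (motive := fun _ => Nat) (0x20003000009ad) (0x5000300000da2) (Nat.ble 2509 i)) (Nat.ble 2508 i)) (Bool.rec (motive := fun _ => Nat) (0x600030000028d) (Bool.rec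 (motive := fun _ => Nat) (0x10003020000b0) (0x20003020000e3) (Nat.ble 2512 i)) (Nat.ble 2511 i)) (Nat.ble 2510 i)) (Nat.ble 2507 i)) (Nat.ble 2501 i)) (Bool.rec (motive := fun _ => Nat) (Bool.rec (motive := fun _ => Nat) (Bool.rec (motive := fun _ => Nat) (Bool.rec (motive := fun _ => Nat) (0x4000302000912) (Bool.rec (motive := fun _ => Nat) (0x200030500024e) (0x500030500084c) (Nat.ble 2515 i)) (Nat.ble 2514 i)) (Bool.rec (motive := fun _ => Nat) (0x1000306000900) (Bool.rec (motive := fun _ => Nat) (0x200030600006f) (0x3000306000ab6) (Nat.ble 2518 i)) (Nat.ble 2517 i)) (Nat.ble 2516 i)) (Bool.rec (motive := fun _ => Nat) (Bool.rec (motive := fun _ => Nat) (0x20003070004d1) (Bool.rec (motive := fun _ => Nat) (0x5000307000b60) (0x600030700017b) (Nat.ble 2521 i)) (Nat.ble 2520 i)) (Bool.rec (motive := fun _ => Nat) (0x6000308000999) (Bool.rec (motive := fun _ => Nat) (0x7000308000e54) (0x4000309000784) (Nat.ble 2524 i)) (Nat.ble 2523 i)) (Nat.ble 2522 i)) (Nat.ble 2519 i)) (Bool.rec (motive :=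 fun _ => Nat) (Bool.rec (motive := fun _ => Nat) (Bool.rec (motive := fun _ => Nat) (0x100030a000cee) (Bool.rec (motive := fun _ => Nat) (0x200030a000101) (0x500030a000a8d) (Nat.ble 2527 i)) (Nat.ble 2526 i)) (Bool.rec (motive := fun _ => Nat) (0x300030b0001e2) (Bool.rec (motive := fun _ => Nat) (0x600030b000107) (0x300030c000d12) (Nat.ble 2530 i)) (Nat.ble 2529 i)) (Nat.ble 2528 i)) (Bool.rec (motive := fun _ => Nat) (Bool.rec (motive := fun _ => Nat) (0x300030f000929) (Bool.rec (motive := fun _ => Nat) (0x700030f000de0) (0x700031000071e) (Nat.ble 2533 i)) (Nat.ble 2532 i)) (Bool.rec (motive := fun _ => Nat) (Bool.rec (motive := fun _ => Nat) (0x31100097c) (0x50003110003db) (Nat.ble 2535 i)) (Bool.rec (motive := fun _ => Nat) (0x7000311000996) (0x2000312000ad8) (Nat.ble 2537 i)) (Nat.ble 2536 i)) (Nat.ble 2534 i)) (Nat.ble 2531 i)) (Nat.ble 2525 i)) (Nat.ble 2513 i))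
noncomputable def CK0P_52 (i : Nat) : Nat := (Bool.rec (motive := fun _ => Nat) (Bool.rec (motive := fun _ => Nat) (Bool.rec (motive := fun _ => Nat) (Bool.rec (motive := fun _ => Nat) (Bool.rec (motive := fun _ => Nat) (0x5000312000109) (Bool.rec (motive := fun _ => Nat) (0x3000313000bee) (0x60003130007bd) (Nat.ble 2540 i)) (Nat.ble 2539 i)) (Bool.rec (motive := fun _ => Nat) (0x2000314000703) (Bool.rec (motive := fun _ => Nat) (0x4000314000ed0) (0x6000314000325) (Nat.ble 2543 i)) (Nat.ble 2542 i)) (Nat.ble 2541 i)) (Bool.rec (motive := fun _ => Nat) (Bool.rec (motive := fun _ => Nat) (0x70003140003cd) (Bool.rec (motive := fun _ => Nat) (0x1000315000822) (0x3000315000c36) (Nat.ble 2546 i)) (Nat.ble 2545 i)) (Bool.rec (motive := fun _ => Nat) (0x4000315000927) (Bool.rec (motive := fun _ => Nat) (0x6000315000157) (0x316000773) (Nat.ble 2549 i)) (Nat.ble 2548 i)) (Nat.ble 2547 i)) (Nat.ble 2544 i)) (Bool.rec (motive := fun _ => Nat) (Bool.rec (motive := fun _ => Nat) (Bool.rec (motive := fun _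 => Nat) (0x30003160000a3) (Bool.rec (motive := fun _ => Nat) (0x4000316000e97) (0x2000317000530) (Nat.ble 2552 i)) (Nat.ble 2551 i)) (Bool.rec (motive := fun _ => Nat) (0x600031700029d) (Bool.rec (motive := fun _ => Nat) (0x500031800084e) (0x70003180003d3) (Nat.ble 2555 i)) (Nat.ble 2554 i)) (Nat.ble 2553 i)) (Bool.rec (motive := fun _ => Nat) (Bool.rec (motive := fun _ => Nat) (0x319000127) (Bool.rec (motive := fun _ => Nat) (0x7000319000168) (0x31a0009ca) (Nat.ble 2558 i)) (Nat.ble 2557 i)) (Bool.rec (motive := fun _ => Nat) (0x200031a0009bd) (Bool.rec (motive := fun _ => Nat) (0x500031a000100) (0x500031b000b65) (Nat.ble 2561 i)) (Nat.ble 2560 i)) (Nat.ble 2559 i)) (Nat.ble 2556 i)) (Nat.ble 2550 i)) (Bool.rec (motive := fun _ => Nat) (Bool.rec (motive := fun _ => Nat) (Bool.rec (motive := fun _ => Nat) (Bool.rec (motive := fun _ => Nat) (0x100031c000c5d) (Bool.rec (motive := fun _ => Nat) (0x500031c000eb2) (0x700031c000317) (Nat.ble 2564 i)) (Nat.ble 2563 i)) (Bool.rec (motive := fun _ =>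 Nat) (0x500031d000379) (Bool.rec (motive := fun _ => Nat) (0x500031e000728) (0x600031e000118) (Nat.ble 2567 i)) (Nat.ble 2566 i)) (Nat.ble 2565 i)) (Bool.rec (motive := fun _ => Nat) (Bool.rec (motive := fun _ => Nat) (0x200031f000b6b) (Bool.rec (motive := fun _ => Nat) (0x300031f0000d5) (0x600031f0009bb) (Nat.ble 2570 i)) (Nat.ble 2569 i)) (Bool.rec (motive := fun _ => Nat) (0x3000321000242) (Bool.rec (motive := fun _ => Nat) (0x70003210007cf) (0x7000322000e8b) (Nat.ble 2573 i)) (Nat.ble 2572 i)) (Nat.ble 2571 i)) (Nat.ble 2568 i)) (Bool.rec (motive := fun _ => Nat) (Bool.rec (motive := fun _ => Nat) (Bool.rec (motive := fun _ => Nat) (0x324000743) (Bool.rec (motive := fun _ => Nat) (0x60003240003dc) (0x3250007ed) (Nat.ble 2576 i)) (Nat.ble 2575 i)) (Bool.rec (motive := fun _ => Nat) (0x300032500094f) (Bool.rec (motive := fun _ => Nat) (0x200032700044a) (0x300032800011e) (Nat.ble 2579 i)) (Nat.ble 2578 i)) (Nat.ble 2577 i)) (Bool.rec (motive := fun _ => Nat) (Bool.rec (motive := fun _ => Nat)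 (0x200032900065f) (Bool.rec (motive := fun _ => Nat) (0x500032a000c6f) (0x700032a0006fc) (Nat.ble 2582 i)) (Nat.ble 2581 i)) (Bool.rec (motive := fun _ => Nat) (Bool.rec (motive := fun _ => Nat) (0x300032c00005f) (0x600032c000114) (Nat.ble 2584 i)) (Bool.rec (motive := fun _ => Nat) (0x200032d00038a) (0x300032d000055) (Nat.ble 2586 i)) (Nat.ble 2585 i)) (Nat.ble 2583 i)) (Nat.ble 2580 i)) (Nat.ble 2574 i)) (Nat.ble 2562 i))
noncomputable def CK0P_53 (i : Nat) : Nat := (Bool.rec (motive := fun _ => Nat) (Bool.rec (motive := fun _ => Nat) (Bool.rec (motive := fun _ => Nat) (Bool.rec (motive := fun _ => Nat) (Bool.rec (motive := fun _ => Nat) (0x400032d000190) (Bool.rec (motive := fun _ => Nat) (0x500032d00045e) (0x100032f000377) (Nat.ble 2589 i)) (Nat.ble 2588 i)) (Bool.rec (motive := fun _ => Nat) (0x300032f00030c) (Bool.rec (motive := fun _ => Nat) (0x331000212) (0x100033100023d) (Nat.ble 2592 i)) (Nat.ble 2591 i)) (Nat.ble 2590 i)) (Bool.rec (motive := fun _ => Nat) (Bool.rec (motive := fun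 _ => Nat) (0x700033100047f) (Bool.rec (motive := fun _ => Nat) (0x20003320003f5) (0x5000332000a3e) (Nat.ble 2595 i)) (Nat.ble 2594 i)) (Bool.rec (motive := fun _ => Nat) (0x4000333000b82) (Bool.rec (motive := fun _ => Nat) (0x6000333000e98) (0x7000333000b66) (Nat.ble 2598 i)) (Nat.ble 2597 i)) (Nat.ble 2596 i)) (Nat.ble 2593 i)) (Bool.rec (motive := fun _ => Nat) (Bool.rec (motive := fun _ => Nat) (Bool.rec (motive := fun _ => Nat) (0x2000334000611) (Bool.rec (motive := fun _ => Nat) (0x5000334000969) (0x60003340007f6) (Nat.ble 2601 i)) (Nat.ble 2600 i)) (Bool.rec (motive := fun _ => Nat) (0x50003350001f4) (Bool.rec (motive := fun _ => Nat) (0x60003350002b9) (0x3360002ed) (Nat.ble 2604 i)) (Nat.ble 2603 i)) (Nat.ble 2602 i)) (Bool.rec (motive := fun _ => Nat) (Bool.rec (motive := fun _ => Nat) (0x30003360009b1) (Bool.rec (motive := fun _ => Nat) (0x4000336000031) (0x5000336000a99) (Nat.ble 2607 i)) (Nat.ble 2606 i)) (Bool.rec (motive := fun _ => Nat) (0x60003360000ea) (Bool.rec (motive := fun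 _ => Nat) (0x7000336000cd3) (0x500033800065a) (Nat.ble 2610 i)) (Nat.ble 2609 i)) (Nat.ble 2608 i)) (Nat.ble 2605 i)) (Nat.ble 2599 i)) (Bool.rec (motive := fun _ => Nat) (Bool.rec (motive := fun _ => Nat) (Bool.rec (motive := fun _ => Nat) (Bool.rec (motive := fun _ => Nat) (0x6000338000719) (Bool.rec (motive := fun _ => Nat) (0x20003390006e0) (0x4000339000acf) (Nat.ble 2613 i)) (Nat.ble 2612 i)) (Bool.rec (motive := fun _ => Nat) (0x5000339000a72) (Bool.rec (motive := fun _ => Nat) (0x500033a00079d) (0x600033a00063e) (Nat.ble 2616 i)) (Nat.ble 2615 i)) (Nat.ble 2614 i)) (Bool.rec (motive := fun _ => Nat) (Bool.rec (motive := fun _ => Nat) (0x700033a000505) (Bool.rec (motive := fun _ => Nat) (0x33b000aca) (0x300033d00097e) (Nat.ble 2619 i)) (Nat.ble 2618 i)) (Bool.rec (motive := fun _ => Nat) (0x700033d000182) (Bool.rec (motive := fun _ => Nat) (0x300033e000de8) (0x400033e000079) (Nat.ble 2622 i)) (Nat.ble 2621 i)) (Nat.ble 2620 i)) (Nat.ble 2617 i)) (Bool.rec (motive := fun _ => Nat) (Bool.rec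 (motive := fun _ => Nat) (Bool.rec (motive := fun _ => Nat) (0x500033e00011c) (Bool.rec (motive := fun _ => Nat) (0x600033e000189) (0x700033f00011b) (Nat.ble 2625 i)) (Nat.ble 2624 i)) (Bool.rec (motive := fun _ => Nat) (0x2000340000f2a) (Bool.rec (motive := fun _ => Nat) (0x500034100074f) (0x5000342000aab) (Nat.ble 2628 i)) (Nat.ble 2627 i)) (Nat.ble 2626 i)) (Bool.rec (motive := fun _ => Nat) (Bool.rec (motive := fun _ => Nat) (0x343000b5b) (Bool.rec (motive := fun _ => Nat) (0x2000343000c20) (0x60003430007f4) (Nat.ble 2631 i)) (Nat.ble 2630 i)) (Bool.rec (motive := fun _ => Nat) (Bool.rec (motive := fun _ => Nat) (0x5000345000edd) (0x7000345000c08) (Nat.ble 2633 i)) (Bool.rec (motive := fun _ => Nat) (0x346000bf2) (0x200034700015f) (Nat.ble 2635 i)) (Nat.ble 2634 i)) (Nat.ble 2632 i)) (Nat.ble 2629 i)) (Nat.ble 2623 i)) (Nat.ble 2611 i))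
noncomputable def CK0P_54 (i : Nat) : Nat := (Bool.rec (motive := fun _ => Nat) (Bool.rec (motive := fun _ => Nat) (Bool.rec (motive := fun _ => Nat) (Bool.rec (motive := fun _ => Nat) (Bool.rec (motive := fun _ => Nat) (0x3000347000cd8) (Bool.rec (motive := fun _ => Nat) (0x7000348000dea) (0x600034a00066b) (Nat.ble 2638 i)) (Nat.ble 2637 i)) (Bool.rec (motive := fun _ => Nat) (0x34b0006d0) (Bool.rec (motive := fun _ => Nat) (0x200034b000528) (0x300034b0003b0) (Nat.ble 2641 i)) (Nat.ble 2640 i)) (Nat.ble 2639 i)) (Bool.rec (motive := fun _ => Nat) (Bool.rec (motive := fun _ => Nat) (0x500034b0008c3) (Bool.rec (motive := fun _ => Nat) (0x500034c000777) (0x600034c0003d9) (Nat.ble 2644 i)) (Nat.ble 2643 i)) (Bool.rec (motive := fun _ => Nat) (0x400034d000da3) (Bool.rec (motive := fun _ => Nat) (0x700034d000bc8) (0x600034e000046) (Nat.ble 2647 i)) (Nat.ble 2646 i)) (Nat.ble 2645 i)) (Nat.ble 2642 i)) (Bool.rec (motive := fun _ => Nat) (Bool.rec (motive := fun _ => Nat) (Bool.rec (motive := fun _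 => Nat) (0x6000351000b7b) (Bool.rec (motive := fun _ => Nat) (0x4000352000542) (0x353000065) (Nat.ble 2650 i)) (Nat.ble 2649 i)) (Bool.rec (motive := fun _ => Nat) (0x100035300017d) (Bool.rec (motive := fun _ => Nat) (0x70003550000f7) (0x200035700083e) (Nat.ble 2653 i)) (Nat.ble 2652 i)) (Nat.ble 2651 i)) (Bool.rec (motive := fun _ => Nat) (Bool.rec (motive := fun _ => Nat) (0x20003580008fc) (Bool.rec (motive := fun _ => Nat) (0x5000358000b43) (0x5000359000967) (Nat.ble 2656 i)) (Nat.ble 2655 i)) (Bool.rec (motive := fun _ => Nat) (0x500035c000120) (Bool.rec (motive := fun _ => Nat) (0x300035d000cd6) (0x400035d000756) (Nat.ble 2659 i)) (Nat.ble 2658 i)) (Nat.ble 2657 i)) (Nat.ble 2654 i)) (Nat.ble 2648 i)) (Bool.rec (motive := fun _ => Nat) (Bool.rec (motive := fun _ => Nat) (Bool.rec (motive := fun _ => Nat) (Bool.rec (motive := fun _ => Nat) (0x35f000375) (Bool.rec (motive := fun _ => Nat) (0x200035f0005b5) (0x6000362000140) (Nat.ble 2662 i)) (Nat.ble 2661 i)) (Bool.rec (motive := fun _ =>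 Nat) (0x7000362000058) (Bool.rec (motive := fun _ => Nat) (0x2000364000cca) (0x4000364000963) (Nat.ble 2665 i)) (Nat.ble 2664 i)) (Nat.ble 2663 i)) (Bool.rec (motive := fun _ => Nat) (Bool.rec (motive := fun _ => Nat) (0x2000365000b38) (Bool.rec (motive := fun _ => Nat) (0x3000365000e4b) (0x200036600038d) (Nat.ble 2668 i)) (Nat.ble 2667 i)) (Bool.rec (motive := fun _ => Nat) (0x6000366000687) (Bool.rec (motive := fun _ => Nat) (0x1000367000913) (0x36800073e) (Nat.ble 2671 i)) (Nat.ble 2670 i)) (Nat.ble 2669 i)) (Nat.ble 2666 i)) (Bool.rec (motive := fun _ => Nat) (Bool.rec (motive := fun _ => Nat) (Bool.rec (motive := fun _ => Nat) (0x300036800080e) (Bool.rec (motive := fun _ => Nat) (0x5000368000149) (0x500036900016f) (Nat.ble 2674 i)) (Nat.ble 2673 i)) (Bool.rec (motive := fun _ => Nat) (0x400036a0005c4) (Bool.rec (motive := fun _ => Nat) (0x600036a000b85) (0x700036a000ae1) (Nat.ble 2677 i)) (Nat.ble 2676 i)) (Nat.ble 2675 i)) (Bool.rec (motive := fun _ => Nat) (Bool.rec (motive := fun _ =>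 Nat) (0x200036b0005a0) (Bool.rec (motive := fun _ => Nat) (0x600036c000787) (0x300036d00016c) (Nat.ble 2680 i)) (Nat.ble 2679 i)) (Bool.rec (motive := fun _ => Nat) (Bool.rec (motive := fun _ => Nat) (0x500036d000399) (0x600036d0006f4) (Nat.ble 2682 i)) (Bool.rec (motive := fun _ => Nat) (0x100036f0005c5) (0x5000371000b50) (Nat.ble 2684 i)) (Nat.ble 2683 i)) (Nat.ble 2681 i)) (Nat.ble 2678 i)) (Nat.ble 2672 i)) (Nat.ble 2660 i))
noncomputable def CK0P_55 (i : Nat) : Nat := (Bool.rec (motive := fun _ => Nat) (Bool.rec (motive := fun _ => Nat) (Bool.rec (motive := fun _ => Nat) (Bool.rec (motive := fun _ => Nat) (Bool.rec (motive := fun _ => Nat) (0x6000371000115) (Bool.rec (motive := fun _ => Nat) (0x300037200037c) (0x3000374000d31) (Nat.ble 2687 i)) (Nat.ble 2686 i)) (Bool.rec (motive := fun _ => Nat) (0x7000374000e3f) (Bool.rec (motive := fun _ => Nat) (0x1000376000ecb) (0x4000376000a7f) (Nat.ble 2690 i)) (Nat.ble 2689 i)) (Nat.ble 2688 i)) (Bool.rec (motive := fun _ => Nat) (Bool.rec (motive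 := fun _ => Nat) (0x5000376000f40) (Bool.rec (motive := fun _ => Nat) (0x3000377000b8e) (0x60003770002ba) (Nat.ble 2693 i)) (Nat.ble 2692 i)) (Bool.rec (motive := fun _ => Nat) (0x378000ed2) (Bool.rec (motive := fun _ => Nat) (0x4000378000a8f) (0x500037a000c0a) (Nat.ble 2696 i)) (Nat.ble 2695 i)) (Nat.ble 2694 i)) (Nat.ble 2691 i)) (Bool.rec (motive := fun _ => Nat) (Bool.rec (motive := fun _ => Nat) (Bool.rec (motive := fun _ => Nat) (0x37b000877) (Bool.rec (motive := fun _ => Nat) (0x200037b0008a2) (0x400037b0002a5) (Nat.ble 2699 i)) (Nat.ble 2698 i)) (Bool.rec (motive := fun _ => Nat) (0x200037c00059c) (Bool.rec (motive := fun _ => Nat) (0x400037c000392) (0x500037c0009ea) (Nat.ble 2702 i)) (Nat.ble 2701 i)) (Nat.ble 2700 i)) (Bool.rec (motive := fun _ => Nat) (Bool.rec (motive := fun _ => Nat) (0x700037d000b8c) (Bool.rec (motive := fun _ => Nat) (0x500037f000578) (0x600037f000354) (Nat.ble 2705 i)) (Nat.ble 2704 i)) (Bool.rec (motive := fun _ => Nat) (0x700037f000c17) (Bool.rec (motive :=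 fun _ => Nat) (0x2000381000980) (0x40003810004e9) (Nat.ble 2708 i)) (Nat.ble 2707 i)) (Nat.ble 2706 i)) (Nat.ble 2703 i)) (Nat.ble 2697 i)) (Bool.rec (motive := fun _ => Nat) (Bool.rec (motive := fun _ => Nat) (Bool.rec (motive := fun _ => Nat) (Bool.rec (motive := fun _ => Nat) (0x5000381000042) (Bool.rec (motive := fun _ => Nat) (0x382000450) (0x2000382000cfb) (Nat.ble 2711 i)) (Nat.ble 2710 i)) (Bool.rec (motive := fun _ => Nat) (0x20003830006ff) (Bool.rec (motive := fun _ => Nat) (0x5000384000b15) (0x7000384000f34) (Nat.ble 2714 i)) (Nat.ble 2713 i)) (Nat.ble 2712 i)) (Bool.rec (motive := fun _ => Nat) (Bool.rec (motive := fun _ => Nat) (0x100038500017a) (Bool.rec (motive := fun _ => Nat) (0x7000385000a6d) (0x700038800041a) (Nat.ble 2717 i)) (Nat.ble 2716 i)) (Bool.rec (motive := fun _ => Nat) (0x200038b0008f8) (Bool.rec (motive := fun _ => Nat) (0x600038d000636) (0x200038e00089e) (Nat.ble 2720 i)) (Nat.ble 2719 i)) (Nat.ble 2718 i)) (Nat.ble 2715 i)) (Bool.rec (motive := fun _ => Nat) (Bool.rec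 (motive := fun _ => Nat) (Bool.rec (motive := fun _ => Nat) (0x600038f000b28) (Bool.rec (motive := fun _ => Nat) (0x70003900007e2) (0x5000391000254) (Nat.ble 2723 i)) (Nat.ble 2722 i)) (Bool.rec (motive := fun _ => Nat) (0x6000392000125) (Bool.rec (motive := fun _ => Nat) (0x4000393000045) (0x5000393000020) (Nat.ble 2726 i)) (Nat.ble 2725 i)) (Nat.ble 2724 i)) (Bool.rec (motive := fun _ => Nat) (Bool.rec (motive := fun _ => Nat) (0x30003960005b0) (Bool.rec (motive := fun _ => Nat) (0x2000397000c2c) (0x6000397000261) (Nat.ble 2729 i)) (Nat.ble 2728 i)) (Bool.rec (motive := fun _ => Nat) (Bool.rec (motive := fun _ => Nat) (0x60003980007a2) (0x39c000c1e) (Nat.ble 2731 i)) (Bool.rec (motive := fun _ => Nat) (0x300039c00079f) (0x500039c000bdd) (Nat.ble 2733 i)) (Nat.ble 2732 i)) (Nat.ble 2730 i)) (Nat.ble 2727 i)) (Nat.ble 2721 i)) (Nat.ble 2709 i))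
noncomputable def CK0P_56 (i : Nat) : Nat := (Bool.rec (motive := fun _ => Nat) (Bool.rec (motive := fun _ => Nat) (Bool.rec (motive := fun _ => Nat) (Bool.rec (motive := fun _ => Nat) (Bool.rec (motive := fun _ => Nat) (0x700039c000d92) (Bool.rec (motive := fun _ => Nat) (0x39d00063d) (0x500039d00010d) (Nat.ble 2736 i)) (Nat.ble 2735 i)) (Bool.rec (motive := fun _ => Nat) (0x700039d000806) (Bool.rec (motive := fun _ => Nat) (0x39e0000fc) (0x700039e0007a8) (Nat.ble 2739 i)) (Nat.ble 2738 i)) (Nat.ble 2737 i)) (Bool.rec (motive := fun _ => Nat) (Bool.rec (motive := fun _ => Nat) (0x600039f000a6e) (Bool.rec (motive := fun _ => Nat) (0x30003a0000816) (0x50003a20001e6) (Nat.ble 2742 i)) (Nat.ble 2741 i)) (Bool.rec (motive := fun _ => Nat) (0x10003a300006a) (Bool.rec (motive := fun _ => Nat) (0x60003a3000e6f) (0x30003a70001e9) (Nat.ble 2745 i)) (Nat.ble 2744 i)) (Nat.ble 2743 i)) (Nat.ble 2740 i)) (Bool.rec (motive := fun _ => Nat) (Bool.rec (motive := fun _ => Nat) (Bool.rec (motive := fun _ =>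 Nat) (0x60003a7000a48) (Bool.rec (motive := fun _ => Nat) (0x70003a70002ac) (0x70003a8000965) (Nat.ble 2748 i)) (Nat.ble 2747 i)) (Bool.rec (motive := fun _ => Nat) (0x20003a9000b73) (Bool.rec (motive := fun _ => Nat) (0x50003a9000302) (0x60003a9000066) (Nat.ble 2751 i)) (Nat.ble 2750 i)) (Nat.ble 2749 i)) (Bool.rec (motive := fun _ => Nat) (Bool.rec (motive := fun _ => Nat) (0x10003aa000175) (Bool.rec (motive := fun _ => Nat) (0x10003ab000299) (0x20003ab000029) (Nat.ble 2754 i)) (Nat.ble 2753 i)) (Bool.rec (motive := fun _ => Nat) (0x20003ac000160) (Bool.rec (motive := fun _ => Nat) (0x50003ac00015a) (0x20003ad000c0b) (Nat.ble 2757 i)) (Nat.ble 2756 i)) (Nat.ble 2755 i)) (Nat.ble 2752 i)) (Nat.ble 2746 i)) (Bool.rec (motive := fun _ => Nat) (Bool.rec (motive := fun _ => Nat) (Bool.rec (motive := fun _ => Nat) (Bool.rec (motive := fun _ => Nat) (0x3ae0003fe) (Bool.rec (motive := fun _ => Nat) (0x30003ae0005da) (0x10003af000199) (Nat.ble 2760 i)) (Nat.ble 2759 i)) (Bool.rec (motive := fun _ =>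 Nat) (0x50003af000028) (Bool.rec (motive := fun _ => Nat) (0x3b0000195) (0x20003b000035a) (Nat.ble 2763 i)) (Nat.ble 2762 i)) (Nat.ble 2761 i)) (Bool.rec (motive := fun _ => Nat) (Bool.rec (motive := fun _ => Nat) (0x60003b100015c) (Bool.rec (motive := fun _ => Nat) (0x20003b70009d5) (0x40003b8000f31) (Nat.ble 2766 i)) (Nat.ble 2765 i)) (Bool.rec (motive := fun _ => Nat) (0x70003b9000a21) (Bool.rec (motive := fun _ => Nat) (0x3ba0009ab) (0x10003bb000899) (Nat.ble 2769 i)) (Nat.ble 2768 i)) (Nat.ble 2767 i)) (Nat.ble 2764 i)) (Bool.rec (motive := fun _ => Nat) (Bool.rec (motive := fun _ => Nat) (Bool.rec (motive := fun _ => Nat) (0x30003bb00085e) (Bool.rec (motive := fun _ => Nat) (0x3bc000583) (0x20003bc00031d) (Nat.ble 2772 i)) (Nat.ble 2771 i)) (Bool.rec (motive := fun _ => Nat) (0x40003bc00032f) (Bool.rec (motive := fun _ => Nat) (0x10003bd0007c2) (0x3bf000d19) (Nat.ble 2775 i)) (Nat.ble 2774 i)) (Nat.ble 2773 i)) (Bool.rec (motive := fun _ => Nat) (Bool.rec (motive := fun _ => Nat) (0x50003bf0006c8)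 (Bool.rec (motive := fun _ => Nat) (0x20003c00000dd) (0x40003c00005bf) (Nat.ble 2778 i)) (Nat.ble 2777 i)) (Bool.rec (motive := fun _ => Nat) (0x3c1000c40) (Bool.rec (motive := fun _ => Nat) (0x20003c100052d) (0x30003c2000829) (Nat.ble 2781 i)) (Nat.ble 2780 i)) (Nat.ble 2779 i)) (Nat.ble 2776 i)) (Nat.ble 2770 i)) (Nat.ble 2758 i))
noncomputable def CK0P_57 (i : Nat) : Nat := (Bool.rec (motive := fun _ => Nat) (Bool.rec (motive := fun _ => Nat) (Bool.rec (motive := fun _ => Nat) (Bool.rec (motive := fun _ => Nat) (Bool.rec (motive := fun _ => Nat) (0x40003c2000dd5) (Bool.rec (motive := fun _ => Nat) (0x3c3000841) (0x60003c30003cb) (Nat.ble 2784 i)) (Nat.ble 2783 i)) (Bool.rec (motive := fun _ => Nat) (0x3c50007b3) (Bool.rec (motive := fun _ => Nat) (0x60003c500006b) (0x20003c60002c2) (Nat.ble 2787 i)) (Nat.ble 2786 i)) (Nat.ble 2785 i)) (Bool.rec (motive := fun _ => Nat) (Bool.rec (motive := fun _ => Nat) (0x50003cb000ae3) (Bool.rec (motive := fun _ => Nat) (0x20003cc000c0e) (0x3cf00093f) (Nat.ble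 2790 i)) (Nat.ble 2789 i)) (Bool.rec (motive := fun _ => Nat) (0x30003d10002d7) (Bool.rec (motive := fun _ => Nat) (0x3d40008f6) (0x30003d40001b0) (Nat.ble 2793 i)) (Nat.ble 2792 i)) (Nat.ble 2791 i)) (Nat.ble 2788 i)) (Bool.rec (motive := fun _ => Nat) (Bool.rec (motive := fun _ => Nat) (Bool.rec (motive := fun _ => Nat) (0x70003d5000e80) (Bool.rec (motive := fun _ => Nat) (0x3d800043e) (0x30003d8000656) (Nat.ble 2796 i)) (Nat.ble 2795 i)) (Bool.rec (motive := fun _ => Nat) (0x3db000dcb) (Bool.rec (motive := fun _ => Nat) (0x20003db000991) (0x30003dc0002b6) (Nat.ble 2799 i)) (Nat.ble 2798 i)) (Nat.ble 2797 i)) (Bool.rec (motive := fun _ => Nat) (Bool.rec (motive := fun _ => Nat) (0x3de000dc5) (Bool.rec (motive := fun _ => Nat) (0x3df000e42) (0x50003df000676) (Nat.ble 2802 i)) (Nat.ble 2801 i)) (Bool.rec (motive := fun _ => Nat) (0x40003e00008e2) (Bool.rec (motive := fun _ => Nat) (0x10003e100048f) (0x30003e100070e) (Nat.ble 2805 i)) (Nat.ble 2804 i)) (Nat.ble 2803 i)) (Nat.ble 2800 i)) (Nat.ble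 2794 i)) (Bool.rec (motive := fun _ => Nat) (Bool.rec (motive := fun _ => Nat) (Bool.rec (motive := fun _ => Nat) (Bool.rec (motive := fun _ => Nat) (0x50003e1000c21) (Bool.rec (motive := fun _ => Nat) (0x20003e4000404) (0x3e8000c3f) (Nat.ble 2808 i)) (Nat.ble 2807 i)) (Bool.rec (motive := fun _ => Nat) (0x20003ed000a45) (Bool.rec (motive := fun _ => Nat) (0x50003ed00010a) (0x30003ee00029a) (Nat.ble 2811 i)) (Nat.ble 2810 i)) (Nat.ble 2809 i)) (Bool.rec (motive := fun _ => Nat) (Bool.rec (motive := fun _ => Nat) (0x60003ee000075) (Bool.rec (motive := fun _ => Nat) (0x3f0000694) (0x40003f000068f) (Nat.ble 2814 i)) (Nat.ble 2813 i)) (Bool.rec (motive := fun _ => Nat) (0x70003f4000008) (Bool.rec (motive := fun _ => Nat) (0x20003f5000390) (0x50003f5000009) (Nat.ble 2817 i)) (Nat.ble 2816 i)) (Nat.ble 2815 i)) (Nat.ble 2812 i)) (Bool.rec (motive := fun _ => Nat) (Bool.rec (motive := fun _ => Nat) (Bool.rec (motive := fun _ => Nat) (0x60003f500009d) (Bool.rec (motive := fun _ => Nat) (0x50003f600090d)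 (0x20003f7000256) (Nat.ble 2820 i)) (Nat.ble 2819 i)) (Bool.rec (motive := fun _ => Nat) (0x60003f7000080) (Bool.rec (motive := fun _ => Nat) (0x70003f700023c) (0x20003fa000307) (Nat.ble 2823 i)) (Nat.ble 2822 i)) (Nat.ble 2821 i)) (Bool.rec (motive := fun _ => Nat) (Bool.rec (motive := fun _ => Nat) (0x50003fd000d36) (Bool.rec (motive := fun _ => Nat) (0x200040100068b) (0x70004010009b2) (Nat.ble 2826 i)) (Nat.ble 2825 i)) (Bool.rec (motive := fun _ => Nat) (Bool.rec (motive := fun _ => Nat) (0x2000403000842) (0x7000403000c32) (Nat.ble 2828 i)) (Bool.rec (motive := fun _ => Nat) (0x2000404000026) (0x1000405000188) (Nat.ble 2830 i)) (Nat.ble 2829 i)) (Nat.ble 2827 i)) (Nat.ble 2824 i)) (Nat.ble 2818 i)) (Nat.ble 2806 i))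
noncomputable def CK0P_58 (i : Nat) : Nat := (Bool.rec (motive := fun _ => Nat) (Bool.rec (motive := fun _ => Nat) (Bool.rec (motive := fun _ => Nat) (Bool.rec (motive := fun _ => Nat) (Bool.rec (motive := fun _ => Nat) (0x2000406000cbd) (Bool.rec (motive := fun _ => Nat) (0x60004060003ff) (0x70004060003c4) (Nat.ble 2833 i)) (Nat.ble 2832 i)) (Bool.rec (motive := fun _ => Nat) (0x7000407000817) (Bool.rec (motive := fun _ => Nat) (0x50004090004fa) (0x100040b000374) (Nat.ble 2836 i)) (Nat.ble 2835 i)) (Nat.ble 2834 i)) (Bool.rec (motive := fun _ => Nat) (Bool.rec (motive := fun _ => Nat) (0x600040b000a56) (Bool.rec (motive := fun _ => Nat) (0x300040d00028e) (0x400040f000f10) (Nat.ble 2839 i)) (Nat.ble 2838 i)) (Bool.rec (motive := fun _ => Nat) (0x600041000024b) (Bool.rec (motive := fun _ => Nat) (0x70004100009af) (0x3000411000bdc) (Nat.ble 2842 i)) (Nat.ble 2841 i)) (Nat.ble 2840 i)) (Nat.ble 2837 i)) (Bool.rec (motive := fun _ => Nat) (Bool.rec (motive := fun _ => Nat) (Bool.rec (motive := fun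 _ => Nat) (0x60004110000cc) (Bool.rec (motive := fun _ => Nat) (0x3000412000d85) (0x4000414000150) (Nat.ble 2845 i)) (Nat.ble 2844 i)) (Bool.rec (motive := fun _ => Nat) (0x41b000c19) (Bool.rec (motive := fun _ => Nat) (0x500041d00073d) (0x600041d000952) (Nat.ble 2848 i)) (Nat.ble 2847 i)) (Nat.ble 2846 i)) (Bool.rec (motive := fun _ => Nat) (Bool.rec (motive := fun _ => Nat) (0x700041f000529) (Bool.rec (motive := fun _ => Nat) (0x60004200000e2) (0x7000422000018) (Nat.ble 2851 i)) (Nat.ble 2850 i)) (Bool.rec (motive := fun _ => Nat) (0x500042a000707) (Bool.rec (motive := fun _ => Nat) (0x500042b000472) (0x500042d00026b) (Nat.ble 2854 i)) (Nat.ble 2853 i)) (Nat.ble 2852 i)) (Nat.ble 2849 i)) (Nat.ble 2843 i)) (Bool.rec (motive := fun _ => Nat) (Bool.rec (motive := fun _ => Nat) (Bool.rec (motive := fun _ => Nat) (Bool.rec (motive := fun _ => Nat) (0x20004300004f9) (Bool.rec (motive := fun _ => Nat) (0x3000431000dbe) (0x5000431000475) (Nat.ble 2857 i)) (Nat.ble 2856 i)) (Bool.rec (motive := fun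 _ => Nat) (0x6000431000725) (Bool.rec (motive := fun _ => Nat) (0x434000b0b) (0x30004340002e4) (Nat.ble 2860 i)) (Nat.ble 2859 i)) (Nat.ble 2858 i)) (Bool.rec (motive := fun _ => Nat) (Bool.rec (motive := fun _ => Nat) (0x1000435000922) (Bool.rec (motive := fun _ => Nat) (0x500043600084a) (0x438000599) (Nat.ble 2863 i)) (Nat.ble 2862 i)) (Bool.rec (motive := fun _ => Nat) (0x5000439000f05) (Bool.rec (motive := fun _ => Nat) (0x500043c0005ff) (0x300043d000d17) (Nat.ble 2866 i)) (Nat.ble 2865 i)) (Nat.ble 2864 i)) (Nat.ble 2861 i)) (Bool.rec (motive := fun _ => Nat) (Bool.rec (motive := fun _ => Nat) (Bool.rec (motive := fun _ => Nat) (0x600043d00046c) (Bool.rec (motive := fun _ => Nat) (0x43f00047d) (0x7000442000634) (Nat.ble 2869 i)) (Nat.ble 2868 i)) (Bool.rec (motive := fun _ => Nat) (0x300044600026a) (Bool.rec (motive := fun _ => Nat) (0x3000448000700) (0x4000449000a1f) (Nat.ble 2872 i)) (Nat.ble 2871 i)) (Nat.ble 2870 i)) (Bool.rec (motive := fun _ => Nat) (Bool.rec (motive := fun _ => Nat)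 (0x400044a000ef1) (Bool.rec (motive := fun _ => Nat) (0x600044a0008df) (0x300044f00072a) (Nat.ble 2875 i)) (Nat.ble 2874 i)) (Bool.rec (motive := fun _ => Nat) (Bool.rec (motive := fun _ => Nat) (0x400044f0007ec) (0x700044f0007a9) (Nat.ble 2877 i)) (Bool.rec (motive := fun _ => Nat) (0x7000450000591) (0x4520006b5) (Nat.ble 2879 i)) (Nat.ble 2878 i)) (Nat.ble 2876 i)) (Nat.ble 2873 i)) (Nat.ble 2867 i)) (Nat.ble 2855 i))
noncomputable def CK0P_59 (i : Nat) : Nat := (Bool.rec (motive := fun _ => Nat) (Bool.rec (motive := fun _ => Nat) (Bool.rec (motive := fun _ => Nat) (Bool.rec (motive := fun _ => Nat) (Bool.rec (motive := fun _ => Nat) (0x5000453000c24) (Bool.rec (motive := fun _ => Nat) (0x5000456000068) (0x200045700018d) (Nat.ble 2882 i)) (Nat.ble 2881 i)) (Bool.rec (motive := fun _ => Nat) (0x40004570003d1) (Bool.rec (motive := fun _ => Nat) (0x200045900092d) (0x300045b000e24) (Nat.ble 2885 i)) (Nat.ble 2884 i)) (Nat.ble 2883 i)) (Bool.rec (motive := fun _ => Nat) (Bool.rec (motive := fun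 _ => Nat) (0x300045d000b51) (Bool.rec (motive := fun _ => Nat) (0x300045f000874) (0x700045f000426) (Nat.ble 2888 i)) (Nat.ble 2887 i)) (Bool.rec (motive := fun _ => Nat) (0x2000460000d22) (Bool.rec (motive := fun _ => Nat) (0x500046000094a) (0x3000462000872) (Nat.ble 2891 i)) (Nat.ble 2890 i)) (Nat.ble 2889 i)) (Nat.ble 2886 i)) (Bool.rec (motive := fun _ => Nat) (Bool.rec (motive := fun _ => Nat) (Bool.rec (motive := fun _ => Nat) (0x2000465000f25) (Bool.rec (motive := fun _ => Nat) (0x700046600025f) (0x467000507) (Nat.ble 2894 i)) (Nat.ble 2893 i)) (Bool.rec (motive := fun _ => Nat) (0x40004690006f3) (Bool.rec (motive := fun _ => Nat) (0x700046a00001a) (0x500046e000740) (Nat.ble 2897 i)) (Nat.ble 2896 i)) (Nat.ble 2895 i)) (Bool.rec (motive := fun _ => Nat) (Bool.rec (motive := fun _ => Nat) (0x600046f000403) (Bool.rec (motive := fun _ => Nat) (0x5000470000b62) (0x47100010b) (Nat.ble 2900 i)) (Nat.ble 2899 i)) (Bool.rec (motive := fun _ => Nat) (0x20004710003fb) (Bool.rec (motive := fun _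 => Nat) (0x50004790006dc) (0x100047b00089f) (Nat.ble 2903 i)) (Nat.ble 2902 i)) (Nat.ble 2901 i)) (Nat.ble 2898 i)) (Nat.ble 2892 i)) (Bool.rec (motive := fun _ => Nat) (Bool.rec (motive := fun _ => Nat) (Bool.rec (motive := fun _ => Nat) (Bool.rec (motive := fun _ => Nat) (0x500047c0007e7) (Bool.rec (motive := fun _ => Nat) (0x500047d000791) (0x200047e000a64) (Nat.ble 2906 i)) (Nat.ble 2905 i)) (Bool.rec (motive := fun _ => Nat) (0x480000e2e) (Bool.rec (motive := fun _ => Nat) (0x3000482000dcf) (0x10004830007fb) (Nat.ble 2909 i)) (Nat.ble 2908 i)) (Nat.ble 2907 i)) (Bool.rec (motive := fun _ => Nat) (Bool.rec (motive := fun _ => Nat) (0x50004830005d0) (Bool.rec (motive := fun _ => Nat) (0x200048d00093d) (0x400048d000775) (Nat.ble 2912 i)) (Nat.ble 2911 i)) (Bool.rec (motive := fun _ => Nat) (0x50004910000d9) (Bool.rec (motive := fun _ => Nat) (0x6000491000369) (0x70004910003c1) (Nat.ble 2915 i)) (Nat.ble 2914 i)) (Nat.ble 2913 i)) (Nat.ble 2910 i)) (Bool.rec (motive := fun _ => Nat) (Bool.rec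 (motive := fun _ => Nat) (Bool.rec (motive := fun _ => Nat) (0x50004920005de) (Bool.rec (motive := fun _ => Nat) (0x493000715) (0x2000494000e7f) (Nat.ble 2918 i)) (Nat.ble 2917 i)) (Bool.rec (motive := fun _ => Nat) (0x49d000f26) (Bool.rec (motive := fun _ => Nat) (0x50004a5000659) (0x60004a60003c9) (Nat.ble 2921 i)) (Nat.ble 2920 i)) (Nat.ble 2919 i)) (Bool.rec (motive := fun _ => Nat) (Bool.rec (motive := fun _ => Nat) (0x50004a7000667) (Bool.rec (motive := fun _ => Nat) (0x60004a7000368) (0x10004aa0003d2) (Nat.ble 2924 i)) (Nat.ble 2923 i)) (Bool.rec (motive := fun _ => Nat) (Bool.rec (motive := fun _ => Nat) (0x40004ab000964) (0x50004ac000121) (Nat.ble 2926 i)) (Bool.rec (motive := fun _ => Nat) (0x60004ac000693) (0x40004ad000108) (Nat.ble 2928 i)) (Nat.ble 2927 i)) (Nat.ble 2925 i)) (Nat.ble 2922 i)) (Nat.ble 2916 i)) (Nat.ble 2904 i))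
noncomputable def CK0P_60 (i : Nat) : Nat := (Bool.rec (motive := fun _ => Nat) (Bool.rec (motive := fun _ => Nat) (Bool.rec (motive := fun _ => Nat) (Bool.rec (motive := fun _ => Nat) (Bool.rec (motive := fun _ => Nat) (0x20004b1000b07) (Bool.rec (motive := fun _ => Nat) (0x40004b2000e44) (0x30004b400024d) (Nat.ble 2931 i)) (Nat.ble 2930 i)) (Bool.rec (motive := fun _ => Nat) (0x20004b500003a) (Bool.rec (motive := fun _ => Nat) (0x30004b50002ae) (0x20004b9000142) (Nat.ble 2934 i)) (Nat.ble 2933 i)) (Nat.ble 2932 i)) (Bool.rec (motive := fun _ => Nat) (Bool.rec (motive := fun _ => Nat) (0x30004b9000771) (Bool.rec (motive := fun _ => Nat) (0x50004b9000c48) (0x70004bc000481) (Nat.ble 2937 i)) (Nat.ble 2936 i)) (Bool.rec (motive := fun _ => Nat) (0x70004bd000ed3) (Bool.rec (motive := fun _ => Nat) (0x4c00004f5) (0x30004c0000811) (Nat.ble 2940 i)) (Nat.ble 2939 i)) (Nat.ble 2938 i)) (Nat.ble 2935 i)) (Bool.rec (motive := fun _ => Nat) (Bool.rec (motive := fun _ => Nat) (Bool.rec (motive := fun _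 => Nat) (0x50004c0000670) (Bool.rec (motive := fun _ => Nat) (0x20004c6000824) (0x30004c60003b7) (Nat.ble 2943 i)) (Nat.ble 2942 i)) (Bool.rec (motive := fun _ => Nat) (0x70004c7000ddb) (Bool.rec (motive := fun _ => Nat) (0x50004cb000d5c) (0x20004cd000f1b) (Nat.ble 2946 i)) (Nat.ble 2945 i)) (Nat.ble 2944 i)) (Bool.rec (motive := fun _ => Nat) (Bool.rec (motive := fun _ => Nat) (0x50004cd000afd) (Bool.rec (motive := fun _ => Nat) (0x4cf000508) (0x50004d1000044) (Nat.ble 2949 i)) (Nat.ble 2948 i)) (Bool.rec (motive := fun _ => Nat) (0x60004d1000171) (Bool.rec (motive := fun _ => Nat) (0x20004d3000c34) (0x70004d300064c) (Nat.ble 2952 i)) (Nat.ble 2951 i)) (Nat.ble 2950 i)) (Nat.ble 2947 i)) (Nat.ble 2941 i)) (Bool.rec (motive := fun _ => Nat) (Bool.rec (motive := fun _ => Nat) (Bool.rec (motive := fun _ => Nat) (Bool.rec (motive := fun _ => Nat) (0x60004d5000170) (Bool.rec (motive := fun _ => Nat) (0x70004d6000788) (0x20004d7000685) (Nat.ble 2955 i)) (Nat.ble 2954 i)) (Bool.rec (motive := fun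 _ => Nat) (0x30004d7000438) (Bool.rec (motive := fun _ => Nat) (0x70004d7000e5d) (0x20004d9000779) (Nat.ble 2958 i)) (Nat.ble 2957 i)) (Nat.ble 2956 i)) (Bool.rec (motive := fun _ => Nat) (Bool.rec (motive := fun _ => Nat) (0x30004da00079c) (Bool.rec (motive := fun _ => Nat) (0x60004de000d97) (0x4e9000efb) (Nat.ble 2961 i)) (Nat.ble 2960 i)) (Bool.rec (motive := fun _ => Nat) (0x4ea0003c5) (Bool.rec (motive := fun _ => Nat) (0x20004ea0003a2) (0x20004eb000502) (Nat.ble 2964 i)) (Nat.ble 2963 i)) (Nat.ble 2962 i)) (Nat.ble 2959 i)) (Bool.rec (motive := fun _ => Nat) (Bool.rec (motive := fun _ => Nat) (Bool.rec (motive := fun _ => Nat) (0x40004ee000664) (Bool.rec (motive := fun _ => Nat) (0x70004ee000edc) (0x30004f10009c6) (Nat.ble 2967 i)) (Nat.ble 2966 i)) (Bool.rec (motive := fun _ => Nat) (0x30004f20002a0) (Bool.rec (motive := fun _ => Nat) (0x50004f40005a4) (0x70004f50006fe) (Nat.ble 2970 i)) (Nat.ble 2969 i)) (Nat.ble 2968 i)) (Bool.rec (motive := fun _ => Nat) (Bool.rec (motive := fun _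 => Nat) (0x20004f9000077) (Bool.rec (motive := fun _ => Nat) (0x30004f900042c) (0x4fa0002fb) (Nat.ble 2973 i)) (Nat.ble 2972 i)) (Bool.rec (motive := fun _ => Nat) (Bool.rec (motive := fun _ => Nat) (0x4000504000dbf) (0x505000e19) (Nat.ble 2975 i)) (Bool.rec (motive := fun _ => Nat) (0x70005060002e5) (0x300050a00014f) (Nat.ble 2977 i)) (Nat.ble 2976 i)) (Nat.ble 2974 i)) (Nat.ble 2971 i)) (Nat.ble 2965 i)) (Nat.ble 2953 i))
noncomputable def CK0P_61 (i : Nat) : Nat := (Bool.rec (motive := fun _ => Nat) (Bool.rec (motive := fun _ => Nat) (Bool.rec (motive := fun _ => Nat) (Bool.rec (motive := fun _ => Nat) (Bool.rec (motive := fun _ => Nat) (0x300050f000c77) (Bool.rec (motive := fun _ => Nat) (0x7000512000cd4) (0x6000514000d3d) (Nat.ble 2980 i)) (Nat.ble 2979 i)) (Bool.rec (motive := fun _ => Nat) (0x2000516000847) (Bool.rec (motive := fun _ => Nat) (0x700051b000608) (0x700051e000393) (Nat.ble 2983 i)) (Nat.ble 2982 i)) (Nat.ble 2981 i)) (Bool.rec (motive := fun _ => Nat) (Bool.rec (motive :=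 fun _ => Nat) (0x200051f000d77) (Bool.rec (motive := fun _ => Nat) (0x50005250002a8) (0x10005260009a1) (Nat.ble 2986 i)) (Nat.ble 2985 i)) (Bool.rec (motive := fun _ => Nat) (0x30005260003d7) (Bool.rec (motive := fun _ => Nat) (0x1000528000ccc) (0x600052900033d) (Nat.ble 2989 i)) (Nat.ble 2988 i)) (Nat.ble 2987 i)) (Nat.ble 2984 i)) (Bool.rec (motive := fun _ => Nat) (Bool.rec (motive := fun _ => Nat) (Bool.rec (motive := fun _ => Nat) (0x52b000365) (Bool.rec (motive := fun _ => Nat) (0x300052c0009dc) (0x500052e0007ff) (Nat.ble 2992 i)) (Nat.ble 2991 i)) (Bool.rec (motive := fun _ => Nat) (0x500052f0006ad) (Bool.rec (motive := fun _ => Nat) (0x60005300007bb) (0x600053300077f) (Nat.ble 2995 i)) (Nat.ble 2994 i)) (Nat.ble 2993 i)) (Bool.rec (motive := fun _ => Nat) (Bool.rec (motive := fun _ => Nat) (0x4000534000bc7) (Bool.rec (motive := fun _ => Nat) (0x700054100042e) (0x500054900043c) (Nat.ble 2998 i)) (Nat.ble 2997 i)) (Bool.rec (motive := fun _ => Nat) (0x500054e000797) (Bool.rec (motive :=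 fun _ => Nat) (0x50005500003b3) (0x1000556000433) (Nat.ble 3001 i)) (Nat.ble 3000 i)) (Nat.ble 2999 i)) (Nat.ble 2996 i)) (Nat.ble 2990 i)) (Bool.rec (motive := fun _ => Nat) (Bool.rec (motive := fun _ => Nat) (Bool.rec (motive := fun _ => Nat) (Bool.rec (motive := fun _ => Nat) (0x700055800013f) (Bool.rec (motive := fun _ => Nat) (0x300055900074c) (0x300055c000eae) (Nat.ble 3004 i)) (Nat.ble 3003 i)) (Bool.rec (motive := fun _ => Nat) (0x1000563000001) (Bool.rec (motive := fun _ => Nat) (0x200056a000cfd) (0x1000570000143) (Nat.ble 3007 i)) (Nat.ble 3006 i)) (Nat.ble 3005 i)) (Bool.rec (motive := fun _ => Nat) (Bool.rec (motive := fun _ => Nat) (0x50005750002a3) (Bool.rec (motive := fun _ => Nat) (0x5000578000ca2) (0x6000579000c09) (Nat.ble 3010 i)) (Nat.ble 3009 i)) (Bool.rec (motive := fun _ => Nat) (0x500057c000c2f) (Bool.rec (motive := fun _ => Nat) (0x600057d0008bc) (0x300057f000d3c) (Nat.ble 3013 i)) (Nat.ble 3012 i)) (Nat.ble 3011 i)) (Nat.ble 3008 i)) (Bool.rec (motive := fun _ => Nat)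 (Bool.rec (motive := fun _ => Nat) (Bool.rec (motive := fun _ => Nat) (0x2000581000592) (Bool.rec (motive := fun _ => Nat) (0x586000b83) (0x2000589000ace) (Nat.ble 3016 i)) (Nat.ble 3015 i)) (Bool.rec (motive := fun _ => Nat) (0x100058f00000c) (Bool.rec (motive := fun _ => Nat) (0x100059000039c) (0x50005920006fd) (Nat.ble 3019 i)) (Nat.ble 3018 i)) (Nat.ble 3017 i)) (Bool.rec (motive := fun _ => Nat) (Bool.rec (motive := fun _ => Nat) (0x700059300033a) (Bool.rec (motive := fun _ => Nat) (0x10005940002aa) (0x3000595000bbc) (Nat.ble 3022 i)) (Nat.ble 3021 i)) (Bool.rec (motive := fun _ => Nat) (Bool.rec (motive := fun _ => Nat) (0x500059500039a) (0x1000599000480) (Nat.ble 3024 i)) (Bool.rec (motive := fun _ => Nat) (0x400059900018a) (0x70005990008bf) (Nat.ble 3026 i)) (Nat.ble 3025 i)) (Nat.ble 3023 i)) (Nat.ble 3020 i)) (Nat.ble 3014 i)) (Nat.ble 3002 i))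
noncomputable def CK0P_62 (i : Nat) : Nat := (Bool.rec (motive := fun _ => Nat) (Bool.rec (motive := fun _ => Nat) (Bool.rec (motive := fun _ => Nat) (Bool.rec (motive := fun _ => Nat) (Bool.rec (motive := fun _ => Nat) (0x59a000292) (Bool.rec (motive := fun _ => Nat) (0x700059a000246) (0x400059b000619) (Nat.ble 3029 i)) (Nat.ble 3028 i)) (Bool.rec (motive := fun _ => Nat) (0x200059c000156) (Bool.rec (motive := fun _ => Nat) (0x60005a1000a26) (0x60005a6000081) (Nat.ble 3032 i)) (Nat.ble 3031 i)) (Nat.ble 3030 i)) (Bool.rec (motive := fun _ => Nat) (Bool.rec (motive := fun _ => Nat) (0x50005a7000ae9) (Bool.rec (motive := fun _ => Nat) (0x70005a8000d7a) (0x50005aa00045a) (Nat.ble 3035 i)) (Nat.ble 3034 i)) (Bool.rec (motive := fun _ => Nat) (0x50005ac000cb8) (Bool.rec (motive := fun _ => Nat) (0x20005ae000b03) (0x5b0000372) (Nat.ble 3038 i)) (Nat.ble 3037 i)) (Nat.ble 3036 i)) (Nat.ble 3033 i)) (Bool.rec (motive := fun _ => Nat) (Bool.rec (motive := fun _ => Nat) (Bool.rec (motive := fun _ =>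 Nat) (0x30005b0000896) (Bool.rec (motive := fun _ => Nat) (0x30005b600006e) (0x5b7000769) (Nat.ble 3041 i)) (Nat.ble 3040 i)) (Bool.rec (motive := fun _ => Nat) (0x30005c7000be1) (Bool.rec (motive := fun _ => Nat) (0x70005c80000f1) (0x30005cb0000bf) (Nat.ble 3044 i)) (Nat.ble 3043 i)) (Nat.ble 3042 i)) (Bool.rec (motive := fun _ => Nat) (Bool.rec (motive := fun _ => Nat) (0x50005d4000701) (Bool.rec (motive := fun _ => Nat) (0x5dc0006f7) (0x20005dc00058f) (Nat.ble 3047 i)) (Nat.ble 3046 i)) (Bool.rec (motive := fun _ => Nat) (0x30005e5000a7c) (Bool.rec (motive := fun _ => Nat) (0x5e8000353) (0x5ec000469) (Nat.ble 3050 i)) (Nat.ble 3049 i)) (Nat.ble 3048 i)) (Nat.ble 3045 i)) (Nat.ble 3039 i)) (Bool.rec (motive := fun _ => Nat) (Bool.rec (motive := fun _ => Nat) (Bool.rec (motive := fun _ => Nat) (Bool.rec (motive := fun _ => Nat) (0x50005ed000a75) (Bool.rec (motive := fun _ => Nat) (0x70005f3000158) (0x5f7000c23) (Nat.ble 3053 i)) (Nat.ble 3052 i)) (Bool.rec (motive := fun _ => Nat) (0x70005fc000b4d)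 (Bool.rec (motive := fun _ => Nat) (0x10005ff000729) (0x2000600000078) (Nat.ble 3056 i)) (Nat.ble 3055 i)) (Nat.ble 3054 i)) (Bool.rec (motive := fun _ => Nat) (Bool.rec (motive := fun _ => Nat) (0x60700091f) (Bool.rec (motive := fun _ => Nat) (0x2000613000b1c) (0x600061900005d) (Nat.ble 3059 i)) (Nat.ble 3058 i)) (Bool.rec (motive := fun _ => Nat) (0x100061f00024c) (Bool.rec (motive := fun _ => Nat) (0x300061f000388) (0x2000621000758) (Nat.ble 3062 i)) (Nat.ble 3061 i)) (Nat.ble 3060 i)) (Nat.ble 3057 i)) (Bool.rec (motive := fun _ => Nat) (Bool.rec (motive := fun _ => Nat) (Bool.rec (motive := fun _ => Nat) (0x200062900047e) (Bool.rec (motive := fun _ => Nat) (0x70006330008fb) (0x300063600076d) (Nat.ble 3065 i)) (Nat.ble 3064 i)) (Bool.rec (motive := fun _ => Nat) (0x700063600010f) (Bool.rec (motive := fun _ => Nat) (0x2000638000396) (0x300063f000e45) (Nat.ble 3068 i)) (Nat.ble 3067 i)) (Nat.ble 3066 i)) (Bool.rec (motive := fun _ => Nat) (Bool.rec (motive := fun _ => Nat) (0x700064700024a)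 (Bool.rec (motive := fun _ => Nat) (0x600064800017c) (0x200064a000c13) (Nat.ble 3071 i)) (Nat.ble 3070 i)) (Bool.rec (motive := fun _ => Nat) (Bool.rec (motive := fun _ => Nat) (0x2000654000024) (0x7000661000555) (Nat.ble 3073 i)) (Bool.rec (motive := fun _ => Nat) (0x300066500047c) (0x20006660007b4) (Nat.ble 3075 i)) (Nat.ble 3074 i)) (Nat.ble 3072 i)) (Nat.ble 3069 i)) (Nat.ble 3063 i)) (Nat.ble 3051 i))
noncomputable def CK0P_63 (i : Nat) : Nat := (Bool.rec (motive := fun _ => Nat) (Bool.rec (motive := fun _ => Nat) (Bool.rec (motive := fun _ => Nat) (Bool.rec (motive := fun _ => Nat) (Bool.rec (motive := fun _ => Nat) (0x30006680003fc) (Bool.rec (motive := fun _ => Nat) (0x5000669000336) (0x400066b000b4a) (Nat.ble 3078 i)) (Nat.ble 3077 i)) (Bool.rec (motive := fun _ => Nat) (0x2000676000bd5) (Bool.rec (motive := fun _ => Nat) (0x67f0005fb) (0x686000d13) (Nat.ble 3081 i)) (Nat.ble 3080 i)) (Nat.ble 3079 i)) (Bool.rec (motive := fun _ => Nat) (Bool.rec (motive := fun _ => Nat) (0x2000687000e68)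 (Bool.rec (motive := fun _ => Nat) (0x1000688000e78) (0x7000697000b6c) (Nat.ble 3084 i)) (Nat.ble 3083 i)) (Bool.rec (motive := fun _ => Nat) (0x700069a00045c) (Bool.rec (motive := fun _ => Nat) (0x69b00049b) (0x50006a8000268) (Nat.ble 3087 i)) (Nat.ble 3086 i)) (Nat.ble 3085 i)) (Nat.ble 3082 i)) (Bool.rec (motive := fun _ => Nat) (Bool.rec (motive := fun _ => Nat) (Bool.rec (motive := fun _ => Nat) (0x6af0008c1) (Bool.rec (motive := fun _ => Nat) (0x10006b4000658) (0x30006bb000522) (Nat.ble 3090 i)) (Nat.ble 3089 i)) (Bool.rec (motive := fun _ => Nat) (0x70006bc0004f7) (Bool.rec (motive := fun _ => Nat) (0x70006be00075d) (0x70006c00000f3) (Nat.ble 3093 i)) (Nat.ble 3092 i)) (Nat.ble 3091 i)) (Bool.rec (motive := fun _ => Nat) (Bool.rec (motive := fun _ => Nat) (0x30006c300099a) (Bool.rec (motive := fun _ => Nat) (0x50006c7000106) (0x6ce000082) (Nat.ble 3096 i)) (Nat.ble 3095 i)) (Bool.rec (motive := fun _ => Nat) (0x30006d5000702) (Bool.rec (motive := fun _ => Nat) (0x20006dc000a94) (0x50006df0008bd)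 (Nat.ble 3099 i)) (Nat.ble 3098 i)) (Nat.ble 3097 i)) (Nat.ble 3094 i)) (Nat.ble 3088 i)) (Bool.rec (motive := fun _ => Nat) (Bool.rec (motive := fun _ => Nat) (Bool.rec (motive := fun _ => Nat) (Bool.rec (motive := fun _ => Nat) (0x10006e20007d7) (Bool.rec (motive := fun _ => Nat) (0x6e8000386) (0x6f500044f) (Nat.ble 3102 i)) (Nat.ble 3101 i)) (Bool.rec (motive := fun _ => Nat) (0x20006f6000319) (Bool.rec (motive := fun _ => Nat) (0x10006f70000ed) (0x30006ff0001e3) (Nat.ble 3105 i)) (Nat.ble 3104 i)) (Nat.ble 3103 i)) (Bool.rec (motive := fun _ => Nat) (Bool.rec (motive := fun _ => Nat) (0x701000990) (Bool.rec (motive := fun _ => Nat) (0x300071a000b08) (0x3000746000116) (Nat.ble 3108 i)) (Nat.ble 3107 i)) (Bool.rec (motive := fun _ => Nat) (0x400074900001b) (Bool.rec (motive := fun _ => Nat) (0x100074d00000d) (0x74e000084) (Nat.ble 3111 i)) (Nat.ble 3110 i)) (Nat.ble 3109 i)) (Nat.ble 3106 i)) (Bool.rec (motive := fun _ => Nat) (Bool.rec (motive := fun _ => Nat) (Bool.rec (motive := fun _ =>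 Nat) (0x75e000083) (Bool.rec (motive := fun _ => Nat) (0x75f00003d) (0x30007680007ea) (Nat.ble 3114 i)) (Nat.ble 3113 i)) (Bool.rec (motive := fun _ => Nat) (0x77d000cfc) (Bool.rec (motive := fun _ => Nat) (0x70007a10001f2) (0x10007e0000241) (Nat.ble 3117 i)) (Nat.ble 3116 i)) (Nat.ble 3115 i)) (Bool.rec (motive := fun _ => Nat) (Bool.rec (motive := fun _ => Nat) (0x60007e40003be) (Bool.rec (motive := fun _ => Nat) (0x300083d000180) (0x7000880000355) (Nat.ble 3120 i)) (Nat.ble 3119 i)) (Bool.rec (motive := fun _ => Nat) (Bool.rec (motive := fun _ => Nat) (0x30008d3000069) (0x50008d300046f) (Nat.ble 3122 i)) (Bool.rec (motive := fun _ => Nat) (0x30009010003fd) (0x50009720005e0) (Nat.ble 3124 i)) (Nat.ble 3123 i)) (Nat.ble 3121 i)) (Nat.ble 3118 i)) (Nat.ble 3112 i)) (Nat.ble 3100 i))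
noncomputable def CK0P (i : Nat) : Nat := (Bool.rec (motive := fun _ => Nat) (Bool.rec (motive := fun _ => Nat) (Bool.rec (motive := fun _ => Nat) (Bool.rec (motive := fun _ => Nat) (Bool.rec (motive := fun _ => Nat) (Bool.rec (motive := fun _ => Nat) (CK0P_0 i) (CK0P_1 i) (Nat.ble 48 i)) (Bool.rec (motive := fun _ => Nat) (CK0P_2 i) (CK0P_3 i) (Nat.ble 146 i)) (Nat.ble 97 i)) (Bool.rec (motive := fun _ => Nat) (Bool.rec (motive := fun _ => Nat) (CK0P_4 i) (CK0P_5 i) (Nat.ble 243 i)) (Bool.rec (motive := fun _ => Nat) (CK0P_6 i) (CK0P_7 i) (Nat.ble 341 i)) (Nat.ble 292 i)) (Nat.ble 195 i)) (Bool.rec (motive := fun _ => Nat) (Bool.rec (motive := fun _ => Nat) (Bool.rec (motive := fun _ => Nat) (CK0P_8 i) (CK0P_9 i) (Nat.ble 438 i)) (Bool.rec (motive := fun _ => Nat) (CK0P_10 i) (CK0P_11 i) (Nat.ble 536 i)) (Nat.ble 487 i)) (Bool.rec (motive := fun _ => Nat) (Bool.rec (motive := fun _ => Nat) (CK0P_12 i) (CK0P_13 i) (Nat.ble 634 i)) (Bool.rec (motive := fun _ => Nat) (CK0P_14 i) (CK0P_15 i) (Nat.ble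 732 i)) (Nat.ble 683 i)) (Nat.ble 585 i)) (Nat.ble 390 i)) (Bool.rec (motive := fun _ => Nat) (Bool.rec (motive := fun _ => Nat) (Bool.rec (motive := fun _ => Nat) (Bool.rec (motive := fun _ => Nat) (CK0P_16 i) (CK0P_17 i) (Nat.ble 829 i)) (Bool.rec (motive := fun _ => Nat) (CK0P_18 i) (CK0P_19 i) (Nat.ble 927 i)) (Nat.ble 878 i)) (Bool.rec (motive := fun _ => Nat) (Bool.rec (motive := fun _ => Nat) (CK0P_20 i) (CK0P_21 i) (Nat.ble 1024 i)) (Bool.rec (motive := fun _ => Nat) (CK0P_22 i) (CK0P_23 i) (Nat.ble 1122 i)) (Nat.ble 1073 i)) (Nat.ble 976 i)) (Bool.rec (motive := fun _ => Nat) (Bool.rec (motive := fun _ => Nat) (Bool.rec (motive := fun _ => Nat) (CK0P_24 i) (CK0P_25 i) (Nat.ble 1219 i)) (Bool.rec (motive := fun _ => Nat) (CK0P_26 i) (CK0P_27 i) (Nat.ble 1317 i)) (Nat.ble 1268 i)) (Bool.rec (motive := fun _ => Nat) (Bool.rec (motive := fun _ => Nat) (CK0P_28 i) (CK0P_29 i) (Nat.ble 1415 i)) (Bool.rec (motive := fun _ => Nat) (CK0P_30 i) (CK0P_31 i) (Nat.ble 1513 i)) (Nat.ble 1464 i))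 (Nat.ble 1366 i)) (Nat.ble 1171 i)) (Nat.ble 781 i)) (Bool.rec (motive := fun _ => Nat) (Bool.rec (motive := fun _ => Nat) (Bool.rec (motive := fun _ => Nat) (Bool.rec (motive := fun _ => Nat) (Bool.rec (motive := fun _ => Nat) (CK0P_32 i) (CK0P_33 i) (Nat.ble 1610 i)) (Bool.rec (motive := fun _ => Nat) (CK0P_34 i) (CK0P_35 i) (Nat.ble 1708 i)) (Nat.ble 1659 i)) (Bool.rec (motive := fun _ => Nat) (Bool.rec (motive := fun _ => Nat) (CK0P_36 i) (CK0P_37 i) (Nat.ble 1805 i)) (Bool.rec (motive := fun _ => Nat) (CK0P_38 i) (CK0P_39 i) (Nat.ble 1903 i)) (Nat.ble 1854 i)) (Nat.ble 1757 i)) (Bool.rec (motive := fun _ => Nat) (Bool.rec (motive := fun _ => Nat) (Bool.rec (motive := fun _ => Nat) (CK0P_40 i) (CK0P_41 i) (Nat.ble 2000 i)) (Bool.rec (motive := fun _ => Nat) (CK0P_42 i) (CK0P_43 i) (Nat.ble 2098 i)) (Nat.ble 2049 i)) (Bool.rec (motive := fun _ => Nat) (Bool.rec (motive := fun _ => Nat) (CK0P_44 i) (CK0P_45 i) (Nat.ble 2196 i)) (Bool.rec (motive := fun _ => Nat) (CK0P_46 i) (CK0P_47 i) (Nat.ble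 2294 i)) (Nat.ble 2245 i)) (Nat.ble 2147 i)) (Nat.ble 1952 i)) (Bool.rec (motive := fun _ => Nat) (Bool.rec (motive := fun _ => Nat) (Bool.rec (motive := fun _ => Nat) (Bool.rec (motive := fun _ => Nat) (CK0P_48 i) (CK0P_49 i) (Nat.ble 2391 i)) (Bool.rec (motive := fun _ => Nat) (CK0P_50 i) (CK0P_51 i) (Nat.ble 2489 i)) (Nat.ble 2440 i)) (Bool.rec (motive := fun _ => Nat) (Bool.rec (motive := fun _ => Nat) (CK0P_52 i) (CK0P_53 i) (Nat.ble 2587 i)) (Bool.rec (motive := fun _ => Nat) (CK0P_54 i) (CK0P_55 i) (Nat.ble 2685 i)) (Nat.ble 2636 i)) (Nat.ble 2538 i)) (Bool.rec (motive := fun _ => Nat) (Bool.rec (motive := fun _ => Nat) (Bool.rec (motive := fun _ => Nat) (CK0P_56 i) (CK0P_57 i) (Nat.ble 2782 i)) (Bool.rec (motive := fun _ => Nat) (CK0P_58 i) (CK0P_59 i) (Nat.ble 2880 i)) (Nat.ble 2831 i)) (Bool.rec (motive := fun _ => Nat) (Bool.rec (motive := fun _ => Nat) (CK0P_60 i) (CK0P_61 i) (Nat.ble 2978 i)) (Bool.rec (motive := fun _ => Nat) (CK0P_62 i) (CK0P_63 i) (Nat.ble 3076 i)) (Nat.ble 3027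 i)) (Nat.ble 2929 i)) (Nat.ble 2734 i)) (Nat.ble 2343 i)) (Nat.ble 1562 i))
noncomputable def CK0InvB_0 (i : Nat) : Nat := (Bool.rec (motive := fun _ => Nat) (Bool.rec (motive := fun _ => Nat) (Bool.rec (motive := fun _ => Nat) (Bool.rec (motive := fun _ => Nat) (Bool.rec (motive := fun _ => Nat) (0xc290007470003f7000b74000000000000000000000000000000000000000000000000000a2e0003a7000000000000000000000000000000000000000ac2000ac9000776000b0d000672000c000003ac000858000000000aa600015e0001b4000746000712000c25000b500007a7000b230007d300000000000000000000073b00076c000000000000000000000000000c26000bc90009ad0007e5000b01000aff00056300039300000000065400074a000000000bbd000000) (Bool.rec (motive := fun _ => Nat) (0x8d30007ab0000000007ec000164000557000a3e000bf0000b9b00099c000afc0008090001dc0000000000000000000009d5000be00003ec0006ab000ae2000ab7000c31000b4100076d000abf000a5a0004f50000000009be00087c0003f5000a1700093a000bf30005b400004c0007440005c0000a67000000000000000a1a00086200072000077400074d00058f0009710004fa0003a300077a0002490007a00003d10003ee0003c6000a57000aa5000b850006c9000a95000933000159)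 (0xbe400000000000000000000000000000000000000000000077b0000000000000001af0007330007140009280009cf0007d800082b0007c80000000000000000000001c200076b0009870008b300037e0000f50009f600000000000000098d0004cf0007c9000b020000000000000000000008250006fb000000000000000000000000000000000000000000000000000000000000000000000000000000000000000000000000000000000000000000000c27000c28000c18000bd8000b05) (Nat.ble 2 i)) (Nat.ble 1 i)) (Bool.rec (motive := fun _ => Nat) (Bool.rec (motive := fun _ => Nat) (0x9b4000636000617000ab20007480006fc000664000041000a5c0006f9000166000000000c15000554000be30001bf00077300090a000c20000820000821000a300004790007ed00091b0001a70000680000750009d0000b220008570007650004630007af000ad90006d400065c000955000b61000000000000000739000a0900091200075f000000000000000000000000000000000000000b1b0004ce000000000000000000000000000000000000000000000000000000000000000000) (0xbba00063b0009900000000001b50003a400030e00065300093b00017e0000a00003540004430002e60005310005b60000000009100005c80002ac00074b0006680000000006b10009fc00073c000aa400065b0003c50004d4000b6e000a61000000000a1300079b000a3f000a4100071f0001a2000a07000749000c24000a7d000a1800019b0000000001cb0007cf000bfa00067e000ab0000995000b54000afa0009ea000b700009e1000c170004a50006d80000000008600009de000a00)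 (Nat.ble 4 i)) (Bool.rec (motive := fun _ => Nat) (0x5380003ab000a5b000bfe0009d9000a9b00016b0006cd000000000605000ac000035f0001670004a8000b86000b89000a720000910006ac000a780009320000000008bb0009fd00070a0008840003c80003b00003c70006a40000a4000ac3000a4b0003f0000650000acc000148000ac400091c000bec0009f4000bd60009340007d500079a00038e000942000b1d000ba1000000000000000000000000000000000a71000729000000000000000000000738000bbf000b76000768000a66) (0x86e0000000000000000000000000000000000000000000000000000000000000000000000000005010008df000ae900000000000000000000000000000000000000000000000000000000000000000000000000039b0000a30004f000000000000000000000000000074e00000000064e000ac800075e0000000003af000aca0006200007fa00043f0007c3000a1b0000000005c4000b420005810001c5000bd1000a40000b0e00086800040400029c000000000760000a3c0006fa000c2f) (Nat.ble 6 i)) (Nat.ble 5 i)) (Nat.ble 3 i)) (Bool.rec (motive := fun _ => Nat) (Bool.rec (motive := fun _ => Nat) (Bool.rec (motive := fun _ => Nat) (0x7a600063200011d000000000000000000000000000336000a2a000710000c2c0006db0006f50007ad00009b0000000005d6000700000702000ab900033d0000a8000ab6000000000000000c210009e000000000000000000000000000000000000000000000000000054100000000000000000000000000000000000000000000000000070e00000000000000000000000000000000000000008d000000000000000000000000000000000000000000000000000000)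 (0x252000a20000b060000000000000000000005db00039400015d00000000000000000000071c0000810000000000000000000000000000000000000000000000000005be0005ec0000000000000000000000000000000000000000000000000001d2000745000000000000000000000000000000000000000000000000000706000296000a1f000000000000000000000000000000000000000000000000000000000071000000000000000000000000000000000000000000000000) (Nat.ble 8 i)) (Bool.rec (motive := fun _ => Nat) (0x90f00032100075600064500000000000000000000000000000000029a0000000000000000000000000000000000000000000007f4000000000000000b26000b3600083a000c0f00038b0001b80001e20003790006d60006e1000aa9000542000b4d00052b00000000000000071900031f0009140003960008ff000b04000943000aa30009840000000006300004880000b80009d2000b73000bf4000b18000bfd0004b50004d700057b000bd4000305000000000000000a0b000c2d000291) (0xaa00056900071e0004b3000761000a85000a2b0008790001bd000aef00085d00082a0004f20006850009b0000000000000000b7500097c000abb0004d1000bcd000593000ba900018c0001ce000a8b0008fb000bc0000807000810000b980004f60006ca0009f900095a00078f000afb000ac10006b9000381000965000947000887000049000bd30006b700022e000294000b160009ce0000b40005350006440005360005b00002df0006430007f9000595000000000000000035000642)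 (Nat.ble 10 i)) (Nat.ble 9 i)) (Bool.rec (motive := fun _ => Nat) (Bool.rec (motive := fun _ => Nat) (0x3aa00046b0003fa00079d000b9d0002310000270006740007430006730005c100005f0008a70003240005eb0004ab0007fb0001c6000a2c0005240003cc0005910000600005780001200001e3000ba0000b2c00049100056c0000d40008cf0004c30009bf0001d400050e0008e50008dd00020e0000af000ae700070c0000ca0002470008c200031300060d00025600065d00011a0000990005450005720007050001150005bf0007130001f800070f0008cc000537000ae30008f6000471) (0xbad000000000000000bcc00032d0000020005f4000c0500065900092100033b00097a0007150006fd000ad500066c00083f0009620007220009110006f10001c300065f0007690009ef0001a60002880000000002c80009460007350006f7000ad40007d10007ba0001f4000c1f0001fb000a040006550008520002db0001c10007210000470007ff000835000468000131000a1e0002c500020f00078b0005a1000b070000f800024400019e000405000abe0003f4000419) (Nat.ble 12 i)) (Bool.rec (motive := fun _ => Nat) (0x3310006dc000312000a7e0007790005d3000a050004a1000a1d000000000a64000b1400012d000bde00000a0001da00005100000000011c0006900006830001dd000b62000b6b00004a000264000bae00000000000000099f0008d800094000086100000d0002ca00098300057f000acb0007780007b900004d00094d000c30000a91000be90004c40001e50002c30001b200066d0007df0001960004000000000000000000000003f20003a8000000000000000000000000000000000000)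 (0x697000c2e0009bd0002010003a60003530000ff00073f000b7f0000f70007cb000876000bb8000552000742000a510005cb0000000000000000000000000000000000000004990009b2000000000000000000000000000b930009810003e40004270002f5000000000bca000671000bcf000a7900097f0006c8000bfb00029500031a000ba7000a8d00077c000b00000909000604000a6c0008470007a9000a1900032c000bf5000492000c1d0009610007340005a000092f000000000938) (Nat.ble 14 i)) (Nat.ble 13 i)) (Nat.ble 11 i)) (Nat.ble 7 i)) (Bool.rec (motive := fun _ => Nat) (Bool.rec (motive := fun _ => Nat) (Bool.rec (motive := fun _ => Nat) (Bool.rec (motive := fun _ => Nat) (0xb10000ac6000c33000c04000b5500004800099b0008d50000000000cc000a220003ae0009980003110008890006610001c90004840003d80009450000b60005f30005490005fc0001810002d40008f20007b50000d00000000000000000b70006250006130007f5000a0f0009e7000614000a540004c7000bab0001ff0000000000000009fb000b6c000b430009800007c00004560009f0000956000ae0000304000b69000163000763000009000b92000b1100062c0007fd000b63000000) (0x3ed000aeb00084b000bb6000600000669000826000b8c00000000066200034400089d000bb900085b0003f300069a00066a000bb5000665000b9c0000d500095300072f00001a0004f9000b480002000000000009a70003ff0008050007300007b000008a0000b2000791000000000a9d0006810008830006960002cf0000000000000000000000000002620003fe00000000000000000000000000000000060e000000000000000000000000000000000af7000b520003060002720007f0)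 (Nat.ble 16 i)) (Bool.rec (motive := fun _ => Nat) (0xa21000bf7000b34000c020008c90002c900000000061c0001600008d2000b29000741000260000b250007820008ca000c320005e40001d9000b330008be0005a9000bea0000000000000000000000000000000000000000000000000006ce00053b000a1c0003dd000c0d000000000bdb0001f30001a300003700066700005500060a000000000666000050000a96000c1e0009920006bf00010a000000000a120006bd00033e00035b00054b0006f40006c70006a60005aa00042c0006cf) (0x9a20002cb0000000000000000000000000000000000000000000000000000000000000000000000000000000000000000000000000000000000000001ed0006de0000000000000000000000000000000000000000000000000000000004f8000c0e000000000000000000000000000000000000000000000000000000000000000000000af4000631000000000000000000000000000000000000000000000000000000000000000000000000000b79000bd0) (Nat.ble 18 i)) (Nat.ble 17 i)) (Bool.rec (motive := fun _ => Nat) (Bool.rec (motive := fun _ => Nat) (0x88b0005ad0000000001e600092a000b13000b270004cb000c130008fd000b7b00056a0007a30005dd0000000002ff0003f80003d70002180003270007dc00030b000a940003380006c30003690002d00006f800072400019f00096600019a0001a100034300022800099400079300020a00000000000000000000000000000000000000000000065a0009d7000000000000000000000000000000000000000000000000000000000000000000000000000000000000000000000000000000)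 (0x98f0007bf0003350000250002bd0004ef00013e0004420003320004490004640004ee0006860004f10009c20009f8000316000109000adc0000280003d20000d7000b21000a500009c400079e00068d0002330003cf000c1200000000000000000000000000000000000000043a0002d500012200038d0004550003b300053200026d0002710002f00004370004670002a700081800033300042d0001fd000000000000000b84000b4e00082d000a390004200003cb000b940008880005c2) (Nat.ble 20 i)) (Bool.rec (motive := fun _ => Nat) (0x1760002200009b500020c00037100093d00046f000a900005700003ca0000430000610006d50007320009190007d70000000000000000000000000000000000000000000000000002580002ed0000000000000000000000000001f90000000000000000000000000000000000000000000004a600045b00033c000684000c010002d30004530004260005da00009f0006b50002a300051c0005d80000000005800006bb00062700058b0007d40003c300011300009c000a590003db000000) (0xada0008000000000000000000000000000001c0000000000000000000000a650001c70009820002da0001e1000aa700031000094a000352000000000000000000000000000000000000000000000000000b9900048d000660000240000a760007eb0000000005ef000a8c0004b900070b000b2f00073a0005ce00019100000000050700023c000bc6000b3e000101000be700063700078600092400030200036e0000000009990007a200045e000991000197000ad30002250000460005df)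 (Nat.ble 22 i)) (Nat.ble 21 i)) (Nat.ble 19 i)) (Bool.rec (motive := fun _ => Nat) (Bool.rec (motive := fun _ => Nat) (Bool.rec (motive := fun _ => Nat) (0xb3100023600036a000107000c0800000000000000000000000000067d0008bd000000000000000000000000000000000000000000000000000000000000000000000000000000000000000000000000000000000328000000000000000c34000000000b640005dc0005cc00091d000ac70007bb0004d6000000000000000000000000000000000767000156000b5e000000000000000000000974000916000000000000000000000000000000000a7b000a7300029f000000000000000000) (0x2f2000a38000aaf0002130001550000000006e700027e00060c000a9f00024d000b350001b60008a100075300015700054f00013c00037c00087000000000000000000000000000000000072b00000000000000000000000000000000000000007a0008c60006d9000481000969000380000bd50005290009570003e5000384000525000801000125000a2700080a0009a90005b50000000002a40004360000e0000000000ba60007dd00000000000000000000000000000000000000004b) (Nat.ble 24 i)) (Bool.rec (motive := fun _ => Nat) (0x2d20001db00049a0008ce0002fd0003c0000198000af20008e000024600078c00061500098a000b7d0008140003a1000000000000000a4e00002900018f0006eb000b6a0001c400054c000b950008390009540003000007e7000a140003fd0007d000089a00072a000a32000b68000c11000013000aec0001ae0006190000000000000000000000000000000007b200006d000b8800035a00064c0005fd0003510007e90000560001fa0000000006260005c5000740000908)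 (0x2c100052600024c00016d00041600027000051a00026f0001aa000202000b3f00011100026e0000da0002b30006490002b20002b1000bb10001060002fa00082c0002b000048500097500086500091a00053400022300055e0009730005cf0002040005ab00096c0005d100025e00083c0008db0001df0002a90009ca0004ba000afd000b6f0003ef00016e000067000afe00033a0007ea00021c000b090001be00064a00000f000a6d000010000b8b0002a80008450007a40006ed00064b) (Nat.ble 26 i)) (Nat.ble 25 i)) (Bool.rec (motive := fun _ => Nat) (Bool.rec (motive := fun _ => Nat) (0xa98000b9a000bcb000a1600018b00051300075b000368000be600050c000209000a7a000b4f00080d00082900061100079f0005850000190003ce0008330007f70007ef0001ac0005680004bb00040600046900059f00095e0003a2000a340002ef00042900052c000b560003d00000440008dc0006a30009720000d30000780005e60001a90002cd0005d5000a4f00028500042a0004740003b40003220001b100088f000ad80005440001f50007250006070006800000590006e200047e) (0x1ef000a6f000b1f00017f0004e70007810001ba00089f0007090003e3000000000000000000000000000000000000000000000000000000000000000000000b3b000bef000a0600086a0007aa000b2a00048f00056400052100013600016a0005150009e500039200056f000349000011000a3300097900031d0006e3000b6500001c00076600085f0009a4000967000382000af50000000006d00005120007d200062f000280000b2400027b0004580002820009ed000c19000be5000b37)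 (Nat.ble 28 i)) (Bool.rec (motive := fun _ => Nat) (0xbb3000000000000000000000221000360000b8e000472000a5300030a000b600008d40009f500003f000b770007b80007b600097e000bf90007310003f6000215000be100035d0002fb00093500008f00014c00051d00059a0008340008a600039e0006e6000c1400000000037800045a000383000bf6000000000a6300018200086900004e000199000000000736000a4300019c0003bc000bbb0003b50006a700000000033900090b00008b0008ac000843000a0e0001d0000154000b51) (0x1e70008f40009ec00057e000bb200090400000000029d0009970008960009a3000c03000ae100084d0000000001700005ba0007c400039d0007e00008460002d9000b3d000ab30000de00057300086b000007000000000aaa00020700065e000aac0004ad000a37000b8f00022700007d000964000077000bb700088600091e00060f0006380005b9000b590002080002530008c000025a0001900009180001920007e1000b8a000a770007030000360009dc000000000000000000000309) (Nat.ble 30 i)) (Nat.ble 29 i)) (Nat.ble 27 i)) (Nat.ble 23 i)) (Nat.ble 15 i)) (Bool.rec (motive := fun _ => Nat) (Bool.rec (motive := fun _ => Nat) (Bool.rec (motive := fun _ => Nat)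 (Bool.rec (motive := fun _ => Nat) (0xbb00007850009930006d3000b5d00066e000145000762000042000a2900052e000a470001a500020d00071600045000042b000854000a10000b3c000089000c2a0000000006a8000b5800072e0007540003bf000848000aa200071a0001d700068700062d0000860001ec0001ab0006d70004a40001b7000c1c0002e00000000000e900040d00098c0006fe000000000a0c00027f00000000000000000000078900063a000788000970000587000787000986000579000ad6000528000988) (Bool.rec (motive := fun _ => Nat) (0x3e8000a5d0009bb00056600000000000000018400017d0009680006c400062100013200018d0007990004d500035800009d0005ed00098b00021000031900011f000add00058600008e00015f0006ec000b7e0002810009f10004440007f30002f30000000001f600032000010e0001cd0005740004e0000b12000ab500050400000000036b0004ac000b7c0005e000007b000a7000035c00007c00000000000000008c0000000003be000ab100061e00046a0004f40006be00081f000648) (0x33700040a0001d50005e700039100001700009300058e000a89000387000000000b47000780000b4b0003950001290000940004fe0004d000063d0000cb0009250005e100085900050f0009ac0003b10009ab00051100053c00007f000000000422000ad20002c60000be00010800067a0003750005560001240007fc0000000000000000000009170007520000f10002c70009fa0008400009d3000134000b2e0005bb00004f000ba50007ca00018800038a000355000b0b000adf00044f)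 (Nat.ble 33 i)) (Nat.ble 32 i)) (Bool.rec (motive := fun _ => Nat) (Bool.rec (motive := fun _ => Nat) (0xbd20008bc000c1b000bc400036f0005cd0005d400078a00000000000000000000032f00000000000000068800055c0000000000000000000002ce00000000000000000000000000000000000000089800053a00064d000a8a0000000006ef000b57000aa00004960004e30001f0000590000ad100070d000069000bdf00095f0007500006410000000006520000000004870004eb0003d30002110004fc0007c200008700042e00020b0003b60003ba00053900011800016f00005d000347) (0x59c0001cc00077e000a5e000bf8000082000127000a9e00015b000ae80000bd0009020001e90008e900097d0004510006e40005a30001d10002b400044100099e0007c50002760005f00003030008fe000376000758000af300007600041f000b3a0004140005f700018e00060300021f0006080003e000050a0009a000053f0005020008ad00070700068b0002b800091f0000000000000004a00005f8000000000000000000000000000000000000000000000a5200037b000c1000076a) (Nat.ble 35 i)) (Bool.rec (motive := fun _ => Nat) (0xae60000ab000b5f0000700002de00088c0003b80003990000bb0008ba00001800003a0001610002590008ee0009c7000254000866000b440008b50000a50003e70009e30001380009f30005a20000d8000000000795000b2d00058200028c000bf100070800096e00036d0006220007e20001720001a000055a00022200002100082e000a6e0009d100005a00081500046e000517000b0300074c0009ba0008060006090008a90004b60002f60008aa0002120008320006980005ee0009d4)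 (0xa3b0004570009e600069b00054300034000067000066f0004dc0000380000960004aa0000e30001410003f900098e0009850000150003300000b5000000000a28000345000a60000364000abc000b6d000a6900024800072800069c0002aa0002a50008b000059d00083d00008000079800094e000000000000000000000000000759000b200006d200081a000a1100043800067f00046d0008a8000b4a00080c0000c30007b70000ac0006df00097b0001fc00011b0007b1000584) (Nat.ble 37 i)) (Nat.ble 36 i)) (Nat.ble 34 i)) (Bool.rec (motive := fun _ => Nat) (Bool.rec (motive := fun _ => Nat) (Bool.rec (motive := fun _ => Nat) (0x9ff000000000a0a0007da0001210003890000000007840007750001d3000599000b0a000a2d00014a000b190000000009cc000920000ad00008e80003e600091300029e000098000000000000000000000000000baa0007e80007de00000000089c0007db0001ad000c160009da0008d60000e60009e80009bc0008a200051900010b000aee000c2200097600049f0000850003850008c30004070008920000a700075d0005a50004010002d60007cd00053000086d000a93) (0x3b900000000041a0003a900000000000000000000000000025b0003260000000000000004d80001530000000000000000000000000000dc00048c0000df000a8e0008160003a50000f60005710000000000000004890009c300000000000000000000000000044e000baf0000000000000000000003e90005d20005e9000acd00071d0000000008310005a40006c10005a60000050008bf00000000014e0009fe0008c80001e4000000000b9700032e000000000000000000000000000000)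 (Nat.ble 39 i)) (Bool.rec (motive := fun _ => Nat) (0x4a7000a230000000003230007ce0000000000000000000000000000000000000000000000000000000000000000000007b40005a70006160000000000000000000003a00001650004d3000bd700061f000000000770000000000acf000000000b380007180000000000000002d800000000000000000000000000000000057600049e0000000001eb0000fa0006a900052a00047d00035e00026500000b0005980000dd0003d400034c0000000000000000000000000000000000000000f3) (0xa82000000000657000be800094400042100030100019d0009600007e3000beb0001620002dd000a3600013a00032a0005ca000ab4000a9c0002160002890007920004020009a50000000000000006ff000b5a00000000079600073e00000000000000000000030f0001870005620004750000000008850006aa000b1500000000000000076e0000000000000000000000000000000000000000000000000000000007e4000aba000000000000000af90009050000000000140000230002f4) (Nat.ble 41 i)) (Nat.ble 40 i)) (Bool.rec (motive := fun _ => Nat) (Bool.rec (motive := fun _ => Nat) (0x2bb0000000000000000000000000008490000000003340003080009d60006400002570002c40008f500078d0007a800019400080f000922000266000a4400006400022900026300006600002c00007400041d000000000000000000000000000000000000000000000000000000000553000a2f0008380005ae00036c000783000c1a0006f00001f20008e3000899000a870000000009df0008130005ea00049c0004030005f20008e200034b00037a0003770000000000000000000007d9)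 (0x4110008c1000b830004ea0004cd0003d60005c600052f00061d0005f100053300093600028e0000000000000002f100000000000000000000013f00018a000000000bd900027d00079c0003c90000ba0001b3000ae40008da000a750001140004760006c500038c00043c0009960006f60008720009e90005b700061800014b0007c600006f00044b00021e00047b000a35000bc800037000021a000612000a3a00062b0008910005180008c70008e60001120002a00002a1000000000000) (Nat.ble 43 i)) (Bool.rec (motive := fun _ => Nat) (0x14900039c00068e0003d500000000039f0000ef000a6a0002f900024f00096300059e0006f20006890000830005600001430002750009b80000b30008080009b70009a6000aa10003dc00083000065800081900092e00006e0002900008b20000620008b1000937000bf20002340002c200062900062a00046c000923000a990007900004f70007c700006b0000ea0000fd0002300007f80008c4000b2b0008f00004af000c23000b710000120005f60002e8000bdd0000000000000000ed) (0x1fe0007640002050005e8000a580002e20001050000000007970001bc0009af00094c000abd0005220009390005ff00062800044600071b000c0c000a080001f10001460002e30009b1000a26000a010000b00001a4000b5300023e0009d80009490004470009cb000250000a450001e00002b60008b600044c00041b00031e0001f700034200031c000b46000a7c0004970006dd000bee00040b000663000c0600066b0004b400062e0002bf0000320004cc000a5f0002190002ba00084a)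 (Nat.ble 45 i)) (Nat.ble 44 i)) (Nat.ble 42 i)) (Nat.ble 38 i)) (Bool.rec (motive := fun _ => Nat) (Bool.rec (motive := fun _ => Nat) (Bool.rec (motive := fun _ => Nat) (Bool.rec (motive := fun _ => Nat) (0x28700089b000498000bce00028f0008d700019300015c00015a0004900009270008af00092d0007a50006f300045c00065600000000093f0008fa00070100099a0000000007260005940003eb0001b000010d0008b90000000008530000fc0009a80004b10008a400052700009e0008040003e20002fe0004480008e40007550000ee00069e0002a6000214000558000183000a840006d1000a8f0006060006940009c50000c90007d60001ca000a74000950000bc7000a2400044000045f) (0x65100080e00090c00089700093e00092b0003980009290004c50008230007230002ec0007cc000a4a00002d00002f00085c0009eb00041c0002cc0006b80007bd0002860001850000a100060200087300070400028b000195000be200073d0000c000023d000aad000b1a0000630002be0005e500074f0007510004f3000c070004d900050800075c00092c00022600087b00012a0008ec00034a0007570008d900027a000a56000bb400017800060b0001400008eb00018600053d00012c) (Nat.ble 47 i)) (Bool.rec (motive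 := fun _ => Nat) (0xaf800090000047700005e0007f600037400023f0002b700001b0009f2000415000b87000251000b0c00041e00096b000bc300029200057a000aa80008f700026c00045200054700022f0009c6000907000b40000bed0004b7000af6000a460008f3000aab00048200041800031b0004ca000b1e0001e8000a9200090100087d00025f000bff0004230003df0007fe00088d000ae50004fb000293000ac5000a88000bc2000a490005770005880009c90002bc00000000057500051400095d) (0xe50004ae0000ae0000c100001e00090d000ba200016900025500082f0008e100028300050b0005e3000a150006e000024100029800061a00056700083b00051e00001f0001170003410005890005030007be00010f0002c00004450004a2000a0200085500055500095900002b0000160001a800055b0004e50002380000bc0004090006a200058300025d00016800049b0008740007f100067b00077d000b7800067800017500045900084e0009b30007940005a8000adb) (Nat.ble 49 i)) (Nat.ble 48 i)) (Bool.rec (motive := fun _ => Nat) (Bool.rec (motive := fun _ => Nat) (0x77700012e000b0f0003b70005480000e400050d000bdc0007720001d800094f0008b40008a000081100067500096d0008d00003fb0000ad0007110002240008c50007bc00022d00024a00017400024b00011e0006cb000bc100010400017900002e0004330004930008940007c100007e00059b0004340001280008de00048e00089000022c0000200001390002030004e80000eb00047000087a00099d00089e0009c00003500006990000fe0003560006350004ff0000300002ab00086f)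 (0x7ee00063f000bbe000c2b000a9700021b0005090004c900093c0000cf0007ae0004ec0000f200000000088a00005b0000d20009dd0000e20005650002d10001350000790000c60004db0004c10005b300020600036100016c0002990001d600003e00003100007200064600096f0003b2000242000a4c000462000a62000841000ba3000a3100017a0000650002680000b90008510005c3000bac000052000a680006390008750003e10000c50000220001000002320002450000540003de) (Nat.ble 51 i)) (Bool.rec (motive := fun _ => Nat) (0x29b000001000ba4000bc50006da0000920003480006c60005b1000b080005b800069d00017b000142000a7f0004bd0006ee00057d00000000000000000000067c0008e70006b60005de00068a000000000000000000000b4900047c00000000000000000000000000000000004500056d000ad70003da000b3200064f0002d7000828000c090009e20003730006c20005100004fd00042f0007ac0008820001bb00058d0008360000030004df00064700006c0009510004ed000597000177) (0x84200022b0004de000000000495000bda0008ab000473000ba80008a30009b900043b0002ee0004e40005af00000000080200081d0005500006a50000000002ad0009a100087f00053e00036600010c0006e80002b90001440000000008270005610003670004bc000b810001520000060009b60004170005b20002170004c60004250003d900000000000000056e0001030002e700071700031700049d0006ba00032900002600017300028400043d00037200085000010200095b000261)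 (Nat.ble 53 i)) (Nat.ble 52 i)) (Nat.ble 50 i)) (Bool.rec (motive := fun _ => Nat) (Bool.rec (motive := fun _ => Nat) (Bool.rec (motive := fun _ => Nat) (0xb9e000b2800085e0009c10006c000030c00072c0008b800051f00034e0009520004100006b00003070007a100000000000000044a00068c0004be00025c0005590006950002eb0003150003ea000435000180000a550009cd00005c0002ea00003c0001260007b300026700059200034600045400063e000b900004610004600000970006e9000aae00081e0003180003f100087700015000014d00048a0000ec0000db0000ce0004310005fa000b1c00004000085a0002b500058a000930) (0x6ae0005bd00090e0003c20006b30000a200063300039700057c0008cb0002af0001ea00054e00000000028a0001de0001470008b700080b00015100027c000a4d000931000a3d0006340007710002e100037d00063c00023700045d0009e40000e10003620000e80005d0000b800008640003bd0005f90005e20004e9000ade00043e00035900095c00097700034d000b5c00008800038800094b000aed0004660006790005960002e4000058000af00008670005160002e5000000000000) (Nat.ble 55 i)) (Bool.rec (motive := fun _ => Nat) (0xa8000009a0005000002a200040c00044d00073700008400078e0009ae00039a0006e50000530003650006a00001cf000090000b5b000824000682000822000000000000000000000000000000000926000b45000000000881000000000000000000000000000000000601000133000000000b9f00027900000000000000000000000000000000000000000000000000000000000000039000013b0000000000000000000000000000000000000000000000000000000000000006b20006a1)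 (0xb6600031400081200055100096a0008f90008f1000c0b0005d700014f0005060004e600011000027800058c0000c8000ab800023b0002350000240006ad00038f0001b9000c0a00081b0004bf00024e0008cd0003ad0006930003c400089500028d0008d1000b8d0008ed00015800012f0000c400061b00000c0006910006770009db00069f0005c900012b00083700050500054000043900017c000a6b0001190007f2000430000432000274000bfc000b720004c0000af10004b2000623) (Nat.ble 57 i)) (Nat.ble 56 i)) (Bool.rec (motive := fun _ => Nat) (Bool.rec (motive := fun _ => Nat) (0x55f00097800026b00098900038600081700094800003d0000bf0001ee0004e2000878000a0300055d000523000123000bbc0008ea0006b40000a900002a00037f0000b100040f00034f0003cd0000f40004a300022a0004b800054a0005ac0000d10000000002770004080002970002f8000a250009f70008930003c100077f0000a60005fe0004b00004c800024300054d0002f7000871000a0d00042400076f0000d900047a0001370000f00004940003bb00021d000171000aea) (0x2ae0004a90000cd000428000b910000950008ef0007270000f900026900083e0008ae0005d90008fc000b3900027300048b00032500052d0008030000080005bc00000000003300040e0006760005c700018900047f00048600048300013d0000000006ea000a48000b960000000000390009aa0006cc00062400006a00084f0004e1000b7a000a860000fb0009ee0004800002dc0008560000c2000a810004dd0000730000d600036300084c00033f0003fc00041300003400068f000000)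 (Nat.ble 59 i)) (Bool.rec (motive := fun _ => Nat) (0x40005f500041200023900003b00001d00091500051b00000000030d000880000a9a00000000023a000ace0007e60000000009060001c80004da000610000a420005fb0009c8000941000b67000b4c0004d200087e0002e90009580001160000c700072d0006bc0008f8000b8200047800056b00054600052000013000081c00084400090300026a000057000b1700000e0008630006af00086c0008a500046500000000000000088e00032b000b300003570000e700075a0004c2000692) (0x2fc000a83) (Nat.ble 61 i)) (Nat.ble 60 i)) (Nat.ble 58 i)) (Nat.ble 54 i)) (Nat.ble 46 i)) (Nat.ble 31 i))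
noncomputable def CK0InvB (i : Nat) : Nat := (CK0InvB_0 i)
noncomputable def CK0Inv (i : Nat) : Nat := Nat.land (Nat.shiftRight (CK0InvB (Nat.shiftRight i 6)) (Nat.mul 24 (Nat.land i 63))) 16777215
/-- Generators of a level. -/
def CK1G : List (List Nat) := [[2, 4, 16, 1, 3, 11, 1], [0, 2, 13, 8, 4, 8, 0, 2, 0], [0, 12, 0, 3, 3, 10, 0, 2, 0], [3, 11, 14, 3, 0, 12, 2, 0]]
noncomputable def CK1P_0 (i : Nat) : Nat := (Bool.rec (motive := fun _ => Nat) (Bool.rec (motive := fun _ => Nat) (Bool.rec (motive := fun _ => Nat) (Bool.rec (motive := fun _ => Nat) (Bool.rec (motive := fun _ => Nat) (0xee0) (Bool.rec (motive := fun _ => Nat) (0x315) (0x1000000000877) (Nat.ble 2 i)) (Nat.ble 1 i)) (Bool.rec (motive := fun _ => Nat) (0x200000000065d) (Bool.rec (motive := fun _ => Nat) (0x300000000036c) (0x1000c35) (Nat.ble 5 i)) (Nat.ble 4 i)) (Nat.ble 3 i)) (Bool.rec (motive := fun _ => Nat) (Bool.rec (motive := fun _ => Nat) (0x1000001000e8e) (Bool.rec (motive := fun _ => Nat) (0x2000001000766) (0x30000010000b0)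 (Nat.ble 8 i)) (Nat.ble 7 i)) (Bool.rec (motive := fun _ => Nat) (0x200039e) (Bool.rec (motive := fun _ => Nat) (0x1000002000ae5) (0x20000020000cc) (Nat.ble 11 i)) (Nat.ble 10 i)) (Nat.ble 9 i)) (Nat.ble 6 i)) (Bool.rec (motive := fun _ => Nat) (Bool.rec (motive := fun _ => Nat) (Bool.rec (motive := fun _ => Nat) (0x3000002000658) (Bool.rec (motive := fun _ => Nat) (0x3000ad0) (0x10000030000d9) (Nat.ble 14 i)) (Nat.ble 13 i)) (Bool.rec (motive := fun _ => Nat) (0x2000003000475) (Bool.rec (motive := fun _ => Nat) (0x30000030009fc) (0x4000d72) (Nat.ble 17 i)) (Nat.ble 16 i)) (Nat.ble 15 i)) (Bool.rec (motive := fun _ => Nat) (Bool.rec (motive := fun _ => Nat) (0x1000004000f05) (Bool.rec (motive := fun _ => Nat) (0x3000004000a0d) (0x500058a) (Nat.ble 20 i)) (Nat.ble 19 i)) (Bool.rec (motive := fun _ => Nat) (0x100000500045d) (Bool.rec (motive := fun _ => Nat) (0x2000005000f00) (0x3000005000133) (Nat.ble 23 i)) (Nat.ble 22 i)) (Nat.ble 21 i)) (Nat.ble 18 i)) (Nat.ble 12 i)) (Bool.rec (motive :=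 fun _ => Nat) (Bool.rec (motive := fun _ => Nat) (Bool.rec (motive := fun _ => Nat) (Bool.rec (motive := fun _ => Nat) (0x6000e95) (Bool.rec (motive := fun _ => Nat) (0x1000006000ea2) (0x2000006000c95) (Nat.ble 26 i)) (Nat.ble 25 i)) (Bool.rec (motive := fun _ => Nat) (0x3000006000bf9) (Bool.rec (motive := fun _ => Nat) (0x1000007000e7e) (0x2000007000a77) (Nat.ble 29 i)) (Nat.ble 28 i)) (Nat.ble 27 i)) (Bool.rec (motive := fun _ => Nat) (Bool.rec (motive := fun _ => Nat) (0x30000070000d6) (Bool.rec (motive := fun _ => Nat) (0x10000080000fd) (0x3000008000110) (Nat.ble 32 i)) (Nat.ble 31 i)) (Bool.rec (motive := fun _ => Nat) (0x9000547) (Bool.rec (motive := fun _ => Nat) (0x2000009000b10) (0x300000900007e) (Nat.ble 35 i)) (Nat.ble 34 i)) (Nat.ble 33 i)) (Nat.ble 30 i)) (Bool.rec (motive := fun _ => Nat) (Bool.rec (motive := fun _ => Nat) (Bool.rec (motive := fun _ => Nat) (0xa000bbc) (Bool.rec (motive := fun _ => Nat) (0x100000a000447) (0x200000a000940) (Nat.ble 38 i)) (Nat.ble 37 i)) (Bool.rec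 (motive := fun _ => Nat) (0x300000a000304) (Bool.rec (motive := fun _ => Nat) (0x100000b000eaf) (0x200000b0000f0) (Nat.ble 41 i)) (Nat.ble 40 i)) (Nat.ble 39 i)) (Bool.rec (motive := fun _ => Nat) (Bool.rec (motive := fun _ => Nat) (0x300000b000354) (Bool.rec (motive := fun _ => Nat) (0x100000c000b55) (0x300000c00092d) (Nat.ble 44 i)) (Nat.ble 43 i)) (Bool.rec (motive := fun _ => Nat) (0xd000425) (Bool.rec (motive := fun _ => Nat) (0x100000d000cb7) (0x200000d0000e8) (Nat.ble 47 i)) (Nat.ble 46 i)) (Nat.ble 45 i)) (Nat.ble 42 i)) (Nat.ble 36 i)) (Nat.ble 24 i))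
noncomputable def CK1P_1 (i : Nat) : Nat := (Bool.rec (motive := fun _ => Nat) (Bool.rec (motive := fun _ => Nat) (Bool.rec (motive := fun _ => Nat) (Bool.rec (motive := fun _ => Nat) (Bool.rec (motive := fun _ => Nat) (0x300000d0003d8) (Bool.rec (motive := fun _ => Nat) (0xe000c0a) (0x200000e000903) (Nat.ble 50 i)) (Nat.ble 49 i)) (Bool.rec (motive := fun _ => Nat) (0x100000f000f36) (Bool.rec (motive := fun _ => Nat) (0x300000f000db9) (0x10000100007f8) (Nat.ble 53 i)) (Nat.ble 52 i)) (Nat.ble 51 i)) (Bool.rec (motive := fun _ => Nat) (Bool.rec (motive := fun _ => Nat) (0x30000100007a0) (Bool.rec (motive := fun _ => Nat) (0x1100067a) (0x1000011000dcb) (Nat.ble 56 i)) (Nat.ble 55 i)) (Bool.rec (motive := fun _ => Nat) (0x300001100057e) (Bool.rec (motive := fun _ => Nat) (0x12000441) (0x13000946) (Nat.ble 59 i)) (Nat.ble 58 i)) (Nat.ble 57 i)) (Nat.ble 54 i)) (Bool.rec (motive := fun _ => Nat) (Bool.rec (motive := fun _ => Nat) (Bool.rec (motive := fun _ => Nat) (0x1000013000bd4) (Bool.rec (motive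 := fun _ => Nat) (0x1000014000559) (0x2000014000022) (Nat.ble 62 i)) (Nat.ble 61 i)) (Bool.rec (motive := fun _ => Nat) (0x20000150001e8) (Bool.rec (motive := fun _ => Nat) (0x3000015000df1) (0x10000160002f8) (Nat.ble 65 i)) (Nat.ble 64 i)) (Nat.ble 63 i)) (Bool.rec (motive := fun _ => Nat) (Bool.rec (motive := fun _ => Nat) (0x2000016000909) (Bool.rec (motive := fun _ => Nat) (0x1000017000619) (0x3000018000f1a) (Nat.ble 68 i)) (Nat.ble 67 i)) (Bool.rec (motive := fun _ => Nat) (0x1000019000b18) (Bool.rec (motive := fun _ => Nat) (0x2000019000401) (0x30000190009ff) (Nat.ble 71 i)) (Nat.ble 70 i)) (Nat.ble 69 i)) (Nat.ble 66 i)) (Nat.ble 60 i)) (Bool.rec (motive := fun _ => Nat) (Bool.rec (motive := fun _ => Nat) (Bool.rec (motive := fun _ => Nat) (Bool.rec (motive := fun _ => Nat) (0x1c0007a7) (Bool.rec (motive := fun _ => Nat) (0x200001c0006f0) (0x100001d000118) (Nat.ble 74 i)) (Nat.ble 73 i)) (Bool.rec (motive := fun _ => Nat) (0x300001d000042) (Bool.rec (motive := fun _ => Nat) (0x1f000607)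 (0x20000da8) (Nat.ble 77 i)) (Nat.ble 76 i)) (Nat.ble 75 i)) (Bool.rec (motive := fun _ => Nat) (Bool.rec (motive := fun _ => Nat) (0x1000022000c4a) (Bool.rec (motive := fun _ => Nat) (0x300002400041e) (0x25000d0d) (Nat.ble 80 i)) (Nat.ble 79 i)) (Bool.rec (motive := fun _ => Nat) (0x3000027000852) (Bool.rec (motive := fun _ => Nat) (0x2000028000d36) (0x3000029000ba6) (Nat.ble 83 i)) (Nat.ble 82 i)) (Nat.ble 81 i)) (Nat.ble 78 i)) (Bool.rec (motive := fun _ => Nat) (Bool.rec (motive := fun _ => Nat) (Bool.rec (motive := fun _ => Nat) (0x100002a000099) (Bool.rec (motive := fun _ => Nat) (0x300002a000d86) (0x300002e000daa) (Nat.ble 86 i)) (Nat.ble 85 i)) (Bool.rec (motive := fun _ => Nat) (0x100002f000300) (Bool.rec (motive := fun _ => Nat) (0x30000300007d7) (0x3000031000172) (Nat.ble 89 i)) (Nat.ble 88 i)) (Nat.ble 87 i)) (Bool.rec (motive := fun _ => Nat) (Bool.rec (motive := fun _ => Nat) (0x200003d000975) (Bool.rec (motive := fun _ => Nat) (0x100003e000008) (0x200003e000508) (Nat.ble 92 i))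 (Nat.ble 91 i)) (Bool.rec (motive := fun _ => Nat) (0x450005c5) (Bool.rec (motive := fun _ => Nat) (0x30000470002fb) (0x200004e000e00) (Nat.ble 95 i)) (Nat.ble 94 i)) (Nat.ble 93 i)) (Nat.ble 90 i)) (Nat.ble 84 i)) (Nat.ble 72 i))
noncomputable def CK1P (i : Nat) : Nat := (Bool.rec (motive := fun _ => Nat) (CK1P_0 i) (CK1P_1 i) (Nat.ble 48 i))
noncomputable def CK1InvB_0 (i : Nat) : Nat := (Bool.rec (motive := fun _ => Nat) (Bool.rec (motive := fun _ => Nat) (Bool.rec (motive := fun _ => Nat) (Bool.rec (motive := fun _ => Nat) (Bool.rec (motive := fun _ => Nat) (0x3e00000000000000000000000000000000000000000000000000000000000000000000000000000000000000000000000000000000000000000000000000000000000000000000000000000000005b000000000000000000000000000000000000000000000000) (Bool.rec (motive := fun _ => Nat) (0x2300000000000000000000000000000000000000000000000000000000000000000000000000000000000000000000000000000000000000000000000000000000000000000000000000000000000000000000000000000000000000000000000000000000000000000000000000000000000000000000000000000000000000000000000000000000000000000000000000000000000000000000000000000000000000000000000000000000000000000000004b000000000000)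 (0x8000000000000000000000000000000000000000000000000000000000000000000000000000000000000000000000000000000000000000000000000000000000000000054000000000000000000000000000000000000000000000000000000000000000000000000000000000000000000000000000000000000000000000000000000000000000000000000000000) (Nat.ble 2 i)) (Nat.ble 1 i)) (Bool.rec (motive := fun _ => Nat) (Bool.rec (motive := fun _ => Nat) (0x1f00000000000000000000000000000000000000000000000000000000000000000000000000002900000000000000000000000000000000000000000000002f00000000000000000000000000000000000000000000000000000000000000000000000000000000000000000e00000000000000001e00000000000000000000000000000000000000000000000000000000000b000000000000000000000000000000000000000000000000000000000000000000000000) (0x1700000000000000000000000000000000000000000000000000000000000000000000000000000000000000000000000000000000000000000000000000000000000000000000000000000000000000004a000000000000000000000000000000000000000000000020000000000000000000000000000000000000000000000000000000000000000000000000000000000000000000000000)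 (Nat.ble 4 i)) (Bool.rec (motive := fun _ => Nat) (0x59000000000000000000000000000000000000000000000000000000000000000000000000000000000000000000000000000000000000000000000000000000000000000000000000000000000000000000000000000000000000000000000000000000000000000000000000000000000000000000000000000000000000000000000000000000000000000000000000000000000000) (0) (Nat.ble 6 i)) (Nat.ble 5 i)) (Nat.ble 3 i)) (Bool.rec (motive := fun _ => Nat) (Bool.rec (motive := fun _ => Nat) (Bool.rec (motive := fun _ => Nat) (0x3f000000000000000000000000000000000000000000000000000000000000000000000000000000000000000000000000000000000000000000000000000000000000000000000000000000000000000000000000000000000000000000000000000000000000000000000000000000000000000000000000) (0) (Nat.ble 8 i)) (Bool.rec (motive := fun _ => Nat) (0) (0) (Nat.ble 10 i)) (Nat.ble 9 i)) (Bool.rec (motive := fun _ => Nat) (Bool.rec (motive := fun _ => Nat) (0x5e000000000000000041000000000000000000000000000000000000000000000000000000000000000000000000000000000000000000000000000000000000000000000000000000000000000000000000000000000000000000000000000000000000000000000000000000000000000000000000000000000000000000000000000000000000000000000000000000000000000000000000000000000000000000000000000000000000000000000000)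 (0x1000000000000000000000000000000000000000000000000000000000000000000000000000000000000000000000000000027000000000000000000000057) (Nat.ble 12 i)) (Bool.rec (motive := fun _ => Nat) (0x400000000000000000000000000000000000000000000000000000000000000000000000000000000000000000000000000000000000000000000000000000000000000000000002a000000000000000000000000000000000000000000000000000000000000000000000000000000000000000000000000000000000000000000000000) (0x9000000000000000000000000000000000000000000000000000000000000000000000000000000000000000000000000000000000000000000000000000000000000000000000000000000000000000000000000000000000000) (Nat.ble 14 i)) (Nat.ble 13 i)) (Nat.ble 11 i)) (Nat.ble 7 i)) (Bool.rec (motive := fun _ => Nat) (Bool.rec (motive := fun _ => Nat) (Bool.rec (motive := fun _ => Nat) (Bool.rec (motive := fun _ => Nat) (0x30000000000000000000000000000000000000000000000000000000000000000000000000000000000000000000000000000000000000000000000000000000000000000000000000) (0x2d00000000000000000000000000000000000000004f000000000000000000000000000000000000000000000000000000000000000000000000000000000000000000000000000000000000000000000000000000000000000000000000000000000000000000000000000046000000)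 (Nat.ble 16 i)) (Bool.rec (motive := fun _ => Nat) (0xf00000000000000000000000000000000000000000000000000000000000000000000000000000000000000000000000000000000000000000000000000000000000000000000001500000000000000000000000000000000000000000000000000000000000000000000000000000000000000000000000000000000000000000000000000000000002500000000000000000000000000000000003a000000) (0) (Nat.ble 18 i)) (Nat.ble 17 i)) (Bool.rec (motive := fun _ => Nat) (Bool.rec (motive := fun _ => Nat) (0) (0x5c000000000000000000000000000000000000000000000000) (Nat.ble 20 i)) (Bool.rec (motive := fun _ => Nat) (0x3900000000000000000000000000000000000000000000000000000000000000000000000000000000000000000000000000000000000000000000000000000000000000000000000000000000000000000000000000000000000000000000000000000000000000000000000000003d000000000000000000000000000000000000000000000000000000000000000000000000000000000000000000000000000000000021000000000000000000000000000000000000000000) (0x14000000000000000000000000000000000000000000000000000000000000)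 (Nat.ble 22 i)) (Nat.ble 21 i)) (Nat.ble 19 i)) (Bool.rec (motive := fun _ => Nat) (Bool.rec (motive := fun _ => Nat) (Bool.rec (motive := fun _ => Nat) (0x5d000000000000000000000000000000) (0x4300000000000000000000000000000000000000000000000000000000000000000000000000000000000000000000000000000000004c000000000000000000000000000000000000000000) (Nat.ble 24 i)) (Bool.rec (motive := fun _ => Nat) (0x3700000000000000000000000000000000000000000000000000000000000000000000000000000000000000000000000000000000000000000000000000000000000000000000000000000000000000000000000000000300000000000000000000000000000c000000000000000000000000000000000000000000000000000000000000000000000000000000000000000000000000000000000000000000000000000000000000000000000000) (0) (Nat.ble 26 i)) (Nat.ble 25 i)) (Bool.rec (motive := fun _ => Nat) (Bool.rec (motive := fun _ => Nat) (0x49000000000000000000000000000000000000000000000000000000000000000000000000000000000000000000000000000000000000000000000000000000000000000000000000000000000000000000000000000000000000000000000000000000000000000000000000000000000000000000000000000000000000000000000000000000000000000000000000)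 (0) (Nat.ble 28 i)) (Bool.rec (motive := fun _ => Nat) (0x7000000000000000000000000000000000000000000000000000000000000000000000000000000000000000000000000000000000000000000000000000000000000000000000000000000000000000000000000000000000000000000000000000000000000000000000000000000000000) (0x48000000000000000000000000000000000000000036000000000000000000000000000000000000000000000000000000000000000000000000000000000000000000000000000000000000000000000000000000000000000000000000000000000000000000000000000000000000000000000000) (Nat.ble 30 i)) (Nat.ble 29 i)) (Nat.ble 27 i)) (Nat.ble 23 i)) (Nat.ble 15 i)) (Bool.rec (motive := fun _ => Nat) (Bool.rec (motive := fun _ => Nat) (Bool.rec (motive := fun _ => Nat) (Bool.rec (motive := fun _ => Nat) (0x35000000000000000000000000000000000000000000000000000000000000000000000000000000000000000000000000000000000000000000000000000000000000000000000000000000000000000000000000000000000000000000000000000058000000000000000000000000000000000000000000000000000000000000000000000000000000000000000000000000000000000000000000000000000000000000000000)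 (Bool.rec (motive := fun _ => Nat) (0) (0x2000000000000000000000000000000000000000000000000000000000000000000000000000000000000000000000000000000000000000000000000000000000000000000000000000000000000000000000000000000000000000000000000000000000000000000000000000051000000000000000000000000000000000000000000000000000000000000000000000000000000000000000000000000000000000000) (Nat.ble 33 i)) (Nat.ble 32 i)) (Bool.rec (motive := fun _ => Nat) (Bool.rec (motive := fun _ => Nat) (0) (0) (Nat.ble 35 i)) (Bool.rec (motive := fun _ => Nat) (0x2c000000000000000000000000000000000000000000000000000000000000000000000000000000000000000000000000000000000000000000000000000000000000000000000000000000000000000000000000000000000000000000000000000000000000000000000042000000000000000000000000000000000032000000000000000000) (0x5a00000000000000000000000000000000000000000000000000000000000000000000000000000000000000000000000000000000000000000000000000000000000000000000000000000000000000000000000000000000000000000000000000000000000000000000000000000000000000000000000000000000000000000000000000000000000000003b000000000000000000000000000000000026)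 (Nat.ble 37 i)) (Nat.ble 36 i)) (Nat.ble 34 i)) (Bool.rec (motive := fun _ => Nat) (Bool.rec (motive := fun _ => Nat) (Bool.rec (motive := fun _ => Nat) (0) (0x47000000000000000010000000000000000000000000000000000000000000000000000000000000000000000000000000000000000000000000000000000000000000000000000000000000000000000000000000000000000000000000000000000000000000000000000000000000000000000000000000000000000000000000000000000000000000000000000000000000000000000000000000000000000000000000000000000000000000000000000000000000000000000000) (Nat.ble 39 i)) (Bool.rec (motive := fun _ => Nat) (0x13000000000000000000000000000000000000000000000000000000000000000000000000000000) (0x1d000000000000000000000000000000000000000000000000000000000000000000000000000000000000000000000000000000000000000000000000000000000000000000000000000000000000000000000000000000000000000000000000000000000000000000000000000000000000000000000000000000000000000000000000000000000000000000000000000000000000000000000000000000000000000000)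 (Nat.ble 41 i)) (Nat.ble 40 i)) (Bool.rec (motive := fun _ => Nat) (Bool.rec (motive := fun _ => Nat) (0) (0xa00000000000000000000000000000000000000000000000000000000000000000000000000000000000000000000000000000000000000000000000000000d000000000000000000000000000000000000000000000000000000000000000000000000000000000000000000000000) (Nat.ble 43 i)) (Bool.rec (motive := fun _ => Nat) (0x45000000000000000000000000000000000000000000000022000000000000000000000000000000000000000000000000000000000000000000000000000000000000000000000000) (0x2b000000000000000000000000000000000000000000000000000000000000000000000000000000000000000000000000000000000000000000000000000000) (Nat.ble 45 i)) (Nat.ble 44 i)) (Nat.ble 42 i)) (Nat.ble 38 i)) (Bool.rec (motive := fun _ => Nat) (Bool.rec (motive := fun _ => Nat) (Bool.rec (motive := fun _ => Nat) (Bool.rec (motive := fun _ => Nat) (0x24000000000000000000000000000000000000000000000000000000000000000000000000000000000000000000000000000000000000000000000000000000000053000000000000000000000000000000000000000000000000000000000000000000000000000000000000000000000000000000000000000000000000000000000000000000000000000000000000000000000000000000000000000000000000000000000000000000000000000000000000)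 (0x1b00000000000000000000000000000000000000000000000000000000000000000000000000000000000000000000000000000000000000000000000000000000000000000000000000000000000000000000000000000000000000000000000000000000000000000000000000003c000000000000000000000000000000000000000000000000000000000000000000000000000000000000000000000000000000000000000000000000) (Nat.ble 47 i)) (Bool.rec (motive := fun _ => Nat) (0x5000000000000000000000000000000000000000000000000000000000000000000000000000000000000000000000000000000000000000000000000000000000000000000000000000000000000000000000000000000000000000000000000000000000000000000000000000000000000000000000000000000000000000031000000000000000000000000000000000000000000000000000000000000) (0x4e000000000000000000000000000000000000000000000000000000000000) (Nat.ble 49 i)) (Nat.ble 48 i)) (Bool.rec (motive := fun _ => Nat) (Bool.rec (motive := fun _ => Nat) (0x2e00000000000000000000000000000000000000000000000000000000000000000000000000000000000000000000000000000000000000000000000000000000000000000000000000000000000000000000000000000000000000000000000000000000001a000000000000000000000000000000000000000000000000000000000000000000000000000000000000000000000000000000000000000000000000000000)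 (0) (Nat.ble 51 i)) (Bool.rec (motive := fun _ => Nat) (0x52000000000000000000000000000000000000000000000000000000000000000000000000000000000000000000000000000000000000000000000000000000000000000000000000000000000000000000000000000000000000000000000000000000000000000000000000000000000000000000000000000050000000000000000000000000000000000000000000000000000000000000000000000000000000) (0x11000000000000000000000000000000000000000000000000000000000000000000000000000000000000000000000000000000000000000000000000000000000000000000000000000000000000000000000000000000000000000000000000000000000000000000000000000000000000000000000000000000000000000000000000000000000000000000000000000000000000) (Nat.ble 53 i)) (Nat.ble 52 i)) (Nat.ble 50 i)) (Bool.rec (motive := fun _ => Nat) (Bool.rec (motive := fun _ => Nat) (Bool.rec (motive := fun _ => Nat) (0x3400000000000000000000000000000000000000000000000000000000000000000000000000000000000000005600000000004d000000000000000000000000000000000000000000000000000000000000000000000000000000000000000000000000000000000000000000000000000000000000000000000000000000000000000000000000000000000000000000000000000000000055000000000000000000000000000000000000)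 (0x40000000000000000000000000000000000000000000000000000000000000000000000000000000000000000000000000000000000000000000000000000000000000000000000000000000000000000000000000000000000000000000000000000000000000000000000000000000000038000000000000000000000000000000000000000000000000000000000000000000) (Nat.ble 55 i)) (Bool.rec (motive := fun _ => Nat) (0x5f) (0x1c000000000000000000000000000000000000000000000000000000000000000000000000000000000000000000000000000000000000000000000000000000000000000000000000000000000000000000000000000000000000000000000000000000000000000000000000000000000000000000000000000000000000000000000000000000000000000000000000000000000000000000000000000000000000000000000000000000000000000000000000000000000000) (Nat.ble 57 i)) (Nat.ble 56 i)) (Bool.rec (motive := fun _ => Nat) (Bool.rec (motive := fun _ => Nat) (0x28000000000000000000000000000000000000000000000000000000000000000000000000000019000000000000000000000000000000000000000000000000000000000000000000000000000018000000000000000000000000000000000000000006000000000000000000000000000000000000000000000000000000000000000000000000000000000000)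 (0) (Nat.ble 59 i)) (Bool.rec (motive := fun _ => Nat) (0x33000000000000000000000000000000000000000000000000000000000000000000000000000000000000000000000000000000000000000000000000000000000000000000000000000000000000000000000044000000000000000000000000000000000000000000000000000000000000000000000000000000000000000000000000000000000000000000000000000012000000000000000000000000000016) (0) (Nat.ble 61 i)) (Nat.ble 60 i)) (Nat.ble 58 i)) (Nat.ble 54 i)) (Nat.ble 46 i)) (Nat.ble 31 i))
noncomputable def CK1InvB (i : Nat) : Nat := (CK1InvB_0 i)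
noncomputable def CK1Inv (i : Nat) : Nat := Nat.land (Nat.shiftRight (CK1InvB (Nat.shiftRight i 6)) (Nat.mul 24 (Nat.land i 63))) 16777215
/-- Generators of a level. -/
def C20G : List (List Nat) := [[0, 2, 0, 3, 1], [2, 1, 3], [3, 1, 3, 3, 1, 3], [1, 7, 12, 4, 8, 12, 3, 1]]
noncomputable def C20P_0 (i : Nat) : Nat := (Bool.rec (motive := fun _ => Nat) (Bool.rec (motive := fun _ => Nat) (Bool.rec (motive := fun _ => Nat) (Bool.rec (motive := fun _ => Nat) (Bool.rec (motive := fun _ => Nat) (0xdc8) (Bool.rec (motive := fun _ => Nat) (0xbb3) (0x1000000000121) (Nat.ble 2 i)) (Nat.ble 1 i)) (Bool.rec (motive := fun _ => Nat) (Bool.rec (motive := fun _ => Nat) (0x2000000000968) (0x30000000003ec) (Nat.ble 4 i)) (Bool.rec (motive := fun _ => Nat) (0x10008d4) (0x1000001000811) (Nat.ble 6 i)) (Nat.ble 5 i)) (Nat.ble 3 i)) (Bool.rec (motive := fun _ => Nat) (Bool.rec (motive := fun _ => Nat) (Bool.rec (motive := fun _ => Nat) (0x2000001000c08) (0x300000100043e) (Nat.ble 8 i)) (Bool.rec (motive := fun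 _ => Nat) (0x2000dfd) (0x1000002000687) (Nat.ble 10 i)) (Nat.ble 9 i)) (Bool.rec (motive := fun _ => Nat) (Bool.rec (motive := fun _ => Nat) (0x2000002000ec1) (0x3000002000a43) (Nat.ble 12 i)) (Bool.rec (motive := fun _ => Nat) (0x3000ca3) (0x1000003000b05) (Nat.ble 14 i)) (Nat.ble 13 i)) (Nat.ble 11 i)) (Nat.ble 7 i)) (Bool.rec (motive := fun _ => Nat) (Bool.rec (motive := fun _ => Nat) (Bool.rec (motive := fun _ => Nat) (Bool.rec (motive := fun _ => Nat) (0x2000003000631) (0x3000003000647) (Nat.ble 16 i)) (Bool.rec (motive := fun _ => Nat) (0x4000e86) (0x1000004000a0a) (Nat.ble 18 i)) (Nat.ble 17 i)) (Bool.rec (motive := fun _ => Nat) (Bool.rec (motive := fun _ => Nat) (0x20000040006d1) (0x3000004000c70) (Nat.ble 20 i)) (Bool.rec (motive := fun _ => Nat) (0x50008cf) (0x1000005000d03) (Nat.ble 22 i)) (Nat.ble 21 i)) (Nat.ble 19 i)) (Bool.rec (motive := fun _ => Nat) (Bool.rec (motive := fun _ => Nat) (Bool.rec (motive := fun _ => Nat) (0x20000050005be) (0x3000005000390) (Nat.ble 24 i)) (Bool.rec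 (motive := fun _ => Nat) (0x6000a23) (0x1000006000693) (Nat.ble 26 i)) (Nat.ble 25 i)) (Bool.rec (motive := fun _ => Nat) (Bool.rec (motive := fun _ => Nat) (0x2000006000576) (0x300000600091e) (Nat.ble 28 i)) (Bool.rec (motive := fun _ => Nat) (0x700086e) (0x1000007000a61) (Nat.ble 30 i)) (Nat.ble 29 i)) (Nat.ble 27 i)) (Nat.ble 23 i)) (Nat.ble 15 i)) (Bool.rec (motive := fun _ => Nat) (Bool.rec (motive := fun _ => Nat) (Bool.rec (motive := fun _ => Nat) (Bool.rec (motive := fun _ => Nat) (Bool.rec (motive := fun _ => Nat) (0x2000007000a5c) (0x3000007000a4b) (Nat.ble 32 i)) (Bool.rec (motive := fun _ => Nat) (0x1000008000404) (0x200000800063e) (Nat.ble 34 i)) (Nat.ble 33 i)) (Bool.rec (motive := fun _ => Nat) (Bool.rec (motive := fun _ => Nat) (0x30000080001e3) (0x1000009000eef) (Nat.ble 36 i)) (Bool.rec (motive := fun _ => Nat) (0x2000009000642) (0x30000090008fb) (Nat.ble 38 i)) (Nat.ble 37 i)) (Nat.ble 35 i)) (Bool.rec (motive := fun _ => Nat) (Bool.rec (motive := fun _ => Nat) (Bool.rec (motive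 := fun _ => Nat) (0x100000a000d66) (0x200000a0005bf) (Nat.ble 40 i)) (Bool.rec (motive := fun _ => Nat) (0xb00079c) (0x100000b000b21) (Nat.ble 42 i)) (Nat.ble 41 i)) (Bool.rec (motive := fun _ => Nat) (Bool.rec (motive := fun _ => Nat) (0x200000b000dd1) (0x300000b000df3) (Nat.ble 44 i)) (Bool.rec (motive := fun _ => Nat) (0xc00060d) (0x100000c00081e) (Nat.ble 46 i)) (Nat.ble 45 i)) (Nat.ble 43 i)) (Nat.ble 39 i)) (Bool.rec (motive := fun _ => Nat) (Bool.rec (motive := fun _ => Nat) (Bool.rec (motive := fun _ => Nat) (Bool.rec (motive := fun _ => Nat) (0x200000c000644) (0x300000c000da7) (Nat.ble 48 i)) (Bool.rec (motive := fun _ => Nat) (0x100000d000eea) (0x200000d00075e) (Nat.ble 50 i)) (Nat.ble 49 i)) (Bool.rec (motive := fun _ => Nat) (Bool.rec (motive := fun _ => Nat) (0x300000d000df1) (0xe000d9a) (Nat.ble 52 i)) (Bool.rec (motive := fun _ => Nat) (0x200000e0008b0) (0x300000e00006e) (Nat.ble 54 i)) (Nat.ble 53 i)) (Nat.ble 51 i)) (Bool.rec (motive := fun _ => Nat) (Bool.rec (motive := fun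 _ => Nat) (Bool.rec (motive := fun _ => Nat) (0xf0006f8) (0x100000f0000d5) (Nat.ble 56 i)) (Bool.rec (motive := fun _ => Nat) (0x300000f000e02) (0x100000f8) (Nat.ble 58 i)) (Nat.ble 57 i)) (Bool.rec (motive := fun _ => Nat) (Bool.rec (motive := fun _ => Nat) (0x100001000073f) (0x20000100002e6) (Nat.ble 60 i)) (Bool.rec (motive := fun _ => Nat) (0x3000010000b95) (0x110003f3) (Nat.ble 62 i)) (Nat.ble 61 i)) (Nat.ble 59 i)) (Nat.ble 55 i)) (Nat.ble 47 i)) (Nat.ble 31 i))
noncomputable def C20P_1 (i : Nat) : Nat := (Bool.rec (motive := fun _ => Nat) (Bool.rec (motive := fun _ => Nat) (Bool.rec (motive := fun _ => Nat) (Bool.rec (motive := fun _ => Nat) (Bool.rec (motive := fun _ => Nat) (0x100001100077b) (Bool.rec (motive := fun _ => Nat) (0x120008ba) (0x1000012000459) (Nat.ble 65 i)) (Nat.ble 64 i)) (Bool.rec (motive := fun _ => Nat) (Bool.rec (motive := fun _ => Nat) (0x20000120003b7) (0x3000012000ba7) (Nat.ble 67 i)) (Bool.rec (motive := fun _ => Nat) (0x13000a07) (0x1000013000326) (Nat.ble 69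 i)) (Nat.ble 68 i)) (Nat.ble 66 i)) (Bool.rec (motive := fun _ => Nat) (Bool.rec (motive := fun _ => Nat) (Bool.rec (motive := fun _ => Nat) (0x200001300039b) (0x14000127) (Nat.ble 71 i)) (Bool.rec (motive := fun _ => Nat) (0x1000014000995) (0x2000014000856) (Nat.ble 73 i)) (Nat.ble 72 i)) (Bool.rec (motive := fun _ => Nat) (Bool.rec (motive := fun _ => Nat) (0x15000135) (0x10000150007da) (Nat.ble 75 i)) (Bool.rec (motive := fun _ => Nat) (0x2000015000c07) (0x30000150008db) (Nat.ble 77 i)) (Nat.ble 76 i)) (Nat.ble 74 i)) (Nat.ble 70 i)) (Bool.rec (motive := fun _ => Nat) (Bool.rec (motive := fun _ => Nat) (Bool.rec (motive := fun _ => Nat) (Bool.rec (motive := fun _ => Nat) (0x16000e91) (0x2000016000bb2) (Nat.ble 79 i)) (Bool.rec (motive := fun _ => Nat) (0x3000016000d24) (0x1000017000e18) (Nat.ble 81 i)) (Nat.ble 80 i)) (Bool.rec (motive := fun _ => Nat) (Bool.rec (motive := fun _ => Nat) (0x2000017000865) (0x300001700098f) (Nat.ble 83 i)) (Bool.rec (motive := fun _ => Nat) (0x10000180006d0)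 (0x2000018000a76) (Nat.ble 85 i)) (Nat.ble 84 i)) (Nat.ble 82 i)) (Bool.rec (motive := fun _ => Nat) (Bool.rec (motive := fun _ => Nat) (Bool.rec (motive := fun _ => Nat) (0x30000180005a4) (0x2000019000ae6) (Nat.ble 87 i)) (Bool.rec (motive := fun _ => Nat) (0x3000019000ab8) (0x100001a000812) (Nat.ble 89 i)) (Nat.ble 88 i)) (Bool.rec (motive := fun _ => Nat) (Bool.rec (motive := fun _ => Nat) (0x200001a000e89) (0x300001a000a7c) (Nat.ble 91 i)) (Bool.rec (motive := fun _ => Nat) (0x1b000d8b) (0x100001b0002d1) (Nat.ble 93 i)) (Nat.ble 92 i)) (Nat.ble 90 i)) (Nat.ble 86 i)) (Nat.ble 78 i)) (Bool.rec (motive := fun _ => Nat) (Bool.rec (motive := fun _ => Nat) (Bool.rec (motive := fun _ => Nat) (Bool.rec (motive := fun _ => Nat) (Bool.rec (motive := fun _ => Nat) (0x200001b000573) (0x300001b0006e3) (Nat.ble 95 i)) (Bool.rec (motive := fun _ => Nat) (0x1c00017c) (0x100001c000951) (Nat.ble 97 i)) (Nat.ble 96 i)) (Bool.rec (motive := fun _ => Nat) (Bool.rec (motive := fun _ => Nat) (0x200001c000cb6)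 (0x300001c000db4) (Nat.ble 99 i)) (Bool.rec (motive := fun _ => Nat) (0x100001d0009e2) (0x300001d000761) (Nat.ble 101 i)) (Nat.ble 100 i)) (Nat.ble 98 i)) (Bool.rec (motive := fun _ => Nat) (Bool.rec (motive := fun _ => Nat) (Bool.rec (motive := fun _ => Nat) (0x200001e00073b) (0x300001e00065f) (Nat.ble 103 i)) (Bool.rec (motive := fun _ => Nat) (0x1f000148) (0x100001f000910) (Nat.ble 105 i)) (Nat.ble 104 i)) (Bool.rec (motive := fun _ => Nat) (Bool.rec (motive := fun _ => Nat) (0x300001f000445) (0x20000855) (Nat.ble 107 i)) (Bool.rec (motive := fun _ => Nat) (0x100002000048a) (0x20000200001d4) (Nat.ble 109 i)) (Nat.ble 108 i)) (Nat.ble 106 i)) (Nat.ble 102 i)) (Bool.rec (motive := fun _ => Nat) (Bool.rec (motive := fun _ => Nat) (Bool.rec (motive := fun _ => Nat) (Bool.rec (motive := fun _ => Nat) (0x3000020000927) (0x210002d3) (Nat.ble 111 i)) (Bool.rec (motive := fun _ => Nat) (0x1000021000128) (0x2000021000803) (Nat.ble 113 i)) (Nat.ble 112 i)) (Bool.rec (motive := fun _ => Nat) (Bool.rec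 (motive := fun _ => Nat) (0x3000021000714) (0x2200083e) (Nat.ble 115 i)) (Bool.rec (motive := fun _ => Nat) (0x100002200068e) (0x200002200085e) (Nat.ble 117 i)) (Nat.ble 116 i)) (Nat.ble 114 i)) (Bool.rec (motive := fun _ => Nat) (Bool.rec (motive := fun _ => Nat) (Bool.rec (motive := fun _ => Nat) (0x3000022000274) (0x2300007c) (Nat.ble 119 i)) (Bool.rec (motive := fun _ => Nat) (0x1000023000f25) (0x2000023000777) (Nat.ble 121 i)) (Nat.ble 120 i)) (Bool.rec (motive := fun _ => Nat) (Bool.rec (motive := fun _ => Nat) (0x1000024000f0c) (0x2000024000d8f) (Nat.ble 123 i)) (Bool.rec (motive := fun _ => Nat) (0x3000024000dd3) (0x25000ae3) (Nat.ble 125 i)) (Nat.ble 124 i)) (Nat.ble 122 i)) (Nat.ble 118 i)) (Nat.ble 110 i)) (Nat.ble 94 i))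
noncomputable def C20P_2 (i : Nat) : Nat := (Bool.rec (motive := fun _ => Nat) (Bool.rec (motive := fun _ => Nat) (Bool.rec (motive := fun _ => Nat) (Bool.rec (motive := fun _ => Nat) (Bool.rec (motive := fun _ => Nat) (0x10000250008ac) (Bool.rec (motive := fun _ => Nat) (0x2000025000e22) (0x30000250003d9) (Nat.ble 128 i)) (Nat.ble 127 i)) (Bool.rec (motive := fun _ => Nat) (Bool.rec (motive := fun _ => Nat) (0x10000260006eb) (0x2000026000904) (Nat.ble 130 i)) (Bool.rec (motive := fun _ => Nat) (0x3000026000146) (0x3000027000d1d) (Nat.ble 132 i)) (Nat.ble 131 i)) (Nat.ble 129 i)) (Bool.rec (motive := fun _ => Nat) (Bool.rec (motive := fun _ => Nat) (Bool.rec (motive := fun _ => Nat) (0x28000e44) (0x1000028000e19) (Nat.ble 134 i)) (Bool.rec (motive := fun _ => Nat) (0x2000028000503) (0x3000028000191) (Nat.ble 136 i)) (Nat.ble 135 i)) (Bool.rec (motive := fun _ => Nat) (Bool.rec (motive := fun _ => Nat) (0x1000029000b0a) (0x3000029000725) (Nat.ble 138 i)) (Bool.rec (motive := fun _ => Nat) (0x2a000108)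 (0x200002a0009ed) (Nat.ble 140 i)) (Nat.ble 139 i)) (Nat.ble 137 i)) (Nat.ble 133 i)) (Bool.rec (motive := fun _ => Nat) (Bool.rec (motive := fun _ => Nat) (Bool.rec (motive := fun _ => Nat) (Bool.rec (motive := fun _ => Nat) (0x300002a0007cd) (0x2b000392) (Nat.ble 142 i)) (Bool.rec (motive := fun _ => Nat) (0x100002b000534) (0x300002b00035f) (Nat.ble 144 i)) (Nat.ble 143 i)) (Bool.rec (motive := fun _ => Nat) (Bool.rec (motive := fun _ => Nat) (0x2c000780) (0x100002c000544) (Nat.ble 146 i)) (Bool.rec (motive := fun _ => Nat) (0x200002c0007f6) (0x300002c000dc5) (Nat.ble 148 i)) (Nat.ble 147 i)) (Nat.ble 145 i)) (Bool.rec (motive := fun _ => Nat) (Bool.rec (motive := fun _ => Nat) (Bool.rec (motive := fun _ => Nat) (0x100002d0009a2) (0x200002d0007b9) (Nat.ble 150 i)) (Bool.rec (motive := fun _ => Nat) (0x2e000562) (0x100002e0009c7) (Nat.ble 152 i)) (Nat.ble 151 i)) (Bool.rec (motive := fun _ => Nat) (Bool.rec (motive := fun _ => Nat) (0x200002e000814) (0x300002e000c13) (Nat.ble 154 i)) (Bool.rec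 (motive := fun _ => Nat) (0x2f00019b) (0x200002f0005e4) (Nat.ble 156 i)) (Nat.ble 155 i)) (Nat.ble 153 i)) (Nat.ble 149 i)) (Nat.ble 141 i)) (Bool.rec (motive := fun _ => Nat) (Bool.rec (motive := fun _ => Nat) (Bool.rec (motive := fun _ => Nat) (Bool.rec (motive := fun _ => Nat) (Bool.rec (motive := fun _ => Nat) (0x300002f00040d) (0x30000ab2) (Nat.ble 158 i)) (Bool.rec (motive := fun _ => Nat) (0x1000030000ac9) (0x2000030000f29) (Nat.ble 160 i)) (Nat.ble 159 i)) (Bool.rec (motive := fun _ => Nat) (Bool.rec (motive := fun _ => Nat) (0x31000edd) (0x300003200032a) (Nat.ble 162 i)) (Bool.rec (motive := fun _ => Nat) (0x100003300003c) (0x20000330006b6) (Nat.ble 164 i)) (Nat.ble 163 i)) (Nat.ble 161 i)) (Bool.rec (motive := fun _ => Nat) (Bool.rec (motive := fun _ => Nat) (Bool.rec (motive := fun _ => Nat) (0x30000330007d6) (0x100003400016e) (Nat.ble 166 i)) (Bool.rec (motive := fun _ => Nat) (0x3000034000181) (0x100003500091a) (Nat.ble 168 i)) (Nat.ble 167 i)) (Bool.rec (motive := fun _ => Nat)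 (Bool.rec (motive := fun _ => Nat) (0x2000035000258) (0x3000035000ac2) (Nat.ble 170 i)) (Bool.rec (motive := fun _ => Nat) (0x2000036000054) (0x3000036000b53) (Nat.ble 172 i)) (Nat.ble 171 i)) (Nat.ble 169 i)) (Nat.ble 165 i)) (Bool.rec (motive := fun _ => Nat) (Bool.rec (motive := fun _ => Nat) (Bool.rec (motive := fun _ => Nat) (Bool.rec (motive := fun _ => Nat) (0x1000037000641) (0x20000370009e3) (Nat.ble 174 i)) (Bool.rec (motive := fun _ => Nat) (0x300003700091d) (0x2000038000d5e) (Nat.ble 176 i)) (Nat.ble 175 i)) (Bool.rec (motive := fun _ => Nat) (Bool.rec (motive := fun _ => Nat) (0x3000038000251) (0x3900059e) (Nat.ble 178 i)) (Bool.rec (motive := fun _ => Nat) (0x1000039000184) (0x20000390001dc) (Nat.ble 180 i)) (Nat.ble 179 i)) (Nat.ble 177 i)) (Bool.rec (motive := fun _ => Nat) (Bool.rec (motive := fun _ => Nat) (Bool.rec (motive := fun _ => Nat) (0x300003900054e) (0x3a0003e6) (Nat.ble 182 i)) (Bool.rec (motive := fun _ => Nat) (0x100003a0009a0) (0x200003a00088a) (Nat.ble 184 i))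 (Nat.ble 183 i)) (Bool.rec (motive := fun _ => Nat) (Bool.rec (motive := fun _ => Nat) (0x3b0003c9) (0x200003b00058d) (Nat.ble 186 i)) (Bool.rec (motive := fun _ => Nat) (0x300003b000729) (0x3c000db2) (Nat.ble 188 i)) (Nat.ble 187 i)) (Nat.ble 185 i)) (Nat.ble 181 i)) (Nat.ble 173 i)) (Nat.ble 157 i))
noncomputable def C20P_3 (i : Nat) : Nat := (Bool.rec (motive := fun _ => Nat) (Bool.rec (motive := fun _ => Nat) (Bool.rec (motive := fun _ => Nat) (Bool.rec (motive := fun _ => Nat) (Bool.rec (motive := fun _ => Nat) (0x100003c000753) (Bool.rec (motive := fun _ => Nat) (0x200003c000a80) (0x300003c000c1f) (Nat.ble 191 i)) (Nat.ble 190 i)) (Bool.rec (motive := fun _ => Nat) (Bool.rec (motive := fun _ => Nat) (0x3d000538) (0x100003d00013d) (Nat.ble 193 i)) (Bool.rec (motive := fun _ => Nat) (0x200003d000e7d) (0x3e0000e8) (Nat.ble 195 i)) (Nat.ble 194 i)) (Nat.ble 192 i)) (Bool.rec (motive := fun _ => Nat) (Bool.rec (motive := fun _ => Nat) (Bool.rec (motive := fun _ => Nat) (0x300003e000167) (0x100003f000156)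 (Nat.ble 197 i)) (Bool.rec (motive := fun _ => Nat) (0x2000040000319) (0x300004100012d) (Nat.ble 199 i)) (Nat.ble 198 i)) (Bool.rec (motive := fun _ => Nat) (Bool.rec (motive := fun _ => Nat) (0x420008fc) (0x3000042000b63) (Nat.ble 201 i)) (Bool.rec (motive := fun _ => Nat) (0x4300053d) (0x1000043000857) (Nat.ble 203 i)) (Nat.ble 202 i)) (Nat.ble 200 i)) (Nat.ble 196 i)) (Bool.rec (motive := fun _ => Nat) (Bool.rec (motive := fun _ => Nat) (Bool.rec (motive := fun _ => Nat) (Bool.rec (motive := fun _ => Nat) (0x2000043000556) (0x30000440005a3) (Nat.ble 205 i)) (Bool.rec (motive := fun _ => Nat) (0x450001ec) (0x20000450005de) (Nat.ble 207 i)) (Nat.ble 206 i)) (Bool.rec (motive := fun _ => Nat) (Bool.rec (motive := fun _ => Nat) (0x3000045000ab6) (0x46000062) (Nat.ble 209 i)) (Bool.rec (motive := fun _ => Nat) (0x30000460000fe) (0x10000470003f0) (Nat.ble 211 i)) (Nat.ble 210 i)) (Nat.ble 208 i)) (Bool.rec (motive := fun _ => Nat) (Bool.rec (motive := fun _ => Nat) (Bool.rec (motive := fun _ =>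 Nat) (0x200004700094f) (0x48000822) (Nat.ble 213 i)) (Bool.rec (motive := fun _ => Nat) (0x1000048000c68) (0x20000480001eb) (Nat.ble 215 i)) (Nat.ble 214 i)) (Bool.rec (motive := fun _ => Nat) (Bool.rec (motive := fun _ => Nat) (0x300004800026d) (0x49000817) (Nat.ble 217 i)) (Bool.rec (motive := fun _ => Nat) (0x20000490000f1) (0x30000490003ca) (Nat.ble 219 i)) (Nat.ble 218 i)) (Nat.ble 216 i)) (Nat.ble 212 i)) (Nat.ble 204 i)) (Bool.rec (motive := fun _ => Nat) (Bool.rec (motive := fun _ => Nat) (Bool.rec (motive := fun _ => Nat) (Bool.rec (motive := fun _ => Nat) (Bool.rec (motive := fun _ => Nat) (0x100004a000185) (0x300004a000387) (Nat.ble 221 i)) (Bool.rec (motive := fun _ => Nat) (0x4b000872) (0x200004b00050e) (Nat.ble 223 i)) (Nat.ble 222 i)) (Bool.rec (motive := fun _ => Nat) (Bool.rec (motive := fun _ => Nat) (0x300004c0005c2) (0x200004d0007f3) (Nat.ble 225 i)) (Bool.rec (motive := fun _ => Nat) (0x300004e0006e9) (0x100004f000e42) (Nat.ble 227 i)) (Nat.ble 226 i)) (Nat.ble 224 i)) (Bool.rec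 (motive := fun _ => Nat) (Bool.rec (motive := fun _ => Nat) (Bool.rec (motive := fun _ => Nat) (0x200004f000946) (0x300004f000ab7) (Nat.ble 229 i)) (Bool.rec (motive := fun _ => Nat) (0x2000050000211) (0x30000500008da) (Nat.ble 231 i)) (Nat.ble 230 i)) (Bool.rec (motive := fun _ => Nat) (Bool.rec (motive := fun _ => Nat) (0x1000052000a5d) (0x30000520007e9) (Nat.ble 233 i)) (Bool.rec (motive := fun _ => Nat) (0x10000530003d1) (0x2000053000265) (Nat.ble 235 i)) (Nat.ble 234 i)) (Nat.ble 232 i)) (Nat.ble 228 i)) (Bool.rec (motive := fun _ => Nat) (Bool.rec (motive := fun _ => Nat) (Bool.rec (motive := fun _ => Nat) (Bool.rec (motive := fun _ => Nat) (0x5600092a) (0x100005600033a) (Nat.ble 237 i)) (Bool.rec (motive := fun _ => Nat) (0x20000560007f1) (0x57000919) (Nat.ble 239 i)) (Nat.ble 238 i)) (Bool.rec (motive := fun _ => Nat) (Bool.rec (motive := fun _ => Nat) (0x1000057000149) (0x30000570003de) (Nat.ble 241 i)) (Bool.rec (motive := fun _ => Nat) (0x1000058000c4c) (0x20000580005fc) (Nat.ble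 243 i)) (Nat.ble 242 i)) (Nat.ble 240 i)) (Bool.rec (motive := fun _ => Nat) (Bool.rec (motive := fun _ => Nat) (Bool.rec (motive := fun _ => Nat) (0x30000580009c8) (0x3000059000113) (Nat.ble 245 i)) (Bool.rec (motive := fun _ => Nat) (0x5a000894) (0x100005a000328) (Nat.ble 247 i)) (Nat.ble 246 i)) (Bool.rec (motive := fun _ => Nat) (Bool.rec (motive := fun _ => Nat) (0x200005a00015c) (0x300005a000ac0) (Nat.ble 249 i)) (Bool.rec (motive := fun _ => Nat) (0x100005b0002b8) (0x200005b000423) (Nat.ble 251 i)) (Nat.ble 250 i)) (Nat.ble 248 i)) (Nat.ble 244 i)) (Nat.ble 236 i)) (Nat.ble 220 i))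
noncomputable def C20P_4 (i : Nat) : Nat := (Bool.rec (motive := fun _ => Nat) (Bool.rec (motive := fun _ => Nat) (Bool.rec (motive := fun _ => Nat) (Bool.rec (motive := fun _ => Nat) (Bool.rec (motive := fun _ => Nat) (0x300005c0005fa) (Bool.rec (motive := fun _ => Nat) (0x5d000880) (0x300005d0002ca) (Nat.ble 254 i)) (Nat.ble 253 i)) (Bool.rec (motive := fun _ => Nat) (Bool.rec (motive := fun _ => Nat) (0x5f000d83) (0x100005f000902) (Nat.ble 256 i)) (Bool.rec (motive := fun _ => Nat) (0x200005f0006ed) (0x300005f000275) (Nat.ble 258 i)) (Nat.ble 257 i)) (Nat.ble 255 i)) (Bool.rec (motive := fun _ => Nat) (Bool.rec (motive := fun _ => Nat) (Bool.rec (motive := fun _ => Nat) (0x1000060000800) (0x2000060000726) (Nat.ble 260 i)) (Bool.rec (motive := fun _ => Nat) (0x61000375) (0x200006100074f) (Nat.ble 262 i)) (Nat.ble 261 i)) (Bool.rec (motive := fun _ => Nat) (Bool.rec (motive := fun _ => Nat) (0x3000061000a75) (0x62000daa) (Nat.ble 264 i)) (Bool.rec (motive := fun _ => Nat) (0x2000062000a65)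 (0x3000062000022) (Nat.ble 266 i)) (Nat.ble 265 i)) (Nat.ble 263 i)) (Nat.ble 259 i)) (Bool.rec (motive := fun _ => Nat) (Bool.rec (motive := fun _ => Nat) (Bool.rec (motive := fun _ => Nat) (Bool.rec (motive := fun _ => Nat) (0x63000355) (0x1000063000d7f) (Nat.ble 268 i)) (Bool.rec (motive := fun _ => Nat) (0x2000063000af8) (0x640002a5) (Nat.ble 270 i)) (Nat.ble 269 i)) (Bool.rec (motive := fun _ => Nat) (Bool.rec (motive := fun _ => Nat) (0x100006500082c) (0x2000065000903) (Nat.ble 272 i)) (Bool.rec (motive := fun _ => Nat) (0x30000650008ca) (0x30000660003bd) (Nat.ble 274 i)) (Nat.ble 273 i)) (Nat.ble 271 i)) (Bool.rec (motive := fun _ => Nat) (Bool.rec (motive := fun _ => Nat) (Bool.rec (motive := fun _ => Nat) (0x6700012e) (0x200006700083c) (Nat.ble 276 i)) (Bool.rec (motive := fun _ => Nat) (0x1000068000dd9) (0x2000068000f27) (Nat.ble 278 i)) (Nat.ble 277 i)) (Bool.rec (motive := fun _ => Nat) (Bool.rec (motive := fun _ => Nat) (0x300006800028b) (0x300006900041b) (Nat.ble 280 i)) (Bool.rec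 (motive := fun _ => Nat) (0x6a00099c) (0x100006a000e8b) (Nat.ble 282 i)) (Nat.ble 281 i)) (Nat.ble 279 i)) (Nat.ble 275 i)) (Nat.ble 267 i)) (Bool.rec (motive := fun _ => Nat) (Bool.rec (motive := fun _ => Nat) (Bool.rec (motive := fun _ => Nat) (Bool.rec (motive := fun _ => Nat) (Bool.rec (motive := fun _ => Nat) (0x200006a000371) (0x300006a000ae1) (Nat.ble 284 i)) (Bool.rec (motive := fun _ => Nat) (0x100006b000890) (0x6c0008a9) (Nat.ble 286 i)) (Nat.ble 285 i)) (Bool.rec (motive := fun _ => Nat) (Bool.rec (motive := fun _ => Nat) (0x200006c00055e) (0x300006c000604) (Nat.ble 288 i)) (Bool.rec (motive := fun _ => Nat) (0x6d0003ac) (0x100006d0005ea) (Nat.ble 290 i)) (Nat.ble 289 i)) (Nat.ble 287 i)) (Bool.rec (motive := fun _ => Nat) (Bool.rec (motive := fun _ => Nat) (Bool.rec (motive := fun _ => Nat) (0x200006d0000c0) (0x300006d0000b3) (Nat.ble 292 i)) (Bool.rec (motive := fun _ => Nat) (0x200006e0006f0) (0x100006f00018d) (Nat.ble 294 i)) (Nat.ble 293 i)) (Bool.rec (motive := fun _ => Nat)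 (Bool.rec (motive := fun _ => Nat) (0x200006f00031e) (0x300006f000c00) (Nat.ble 296 i)) (Bool.rec (motive := fun _ => Nat) (0x2000070000284) (0x71000918) (Nat.ble 298 i)) (Nat.ble 297 i)) (Nat.ble 295 i)) (Nat.ble 291 i)) (Bool.rec (motive := fun _ => Nat) (Bool.rec (motive := fun _ => Nat) (Bool.rec (motive := fun _ => Nat) (Bool.rec (motive := fun _ => Nat) (0x1000071000393) (0x2000071000a98) (Nat.ble 300 i)) (Bool.rec (motive := fun _ => Nat) (0x300007100021a) (0x72000737) (Nat.ble 302 i)) (Nat.ble 301 i)) (Bool.rec (motive := fun _ => Nat) (Bool.rec (motive := fun _ => Nat) (0x1000072000953) (0x2000072000917) (Nat.ble 304 i)) (Bool.rec (motive := fun _ => Nat) (0x3000072000aa7) (0x100007300079d) (Nat.ble 306 i)) (Nat.ble 305 i)) (Nat.ble 303 i)) (Bool.rec (motive := fun _ => Nat) (Bool.rec (motive := fun _ => Nat) (Bool.rec (motive := fun _ => Nat) (0x30000730005b8) (0x200007400081f) (Nat.ble 308 i)) (Bool.rec (motive := fun _ => Nat) (0x750007ec) (0x1000075000774) (Nat.ble 310 i)) (Nat.ble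 309 i)) (Bool.rec (motive := fun _ => Nat) (Bool.rec (motive := fun _ => Nat) (0x3000075000c12) (0x760001f8) (Nat.ble 312 i)) (Bool.rec (motive := fun _ => Nat) (0x10000760009cc) (0x20000760001b3) (Nat.ble 314 i)) (Nat.ble 313 i)) (Nat.ble 311 i)) (Nat.ble 307 i)) (Nat.ble 299 i)) (Nat.ble 283 i))
noncomputable def C20P_5 (i : Nat) : Nat := (Bool.rec (motive := fun _ => Nat) (Bool.rec (motive := fun _ => Nat) (Bool.rec (motive := fun _ => Nat) (Bool.rec (motive := fun _ => Nat) (Bool.rec (motive := fun _ => Nat) (0x3000076000782) (Bool.rec (motive := fun _ => Nat) (0x3000079000899) (0x100007a000871) (Nat.ble 317 i)) (Nat.ble 316 i)) (Bool.rec (motive := fun _ => Nat) (Bool.rec (motive := fun _ => Nat) (0x300007a000949) (0x200007b000edc) (Nat.ble 319 i)) (Bool.rec (motive := fun _ => Nat) (0x7c00077f) (0x100007c00052e) (Nat.ble 321 i)) (Nat.ble 320 i)) (Nat.ble 318 i)) (Bool.rec (motive := fun _ => Nat) (Bool.rec (motive := fun _ => Nat) (Bool.rec (motive := fun _ => Nat) (0x200007c000999) (0x300007e000c69)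 (Nat.ble 323 i)) (Bool.rec (motive := fun _ => Nat) (0x100007f000dd2) (0x300007f00094c) (Nat.ble 325 i)) (Nat.ble 324 i)) (Bool.rec (motive := fun _ => Nat) (Bool.rec (motive := fun _ => Nat) (0x300008000098a) (0x810003ed) (Nat.ble 327 i)) (Bool.rec (motive := fun _ => Nat) (0x2000081000d3c) (0x30000810001c9) (Nat.ble 329 i)) (Nat.ble 328 i)) (Nat.ble 326 i)) (Nat.ble 322 i)) (Bool.rec (motive := fun _ => Nat) (Bool.rec (motive := fun _ => Nat) (Bool.rec (motive := fun _ => Nat) (Bool.rec (motive := fun _ => Nat) (0x82000b30) (0x100008200090b) (Nat.ble 331 i)) (Bool.rec (motive := fun _ => Nat) (0x2000082000da8) (0x3000082000b74) (Nat.ble 333 i)) (Nat.ble 332 i)) (Bool.rec (motive := fun _ => Nat) (Bool.rec (motive := fun _ => Nat) (0x10000830001d7) (0x2000083000484) (Nat.ble 335 i)) (Bool.rec (motive := fun _ => Nat) (0x8400026c) (0x1000084000a55) (Nat.ble 337 i)) (Nat.ble 336 i)) (Nat.ble 334 i)) (Bool.rec (motive := fun _ => Nat) (Bool.rec (motive := fun _ => Nat) (Bool.rec (motive := fun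 _ => Nat) (0x2000084000085) (0x3000084000b27) (Nat.ble 339 i)) (Bool.rec (motive := fun _ => Nat) (0x300008500066a) (0x870008b1) (Nat.ble 341 i)) (Nat.ble 340 i)) (Bool.rec (motive := fun _ => Nat) (Bool.rec (motive := fun _ => Nat) (0x3000087000d23) (0x880007c5) (Nat.ble 343 i)) (Bool.rec (motive := fun _ => Nat) (0x1000088000351) (0x300008800085b) (Nat.ble 345 i)) (Nat.ble 344 i)) (Nat.ble 342 i)) (Nat.ble 338 i)) (Nat.ble 330 i)) (Bool.rec (motive := fun _ => Nat) (Bool.rec (motive := fun _ => Nat) (Bool.rec (motive := fun _ => Nat) (Bool.rec (motive := fun _ => Nat) (Bool.rec (motive := fun _ => Nat) (0x89000de0) (0x100008a000d87) (Nat.ble 347 i)) (Bool.rec (motive := fun _ => Nat) (0x200008a000b32) (0x300008a000db3) (Nat.ble 349 i)) (Nat.ble 348 i)) (Bool.rec (motive := fun _ => Nat) (Bool.rec (motive := fun _ => Nat) (0x300008b000d85) (0x200008c000988) (Nat.ble 351 i)) (Bool.rec (motive := fun _ => Nat) (0x300008c000542) (0x8d0009ae) (Nat.ble 353 i)) (Nat.ble 352 i)) (Nat.ble 350 i)) (Bool.rec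 (motive := fun _ => Nat) (Bool.rec (motive := fun _ => Nat) (Bool.rec (motive := fun _ => Nat) (0x200008d000875) (0x300008d000828) (Nat.ble 355 i)) (Bool.rec (motive := fun _ => Nat) (0x300008e00011a) (0x200008f000f2e) (Nat.ble 357 i)) (Nat.ble 356 i)) (Bool.rec (motive := fun _ => Nat) (Bool.rec (motive := fun _ => Nat) (0x3000090000c5a) (0x20000910000ae) (Nat.ble 359 i)) (Bool.rec (motive := fun _ => Nat) (0x920003b2) (0x2000092000411) (Nat.ble 361 i)) (Nat.ble 360 i)) (Nat.ble 358 i)) (Nat.ble 354 i)) (Bool.rec (motive := fun _ => Nat) (Bool.rec (motive := fun _ => Nat) (Bool.rec (motive := fun _ => Nat) (Bool.rec (motive := fun _ => Nat) (0x3000092000712) (0x93000c61) (Nat.ble 363 i)) (Bool.rec (motive := fun _ => Nat) (0x2000093000ab5) (0x30000930008b7) (Nat.ble 365 i)) (Nat.ble 364 i)) (Bool.rec (motive := fun _ => Nat) (Bool.rec (motive := fun _ => Nat) (0x94000b86) (0x1000094000475) (Nat.ble 367 i)) (Bool.rec (motive := fun _ => Nat) (0x2000094000357) (0x950004bf) (Nat.ble 369 i)) (Nat.ble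 368 i)) (Nat.ble 366 i)) (Bool.rec (motive := fun _ => Nat) (Bool.rec (motive := fun _ => Nat) (Bool.rec (motive := fun _ => Nat) (0x1000095000a9c) (0x20000950004c6) (Nat.ble 371 i)) (Bool.rec (motive := fun _ => Nat) (0x30000950005ca) (0x96000ee9) (Nat.ble 373 i)) (Nat.ble 372 i)) (Bool.rec (motive := fun _ => Nat) (Bool.rec (motive := fun _ => Nat) (0x10000960005df) (0x2000096000dc0) (Nat.ble 375 i)) (Bool.rec (motive := fun _ => Nat) (0x30000960006d6) (0x1000097000e0e) (Nat.ble 377 i)) (Nat.ble 376 i)) (Nat.ble 374 i)) (Nat.ble 370 i)) (Nat.ble 362 i)) (Nat.ble 346 i))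
noncomputable def C20P_6 (i : Nat) : Nat := (Bool.rec (motive := fun _ => Nat) (Bool.rec (motive := fun _ => Nat) (Bool.rec (motive := fun _ => Nat) (Bool.rec (motive := fun _ => Nat) (Bool.rec (motive := fun _ => Nat) (0x300009700001e) (Bool.rec (motive := fun _ => Nat) (0x300009800088d) (0x9900002f) (Nat.ble 380 i)) (Nat.ble 379 i)) (Bool.rec (motive := fun _ => Nat) (Bool.rec (motive := fun _ => Nat) (0x1000099000e10) (0x3000099000d3b) (Nat.ble 382 i)) (Bool.rec (motive := fun _ => Nat) (0x9a0003f5) (0x100009a000ef5) (Nat.ble 384 i)) (Nat.ble 383 i)) (Nat.ble 381 i)) (Bool.rec (motive := fun _ => Nat) (Bool.rec (motive := fun _ => Nat) (Bool.rec (motive := fun _ => Nat) (0x200009a00063c) (0x300009a00060e) (Nat.ble 386 i)) (Bool.rec (motive := fun _ => Nat) (0x100009b000e28) (0x300009b000ea3) (Nat.ble 388 i)) (Nat.ble 387 i)) (Bool.rec (motive := fun _ => Nat) (Bool.rec (motive := fun _ => Nat) (0x9c000424) (0x100009c0004ad) (Nat.ble 390 i)) (Bool.rec (motive := fun _ => Nat) (0x300009c0006bf)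 (0x9d0001da) (Nat.ble 392 i)) (Nat.ble 391 i)) (Nat.ble 389 i)) (Nat.ble 385 i)) (Bool.rec (motive := fun _ => Nat) (Bool.rec (motive := fun _ => Nat) (Bool.rec (motive := fun _ => Nat) (Bool.rec (motive := fun _ => Nat) (0x100009d000e13) (0x200009d0005e6) (Nat.ble 394 i)) (Bool.rec (motive := fun _ => Nat) (0x300009d000d94) (0x9e000845) (Nat.ble 396 i)) (Nat.ble 395 i)) (Bool.rec (motive := fun _ => Nat) (Bool.rec (motive := fun _ => Nat) (0x200009e0006b8) (0x9f0005a0) (Nat.ble 398 i)) (Bool.rec (motive := fun _ => Nat) (0x100009f0009d8) (0x200009f0004e3) (Nat.ble 400 i)) (Nat.ble 399 i)) (Nat.ble 397 i)) (Bool.rec (motive := fun _ => Nat) (Bool.rec (motive := fun _ => Nat) (Bool.rec (motive := fun _ => Nat) (0x300009f000bee) (0xa0000b03) (Nat.ble 402 i)) (Bool.rec (motive := fun _ => Nat) (0x10000a000088c) (0x20000a00009b5) (Nat.ble 404 i)) (Nat.ble 403 i)) (Bool.rec (motive := fun _ => Nat) (Bool.rec (motive := fun _ => Nat) (0x30000a0000055) (0x30000a1000b64) (Nat.ble 406 i)) (Bool.rec (motive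 := fun _ => Nat) (0xa30008b4) (0x10000a3000873) (Nat.ble 408 i)) (Nat.ble 407 i)) (Nat.ble 405 i)) (Nat.ble 401 i)) (Nat.ble 393 i)) (Bool.rec (motive := fun _ => Nat) (Bool.rec (motive := fun _ => Nat) (Bool.rec (motive := fun _ => Nat) (Bool.rec (motive := fun _ => Nat) (Bool.rec (motive := fun _ => Nat) (0x30000a3000333) (0xa4000e54) (Nat.ble 410 i)) (Bool.rec (motive := fun _ => Nat) (0x30000a4000551) (0x10000a50003b0) (Nat.ble 412 i)) (Nat.ble 411 i)) (Bool.rec (motive := fun _ => Nat) (Bool.rec (motive := fun _ => Nat) (0x30000a90007d7) (0x10000aa0006ec) (Nat.ble 414 i)) (Bool.rec (motive := fun _ => Nat) (0x20000aa00052b) (0x30000aa000ba2) (Nat.ble 416 i)) (Nat.ble 415 i)) (Nat.ble 413 i)) (Bool.rec (motive := fun _ => Nat) (Bool.rec (motive := fun _ => Nat) (Bool.rec (motive := fun _ => Nat) (0x10000ac0002bc) (0x20000ac0001e9) (Nat.ble 418 i)) (Bool.rec (motive := fun _ => Nat) (0x10000af000a08) (0x30000af000145) (Nat.ble 420 i)) (Nat.ble 419 i)) (Bool.rec (motive := fun _ => Nat) (Bool.rec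 (motive := fun _ => Nat) (0x10000b00009a6) (0x30000b000038a) (Nat.ble 422 i)) (Bool.rec (motive := fun _ => Nat) (0xb1000b60) (0x20000b1000d4a) (Nat.ble 424 i)) (Nat.ble 423 i)) (Nat.ble 421 i)) (Nat.ble 417 i)) (Bool.rec (motive := fun _ => Nat) (Bool.rec (motive := fun _ => Nat) (Bool.rec (motive := fun _ => Nat) (Bool.rec (motive := fun _ => Nat) (0x30000b1000260) (0x10000b20001b5) (Nat.ble 426 i)) (Bool.rec (motive := fun _ => Nat) (0x20000b20009e5) (0xb3000465) (Nat.ble 428 i)) (Nat.ble 427 i)) (Bool.rec (motive := fun _ => Nat) (Bool.rec (motive := fun _ => Nat) (0x20000b3000021) (0x30000b30006d5) (Nat.ble 430 i)) (Bool.rec (motive := fun _ => Nat) (0x20000b400014e) (0x30000b4000219) (Nat.ble 432 i)) (Nat.ble 431 i)) (Nat.ble 429 i)) (Bool.rec (motive := fun _ => Nat) (Bool.rec (motive := fun _ => Nat) (Bool.rec (motive := fun _ => Nat) (0x10000b5000401) (0x20000b50002a4) (Nat.ble 434 i)) (Bool.rec (motive := fun _ => Nat) (0xb60007fc) (0x10000b6000f3e) (Nat.ble 436 i)) (Nat.ble 435 i))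 (Bool.rec (motive := fun _ => Nat) (Bool.rec (motive := fun _ => Nat) (0x30000b6000280) (0xb70007b4) (Nat.ble 438 i)) (Bool.rec (motive := fun _ => Nat) (0x20000b7000190) (0x30000b7000c97) (Nat.ble 440 i)) (Nat.ble 439 i)) (Nat.ble 437 i)) (Nat.ble 433 i)) (Nat.ble 425 i)) (Nat.ble 409 i))
noncomputable def C20P_7 (i : Nat) : Nat := (Bool.rec (motive := fun _ => Nat) (Bool.rec (motive := fun _ => Nat) (Bool.rec (motive := fun _ => Nat) (Bool.rec (motive := fun _ => Nat) (Bool.rec (motive := fun _ => Nat) (0xb80007d1) (Bool.rec (motive := fun _ => Nat) (0x10000b8000b6a) (0x20000b8000ab4) (Nat.ble 443 i)) (Nat.ble 442 i)) (Bool.rec (motive := fun _ => Nat) (Bool.rec (motive := fun _ => Nat) (0x30000b8000507) (0x10000b9000559) (Nat.ble 445 i)) (Bool.rec (motive := fun _ => Nat) (0x20000b900071b) (0x30000b9000874) (Nat.ble 447 i)) (Nat.ble 446 i)) (Nat.ble 444 i)) (Bool.rec (motive := fun _ => Nat) (Bool.rec (motive := fun _ => Nat) (Bool.rec (motive := fun _ => Nat) (0x10000ba00017b) (0x30000ba000baf)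 (Nat.ble 449 i)) (Bool.rec (motive := fun _ => Nat) (0xbb000aff) (0x10000bb0005c4) (Nat.ble 451 i)) (Nat.ble 450 i)) (Bool.rec (motive := fun _ => Nat) (Bool.rec (motive := fun _ => Nat) (0x20000bb000c18) (0x30000bb00018b) (Nat.ble 453 i)) (Bool.rec (motive := fun _ => Nat) (0x10000bc000a12) (0x30000bc0000ad) (Nat.ble 455 i)) (Nat.ble 454 i)) (Nat.ble 452 i)) (Nat.ble 448 i)) (Bool.rec (motive := fun _ => Nat) (Bool.rec (motive := fun _ => Nat) (Bool.rec (motive := fun _ => Nat) (Bool.rec (motive := fun _ => Nat) (0x20000bd000264) (0x30000bd0004f5) (Nat.ble 457 i)) (Bool.rec (motive := fun _ => Nat) (0x10000be0007ae) (0x30000be000245) (Nat.ble 459 i)) (Nat.ble 458 i)) (Bool.rec (motive := fun _ => Nat) (Bool.rec (motive := fun _ => Nat) (0xbf000e45) (0x10000bf0008ec) (Nat.ble 461 i)) (Bool.rec (motive := fun _ => Nat) (0x20000bf000aca) (0x30000bf000dee) (Nat.ble 463 i)) (Nat.ble 462 i)) (Nat.ble 460 i)) (Bool.rec (motive := fun _ => Nat) (Bool.rec (motive := fun _ => Nat) (Bool.rec (motive :=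 fun _ => Nat) (0xc0000743) (0x10000c000086c) (Nat.ble 465 i)) (Bool.rec (motive := fun _ => Nat) (0xc1000813) (0x10000c1000984) (Nat.ble 467 i)) (Nat.ble 466 i)) (Bool.rec (motive := fun _ => Nat) (Bool.rec (motive := fun _ => Nat) (0x20000c1000598) (0x30000c10004f2) (Nat.ble 469 i)) (Bool.rec (motive := fun _ => Nat) (0xc20009af) (0x10000c200090f) (Nat.ble 471 i)) (Nat.ble 470 i)) (Nat.ble 468 i)) (Nat.ble 464 i)) (Nat.ble 456 i)) (Bool.rec (motive := fun _ => Nat) (Bool.rec (motive := fun _ => Nat) (Bool.rec (motive := fun _ => Nat) (Bool.rec (motive := fun _ => Nat) (Bool.rec (motive := fun _ => Nat) (0x20000c200074c) (0x30000c200006a) (Nat.ble 473 i)) (Bool.rec (motive := fun _ => Nat) (0x10000c400029b) (0x30000c6000b75) (Nat.ble 475 i)) (Nat.ble 474 i)) (Bool.rec (motive := fun _ => Nat) (Bool.rec (motive := fun _ => Nat) (0x10000c70001f3) (0x20000c700099a) (Nat.ble 477 i)) (Bool.rec (motive := fun _ => Nat) (0x10000c90007f7) (0x10000ca0002a9) (Nat.ble 479 i)) (Nat.ble 478 i)) (Nat.ble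 476 i)) (Bool.rec (motive := fun _ => Nat) (Bool.rec (motive := fun _ => Nat) (Bool.rec (motive := fun _ => Nat) (0xcb0009aa) (0x20000cb000175) (Nat.ble 481 i)) (Bool.rec (motive := fun _ => Nat) (0x30000cb0006e6) (0x20000cc000327) (Nat.ble 483 i)) (Nat.ble 482 i)) (Bool.rec (motive := fun _ => Nat) (Bool.rec (motive := fun _ => Nat) (0x30000cc0009a5) (0x10000cd00039a) (Nat.ble 485 i)) (Bool.rec (motive := fun _ => Nat) (0x20000d0000555) (0x10000d2000c0e) (Nat.ble 487 i)) (Nat.ble 486 i)) (Nat.ble 484 i)) (Nat.ble 480 i)) (Bool.rec (motive := fun _ => Nat) (Bool.rec (motive := fun _ => Nat) (Bool.rec (motive := fun _ => Nat) (Bool.rec (motive := fun _ => Nat) (0x20000d20002bd) (0xd3000505) (Nat.ble 489 i)) (Bool.rec (motive := fun _ => Nat) (0x20000d300083f) (0x30000d3000377) (Nat.ble 491 i)) (Nat.ble 490 i)) (Bool.rec (motive := fun _ => Nat) (Bool.rec (motive := fun _ => Nat) (0x20000d4000aa4) (0x30000d4000521) (Nat.ble 493 i)) (Bool.rec (motive := fun _ => Nat) (0x20000d500073d) (0x30000d500072b)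 (Nat.ble 495 i)) (Nat.ble 494 i)) (Nat.ble 492 i)) (Bool.rec (motive := fun _ => Nat) (Bool.rec (motive := fun _ => Nat) (Bool.rec (motive := fun _ => Nat) (0x10000d7000769) (0x30000d7000ce7) (Nat.ble 497 i)) (Bool.rec (motive := fun _ => Nat) (0xd80004a0) (0x10000d8000ab9) (Nat.ble 499 i)) (Nat.ble 498 i)) (Bool.rec (motive := fun _ => Nat) (Bool.rec (motive := fun _ => Nat) (0x20000d8000603) (0x30000d80001af) (Nat.ble 501 i)) (Bool.rec (motive := fun _ => Nat) (0x10000d90002fb) (0x30000d9000b2c) (Nat.ble 503 i)) (Nat.ble 502 i)) (Nat.ble 500 i)) (Nat.ble 496 i)) (Nat.ble 488 i)) (Nat.ble 472 i))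
noncomputable def C20P_8 (i : Nat) : Nat := (Bool.rec (motive := fun _ => Nat) (Bool.rec (motive := fun _ => Nat) (Bool.rec (motive := fun _ => Nat) (Bool.rec (motive := fun _ => Nat) (Bool.rec (motive := fun _ => Nat) (0x10000da0004fb) (Bool.rec (motive := fun _ => Nat) (0x30000da000589) (0xdb0007b8) (Nat.ble 506 i)) (Nat.ble 505 i)) (Bool.rec (motive := fun _ => Nat) (Bool.rec (motive := fun _ => Nat) (0x10000db000eee) (0x20000db0002d0) (Nat.ble 508 i)) (Bool.rec (motive := fun _ => Nat) (0x30000db000ee6) (0x30000de0002da) (Nat.ble 510 i)) (Nat.ble 509 i)) (Nat.ble 507 i)) (Bool.rec (motive := fun _ => Nat) (Bool.rec (motive := fun _ => Nat) (Bool.rec (motive := fun _ => Nat) (0x20000e0000783) (0x30000e1000cda) (Nat.ble 512 i)) (Bool.rec (motive := fun _ => Nat) (0x20000e2000c7b) (0x30000e20008ae) (Nat.ble 514 i)) (Nat.ble 513 i)) (Bool.rec (motive := fun _ => Nat) (Bool.rec (motive := fun _ => Nat) (0x30000e3000569) (0x10000e5000b44) (Nat.ble 516 i)) (Bool.rec (motive := fun _ => Nat) (0x20000e50005fb)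 (0x20000e60000b9) (Nat.ble 518 i)) (Nat.ble 517 i)) (Nat.ble 515 i)) (Nat.ble 511 i)) (Bool.rec (motive := fun _ => Nat) (Bool.rec (motive := fun _ => Nat) (Bool.rec (motive := fun _ => Nat) (Bool.rec (motive := fun _ => Nat) (0x30000e60007f8) (0x10000e7000f11) (Nat.ble 520 i)) (Bool.rec (motive := fun _ => Nat) (0x20000e7000ad1) (0x30000e8000c62) (Nat.ble 522 i)) (Nat.ble 521 i)) (Bool.rec (motive := fun _ => Nat) (Bool.rec (motive := fun _ => Nat) (0x20000ea000422) (0x30000ea000eba) (Nat.ble 524 i)) (Bool.rec (motive := fun _ => Nat) (0x20000eb00031c) (0x30000eb000025) (Nat.ble 526 i)) (Nat.ble 525 i)) (Nat.ble 523 i)) (Bool.rec (motive := fun _ => Nat) (Bool.rec (motive := fun _ => Nat) (Bool.rec (motive := fun _ => Nat) (0xed00096b) (0x30000ed000c17) (Nat.ble 528 i)) (Bool.rec (motive := fun _ => Nat) (0xee000805) (0x20000ee0001f4) (Nat.ble 530 i)) (Nat.ble 529 i)) (Bool.rec (motive := fun _ => Nat) (Bool.rec (motive := fun _ => Nat) (0x30000ee000278) (0x30000f00007f5) (Nat.ble 532 i)) (Bool.rec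 (motive := fun _ => Nat) (0x10000f1000458) (0xf2000410) (Nat.ble 534 i)) (Nat.ble 533 i)) (Nat.ble 531 i)) (Nat.ble 527 i)) (Nat.ble 519 i)) (Bool.rec (motive := fun _ => Nat) (Bool.rec (motive := fun _ => Nat) (Bool.rec (motive := fun _ => Nat) (Bool.rec (motive := fun _ => Nat) (Bool.rec (motive := fun _ => Nat) (0x20000f2000740) (0x30000f2000aa2) (Nat.ble 536 i)) (Bool.rec (motive := fun _ => Nat) (0xf3000515) (0x20000f300060f) (Nat.ble 538 i)) (Nat.ble 537 i)) (Bool.rec (motive := fun _ => Nat) (Bool.rec (motive := fun _ => Nat) (0x30000f3000193) (0xf50007bf) (Nat.ble 540 i)) (Bool.rec (motive := fun _ => Nat) (0x10000f500089b) (0x30000f60002c5) (Nat.ble 542 i)) (Nat.ble 541 i)) (Nat.ble 539 i)) (Bool.rec (motive := fun _ => Nat) (Bool.rec (motive := fun _ => Nat) (Bool.rec (motive := fun _ => Nat) (0x30000f800076e) (0xf9000462) (Nat.ble 544 i)) (Bool.rec (motive := fun _ => Nat) (0x10000f90001e0) (0x30000f9000b40) (Nat.ble 546 i)) (Nat.ble 545 i)) (Bool.rec (motive := fun _ => Nat) (Bool.rec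 (motive := fun _ => Nat) (0xfa0002ae) (0x30000fa0003a9) (Nat.ble 548 i)) (Bool.rec (motive := fun _ => Nat) (0xfb000866) (0x30000fb00090a) (Nat.ble 550 i)) (Nat.ble 549 i)) (Nat.ble 547 i)) (Nat.ble 543 i)) (Bool.rec (motive := fun _ => Nat) (Bool.rec (motive := fun _ => Nat) (Bool.rec (motive := fun _ => Nat) (Bool.rec (motive := fun _ => Nat) (0x10000fc000781) (0x30000fc00068f) (Nat.ble 552 i)) (Bool.rec (motive := fun _ => Nat) (0xfe000c65) (0x20000ff000ea8) (Nat.ble 554 i)) (Nat.ble 553 i)) (Bool.rec (motive := fun _ => Nat) (Bool.rec (motive := fun _ => Nat) (0x10000044d) (0x2000100000d05) (Nat.ble 556 i)) (Bool.rec (motive := fun _ => Nat) (0x30001000009cf) (0x101000dbd) (Nat.ble 558 i)) (Nat.ble 557 i)) (Nat.ble 555 i)) (Bool.rec (motive := fun _ => Nat) (Bool.rec (motive := fun _ => Nat) (Bool.rec (motive := fun _ => Nat) (0x2000101000d77) (0x3000101000ca9) (Nat.ble 560 i)) (Bool.rec (motive := fun _ => Nat) (0x1020008b5) (0x2000102000601) (Nat.ble 562 i)) (Nat.ble 561 i)) (Bool.rec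 (motive := fun _ => Nat) (Bool.rec (motive := fun _ => Nat) (0x10300070a) (0x2000103000114) (Nat.ble 564 i)) (Bool.rec (motive := fun _ => Nat) (0x3000103000018) (0x1040009c6) (Nat.ble 566 i)) (Nat.ble 565 i)) (Nat.ble 563 i)) (Nat.ble 559 i)) (Nat.ble 551 i)) (Nat.ble 535 i))
noncomputable def C20P_9 (i : Nat) : Nat := (Bool.rec (motive := fun _ => Nat) (Bool.rec (motive := fun _ => Nat) (Bool.rec (motive := fun _ => Nat) (Bool.rec (motive := fun _ => Nat) (Bool.rec (motive := fun _ => Nat) (0x1000104000c6e) (Bool.rec (motive := fun _ => Nat) (0x20001040009ec) (0x30001040006b7) (Nat.ble 569 i)) (Nat.ble 568 i)) (Bool.rec (motive := fun _ => Nat) (Bool.rec (motive := fun _ => Nat) (0x1000105000bab) (0x3000105000583) (Nat.ble 571 i)) (Bool.rec (motive := fun _ => Nat) (0x10001060000f9) (0x3000106000764) (Nat.ble 573 i)) (Nat.ble 572 i)) (Nat.ble 570 i)) (Bool.rec (motive := fun _ => Nat) (Bool.rec (motive := fun _ => Nat) (Bool.rec (motive := fun _ => Nat) (0x107000ac4) (0x1000107000160) (Nat.ble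 575 i)) (Bool.rec (motive := fun _ => Nat) (0x200010700065b) (0x30001070000ee) (Nat.ble 577 i)) (Nat.ble 576 i)) (Bool.rec (motive := fun _ => Nat) (Bool.rec (motive := fun _ => Nat) (0x1000108000a78) (0x3000108000c32) (Nat.ble 579 i)) (Bool.rec (motive := fun _ => Nat) (0x1000109000711) (0x3000109000716) (Nat.ble 581 i)) (Nat.ble 580 i)) (Nat.ble 578 i)) (Nat.ble 574 i)) (Bool.rec (motive := fun _ => Nat) (Bool.rec (motive := fun _ => Nat) (Bool.rec (motive := fun _ => Nat) (Bool.rec (motive := fun _ => Nat) (0x10a000d8a) (0x100010a000b34) (Nat.ble 583 i)) (Bool.rec (motive := fun _ => Nat) (0x200010a000ebc) (0x300010a000ced) (Nat.ble 585 i)) (Nat.ble 584 i)) (Bool.rec (motive := fun _ => Nat) (Bool.rec (motive := fun _ => Nat) (0x10b0002cc) (0x200010b000bd6) (Nat.ble 587 i)) (Bool.rec (motive := fun _ => Nat) (0x10c000969) (0x200010c000771) (Nat.ble 589 i)) (Nat.ble 588 i)) (Nat.ble 586 i)) (Bool.rec (motive := fun _ => Nat) (Bool.rec (motive := fun _ => Nat) (Bool.rec (motive := fun _ =>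 Nat) (0x300010c000116) (0x10d000797) (Nat.ble 591 i)) (Bool.rec (motive := fun _ => Nat) (0x100010d000ae0) (0x200010d000809) (Nat.ble 593 i)) (Nat.ble 592 i)) (Bool.rec (motive := fun _ => Nat) (Bool.rec (motive := fun _ => Nat) (0x300010d00048c) (0x300010e000998) (Nat.ble 595 i)) (Bool.rec (motive := fun _ => Nat) (0x10f000df9) (0x100010f000646) (Nat.ble 597 i)) (Nat.ble 596 i)) (Nat.ble 594 i)) (Nat.ble 590 i)) (Nat.ble 582 i)) (Bool.rec (motive := fun _ => Nat) (Bool.rec (motive := fun _ => Nat) (Bool.rec (motive := fun _ => Nat) (Bool.rec (motive := fun _ => Nat) (Bool.rec (motive := fun _ => Nat) (0x300010f000bcd) (0x110000eb1) (Nat.ble 599 i)) (Bool.rec (motive := fun _ => Nat) (0x3000110000061) (0x10001110008a7) (Nat.ble 601 i)) (Nat.ble 600 i)) (Bool.rec (motive := fun _ => Nat) (Bool.rec (motive := fun _ => Nat) (0x20001120009ce) (0x30001120003b1) (Nat.ble 603 i)) (Bool.rec (motive := fun _ => Nat) (0x114000aab) (0x3000114000d37) (Nat.ble 605 i)) (Nat.ble 604 i)) (Nat.ble 602 i)) (Bool.rec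 (motive := fun _ => Nat) (Bool.rec (motive := fun _ => Nat) (Bool.rec (motive := fun _ => Nat) (0x10001170006ad) (0x300011800054f) (Nat.ble 607 i)) (Bool.rec (motive := fun _ => Nat) (0x1000119000692) (0x2000119000848) (Nat.ble 609 i)) (Nat.ble 608 i)) (Bool.rec (motive := fun _ => Nat) (Bool.rec (motive := fun _ => Nat) (0x11a000990) (0x300011a0006ac) (Nat.ble 611 i)) (Bool.rec (motive := fun _ => Nat) (0x200011b00046b) (0x300011b000b10) (Nat.ble 613 i)) (Nat.ble 612 i)) (Nat.ble 610 i)) (Nat.ble 606 i)) (Bool.rec (motive := fun _ => Nat) (Bool.rec (motive := fun _ => Nat) (Bool.rec (motive := fun _ => Nat) (Bool.rec (motive := fun _ => Nat) (0x100011c000e96) (0x200011c0000da) (Nat.ble 615 i)) (Bool.rec (motive := fun _ => Nat) (0x200011d000e9d) (0x300011d000143) (Nat.ble 617 i)) (Nat.ble 616 i)) (Bool.rec (motive := fun _ => Nat) (Bool.rec (motive := fun _ => Nat) (0x100011e000e08) (0x300011e000dd0) (Nat.ble 619 i)) (Bool.rec (motive := fun _ => Nat) (0x300011f0006a8) (0x120000e12) (Nat.ble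 621 i)) (Nat.ble 620 i)) (Nat.ble 618 i)) (Bool.rec (motive := fun _ => Nat) (Bool.rec (motive := fun _ => Nat) (Bool.rec (motive := fun _ => Nat) (0x100012000051f) (0x20001200004c4) (Nat.ble 623 i)) (Bool.rec (motive := fun _ => Nat) (0x3000120000105) (0x10001210004b2) (Nat.ble 625 i)) (Nat.ble 624 i)) (Bool.rec (motive := fun _ => Nat) (Bool.rec (motive := fun _ => Nat) (0x3000121000f26) (0x2000122000a63) (Nat.ble 627 i)) (Bool.rec (motive := fun _ => Nat) (0x3000122000c44) (0x1000123000f08) (Nat.ble 629 i)) (Nat.ble 628 i)) (Nat.ble 626 i)) (Nat.ble 622 i)) (Nat.ble 614 i)) (Nat.ble 598 i))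
noncomputable def C20P_10 (i : Nat) : Nat := (Bool.rec (motive := fun _ => Nat) (Bool.rec (motive := fun _ => Nat) (Bool.rec (motive := fun _ => Nat) (Bool.rec (motive := fun _ => Nat) (Bool.rec (motive := fun _ => Nat) (0x30001230009f8) (Bool.rec (motive := fun _ => Nat) (0x124000581) (0x1000124000067) (Nat.ble 632 i)) (Nat.ble 631 i)) (Bool.rec (motive := fun _ => Nat) (Bool.rec (motive := fun _ => Nat) (0x2000124000420) (0x3000124000e37) (Nat.ble 634 i)) (Bool.rec (motive := fun _ => Nat) (0x12500058e) (0x10001250009d2) (Nat.ble 636 i)) (Nat.ble 635 i)) (Nat.ble 633 i)) (Bool.rec (motive := fun _ => Nat) (Bool.rec (motive := fun _ => Nat) (Bool.rec (motive := fun _ => Nat) (0x20001250004e4) (0x300012500060c) (Nat.ble 638 i)) (Bool.rec (motive := fun _ => Nat) (0x300012600022a) (0x1000128000ebe) (Nat.ble 640 i)) (Nat.ble 639 i)) (Bool.rec (motive := fun _ => Nat) (Bool.rec (motive := fun _ => Nat) (0x2000128000df5) (0x300012800069d) (Nat.ble 642 i)) (Bool.rec (motive := fun _ => Nat) (0x129000842)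 (0x30001290000d0) (Nat.ble 644 i)) (Nat.ble 643 i)) (Nat.ble 641 i)) (Nat.ble 637 i)) (Bool.rec (motive := fun _ => Nat) (Bool.rec (motive := fun _ => Nat) (Bool.rec (motive := fun _ => Nat) (Bool.rec (motive := fun _ => Nat) (0x300012a000271) (0x300012b000474) (Nat.ble 646 i)) (Bool.rec (motive := fun _ => Nat) (0x100012c0002b9) (0x12d000482) (Nat.ble 648 i)) (Nat.ble 647 i)) (Bool.rec (motive := fun _ => Nat) (Bool.rec (motive := fun _ => Nat) (0x100012d0008a1) (0x200012d000206) (Nat.ble 650 i)) (Bool.rec (motive := fun _ => Nat) (0x300012d000a35) (0x100012e000169) (Nat.ble 652 i)) (Nat.ble 651 i)) (Nat.ble 649 i)) (Bool.rec (motive := fun _ => Nat) (Bool.rec (motive := fun _ => Nat) (Bool.rec (motive := fun _ => Nat) (0x200012e0007ee) (0x12f000304) (Nat.ble 654 i)) (Bool.rec (motive := fun _ => Nat) (0x100012f000cd6) (0x200012f00043c) (Nat.ble 656 i)) (Nat.ble 655 i)) (Bool.rec (motive := fun _ => Nat) (Bool.rec (motive := fun _ => Nat) (0x300012f0000db) (0x1300006a9) (Nat.ble 658 i)) (Bool.rec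 (motive := fun _ => Nat) (0x2000130000d53) (0x300013000072a) (Nat.ble 660 i)) (Nat.ble 659 i)) (Nat.ble 657 i)) (Nat.ble 653 i)) (Nat.ble 645 i)) (Bool.rec (motive := fun _ => Nat) (Bool.rec (motive := fun _ => Nat) (Bool.rec (motive := fun _ => Nat) (Bool.rec (motive := fun _ => Nat) (Bool.rec (motive := fun _ => Nat) (0x131000af3) (0x1000131000558) (Nat.ble 662 i)) (Bool.rec (motive := fun _ => Nat) (0x2000131000c4e) (0x1000133000a4e) (Nat.ble 664 i)) (Nat.ble 663 i)) (Bool.rec (motive := fun _ => Nat) (Bool.rec (motive := fun _ => Nat) (0x2000133000a4a) (0x3000133000735) (Nat.ble 666 i)) (Bool.rec (motive := fun _ => Nat) (0x2000134000557) (0x3000134000c5e) (Nat.ble 668 i)) (Nat.ble 667 i)) (Nat.ble 665 i)) (Bool.rec (motive := fun _ => Nat) (Bool.rec (motive := fun _ => Nat) (Bool.rec (motive := fun _ => Nat) (0x300013500094e) (0x30001360005ed) (Nat.ble 670 i)) (Bool.rec (motive := fun _ => Nat) (0x137000f2a) (0x1000137000948) (Nat.ble 672 i)) (Nat.ble 671 i)) (Bool.rec (motive := fun _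 => Nat) (Bool.rec (motive := fun _ => Nat) (0x2000137000bbc) (0x3000137000f05) (Nat.ble 674 i)) (Bool.rec (motive := fun _ => Nat) (0x1380005b6) (0x10001380009fe) (Nat.ble 676 i)) (Nat.ble 675 i)) (Nat.ble 673 i)) (Nat.ble 669 i)) (Bool.rec (motive := fun _ => Nat) (Bool.rec (motive := fun _ => Nat) (Bool.rec (motive := fun _ => Nat) (Bool.rec (motive := fun _ => Nat) (0x20001380001d5) (0x139000a9e) (Nat.ble 678 i)) (Bool.rec (motive := fun _ => Nat) (0x2000139000ec0) (0x3000139000d84) (Nat.ble 680 i)) (Nat.ble 679 i)) (Bool.rec (motive := fun _ => Nat) (Bool.rec (motive := fun _ => Nat) (0x13a0004b1) (0x100013a00051e) (Nat.ble 682 i)) (Bool.rec (motive := fun _ => Nat) (0x200013a0004cc) (0x300013a000d79) (Nat.ble 684 i)) (Nat.ble 683 i)) (Nat.ble 681 i)) (Bool.rec (motive := fun _ => Nat) (Bool.rec (motive := fun _ => Nat) (Bool.rec (motive := fun _ => Nat) (0x13b0005e5) (0x100013b0003f7) (Nat.ble 686 i)) (Bool.rec (motive := fun _ => Nat) (0x200013b0005d6) (0x300013d000cce) (Nat.ble 688 i))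 (Nat.ble 687 i)) (Bool.rec (motive := fun _ => Nat) (Bool.rec (motive := fun _ => Nat) (0x100013e0008f2) (0x1000140000af5) (Nat.ble 690 i)) (Bool.rec (motive := fun _ => Nat) (0x14100035a) (0x30001410007b6) (Nat.ble 692 i)) (Nat.ble 691 i)) (Nat.ble 689 i)) (Nat.ble 685 i)) (Nat.ble 677 i)) (Nat.ble 661 i))
noncomputable def C20P_11 (i : Nat) : Nat := (Bool.rec (motive := fun _ => Nat) (Bool.rec (motive := fun _ => Nat) (Bool.rec (motive := fun _ => Nat) (Bool.rec (motive := fun _ => Nat) (Bool.rec (motive := fun _ => Nat) (0x142000b85) (Bool.rec (motive := fun _ => Nat) (0x3000142000e16) (0x2000143000bfc) (Nat.ble 695 i)) (Nat.ble 694 i)) (Bool.rec (motive := fun _ => Nat) (Bool.rec (motive := fun _ => Nat) (0x1000147000aba) (0x3000147000f10) (Nat.ble 697 i)) (Bool.rec (motive := fun _ => Nat) (0x3000148000298) (0x149000bfe) (Nat.ble 699 i)) (Nat.ble 698 i)) (Nat.ble 696 i)) (Bool.rec (motive := fun _ => Nat) (Bool.rec (motive := fun _ => Nat) (Bool.rec (motive := fun _ => Nat) (0x100014900045c)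 (0x2000149000909) (Nat.ble 701 i)) (Bool.rec (motive := fun _ => Nat) (0x3000149000876) (0x100014a000b16) (Nat.ble 703 i)) (Nat.ble 702 i)) (Bool.rec (motive := fun _ => Nat) (Bool.rec (motive := fun _ => Nat) (0x300014a000a40) (0x200014b000663) (Nat.ble 705 i)) (Bool.rec (motive := fun _ => Nat) (0x14c000b26) (0x100014c0008a0) (Nat.ble 707 i)) (Nat.ble 706 i)) (Nat.ble 704 i)) (Nat.ble 700 i)) (Bool.rec (motive := fun _ => Nat) (Bool.rec (motive := fun _ => Nat) (Bool.rec (motive := fun _ => Nat) (Bool.rec (motive := fun _ => Nat) (0x300014c000532) (0x14d0007c3) (Nat.ble 709 i)) (Bool.rec (motive := fun _ => Nat) (0x100014d000e68) (0x200014d000f1d) (Nat.ble 711 i)) (Nat.ble 710 i)) (Bool.rec (motive := fun _ => Nat) (Bool.rec (motive := fun _ => Nat) (0x300014d00028c) (0x14e000f2f) (Nat.ble 713 i)) (Bool.rec (motive := fun _ => Nat) (0x300014e00099b) (0x14f0004ca) (Nat.ble 715 i)) (Nat.ble 714 i)) (Nat.ble 712 i)) (Bool.rec (motive := fun _ => Nat) (Bool.rec (motive := fun _ => Nat) (Bool.rec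 (motive := fun _ => Nat) (0x200014f0004b8) (0x300014f0004c5) (Nat.ble 717 i)) (Bool.rec (motive := fun _ => Nat) (0x10001500009c2) (0x151000197) (Nat.ble 719 i)) (Nat.ble 718 i)) (Bool.rec (motive := fun _ => Nat) (Bool.rec (motive := fun _ => Nat) (0x3000151000c8b) (0x1520005e8) (Nat.ble 721 i)) (Bool.rec (motive := fun _ => Nat) (0x300015200032c) (0x20001530006f1) (Nat.ble 723 i)) (Nat.ble 722 i)) (Nat.ble 720 i)) (Nat.ble 716 i)) (Nat.ble 708 i)) (Bool.rec (motive := fun _ => Nat) (Bool.rec (motive := fun _ => Nat) (Bool.rec (motive := fun _ => Nat) (Bool.rec (motive := fun _ => Nat) (Bool.rec (motive := fun _ => Nat) (0x2000154000508) (0x3000155000d56) (Nat.ble 725 i)) (Bool.rec (motive := fun _ => Nat) (0x200015700041f) (0x1580007d2) (Nat.ble 727 i)) (Nat.ble 726 i)) (Bool.rec (motive := fun _ => Nat) (Bool.rec (motive := fun _ => Nat) (0x3000158000154) (0x100015900052c) (Nat.ble 729 i)) (Bool.rec (motive := fun _ => Nat) (0x300015b000418) (0x300015c000958) (Nat.ble 731 i)) (Nat.ble 730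 i)) (Nat.ble 728 i)) (Bool.rec (motive := fun _ => Nat) (Bool.rec (motive := fun _ => Nat) (Bool.rec (motive := fun _ => Nat) (0x100015d000f3d) (0x300015e0008ce) (Nat.ble 733 i)) (Bool.rec (motive := fun _ => Nat) (0x1000160000310) (0x1000161000650) (Nat.ble 735 i)) (Nat.ble 734 i)) (Bool.rec (motive := fun _ => Nat) (Bool.rec (motive := fun _ => Nat) (0x20001620009d9) (0x3000162000d16) (Nat.ble 737 i)) (Bool.rec (motive := fun _ => Nat) (0x2000163000269) (0x300016500024a) (Nat.ble 739 i)) (Nat.ble 738 i)) (Nat.ble 736 i)) (Nat.ble 732 i)) (Bool.rec (motive := fun _ => Nat) (Bool.rec (motive := fun _ => Nat) (Bool.rec (motive := fun _ => Nat) (Bool.rec (motive := fun _ => Nat) (0x1670009a7) (0x20001670007ff) (Nat.ble 741 i)) (Bool.rec (motive := fun _ => Nat) (0x30001670002e4) (0x1000168000585) (Nat.ble 743 i)) (Nat.ble 742 i)) (Bool.rec (motive := fun _ => Nat) (Bool.rec (motive := fun _ => Nat) (0x3000168000cfb) (0x100016900098d) (Nat.ble 745 i)) (Bool.rec (motive := fun _ => Nat) (0x30001690003c4)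 (0x16a000772) (Nat.ble 747 i)) (Nat.ble 746 i)) (Nat.ble 744 i)) (Bool.rec (motive := fun _ => Nat) (Bool.rec (motive := fun _ => Nat) (Bool.rec (motive := fun _ => Nat) (0x100016a000cae) (0x200016a000dc9) (Nat.ble 749 i)) (Bool.rec (motive := fun _ => Nat) (0x300016a0002ed) (0x300016b00031a) (Nat.ble 751 i)) (Nat.ble 750 i)) (Bool.rec (motive := fun _ => Nat) (Bool.rec (motive := fun _ => Nat) (0x300016c0006fb) (0x16d00051d) (Nat.ble 753 i)) (Bool.rec (motive := fun _ => Nat) (0x100016d0001ff) (0x200016d000230) (Nat.ble 755 i)) (Nat.ble 754 i)) (Nat.ble 752 i)) (Nat.ble 748 i)) (Nat.ble 740 i)) (Nat.ble 724 i))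
noncomputable def C20P_12 (i : Nat) : Nat := (Bool.rec (motive := fun _ => Nat) (Bool.rec (motive := fun _ => Nat) (Bool.rec (motive := fun _ => Nat) (Bool.rec (motive := fun _ => Nat) (Bool.rec (motive := fun _ => Nat) (0x300016d000431) (Bool.rec (motive := fun _ => Nat) (0x16e000358) (0x300016f000659) (Nat.ble 758 i)) (Nat.ble 757 i)) (Bool.rec (motive := fun _ => Nat) (Bool.rec (motive := fun _ => Nat) (0x30001700003b3) (0x3000171000bb4) (Nat.ble 760 i)) (Bool.rec (motive := fun _ => Nat) (0x10001720001a0) (0x200017200077e) (Nat.ble 762 i)) (Nat.ble 761 i)) (Nat.ble 759 i)) (Bool.rec (motive := fun _ => Nat) (Bool.rec (motive := fun _ => Nat) (Bool.rec (motive := fun _ => Nat) (0x3000173000029) (0x1740001d3) (Nat.ble 764 i)) (Bool.rec (motive := fun _ => Nat) (0x1000174000e11) (0x20001740005c9) (Nat.ble 766 i)) (Nat.ble 765 i)) (Bool.rec (motive := fun _ => Nat) (Bool.rec (motive := fun _ => Nat) (0x3000174000b58) (0x3000175000db6) (Nat.ble 768 i)) (Bool.rec (motive := fun _ => Nat) (0x20001760001bd)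 (0x300017700040e) (Nat.ble 770 i)) (Nat.ble 769 i)) (Nat.ble 767 i)) (Nat.ble 763 i)) (Bool.rec (motive := fun _ => Nat) (Bool.rec (motive := fun _ => Nat) (Bool.rec (motive := fun _ => Nat) (Bool.rec (motive := fun _ => Nat) (0x178000b1a) (0x10001780006be) (Nat.ble 772 i)) (Bool.rec (motive := fun _ => Nat) (0x2000178000d08) (0x3000178000379) (Nat.ble 774 i)) (Nat.ble 773 i)) (Bool.rec (motive := fun _ => Nat) (Bool.rec (motive := fun _ => Nat) (0x3000179000314) (0x100017a000d1b) (Nat.ble 776 i)) (Bool.rec (motive := fun _ => Nat) (0x200017a00046a) (0x300017a000b17) (Nat.ble 778 i)) (Nat.ble 777 i)) (Nat.ble 775 i)) (Bool.rec (motive := fun _ => Nat) (Bool.rec (motive := fun _ => Nat) (Bool.rec (motive := fun _ => Nat) (0x100017b0002d8) (0x200017b0000eb) (Nat.ble 780 i)) (Bool.rec (motive := fun _ => Nat) (0x300017c0004b9) (0x200017d0005bc) (Nat.ble 782 i)) (Nat.ble 781 i)) (Bool.rec (motive := fun _ => Nat) (Bool.rec (motive := fun _ => Nat) (0x17e000b35) (0x200017e0006bc) (Nat.ble 784 i))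 (Bool.rec (motive := fun _ => Nat) (0x300017e0001a6) (0x200017f00032d) (Nat.ble 786 i)) (Nat.ble 785 i)) (Nat.ble 783 i)) (Nat.ble 779 i)) (Nat.ble 771 i)) (Bool.rec (motive := fun _ => Nat) (Bool.rec (motive := fun _ => Nat) (Bool.rec (motive := fun _ => Nat) (Bool.rec (motive := fun _ => Nat) (Bool.rec (motive := fun _ => Nat) (0x180000b9c) (0x3000180000e39) (Nat.ble 788 i)) (Bool.rec (motive := fun _ => Nat) (0x30001810000b4) (0x1000182000373) (Nat.ble 790 i)) (Nat.ble 789 i)) (Bool.rec (motive := fun _ => Nat) (Bool.rec (motive := fun _ => Nat) (0x200018200012a) (0x1000184000e73) (Nat.ble 792 i)) (Bool.rec (motive := fun _ => Nat) (0x300018400055b) (0x3000185000d67) (Nat.ble 794 i)) (Nat.ble 793 i)) (Nat.ble 791 i)) (Bool.rec (motive := fun _ => Nat) (Bool.rec (motive := fun _ => Nat) (Bool.rec (motive := fun _ => Nat) (0x187000d07) (0x3000187000950) (Nat.ble 796 i)) (Bool.rec (motive := fun _ => Nat) (0x188000a67) (0x200018800055f) (Nat.ble 798 i)) (Nat.ble 797 i)) (Bool.rec (motive :=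 fun _ => Nat) (Bool.rec (motive := fun _ => Nat) (0x1890007a3) (0x2000189000520) (Nat.ble 800 i)) (Bool.rec (motive := fun _ => Nat) (0x300018900039f) (0x18a000a66) (Nat.ble 802 i)) (Nat.ble 801 i)) (Nat.ble 799 i)) (Nat.ble 795 i)) (Bool.rec (motive := fun _ => Nat) (Bool.rec (motive := fun _ => Nat) (Bool.rec (motive := fun _ => Nat) (Bool.rec (motive := fun _ => Nat) (0x100018a000488) (0x200018a00020d) (Nat.ble 804 i)) (Bool.rec (motive := fun _ => Nat) (0x300018a0009d0) (0x18b000b5c) (Nat.ble 806 i)) (Nat.ble 805 i)) (Bool.rec (motive := fun _ => Nat) (Bool.rec (motive := fun _ => Nat) (0x100018b000886) (0x200018b0002c2) (Nat.ble 808 i)) (Bool.rec (motive := fun _ => Nat) (0x100018c000157) (0x200018d000b42) (Nat.ble 810 i)) (Nat.ble 809 i)) (Nat.ble 807 i)) (Bool.rec (motive := fun _ => Nat) (Bool.rec (motive := fun _ => Nat) (Bool.rec (motive := fun _ => Nat) (0x300018d000cff) (0x300018e00034c) (Nat.ble 812 i)) (Bool.rec (motive := fun _ => Nat) (0x200018f000455) (0x1000190000d50) (Nat.ble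 814 i)) (Nat.ble 813 i)) (Bool.rec (motive := fun _ => Nat) (Bool.rec (motive := fun _ => Nat) (0x3000190000ef9) (0x1910007ca) (Nat.ble 816 i)) (Bool.rec (motive := fun _ => Nat) (0x1000191000e62) (0x2000191000f41) (Nat.ble 818 i)) (Nat.ble 817 i)) (Nat.ble 815 i)) (Nat.ble 811 i)) (Nat.ble 803 i)) (Nat.ble 787 i))
noncomputable def C20P_13 (i : Nat) : Nat := (Bool.rec (motive := fun _ => Nat) (Bool.rec (motive := fun _ => Nat) (Bool.rec (motive := fun _ => Nat) (Bool.rec (motive := fun _ => Nat) (Bool.rec (motive := fun _ => Nat) (0x30001910006a6) (Bool.rec (motive := fun _ => Nat) (0x3000192000e43) (0x200019300030a) (Nat.ble 821 i)) (Nat.ble 820 i)) (Bool.rec (motive := fun _ => Nat) (Bool.rec (motive := fun _ => Nat) (0x195000bad) (0x1000195000c25) (Nat.ble 823 i)) (Bool.rec (motive := fun _ => Nat) (0x2000195000081) (0x30001950008d7) (Nat.ble 825 i)) (Nat.ble 824 i)) (Nat.ble 822 i)) (Bool.rec (motive := fun _ => Nat) (Bool.rec (motive := fun _ => Nat) (Bool.rec (motive := fun _ => Nat)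 (0x3000197000342) (0x1990002b6) (Nat.ble 827 i)) (Bool.rec (motive := fun _ => Nat) (0x1000199000b83) (0x2000199000a3f) (Nat.ble 829 i)) (Nat.ble 828 i)) (Bool.rec (motive := fun _ => Nat) (Bool.rec (motive := fun _ => Nat) (0x300019900025d) (0x100019a000967) (Nat.ble 831 i)) (Bool.rec (motive := fun _ => Nat) (0x300019a00070f) (0x19b000b9b) (Nat.ble 833 i)) (Nat.ble 832 i)) (Nat.ble 830 i)) (Nat.ble 826 i)) (Bool.rec (motive := fun _ => Nat) (Bool.rec (motive := fun _ => Nat) (Bool.rec (motive := fun _ => Nat) (Bool.rec (motive := fun _ => Nat) (0x100019b00065c) (0x200019b000cde) (Nat.ble 835 i)) (Bool.rec (motive := fun _ => Nat) (0x300019b000f40) (0x300019c000019) (Nat.ble 837 i)) (Nat.ble 836 i)) (Bool.rec (motive := fun _ => Nat) (Bool.rec (motive := fun _ => Nat) (0x100019d000c3f) (0x19e000e3c) (Nat.ble 839 i)) (Bool.rec (motive := fun _ => Nat) (0x300019e0002c6) (0x200019f000c50) (Nat.ble 841 i)) (Nat.ble 840 i)) (Nat.ble 838 i)) (Bool.rec (motive := fun _ => Nat) (Bool.rec (motive :=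 fun _ => Nat) (Bool.rec (motive := fun _ => Nat) (0x300019f000723) (0x10001a0000a51) (Nat.ble 843 i)) (Bool.rec (motive := fun _ => Nat) (0x30001a20006c3) (0x30001a3000a97) (Nat.ble 845 i)) (Nat.ble 844 i)) (Bool.rec (motive := fun _ => Nat) (Bool.rec (motive := fun _ => Nat) (0x10001a40001a5) (0x10001a7000c9b) (Nat.ble 847 i)) (Bool.rec (motive := fun _ => Nat) (0x20001a70008dc) (0x20001a800059f) (Nat.ble 849 i)) (Nat.ble 848 i)) (Nat.ble 846 i)) (Nat.ble 842 i)) (Nat.ble 834 i)) (Bool.rec (motive := fun _ => Nat) (Bool.rec (motive := fun _ => Nat) (Bool.rec (motive := fun _ => Nat) (Bool.rec (motive := fun _ => Nat) (Bool.rec (motive := fun _ => Nat) (0x30001a8000cea) (0x10001a90002c4) (Nat.ble 851 i)) (Bool.rec (motive := fun _ => Nat) (0x20001a9000eaa) (0x30001ab000c60) (Nat.ble 853 i)) (Nat.ble 852 i)) (Bool.rec (motive := fun _ => Nat) (Bool.rec (motive := fun _ => Nat) (0x30001ac000987) (0x30001ad000925) (Nat.ble 855 i)) (Bool.rec (motive := fun _ => Nat) (0x30001ae000028) (0x10001af000e27)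 (Nat.ble 857 i)) (Nat.ble 856 i)) (Nat.ble 854 i)) (Bool.rec (motive := fun _ => Nat) (Bool.rec (motive := fun _ => Nat) (Bool.rec (motive := fun _ => Nat) (0x30001af000ca1) (0x10001b0000e23) (Nat.ble 859 i)) (Bool.rec (motive := fun _ => Nat) (0x20001b000007d) (0x30001b1000825) (Nat.ble 861 i)) (Nat.ble 860 i)) (Bool.rec (motive := fun _ => Nat) (Bool.rec (motive := fun _ => Nat) (0x20001b2000a53) (0x30001b2000e63) (Nat.ble 863 i)) (Bool.rec (motive := fun _ => Nat) (0x20001b3000823) (0x1b400074e) (Nat.ble 865 i)) (Nat.ble 864 i)) (Nat.ble 862 i)) (Nat.ble 858 i)) (Bool.rec (motive := fun _ => Nat) (Bool.rec (motive := fun _ => Nat) (Bool.rec (motive := fun _ => Nat) (Bool.rec (motive := fun _ => Nat) (0x30001b4000630) (0x10001b500062f) (Nat.ble 867 i)) (Bool.rec (motive := fun _ => Nat) (0x30001b6000ca8) (0x30001b7000e6d) (Nat.ble 869 i)) (Nat.ble 868 i)) (Bool.rec (motive := fun _ => Nat) (Bool.rec (motive := fun _ => Nat) (0x1b80006ab) (0x10001b8000bf1) (Nat.ble 871 i)) (Bool.rec (motive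 := fun _ => Nat) (0x20001b8000ad3) (0x30001b8000c0c) (Nat.ble 873 i)) (Nat.ble 872 i)) (Nat.ble 870 i)) (Bool.rec (motive := fun _ => Nat) (Bool.rec (motive := fun _ => Nat) (Bool.rec (motive := fun _ => Nat) (0x30001b90007e0) (0x20001ba0006ca) (Nat.ble 875 i)) (Bool.rec (motive := fun _ => Nat) (0x30001bb0000e4) (0x1bc0007c2) (Nat.ble 877 i)) (Nat.ble 876 i)) (Bool.rec (motive := fun _ => Nat) (Bool.rec (motive := fun _ => Nat) (0x10001bc000ee1) (0x20001bc000e25) (Nat.ble 879 i)) (Bool.rec (motive := fun _ => Nat) (0x30001bc000597) (0x30001bd00025e) (Nat.ble 881 i)) (Nat.ble 880 i)) (Nat.ble 878 i)) (Nat.ble 874 i)) (Nat.ble 866 i)) (Nat.ble 850 i))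
noncomputable def C20P_14 (i : Nat) : Nat := (Bool.rec (motive := fun _ => Nat) (Bool.rec (motive := fun _ => Nat) (Bool.rec (motive := fun _ => Nat) (Bool.rec (motive := fun _ => Nat) (Bool.rec (motive := fun _ => Nat) (0x1be000df4) (Bool.rec (motive := fun _ => Nat) (0x30001be000947) (0x10001bf0009ca) (Nat.ble 884 i)) (Nat.ble 883 i)) (Bool.rec (motive := fun _ => Nat) (Bool.rec (motive := fun _ => Nat) (0x20001bf000027) (0x30001bf0007c9) (Nat.ble 886 i)) (Bool.rec (motive := fun _ => Nat) (0x30001c0000017) (0x1c1000bd2) (Nat.ble 888 i)) (Nat.ble 887 i)) (Nat.ble 885 i)) (Bool.rec (motive := fun _ => Nat) (Bool.rec (motive := fun _ => Nat) (Bool.rec (motive := fun _ => Nat) (0x10001c1000cf1) (0x20001c10007d4) (Nat.ble 890 i)) (Bool.rec (motive := fun _ => Nat) (0x10001c20002ff) (0x20001c20006d3) (Nat.ble 892 i)) (Nat.ble 891 i)) (Bool.rec (motive := fun _ => Nat) (Bool.rec (motive := fun _ => Nat) (0x1c3000232) (0x10001c3000c56) (Nat.ble 894 i)) (Bool.rec (motive := fun _ => Nat) (0x20001c3000266)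 (0x30001c3000442) (Nat.ble 896 i)) (Nat.ble 895 i)) (Nat.ble 893 i)) (Nat.ble 889 i)) (Bool.rec (motive := fun _ => Nat) (Bool.rec (motive := fun _ => Nat) (Bool.rec (motive := fun _ => Nat) (Bool.rec (motive := fun _ => Nat) (0x1c400053f) (0x20001c4000aec) (Nat.ble 898 i)) (Bool.rec (motive := fun _ => Nat) (0x10001c50002a0) (0x10001c7000e3b) (Nat.ble 900 i)) (Nat.ble 899 i)) (Bool.rec (motive := fun _ => Nat) (Bool.rec (motive := fun _ => Nat) (0x20001c7000755) (0x30001c7000150) (Nat.ble 902 i)) (Bool.rec (motive := fun _ => Nat) (0x20001c8000389) (0x30001c8000359) (Nat.ble 904 i)) (Nat.ble 903 i)) (Nat.ble 901 i)) (Bool.rec (motive := fun _ => Nat) (Bool.rec (motive := fun _ => Nat) (Bool.rec (motive := fun _ => Nat) (0x30001ca000b70) (0x1cb000afe) (Nat.ble 906 i)) (Bool.rec (motive := fun _ => Nat) (0x10001cb0005f5) (0x20001cb000ec2) (Nat.ble 908 i)) (Nat.ble 907 i)) (Bool.rec (motive := fun _ => Nat) (Bool.rec (motive := fun _ => Nat) (0x30001cb00001b) (0x1cc0000e5) (Nat.ble 910 i)) (Bool.rec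 (motive := fun _ => Nat) (0x10001cc0006e2) (0x20001cc000c27) (Nat.ble 912 i)) (Nat.ble 911 i)) (Nat.ble 909 i)) (Nat.ble 905 i)) (Nat.ble 897 i)) (Bool.rec (motive := fun _ => Nat) (Bool.rec (motive := fun _ => Nat) (Bool.rec (motive := fun _ => Nat) (Bool.rec (motive := fun _ => Nat) (Bool.rec (motive := fun _ => Nat) (0x1cd0007be) (0x20001cd00085f) (Nat.ble 914 i)) (Bool.rec (motive := fun _ => Nat) (0x1ce00068b) (0x10001ce000e60) (Nat.ble 916 i)) (Nat.ble 915 i)) (Bool.rec (motive := fun _ => Nat) (Bool.rec (motive := fun _ => Nat) (0x20001ce000f01) (0x30001ce000b2d) (Nat.ble 918 i)) (Bool.rec (motive := fun _ => Nat) (0x1cf0000e7) (0x10001cf000d76) (Nat.ble 920 i)) (Nat.ble 919 i)) (Nat.ble 917 i)) (Bool.rec (motive := fun _ => Nat) (Bool.rec (motive := fun _ => Nat) (Bool.rec (motive := fun _ => Nat) (0x20001cf000dff) (0x10001d000015f) (Nat.ble 922 i)) (Bool.rec (motive := fun _ => Nat) (0x20001d1000f35) (0x30001d100005e) (Nat.ble 924 i)) (Nat.ble 923 i)) (Bool.rec (motive := fun _ => Nat)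 (Bool.rec (motive := fun _ => Nat) (0x30001d2000807) (0x20001d300062e) (Nat.ble 926 i)) (Bool.rec (motive := fun _ => Nat) (0x30001d4000147) (0x1d50008eb) (Nat.ble 928 i)) (Nat.ble 927 i)) (Nat.ble 925 i)) (Nat.ble 921 i)) (Bool.rec (motive := fun _ => Nat) (Bool.rec (motive := fun _ => Nat) (Bool.rec (motive := fun _ => Nat) (Bool.rec (motive := fun _ => Nat) (0x10001d50008d3) (0x20001d5000cdf) (Nat.ble 930 i)) (Bool.rec (motive := fun _ => Nat) (0x30001d50005c5) (0x20001d700024b) (Nat.ble 932 i)) (Nat.ble 931 i)) (Bool.rec (motive := fun _ => Nat) (Bool.rec (motive := fun _ => Nat) (0x30001d8000c39) (0x1d9000829) (Nat.ble 934 i)) (Bool.rec (motive := fun _ => Nat) (0x10001d9000e9b) (0x20001d9000c5b) (Nat.ble 936 i)) (Nat.ble 935 i)) (Nat.ble 933 i)) (Bool.rec (motive := fun _ => Nat) (Bool.rec (motive := fun _ => Nat) (Bool.rec (motive := fun _ => Nat) (0x30001da000e64) (0x30001dc00076b) (Nat.ble 938 i)) (Bool.rec (motive := fun _ => Nat) (0x30001dd0005c1) (0x1de00010f) (Nat.ble 940 i)) (Nat.ble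 939 i)) (Bool.rec (motive := fun _ => Nat) (Bool.rec (motive := fun _ => Nat) (0x30001df0001df) (0x30001e0000aa5) (Nat.ble 942 i)) (Bool.rec (motive := fun _ => Nat) (0x30001e1000282) (0x1e2000502) (Nat.ble 944 i)) (Nat.ble 943 i)) (Nat.ble 941 i)) (Nat.ble 937 i)) (Nat.ble 929 i)) (Nat.ble 913 i))
noncomputable def C20P_15 (i : Nat) : Nat := (Bool.rec (motive := fun _ => Nat) (Bool.rec (motive := fun _ => Nat) (Bool.rec (motive := fun _ => Nat) (Bool.rec (motive := fun _ => Nat) (Bool.rec (motive := fun _ => Nat) (0x10001e200011b) (Bool.rec (motive := fun _ => Nat) (0x30001e2000f23) (0x30001e3000e7f) (Nat.ble 947 i)) (Nat.ble 946 i)) (Bool.rec (motive := fun _ => Nat) (Bool.rec (motive := fun _ => Nat) (0x1e400083a) (0x10001e4000a3d) (Nat.ble 949 i)) (Bool.rec (motive := fun _ => Nat) (0x20001e40005d4) (0x30001e40008a6) (Nat.ble 951 i)) (Nat.ble 950 i)) (Nat.ble 948 i)) (Bool.rec (motive := fun _ => Nat) (Bool.rec (motive := fun _ => Nat) (Bool.rec (motive := fun _ => Nat) (0x1e6000952) (0x30001e600018f)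 (Nat.ble 953 i)) (Bool.rec (motive := fun _ => Nat) (0x30001e7000715) (0x30001e800072c) (Nat.ble 955 i)) (Nat.ble 954 i)) (Bool.rec (motive := fun _ => Nat) (Bool.rec (motive := fun _ => Nat) (0x30001e9000bc1) (0x30001ea000730) (Nat.ble 957 i)) (Bool.rec (motive := fun _ => Nat) (0x20001eb000256) (0x30001eb000efb) (Nat.ble 959 i)) (Nat.ble 958 i)) (Nat.ble 956 i)) (Nat.ble 952 i)) (Bool.rec (motive := fun _ => Nat) (Bool.rec (motive := fun _ => Nat) (Bool.rec (motive := fun _ => Nat) (Bool.rec (motive := fun _ => Nat) (0x30001ec00041e) (0x10001ed0000d8) (Nat.ble 961 i)) (Bool.rec (motive := fun _ => Nat) (0x20001ed000651) (0x10001ef0005ac) (Nat.ble 963 i)) (Nat.ble 962 i)) (Bool.rec (motive := fun _ => Nat) (Bool.rec (motive := fun _ => Nat) (0x20001ef0000ce) (0x30001ef000aa1) (Nat.ble 965 i)) (Bool.rec (motive := fun _ => Nat) (0x30001f00005cf) (0x1f1000aae) (Nat.ble 967 i)) (Nat.ble 966 i)) (Nat.ble 964 i)) (Bool.rec (motive := fun _ => Nat) (Bool.rec (motive := fun _ => Nat) (Bool.rec (motive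 := fun _ => Nat) (0x10001f1000e85) (0x20001f1000db8) (Nat.ble 969 i)) (Bool.rec (motive := fun _ => Nat) (0x10001f2000201) (0x20001f2000037) (Nat.ble 971 i)) (Nat.ble 970 i)) (Bool.rec (motive := fun _ => Nat) (Bool.rec (motive := fun _ => Nat) (0x1f3000e09) (0x20001f3000f37) (Nat.ble 973 i)) (Bool.rec (motive := fun _ => Nat) (0x30001f30008ff) (0x1f40004ae) (Nat.ble 975 i)) (Nat.ble 974 i)) (Nat.ble 972 i)) (Nat.ble 968 i)) (Nat.ble 960 i)) (Bool.rec (motive := fun _ => Nat) (Bool.rec (motive := fun _ => Nat) (Bool.rec (motive := fun _ => Nat) (Bool.rec (motive := fun _ => Nat) (Bool.rec (motive := fun _ => Nat) (0x20001f40004c1) (0x1f5000f33) (Nat.ble 977 i)) (Bool.rec (motive := fun _ => Nat) (0x10001f5000a82) (0x20001f5000f09) (Nat.ble 979 i)) (Nat.ble 978 i)) (Bool.rec (motive := fun _ => Nat) (Bool.rec (motive := fun _ => Nat) (0x10001f7000da3) (0x20001f7000d19) (Nat.ble 981 i)) (Bool.rec (motive := fun _ => Nat) (0x30001f7000426) (0x30001f8000936) (Nat.ble 983 i)) (Nat.ble 982 i)) (Nat.ble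 980 i)) (Bool.rec (motive := fun _ => Nat) (Bool.rec (motive := fun _ => Nat) (Bool.rec (motive := fun _ => Nat) (0x1f9000461) (0x10001f9000a19) (Nat.ble 985 i)) (Bool.rec (motive := fun _ => Nat) (0x20001f90000d7) (0x10001fa000ec6) (Nat.ble 987 i)) (Nat.ble 986 i)) (Bool.rec (motive := fun _ => Nat) (Bool.rec (motive := fun _ => Nat) (0x1fb0003dc) (0x20001fb00067a) (Nat.ble 989 i)) (Bool.rec (motive := fun _ => Nat) (0x30001fb0007e5) (0x1fc000d0c) (Nat.ble 991 i)) (Nat.ble 990 i)) (Nat.ble 988 i)) (Nat.ble 984 i)) (Bool.rec (motive := fun _ => Nat) (Bool.rec (motive := fun _ => Nat) (Bool.rec (motive := fun _ => Nat) (Bool.rec (motive := fun _ => Nat) (0x10001fc000de3) (0x20001fc000dda) (Nat.ble 993 i)) (Bool.rec (motive := fun _ => Nat) (0x20001fd000b5f) (0x20000051b) (Nat.ble 995 i)) (Nat.ble 994 i)) (Bool.rec (motive := fun _ => Nat) (Bool.rec (motive := fun _ => Nat) (0x1000200000ba0) (0x2000204000634) (Nat.ble 997 i)) (Bool.rec (motive := fun _ => Nat) (0x2000205000c2d) (0x300020500004c)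 (Nat.ble 999 i)) (Nat.ble 998 i)) (Nat.ble 996 i)) (Bool.rec (motive := fun _ => Nat) (Bool.rec (motive := fun _ => Nat) (Bool.rec (motive := fun _ => Nat) (0x3000206000103) (0x207000eaf) (Nat.ble 1001 i)) (Bool.rec (motive := fun _ => Nat) (0x10002070002b7) (0x20002070000a8) (Nat.ble 1003 i)) (Nat.ble 1002 i)) (Bool.rec (motive := fun _ => Nat) (Bool.rec (motive := fun _ => Nat) (0x3000208000c41) (0x209000208) (Nat.ble 1005 i)) (Bool.rec (motive := fun _ => Nat) (0x20002090004ed) (0x3000209000c09) (Nat.ble 1007 i)) (Nat.ble 1006 i)) (Nat.ble 1004 i)) (Nat.ble 1000 i)) (Nat.ble 992 i)) (Nat.ble 976 i))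
noncomputable def C20P_16 (i : Nat) : Nat := (Bool.rec (motive := fun _ => Nat) (Bool.rec (motive := fun _ => Nat) (Bool.rec (motive := fun _ => Nat) (Bool.rec (motive := fun _ => Nat) (Bool.rec (motive := fun _ => Nat) (0x300020b000023) (Bool.rec (motive := fun _ => Nat) (0x100020c000bcf) (0x200020c000cdd) (Nat.ble 1010 i)) (Nat.ble 1009 i)) (Bool.rec (motive := fun _ => Nat) (Bool.rec (motive := fun _ => Nat) (0x300020d000c6c) (0x20e000172) (Nat.ble 1012 i)) (Bool.rec (motive := fun _ => Nat) (0x100020e000173) (0x300020f000665) (Nat.ble 1014 i)) (Nat.ble 1013 i)) (Nat.ble 1011 i)) (Bool.rec (motive := fun _ => Nat) (Bool.rec (motive := fun _ => Nat) (Bool.rec (motive := fun _ => Nat) (0x21000050c) (0x1000210000ba1) (Nat.ble 1016 i)) (Bool.rec (motive := fun _ => Nat) (0x2000210000dea) (0x300021000036f) (Nat.ble 1018 i)) (Nat.ble 1017 i)) (Bool.rec (motive := fun _ => Nat) (Bool.rec (motive := fun _ => Nat) (0x100021100025b) (0x30002110003d4) (Nat.ble 1020 i)) (Bool.rec (motive := fun _ =>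 Nat) (0x3000212000d62) (0x213000cf2) (Nat.ble 1022 i)) (Nat.ble 1021 i)) (Nat.ble 1019 i)) (Nat.ble 1015 i)) (Bool.rec (motive := fun _ => Nat) (Bool.rec (motive := fun _ => Nat) (Bool.rec (motive := fun _ => Nat) (Bool.rec (motive := fun _ => Nat) (0x10002130001b8) (0x200021300022c) (Nat.ble 1024 i)) (Bool.rec (motive := fun _ => Nat) (0x300021300016a) (0x300021600037f) (Nat.ble 1026 i)) (Nat.ble 1025 i)) (Bool.rec (motive := fun _ => Nat) (Bool.rec (motive := fun _ => Nat) (0x3000217000b36) (0x2180008aa) (Nat.ble 1028 i)) (Bool.rec (motive := fun _ => Nat) (0x1000218000222) (0x2000218000376) (Nat.ble 1030 i)) (Nat.ble 1029 i)) (Nat.ble 1027 i)) (Bool.rec (motive := fun _ => Nat) (Bool.rec (motive := fun _ => Nat) (Bool.rec (motive := fun _ => Nat) (0x3000218000d4c) (0x100021900081b) (Nat.ble 1032 i)) (Bool.rec (motive := fun _ => Nat) (0x30002190007a4) (0x21a00004a) (Nat.ble 1034 i)) (Nat.ble 1033 i)) (Bool.rec (motive := fun _ => Nat) (Bool.rec (motive := fun _ => Nat) (0x300021a00056a) (0x21b0002ee)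 (Nat.ble 1036 i)) (Bool.rec (motive := fun _ => Nat) (0x100021b000beb) (0x200021b00017e) (Nat.ble 1038 i)) (Nat.ble 1037 i)) (Nat.ble 1035 i)) (Nat.ble 1031 i)) (Nat.ble 1023 i)) (Bool.rec (motive := fun _ => Nat) (Bool.rec (motive := fun _ => Nat) (Bool.rec (motive := fun _ => Nat) (Bool.rec (motive := fun _ => Nat) (Bool.rec (motive := fun _ => Nat) (0x300021b000c82) (0x300021d000553) (Nat.ble 1040 i)) (Bool.rec (motive := fun _ => Nat) (0x200021e000a0b) (0x22100055d) (Nat.ble 1042 i)) (Nat.ble 1041 i)) (Bool.rec (motive := fun _ => Nat) (Bool.rec (motive := fun _ => Nat) (0x3000221000b57) (0x3000223000283) (Nat.ble 1044 i)) (Bool.rec (motive := fun _ => Nat) (0x224000221) (0x1000224000e14) (Nat.ble 1046 i)) (Nat.ble 1045 i)) (Nat.ble 1043 i)) (Bool.rec (motive := fun _ => Nat) (Bool.rec (motive := fun _ => Nat) (Bool.rec (motive := fun _ => Nat) (0x200022400070d) (0x3000224000a52) (Nat.ble 1048 i)) (Bool.rec (motive := fun _ => Nat) (0x3000225000caa) (0x226000862) (Nat.ble 1050 i)) (Nat.ble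 1049 i)) (Bool.rec (motive := fun _ => Nat) (Bool.rec (motive := fun _ => Nat) (0x1000226000183) (0x2000226000760) (Nat.ble 1052 i)) (Bool.rec (motive := fun _ => Nat) (0x3000226000ee7) (0x3000227000b79) (Nat.ble 1054 i)) (Nat.ble 1053 i)) (Nat.ble 1051 i)) (Nat.ble 1047 i)) (Bool.rec (motive := fun _ => Nat) (Bool.rec (motive := fun _ => Nat) (Bool.rec (motive := fun _ => Nat) (Bool.rec (motive := fun _ => Nat) (0x1000228000e92) (0x1000229000d54) (Nat.ble 1056 i)) (Bool.rec (motive := fun _ => Nat) (0x22a000ac3) (0x200022a0007ab) (Nat.ble 1058 i)) (Nat.ble 1057 i)) (Bool.rec (motive := fun _ => Nat) (Bool.rec (motive := fun _ => Nat) (0x300022a00024c) (0x100022b0001fc) (Nat.ble 1060 i)) (Bool.rec (motive := fun _ => Nat) (0x300022b000f0d) (0x100022c0004ee) (Nat.ble 1062 i)) (Nat.ble 1061 i)) (Nat.ble 1059 i)) (Bool.rec (motive := fun _ => Nat) (Bool.rec (motive := fun _ => Nat) (Bool.rec (motive := fun _ => Nat) (0x300022c000c3b) (0x22d00006f) (Nat.ble 1064 i)) (Bool.rec (motive := fun _ =>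 Nat) (0x100022d00047d) (0x200022d00037e) (Nat.ble 1066 i)) (Nat.ble 1065 i)) (Bool.rec (motive := fun _ => Nat) (Bool.rec (motive := fun _ => Nat) (0x300022d000cf8) (0x300022e0003b9) (Nat.ble 1068 i)) (Bool.rec (motive := fun _ => Nat) (0x300022f0009cd) (0x230000cec) (Nat.ble 1070 i)) (Nat.ble 1069 i)) (Nat.ble 1067 i)) (Nat.ble 1063 i)) (Nat.ble 1055 i)) (Nat.ble 1039 i))
noncomputable def C20P_17 (i : Nat) : Nat := (Bool.rec (motive := fun _ => Nat) (Bool.rec (motive := fun _ => Nat) (Bool.rec (motive := fun _ => Nat) (Bool.rec (motive := fun _ => Nat) (Bool.rec (motive := fun _ => Nat) (0x2000230000a8f) (Bool.rec (motive := fun _ => Nat) (0x30002300008e7) (0x30002320006df) (Nat.ble 1073 i)) (Nat.ble 1072 i)) (Bool.rec (motive := fun _ => Nat) (Bool.rec (motive := fun _ => Nat) (0x300023300013e) (0x30002340006f7) (Nat.ble 1075 i)) (Bool.rec (motive := fun _ => Nat) (0x235000eca) (0x2000235000ce6) (Nat.ble 1077 i)) (Nat.ble 1076 i)) (Nat.ble 1074 i)) (Bool.rec (motive := fun _ => Nat) (Bool.rec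 (motive := fun _ => Nat) (Bool.rec (motive := fun _ => Nat) (0x3000235000cbc) (0x3000236000d6d) (Nat.ble 1079 i)) (Bool.rec (motive := fun _ => Nat) (0x20002370006cb) (0x3000238000684) (Nat.ble 1081 i)) (Nat.ble 1080 i)) (Bool.rec (motive := fun _ => Nat) (Bool.rec (motive := fun _ => Nat) (0x239000626) (0x1000239000575) (Nat.ble 1083 i)) (Bool.rec (motive := fun _ => Nat) (0x3000239000cbf) (0x300023a00094a) (Nat.ble 1085 i)) (Nat.ble 1084 i)) (Nat.ble 1082 i)) (Nat.ble 1078 i)) (Bool.rec (motive := fun _ => Nat) (Bool.rec (motive := fun _ => Nat) (Bool.rec (motive := fun _ => Nat) (Bool.rec (motive := fun _ => Nat) (0x300023b000a28) (0x300023c000ade) (Nat.ble 1087 i)) (Bool.rec (motive := fun _ => Nat) (0x23d00095a) (0x100023d000d58) (Nat.ble 1089 i)) (Nat.ble 1088 i)) (Bool.rec (motive := fun _ => Nat) (Bool.rec (motive := fun _ => Nat) (0x100023e00092c) (0x200023e0005d0) (Nat.ble 1091 i)) (Bool.rec (motive := fun _ => Nat) (0x23f0002eb) (0x100023f00027c) (Nat.ble 1093 i)) (Nat.ble 1092 i))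 (Nat.ble 1090 i)) (Bool.rec (motive := fun _ => Nat) (Bool.rec (motive := fun _ => Nat) (Bool.rec (motive := fun _ => Nat) (0x200023f000ba4) (0x300023f000353) (Nat.ble 1095 i)) (Bool.rec (motive := fun _ => Nat) (0x240000dcf) (0x2000240000afb) (Nat.ble 1097 i)) (Nat.ble 1096 i)) (Bool.rec (motive := fun _ => Nat) (Bool.rec (motive := fun _ => Nat) (0x3000240000757) (0x1000243000de1) (Nat.ble 1099 i)) (Bool.rec (motive := fun _ => Nat) (0x2000243000b6f) (0x3000243000d55) (Nat.ble 1101 i)) (Nat.ble 1100 i)) (Nat.ble 1098 i)) (Nat.ble 1094 i)) (Nat.ble 1086 i)) (Bool.rec (motive := fun _ => Nat) (Bool.rec (motive := fun _ => Nat) (Bool.rec (motive := fun _ => Nat) (Bool.rec (motive := fun _ => Nat) (Bool.rec (motive := fun _ => Nat) (0x3000244000931) (0x245000228) (Nat.ble 1103 i)) (Bool.rec (motive := fun _ => Nat) (0x2000245000893) (0x30002450002f6) (Nat.ble 1105 i)) (Nat.ble 1104 i)) (Bool.rec (motive := fun _ => Nat) (Bool.rec (motive := fun _ => Nat) (0x246000511) (0x1000246000b18) (Nat.ble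 1107 i)) (Bool.rec (motive := fun _ => Nat) (0x24700071c) (0x2000247000c8e) (Nat.ble 1109 i)) (Nat.ble 1108 i)) (Nat.ble 1106 i)) (Bool.rec (motive := fun _ => Nat) (Bool.rec (motive := fun _ => Nat) (Bool.rec (motive := fun _ => Nat) (0x3000247000832) (0x248000f0f) (Nat.ble 1111 i)) (Bool.rec (motive := fun _ => Nat) (0x1000248000b0e) (0x20002480008e1) (Nat.ble 1113 i)) (Nat.ble 1112 i)) (Bool.rec (motive := fun _ => Nat) (Bool.rec (motive := fun _ => Nat) (0x3000248000f02) (0x1000249000795) (Nat.ble 1115 i)) (Bool.rec (motive := fun _ => Nat) (0x2000249000e3a) (0x200024b000673) (Nat.ble 1117 i)) (Nat.ble 1116 i)) (Nat.ble 1114 i)) (Nat.ble 1110 i)) (Bool.rec (motive := fun _ => Nat) (Bool.rec (motive := fun _ => Nat) (Bool.rec (motive := fun _ => Nat) (Bool.rec (motive := fun _ => Nat) (0x300024b000759) (0x300024c000971) (Nat.ble 1119 i)) (Bool.rec (motive := fun _ => Nat) (0x300024d000380) (0x24e000297) (Nat.ble 1121 i)) (Nat.ble 1120 i)) (Bool.rec (motive := fun _ => Nat) (Bool.rec (motive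 := fun _ => Nat) (0x100024e000cb8) (0x200024e0000fb) (Nat.ble 1123 i)) (Bool.rec (motive := fun _ => Nat) (0x300024e000a88) (0x300024f00043a) (Nat.ble 1125 i)) (Nat.ble 1124 i)) (Nat.ble 1122 i)) (Bool.rec (motive := fun _ => Nat) (Bool.rec (motive := fun _ => Nat) (Bool.rec (motive := fun _ => Nat) (0x3000251000bbe) (0x1000252000204) (Nat.ble 1127 i)) (Bool.rec (motive := fun _ => Nat) (0x256000de4) (0x100025600095f) (Nat.ble 1129 i)) (Nat.ble 1128 i)) (Bool.rec (motive := fun _ => Nat) (Bool.rec (motive := fun _ => Nat) (0x2000256000e7a) (0x3000256000ec8) (Nat.ble 1131 i)) (Bool.rec (motive := fun _ => Nat) (0x3000257000697) (0x258000a26) (Nat.ble 1133 i)) (Nat.ble 1132 i)) (Nat.ble 1130 i)) (Nat.ble 1126 i)) (Nat.ble 1118 i)) (Nat.ble 1102 i))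
noncomputable def C20P_18 (i : Nat) : Nat := (Bool.rec (motive := fun _ => Nat) (Bool.rec (motive := fun _ => Nat) (Bool.rec (motive := fun _ => Nat) (Bool.rec (motive := fun _ => Nat) (Bool.rec (motive := fun _ => Nat) (0x1000258000ce3) (Bool.rec (motive := fun _ => Nat) (0x2000258000076) (0x3000259000eb0) (Nat.ble 1136 i)) (Nat.ble 1135 i)) (Bool.rec (motive := fun _ => Nat) (Bool.rec (motive := fun _ => Nat) (0x300025a0007e3) (0x300025c000f0e) (Nat.ble 1138 i)) (Bool.rec (motive := fun _ => Nat) (0x25d000578) (0x300025d000c6d) (Nat.ble 1140 i)) (Nat.ble 1139 i)) (Nat.ble 1137 i)) (Bool.rec (motive := fun _ => Nat) (Bool.rec (motive := fun _ => Nat) (Bool.rec (motive := fun _ => Nat) (0x300025e0002e5) (0x3000261000720) (Nat.ble 1142 i)) (Bool.rec (motive := fun _ => Nat) (0x20002630005f6) (0x30002630007a0) (Nat.ble 1144 i)) (Nat.ble 1143 i)) (Bool.rec (motive := fun _ => Nat) (Bool.rec (motive := fun _ => Nat) (0x3000264000adf) (0x1000265000b22) (Nat.ble 1146 i)) (Bool.rec (motive := fun _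 => Nat) (0x2000265000cf0) (0x3000267000834) (Nat.ble 1148 i)) (Nat.ble 1147 i)) (Nat.ble 1145 i)) (Nat.ble 1141 i)) (Bool.rec (motive := fun _ => Nat) (Bool.rec (motive := fun _ => Nat) (Bool.rec (motive := fun _ => Nat) (Bool.rec (motive := fun _ => Nat) (0x2690008a3) (0x100026900005c) (Nat.ble 1150 i)) (Bool.rec (motive := fun _ => Nat) (0x2000269000469) (0x300026a0008e8) (Nat.ble 1152 i)) (Nat.ble 1151 i)) (Bool.rec (motive := fun _ => Nat) (Bool.rec (motive := fun _ => Nat) (0x100026b000b3f) (0x200026b000c24) (Nat.ble 1154 i)) (Bool.rec (motive := fun _ => Nat) (0x26c000531) (0x100026c0008fe) (Nat.ble 1156 i)) (Nat.ble 1155 i)) (Nat.ble 1153 i)) (Bool.rec (motive := fun _ => Nat) (Bool.rec (motive := fun _ => Nat) (Bool.rec (motive := fun _ => Nat) (0x100026d00055a) (0x200026d00025c) (Nat.ble 1158 i)) (Bool.rec (motive := fun _ => Nat) (0x26e000a36) (0x100026e000a24) (Nat.ble 1160 i)) (Nat.ble 1159 i)) (Bool.rec (motive := fun _ => Nat) (Bool.rec (motive := fun _ => Nat) (0x26f000a1d) (0x300026f000b46)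 (Nat.ble 1162 i)) (Bool.rec (motive := fun _ => Nat) (0x1000270000249) (0x2000272000c29) (Nat.ble 1164 i)) (Nat.ble 1163 i)) (Nat.ble 1161 i)) (Nat.ble 1157 i)) (Nat.ble 1149 i)) (Bool.rec (motive := fun _ => Nat) (Bool.rec (motive := fun _ => Nat) (Bool.rec (motive := fun _ => Nat) (Bool.rec (motive := fun _ => Nat) (Bool.rec (motive := fun _ => Nat) (0x3000272000144) (0x3000273000750) (Nat.ble 1166 i)) (Bool.rec (motive := fun _ => Nat) (0x3000275000739) (0x276000c7e) (Nat.ble 1168 i)) (Nat.ble 1167 i)) (Bool.rec (motive := fun _ => Nat) (Bool.rec (motive := fun _ => Nat) (0x10002760000d2) (0x10002770003c6) (Nat.ble 1170 i)) (Bool.rec (motive := fun _ => Nat) (0x2000277000313) (0x278000ec9) (Nat.ble 1172 i)) (Nat.ble 1171 i)) (Nat.ble 1169 i)) (Bool.rec (motive := fun _ => Nat) (Bool.rec (motive := fun _ => Nat) (Bool.rec (motive := fun _ => Nat) (0x2000278000125) (0x3000278000d27) (Nat.ble 1174 i)) (Bool.rec (motive := fun _ => Nat) (0x279000126) (0x1000279000d6a) (Nat.ble 1176 i)) (Nat.ble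 1175 i)) (Bool.rec (motive := fun _ => Nat) (Bool.rec (motive := fun _ => Nat) (0x2000279000a7d) (0x3000279000621) (Nat.ble 1178 i)) (Bool.rec (motive := fun _ => Nat) (0x200027a00095b) (0x300027b0009a8) (Nat.ble 1180 i)) (Nat.ble 1179 i)) (Nat.ble 1177 i)) (Nat.ble 1173 i)) (Bool.rec (motive := fun _ => Nat) (Bool.rec (motive := fun _ => Nat) (Bool.rec (motive := fun _ => Nat) (Bool.rec (motive := fun _ => Nat) (0x300027d000400) (0x27e000510) (Nat.ble 1182 i)) (Bool.rec (motive := fun _ => Nat) (0x100027e000bf5) (0x200027e000da2) (Nat.ble 1184 i)) (Nat.ble 1183 i)) (Bool.rec (motive := fun _ => Nat) (Bool.rec (motive := fun _ => Nat) (0x300027e000e4a) (0x27f0003ae) (Nat.ble 1186 i)) (Bool.rec (motive := fun _ => Nat) (0x200027f000207) (0x280000305) (Nat.ble 1188 i)) (Nat.ble 1187 i)) (Nat.ble 1185 i)) (Bool.rec (motive := fun _ => Nat) (Bool.rec (motive := fun _ => Nat) (Bool.rec (motive := fun _ => Nat) (0x2000280000bf8) (0x281000ea9) (Nat.ble 1190 i)) (Bool.rec (motive := fun _ => Nat) (0x2000281000b81)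 (0x1000282000ec5) (Nat.ble 1192 i)) (Nat.ble 1191 i)) (Bool.rec (motive := fun _ => Nat) (Bool.rec (motive := fun _ => Nat) (0x20002820000ff) (0x3000283000622) (Nat.ble 1194 i)) (Bool.rec (motive := fun _ => Nat) (0x28400033c) (0x100028400022d) (Nat.ble 1196 i)) (Nat.ble 1195 i)) (Nat.ble 1193 i)) (Nat.ble 1189 i)) (Nat.ble 1181 i)) (Nat.ble 1165 i))
noncomputable def C20P_19 (i : Nat) : Nat := (Bool.rec (motive := fun _ => Nat) (Bool.rec (motive := fun _ => Nat) (Bool.rec (motive := fun _ => Nat) (Bool.rec (motive := fun _ => Nat) (Bool.rec (motive := fun _ => Nat) (0x3000284000d2c) (Bool.rec (motive := fun _ => Nat) (0x1000285000224) (0x2000285000605) (Nat.ble 1199 i)) (Nat.ble 1198 i)) (Bool.rec (motive := fun _ => Nat) (Bool.rec (motive := fun _ => Nat) (0x3000285000602) (0x2860003e9) (Nat.ble 1201 i)) (Bool.rec (motive := fun _ => Nat) (0x20002860002df) (0x20002880008b6) (Nat.ble 1203 i)) (Nat.ble 1202 i)) (Nat.ble 1200 i)) (Bool.rec (motive := fun _ => Nat) (Bool.rec (motive := fun _ =>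 Nat) (Bool.rec (motive := fun _ => Nat) (0x289000854) (0x20002890001fd) (Nat.ble 1205 i)) (Bool.rec (motive := fun _ => Nat) (0x300028900013a) (0x28a000033) (Nat.ble 1207 i)) (Nat.ble 1206 i)) (Bool.rec (motive := fun _ => Nat) (Bool.rec (motive := fun _ => Nat) (0x200028a000565) (0x100028b000036) (Nat.ble 1209 i)) (Bool.rec (motive := fun _ => Nat) (0x200028b00050a) (0x28c000ecc) (Nat.ble 1211 i)) (Nat.ble 1210 i)) (Nat.ble 1208 i)) (Nat.ble 1204 i)) (Bool.rec (motive := fun _ => Nat) (Bool.rec (motive := fun _ => Nat) (Bool.rec (motive := fun _ => Nat) (Bool.rec (motive := fun _ => Nat) (0x100028c000cdc) (0x200028c000b7f) (Nat.ble 1213 i)) (Bool.rec (motive := fun _ => Nat) (0x300028c000722) (0x28d0006a4) (Nat.ble 1215 i)) (Nat.ble 1214 i)) (Bool.rec (motive := fun _ => Nat) (Bool.rec (motive := fun _ => Nat) (0x200028d000c4f) (0x300028d000cb3) (Nat.ble 1217 i)) (Bool.rec (motive := fun _ => Nat) (0x100028e0006c4) (0x300028e0005c3) (Nat.ble 1219 i)) (Nat.ble 1218 i)) (Nat.ble 1216 i)) (Bool.rec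 (motive := fun _ => Nat) (Bool.rec (motive := fun _ => Nat) (Bool.rec (motive := fun _ => Nat) (0x300028f000b7c) (0x29000063f) (Nat.ble 1221 i)) (Bool.rec (motive := fun _ => Nat) (0x100029000029c) (0x29100053a) (Nat.ble 1223 i)) (Nat.ble 1222 i)) (Bool.rec (motive := fun _ => Nat) (Bool.rec (motive := fun _ => Nat) (0x1000291000b0c) (0x2000291000eb7) (Nat.ble 1225 i)) (Bool.rec (motive := fun _ => Nat) (0x3000291000231) (0x10002920002e0) (Nat.ble 1227 i)) (Nat.ble 1226 i)) (Nat.ble 1224 i)) (Nat.ble 1220 i)) (Nat.ble 1212 i)) (Bool.rec (motive := fun _ => Nat) (Bool.rec (motive := fun _ => Nat) (Bool.rec (motive := fun _ => Nat) (Bool.rec (motive := fun _ => Nat) (Bool.rec (motive := fun _ => Nat) (0x3000292000464) (0x293000e67) (Nat.ble 1229 i)) (Bool.rec (motive := fun _ => Nat) (0x100029300061c) (0x29400075b) (Nat.ble 1231 i)) (Nat.ble 1230 i)) (Bool.rec (motive := fun _ => Nat) (Bool.rec (motive := fun _ => Nat) (0x1000294000d4d) (0x2000294000898) (Nat.ble 1233 i)) (Bool.rec (motive :=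 fun _ => Nat) (0x3000294000491) (0x2950009e7) (Nat.ble 1235 i)) (Nat.ble 1234 i)) (Nat.ble 1232 i)) (Bool.rec (motive := fun _ => Nat) (Bool.rec (motive := fun _ => Nat) (Bool.rec (motive := fun _ => Nat) (0x2000295000e55) (0x29600064d) (Nat.ble 1237 i)) (Bool.rec (motive := fun _ => Nat) (0x10002960009e8) (0x20002960006ea) (Nat.ble 1239 i)) (Nat.ble 1238 i)) (Bool.rec (motive := fun _ => Nat) (Bool.rec (motive := fun _ => Nat) (0x297000e70) (0x1000297000bbb) (Nat.ble 1241 i)) (Bool.rec (motive := fun _ => Nat) (0x2000297000e36) (0x300029700014f) (Nat.ble 1243 i)) (Nat.ble 1242 i)) (Nat.ble 1240 i)) (Nat.ble 1236 i)) (Bool.rec (motive := fun _ => Nat) (Bool.rec (motive := fun _ => Nat) (Bool.rec (motive := fun _ => Nat) (Bool.rec (motive := fun _ => Nat) (0x298000955) (0x300029800033d) (Nat.ble 1245 i)) (Bool.rec (motive := fun _ => Nat) (0x2990008ad) (0x3000299000196) (Nat.ble 1247 i)) (Nat.ble 1246 i)) (Bool.rec (motive := fun _ => Nat) (Bool.rec (motive := fun _ => Nat) (0x100029a000509)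 (0x300029b0000cf) (Nat.ble 1249 i)) (Bool.rec (motive := fun _ => Nat) (0x100029c000d6c) (0x200029c000f22) (Nat.ble 1251 i)) (Nat.ble 1250 i)) (Nat.ble 1248 i)) (Bool.rec (motive := fun _ => Nat) (Bool.rec (motive := fun _ => Nat) (Bool.rec (motive := fun _ => Nat) (0x300029c0003cf) (0x100029d000cc7) (Nat.ble 1253 i)) (Bool.rec (motive := fun _ => Nat) (0x300029d000446) (0x300029e000d61) (Nat.ble 1255 i)) (Nat.ble 1254 i)) (Bool.rec (motive := fun _ => Nat) (Bool.rec (motive := fun _ => Nat) (0x200029f00099f) (0x2a0000e8a) (Nat.ble 1257 i)) (Bool.rec (motive := fun _ => Nat) (0x20002a00006b4) (0x30002a0000be2) (Nat.ble 1259 i)) (Nat.ble 1258 i)) (Nat.ble 1256 i)) (Nat.ble 1252 i)) (Nat.ble 1244 i)) (Nat.ble 1228 i))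
noncomputable def C20P_20 (i : Nat) : Nat := (Bool.rec (motive := fun _ => Nat) (Bool.rec (motive := fun _ => Nat) (Bool.rec (motive := fun _ => Nat) (Bool.rec (motive := fun _ => Nat) (Bool.rec (motive := fun _ => Nat) (0x20002a1000943) (Bool.rec (motive := fun _ => Nat) (0x30002a100029a) (0x10002a2000c21) (Nat.ble 1262 i)) (Nat.ble 1261 i)) (Bool.rec (motive := fun _ => Nat) (Bool.rec (motive := fun _ => Nat) (0x20002a2000e69) (0x2a300056e) (Nat.ble 1264 i)) (Bool.rec (motive := fun _ => Nat) (0x10002a30009c3) (0x30002a3000e20) (Nat.ble 1266 i)) (Nat.ble 1265 i)) (Nat.ble 1263 i)) (Bool.rec (motive := fun _ => Nat) (Bool.rec (motive := fun _ => Nat) (Bool.rec (motive := fun _ => Nat) (0x2a40000b8) (0x20002a40000c6) (Nat.ble 1268 i)) (Bool.rec (motive := fun _ => Nat) (0x30002a4000d73) (0x2a50000ba) (Nat.ble 1270 i)) (Nat.ble 1269 i)) (Bool.rec (motive := fun _ => Nat) (Bool.rec (motive := fun _ => Nat) (0x10002a50007d0) (0x20002a50005ec) (Nat.ble 1272 i)) (Bool.rec (motive := fun _ => Nat)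 (0x10002a60005ee) (0x30002a6000ae2) (Nat.ble 1274 i)) (Nat.ble 1273 i)) (Nat.ble 1271 i)) (Nat.ble 1267 i)) (Bool.rec (motive := fun _ => Nat) (Bool.rec (motive := fun _ => Nat) (Bool.rec (motive := fun _ => Nat) (Bool.rec (motive := fun _ => Nat) (0x10002a70008cd) (0x30002a7000e78) (Nat.ble 1276 i)) (Bool.rec (motive := fun _ => Nat) (0x2a800031d) (0x10002a8000bc2) (Nat.ble 1278 i)) (Nat.ble 1277 i)) (Bool.rec (motive := fun _ => Nat) (Bool.rec (motive := fun _ => Nat) (0x20002a8000a25) (0x30002a8000a6c) (Nat.ble 1280 i)) (Bool.rec (motive := fun _ => Nat) (0x10002a90000c4) (0x30002a9000dbb) (Nat.ble 1282 i)) (Nat.ble 1281 i)) (Nat.ble 1279 i)) (Bool.rec (motive := fun _ => Nat) (Bool.rec (motive := fun _ => Nat) (Bool.rec (motive := fun _ => Nat) (0x20002aa000223) (0x30002aa0004a9) (Nat.ble 1284 i)) (Bool.rec (motive := fun _ => Nat) (0x10002ab0005f2) (0x30002ab000f12) (Nat.ble 1286 i)) (Nat.ble 1285 i)) (Bool.rec (motive := fun _ => Nat) (Bool.rec (motive := fun _ => Nat) (0x10002ac00016b)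 (0x20002ac000d17) (Nat.ble 1288 i)) (Bool.rec (motive := fun _ => Nat) (0x30002ac000c9d) (0x2ad000623) (Nat.ble 1290 i)) (Nat.ble 1289 i)) (Nat.ble 1287 i)) (Nat.ble 1283 i)) (Nat.ble 1275 i)) (Bool.rec (motive := fun _ => Nat) (Bool.rec (motive := fun _ => Nat) (Bool.rec (motive := fun _ => Nat) (Bool.rec (motive := fun _ => Nat) (Bool.rec (motive := fun _ => Nat) (0x10002ad000daf) (0x2ae0008b2) (Nat.ble 1292 i)) (Bool.rec (motive := fun _ => Nat) (0x20002ae00072d) (0x2af0001d2) (Nat.ble 1294 i)) (Nat.ble 1293 i)) (Bool.rec (motive := fun _ => Nat) (Bool.rec (motive := fun _ => Nat) (0x10002af000e1f) (0x20002af0000f4) (Nat.ble 1296 i)) (Bool.rec (motive := fun _ => Nat) (0x30002af0005da) (0x2b1000dcc) (Nat.ble 1298 i)) (Nat.ble 1297 i)) (Nat.ble 1295 i)) (Bool.rec (motive := fun _ => Nat) (Bool.rec (motive := fun _ => Nat) (Bool.rec (motive := fun _ => Nat) (0x30002b1000d96) (0x20002b20007e1) (Nat.ble 1300 i)) (Bool.rec (motive := fun _ => Nat) (0x30002b2000aea) (0x30002b3000543) (Nat.ble 1302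 i)) (Nat.ble 1301 i)) (Bool.rec (motive := fun _ => Nat) (Bool.rec (motive := fun _ => Nat) (0x2b40008dd) (0x10002b4000b62) (Nat.ble 1304 i)) (Bool.rec (motive := fun _ => Nat) (0x20002b40006a1) (0x30002b40008e4) (Nat.ble 1306 i)) (Nat.ble 1305 i)) (Nat.ble 1303 i)) (Nat.ble 1299 i)) (Bool.rec (motive := fun _ => Nat) (Bool.rec (motive := fun _ => Nat) (Bool.rec (motive := fun _ => Nat) (Bool.rec (motive := fun _ => Nat) (0x10002b50005fd) (0x30002b50003da) (Nat.ble 1308 i)) (Bool.rec (motive := fun _ => Nat) (0x2b600034a) (0x10002b600020b) (Nat.ble 1310 i)) (Nat.ble 1309 i)) (Bool.rec (motive := fun _ => Nat) (Bool.rec (motive := fun _ => Nat) (0x30002b600042e) (0x30002b80002f0) (Nat.ble 1312 i)) (Bool.rec (motive := fun _ => Nat) (0x10002b9000efc) (0x20002b9000514) (Nat.ble 1314 i)) (Nat.ble 1313 i)) (Nat.ble 1311 i)) (Bool.rec (motive := fun _ => Nat) (Bool.rec (motive := fun _ => Nat) (Bool.rec (motive := fun _ => Nat) (0x2ba000aaf) (0x10002ba00032b) (Nat.ble 1316 i)) (Bool.rec (motive :=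 fun _ => Nat) (0x10002bb0001d9) (0x20002bb000368) (Nat.ble 1318 i)) (Nat.ble 1317 i)) (Bool.rec (motive := fun _ => Nat) (Bool.rec (motive := fun _ => Nat) (0x2bc0007bc) (0x10002bc0005b5) (Nat.ble 1320 i)) (Bool.rec (motive := fun _ => Nat) (0x20002bc000b1d) (0x30002bc00051c) (Nat.ble 1322 i)) (Nat.ble 1321 i)) (Nat.ble 1319 i)) (Nat.ble 1315 i)) (Nat.ble 1307 i)) (Nat.ble 1291 i))
noncomputable def C20P_21 (i : Nat) : Nat := (Bool.rec (motive := fun _ => Nat) (Bool.rec (motive := fun _ => Nat) (Bool.rec (motive := fun _ => Nat) (Bool.rec (motive := fun _ => Nat) (Bool.rec (motive := fun _ => Nat) (0x2bd000ba6) (Bool.rec (motive := fun _ => Nat) (0x30002bd000a4f) (0x2be0002fa) (Nat.ble 1325 i)) (Nat.ble 1324 i)) (Bool.rec (motive := fun _ => Nat) (Bool.rec (motive := fun _ => Nat) (0x20002c0000362) (0x30002c0000c20) (Nat.ble 1327 i)) (Bool.rec (motive := fun _ => Nat) (0x20002c1000d4e) (0x30002c100028f) (Nat.ble 1329 i)) (Nat.ble 1328 i)) (Nat.ble 1326 i)) (Bool.rec (motive := fun _ => Nat)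 (Bool.rec (motive := fun _ => Nat) (Bool.rec (motive := fun _ => Nat) (0x30002c2000bb6) (0x10002c5000535) (Nat.ble 1331 i)) (Bool.rec (motive := fun _ => Nat) (0x20002c50004f7) (0x2c6000d72) (Nat.ble 1333 i)) (Nat.ble 1332 i)) (Bool.rec (motive := fun _ => Nat) (Bool.rec (motive := fun _ => Nat) (0x30002c60004fe) (0x2c7000f00) (Nat.ble 1335 i)) (Bool.rec (motive := fun _ => Nat) (0x10002c7000d64) (0x30002c7000bc0) (Nat.ble 1337 i)) (Nat.ble 1336 i)) (Nat.ble 1334 i)) (Nat.ble 1330 i)) (Bool.rec (motive := fun _ => Nat) (Bool.rec (motive := fun _ => Nat) (Bool.rec (motive := fun _ => Nat) (Bool.rec (motive := fun _ => Nat) (0x10002c8000933) (0x20002c8000518) (Nat.ble 1339 i)) (Bool.rec (motive := fun _ => Nat) (0x30002c9000c67) (0x10002ca000311) (Nat.ble 1341 i)) (Nat.ble 1340 i)) (Bool.rec (motive := fun _ => Nat) (Bool.rec (motive := fun _ => Nat) (0x30002ca000efd) (0x30002cb000e58) (Nat.ble 1343 i)) (Bool.rec (motive := fun _ => Nat) (0x30002cc00046e) (0x2cd000892) (Nat.ble 1345 i)) (Nat.ble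 1344 i)) (Nat.ble 1342 i)) (Bool.rec (motive := fun _ => Nat) (Bool.rec (motive := fun _ => Nat) (Bool.rec (motive := fun _ => Nat) (0x10002cd000563) (0x30002cf0008b3) (Nat.ble 1347 i)) (Bool.rec (motive := fun _ => Nat) (0x2d00007d3) (0x30002d00008a8) (Nat.ble 1349 i)) (Nat.ble 1348 i)) (Bool.rec (motive := fun _ => Nat) (Bool.rec (motive := fun _ => Nat) (0x30002d1000db7) (0x30002d20003cc) (Nat.ble 1351 i)) (Bool.rec (motive := fun _ => Nat) (0x30002d3000e52) (0x2d8000d18) (Nat.ble 1353 i)) (Nat.ble 1352 i)) (Nat.ble 1350 i)) (Nat.ble 1346 i)) (Nat.ble 1338 i)) (Bool.rec (motive := fun _ => Nat) (Bool.rec (motive := fun _ => Nat) (Bool.rec (motive := fun _ => Nat) (Bool.rec (motive := fun _ => Nat) (Bool.rec (motive := fun _ => Nat) (0x20002d8000bc8) (0x30002d8000a09) (Nat.ble 1355 i)) (Bool.rec (motive := fun _ => Nat) (0x30002d90003f9) (0x30002da0008ef) (Nat.ble 1357 i)) (Nat.ble 1356 i)) (Bool.rec (motive := fun _ => Nat) (Bool.rec (motive := fun _ => Nat) (0x30002db000441) (0x30002dc000042)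 (Nat.ble 1359 i)) (Bool.rec (motive := fun _ => Nat) (0x30002de0001b6) (0x20002e1000130) (Nat.ble 1361 i)) (Nat.ble 1360 i)) (Nat.ble 1358 i)) (Bool.rec (motive := fun _ => Nat) (Bool.rec (motive := fun _ => Nat) (Bool.rec (motive := fun _ => Nat) (0x30002e20007c6) (0x30002e400097c) (Nat.ble 1363 i)) (Bool.rec (motive := fun _ => Nat) (0x2e60000f5) (0x10002e6000877) (Nat.ble 1365 i)) (Nat.ble 1364 i)) (Bool.rec (motive := fun _ => Nat) (Bool.rec (motive := fun _ => Nat) (0x20002e6000860) (0x30002e6000e9f) (Nat.ble 1367 i)) (Bool.rec (motive := fun _ => Nat) (0x10002e800069e) (0x30002e8000179) (Nat.ble 1369 i)) (Nat.ble 1368 i)) (Nat.ble 1366 i)) (Nat.ble 1362 i)) (Bool.rec (motive := fun _ => Nat) (Bool.rec (motive := fun _ => Nat) (Bool.rec (motive := fun _ => Nat) (Bool.rec (motive := fun _ => Nat) (0x30002e900061d) (0x2ea000c52) (Nat.ble 1371 i)) (Bool.rec (motive := fun _ => Nat) (0x10002ea000a3e) (0x20002ea0009ad) (Nat.ble 1373 i)) (Nat.ble 1372 i)) (Bool.rec (motive := fun _ => Nat) (Bool.rec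 (motive := fun _ => Nat) (0x10002eb000eeb) (0x20002eb0002db) (Nat.ble 1375 i)) (Bool.rec (motive := fun _ => Nat) (0x2ec000f34) (0x20002ec000975) (Nat.ble 1377 i)) (Nat.ble 1376 i)) (Nat.ble 1374 i)) (Bool.rec (motive := fun _ => Nat) (Bool.rec (motive := fun _ => Nat) (Bool.rec (motive := fun _ => Nat) (0x30002ec000b7e) (0x2ed000736) (Nat.ble 1379 i)) (Bool.rec (motive := fun _ => Nat) (0x20002ed000579) (0x10002ef000b19) (Nat.ble 1381 i)) (Nat.ble 1380 i)) (Bool.rec (motive := fun _ => Nat) (Bool.rec (motive := fun _ => Nat) (0x20002ef000e9a) (0x30002ef000413) (Nat.ble 1383 i)) (Bool.rec (motive := fun _ => Nat) (0x2f0000a69) (0x20002f0000744) (Nat.ble 1385 i)) (Nat.ble 1384 i)) (Nat.ble 1382 i)) (Nat.ble 1378 i)) (Nat.ble 1370 i)) (Nat.ble 1354 i))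
noncomputable def C20P_22 (i : Nat) : Nat := (Bool.rec (motive := fun _ => Nat) (Bool.rec (motive := fun _ => Nat) (Bool.rec (motive := fun _ => Nat) (Bool.rec (motive := fun _ => Nat) (Bool.rec (motive := fun _ => Nat) (0x30002f00002ef) (Bool.rec (motive := fun _ => Nat) (0x2f10007b1) (0x20002f100039d) (Nat.ble 1388 i)) (Nat.ble 1387 i)) (Bool.rec (motive := fun _ => Nat) (Bool.rec (motive := fun _ => Nat) (0x2f20000c7) (0x30002f200075a) (Nat.ble 1390 i)) (Bool.rec (motive := fun _ => Nat) (0x2f3000466) (0x30002f3000eae) (Nat.ble 1392 i)) (Nat.ble 1391 i)) (Nat.ble 1389 i)) (Bool.rec (motive := fun _ => Nat) (Bool.rec (motive := fun _ => Nat) (Bool.rec (motive := fun _ => Nat) (0x2f4000395) (0x20002f4000137) (Nat.ble 1394 i)) (Bool.rec (motive := fun _ => Nat) (0x2f6000c43) (0x10002f6000c6b) (Nat.ble 1396 i)) (Nat.ble 1395 i)) (Bool.rec (motive := fun _ => Nat) (Bool.rec (motive := fun _ => Nat) (0x30002f6000690) (0x2f700018a) (Nat.ble 1398 i)) (Bool.rec (motive := fun _ => Nat) (0x10002f7000471)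 (0x30002f7000afd) (Nat.ble 1400 i)) (Nat.ble 1399 i)) (Nat.ble 1397 i)) (Nat.ble 1393 i)) (Bool.rec (motive := fun _ => Nat) (Bool.rec (motive := fun _ => Nat) (Bool.rec (motive := fun _ => Nat) (Bool.rec (motive := fun _ => Nat) (0x10002f8000b28) (0x30002f80003a6) (Nat.ble 1402 i)) (Bool.rec (motive := fun _ => Nat) (0x30002f9000479) (0x2fb000617) (Nat.ble 1404 i)) (Nat.ble 1403 i)) (Bool.rec (motive := fun _ => Nat) (Bool.rec (motive := fun _ => Nat) (0x10002fb000ad9) (0x20002fb000421) (Nat.ble 1406 i)) (Bool.rec (motive := fun _ => Nat) (0x30002fb00069b) (0x10002fc00056d) (Nat.ble 1408 i)) (Nat.ble 1407 i)) (Nat.ble 1405 i)) (Bool.rec (motive := fun _ => Nat) (Bool.rec (motive := fun _ => Nat) (Bool.rec (motive := fun _ => Nat) (0x20002ff000512) (0x30003000000e6) (Nat.ble 1410 i)) (Bool.rec (motive := fun _ => Nat) (0x3000301000e6a) (0x2000302000dc1) (Nat.ble 1412 i)) (Nat.ble 1411 i)) (Bool.rec (motive := fun _ => Nat) (Bool.rec (motive := fun _ => Nat) (0x3000302000f07) (0x3040003f6) (Nat.ble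 1414 i)) (Bool.rec (motive := fun _ => Nat) (0x3000304000d65) (0x2000306000050) (Nat.ble 1416 i)) (Nat.ble 1415 i)) (Nat.ble 1413 i)) (Nat.ble 1409 i)) (Nat.ble 1401 i)) (Bool.rec (motive := fun _ => Nat) (Bool.rec (motive := fun _ => Nat) (Bool.rec (motive := fun _ => Nat) (Bool.rec (motive := fun _ => Nat) (Bool.rec (motive := fun _ => Nat) (0x307000c42) (0x20003070006b1) (Nat.ble 1418 i)) (Bool.rec (motive := fun _ => Nat) (0x308000d0a) (0x20003090008d5) (Nat.ble 1420 i)) (Nat.ble 1419 i)) (Bool.rec (motive := fun _ => Nat) (Bool.rec (motive := fun _ => Nat) (0x3000309000412) (0x300030b000a41) (Nat.ble 1422 i)) (Bool.rec (motive := fun _ => Nat) (0x100030d00055c) (0x200030d000627) (Nat.ble 1424 i)) (Nat.ble 1423 i)) (Nat.ble 1421 i)) (Bool.rec (motive := fun _ => Nat) (Bool.rec (motive := fun _ => Nat) (Bool.rec (motive := fun _ => Nat) (0x300030d000b59) (0x2000311000e21) (Nat.ble 1426 i)) (Bool.rec (motive := fun _ => Nat) (0x300031200001d) (0x10003140000a9) (Nat.ble 1428 i)) (Nat.ble 1427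 i)) (Bool.rec (motive := fun _ => Nat) (Bool.rec (motive := fun _ => Nat) (0x200031400007e) (0x1000315000074) (Nat.ble 1430 i)) (Bool.rec (motive := fun _ => Nat) (0x31600012b) (0x200031600089a) (Nat.ble 1432 i)) (Nat.ble 1431 i)) (Nat.ble 1429 i)) (Nat.ble 1425 i)) (Bool.rec (motive := fun _ => Nat) (Bool.rec (motive := fun _ => Nat) (Bool.rec (motive := fun _ => Nat) (Bool.rec (motive := fun _ => Nat) (0x3000316000349) (0x317000e4e) (Nat.ble 1434 i)) (Bool.rec (motive := fun _ => Nat) (0x100031700076c) (0x200031700076a) (Nat.ble 1436 i)) (Nat.ble 1435 i)) (Bool.rec (motive := fun _ => Nat) (Bool.rec (motive := fun _ => Nat) (0x3000317000457) (0x3180007d9) (Nat.ble 1438 i)) (Bool.rec (motive := fun _ => Nat) (0x3000318000f15) (0x1000319000e2a) (Nat.ble 1440 i)) (Nat.ble 1439 i)) (Nat.ble 1437 i)) (Bool.rec (motive := fun _ => Nat) (Bool.rec (motive := fun _ => Nat) (Bool.rec (motive := fun _ => Nat) (0x100031a000046) (0x300031a000c79) (Nat.ble 1442 i)) (Bool.rec (motive := fun _ => Nat) (0x100031c0002bb)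 (0x31d000200) (Nat.ble 1444 i)) (Nat.ble 1443 i)) (Bool.rec (motive := fun _ => Nat) (Bool.rec (motive := fun _ => Nat) (0x100031d0004b7) (0x300031d000ec3) (Nat.ble 1446 i)) (Bool.rec (motive := fun _ => Nat) (0x300031e000b8b) (0x100031f000072) (Nat.ble 1448 i)) (Nat.ble 1447 i)) (Nat.ble 1445 i)) (Nat.ble 1441 i)) (Nat.ble 1433 i)) (Nat.ble 1417 i))
noncomputable def C20P_23 (i : Nat) : Nat := (Bool.rec (motive := fun _ => Nat) (Bool.rec (motive := fun _ => Nat) (Bool.rec (motive := fun _ => Nat) (Bool.rec (motive := fun _ => Nat) (Bool.rec (motive := fun _ => Nat) (0x300031f000e34) (Bool.rec (motive := fun _ => Nat) (0x10003200009e1) (0x321000738) (Nat.ble 1451 i)) (Nat.ble 1450 i)) (Bool.rec (motive := fun _ => Nat) (Bool.rec (motive := fun _ => Nat) (0x20003210006a3) (0x3000321000259) (Nat.ble 1453 i)) (Bool.rec (motive := fun _ => Nat) (0x10003220009e4) (0x1000326000ce1) (Nat.ble 1455 i)) (Nat.ble 1454 i)) (Nat.ble 1452 i)) (Bool.rec (motive := fun _ => Nat) (Bool.rec (motive := fun _ =>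 Nat) (Bool.rec (motive := fun _ => Nat) (0x32700094b) (0x30003270008be) (Nat.ble 1457 i)) (Bool.rec (motive := fun _ => Nat) (0x1000328000d95) (0x30003280007a8) (Nat.ble 1459 i)) (Nat.ble 1458 i)) (Bool.rec (motive := fun _ => Nat) (Bool.rec (motive := fun _ => Nat) (0x300032a0003ff) (0x300032c000ca6) (Nat.ble 1461 i)) (Bool.rec (motive := fun _ => Nat) (0x300032d00087e) (0x32f000e01) (Nat.ble 1463 i)) (Nat.ble 1462 i)) (Nat.ble 1460 i)) (Nat.ble 1456 i)) (Bool.rec (motive := fun _ => Nat) (Bool.rec (motive := fun _ => Nat) (Bool.rec (motive := fun _ => Nat) (Bool.rec (motive := fun _ => Nat) (0x200032f000513) (0x10003300006cd) (Nat.ble 1465 i)) (Bool.rec (motive := fun _ => Nat) (0x331000d78) (0x300033100028d) (Nat.ble 1467 i)) (Nat.ble 1466 i)) (Bool.rec (motive := fun _ => Nat) (Bool.rec (motive := fun _ => Nat) (0x3000332000516) (0x100033300045a) (Nat.ble 1469 i)) (Bool.rec (motive := fun _ => Nat) (0x2000333000cfe) (0x300033400007b) (Nat.ble 1471 i)) (Nat.ble 1470 i)) (Nat.ble 1468 i))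 (Bool.rec (motive := fun _ => Nat) (Bool.rec (motive := fun _ => Nat) (Bool.rec (motive := fun _ => Nat) (0x3000335000bce) (0x2000337000451) (Nat.ble 1473 i)) (Bool.rec (motive := fun _ => Nat) (0x3000337000a04) (0x2000338000536) (Nat.ble 1475 i)) (Nat.ble 1474 i)) (Bool.rec (motive := fun _ => Nat) (Bool.rec (motive := fun _ => Nat) (0x300033a0009d1) (0x100033b0009ba) (Nat.ble 1477 i)) (Bool.rec (motive := fun _ => Nat) (0x200033b00029d) (0x100033c000386) (Nat.ble 1479 i)) (Nat.ble 1478 i)) (Nat.ble 1476 i)) (Nat.ble 1472 i)) (Nat.ble 1464 i)) (Bool.rec (motive := fun _ => Nat) (Bool.rec (motive := fun _ => Nat) (Bool.rec (motive := fun _ => Nat) (Bool.rec (motive := fun _ => Nat) (Bool.rec (motive := fun _ => Nat) (0x200033c000847) (0x300033c0002d6) (Nat.ble 1481 i)) (Bool.rec (motive := fun _ => Nat) (0x200033d00042f) (0x100033e00045b) (Nat.ble 1483 i)) (Nat.ble 1482 i)) (Bool.rec (motive := fun _ => Nat) (Bool.rec (motive := fun _ => Nat) (0x100034100025f) (0x200034100030d) (Nat.ble 1485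 i)) (Bool.rec (motive := fun _ => Nat) (0x342000ca4) (0x343000964) (Nat.ble 1487 i)) (Nat.ble 1486 i)) (Nat.ble 1484 i)) (Bool.rec (motive := fun _ => Nat) (Bool.rec (motive := fun _ => Nat) (Bool.rec (motive := fun _ => Nat) (0x10003430007f9) (0x344000561) (Nat.ble 1489 i)) (Bool.rec (motive := fun _ => Nat) (0x3450000ed) (0x3000345000227) (Nat.ble 1491 i)) (Nat.ble 1490 i)) (Bool.rec (motive := fun _ => Nat) (Bool.rec (motive := fun _ => Nat) (0x3000346000e87) (0x3000347000ec7) (Nat.ble 1493 i)) (Bool.rec (motive := fun _ => Nat) (0x10003480001d0) (0x3000348000688) (Nat.ble 1495 i)) (Nat.ble 1494 i)) (Nat.ble 1492 i)) (Nat.ble 1488 i)) (Bool.rec (motive := fun _ => Nat) (Bool.rec (motive := fun _ => Nat) (Bool.rec (motive := fun _ => Nat) (Bool.rec (motive := fun _ => Nat) (0x30003490004fa) (0x34a000a11) (Nat.ble 1497 i)) (Bool.rec (motive := fun _ => Nat) (0x300034a000914) (0x200034c000c95) (Nat.ble 1499 i)) (Nat.ble 1498 i)) (Bool.rec (motive := fun _ => Nat) (Bool.rec (motive := fun _ =>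 Nat) (0x100034d000ca7) (0x200034d000dac) (Nat.ble 1501 i)) (Bool.rec (motive := fun _ => Nat) (0x300034e00092f) (0x300034f000cfd) (Nat.ble 1503 i)) (Nat.ble 1502 i)) (Nat.ble 1500 i)) (Bool.rec (motive := fun _ => Nat) (Bool.rec (motive := fun _ => Nat) (Bool.rec (motive := fun _ => Nat) (0x300035200059c) (0x1000357000a89) (Nat.ble 1505 i)) (Bool.rec (motive := fun _ => Nat) (0x200035700078e) (0x1000358000ae7) (Nat.ble 1507 i)) (Nat.ble 1506 i)) (Bool.rec (motive := fun _ => Nat) (Bool.rec (motive := fun _ => Nat) (0x20003580003c7) (0x3000359000d25) (Nat.ble 1509 i)) (Bool.rec (motive := fun _ => Nat) (0x200035b00011f) (0x300035c000b72) (Nat.ble 1511 i)) (Nat.ble 1510 i)) (Nat.ble 1508 i)) (Nat.ble 1504 i)) (Nat.ble 1496 i)) (Nat.ble 1480 i))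
noncomputable def C20P_24 (i : Nat) : Nat := (Bool.rec (motive := fun _ => Nat) (Bool.rec (motive := fun _ => Nat) (Bool.rec (motive := fun _ => Nat) (Bool.rec (motive := fun _ => Nat) (Bool.rec (motive := fun _ => Nat) (0x200035d000285) (Bool.rec (motive := fun _ => Nat) (0x300035e000820) (0x35f0002f8) (Nat.ble 1514 i)) (Nat.ble 1513 i)) (Bool.rec (motive := fun _ => Nat) (Bool.rec (motive := fun _ => Nat) (0x100035f000161) (0x300036000027d) (Nat.ble 1516 i)) (Bool.rec (motive := fun _ => Nat) (0x3000361000d0b) (0x2000362000e24) (Nat.ble 1518 i)) (Nat.ble 1517 i)) (Nat.ble 1515 i)) (Bool.rec (motive := fun _ => Nat) (Bool.rec (motive := fun _ => Nat) (Bool.rec (motive := fun _ => Nat) (0x3000362000bf2) (0x30003640000e1) (Nat.ble 1520 i)) (Bool.rec (motive := fun _ => Nat) (0x36500010c) (0x10003660008f9) (Nat.ble 1522 i)) (Nat.ble 1521 i)) (Bool.rec (motive := fun _ => Nat) (Bool.rec (motive := fun _ => Nat) (0x2000366000c2a) (0x200036700068c) (Nat.ble 1524 i)) (Bool.rec (motive := fun _ =>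 Nat) (0x3680008d8) (0x3000368000b12) (Nat.ble 1526 i)) (Nat.ble 1525 i)) (Nat.ble 1523 i)) (Nat.ble 1519 i)) (Bool.rec (motive := fun _ => Nat) (Bool.rec (motive := fun _ => Nat) (Bool.rec (motive := fun _ => Nat) (Bool.rec (motive := fun _ => Nat) (0x1000369000966) (0x300036a000ac5) (Nat.ble 1528 i)) (Bool.rec (motive := fun _ => Nat) (0x36c000c38) (0x200036c000c15) (Nat.ble 1530 i)) (Nat.ble 1529 i)) (Bool.rec (motive := fun _ => Nat) (Bool.rec (motive := fun _ => Nat) (0x300036c000c28) (0x36e000f30) (Nat.ble 1532 i)) (Bool.rec (motive := fun _ => Nat) (0x200036e000639) (0x300036e000901) (Nat.ble 1534 i)) (Nat.ble 1533 i)) (Nat.ble 1531 i)) (Bool.rec (motive := fun _ => Nat) (Bool.rec (motive := fun _ => Nat) (Bool.rec (motive := fun _ => Nat) (0x36f000aeb) (0x200036f000dfe) (Nat.ble 1536 i)) (Bool.rec (motive := fun _ => Nat) (0x371000c75) (0x10003760005d1) (Nat.ble 1538 i)) (Nat.ble 1537 i)) (Bool.rec (motive := fun _ => Nat) (Bool.rec (motive := fun _ => Nat) (0x2000376000295) (0x377000a0c)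 (Nat.ble 1540 i)) (Bool.rec (motive := fun _ => Nat) (0x20003770000dc) (0x2000378000cf6) (Nat.ble 1542 i)) (Nat.ble 1541 i)) (Nat.ble 1539 i)) (Nat.ble 1535 i)) (Nat.ble 1527 i)) (Bool.rec (motive := fun _ => Nat) (Bool.rec (motive := fun _ => Nat) (Bool.rec (motive := fun _ => Nat) (Bool.rec (motive := fun _ => Nat) (Bool.rec (motive := fun _ => Nat) (0x3000379000111) (0x37b00032e) (Nat.ble 1544 i)) (Bool.rec (motive := fun _ => Nat) (0x200037b00093c) (0x37c000f1e) (Nat.ble 1546 i)) (Nat.ble 1545 i)) (Bool.rec (motive := fun _ => Nat) (Bool.rec (motive := fun _ => Nat) (0x200037c000836) (0x300037c000b8d) (Nat.ble 1548 i)) (Bool.rec (motive := fun _ => Nat) (0x100037d000851) (0x37f000cc9) (Nat.ble 1550 i)) (Nat.ble 1549 i)) (Nat.ble 1547 i)) (Bool.rec (motive := fun _ => Nat) (Bool.rec (motive := fun _ => Nat) (Bool.rec (motive := fun _ => Nat) (0x100037f0000d3) (0x300037f000af2) (Nat.ble 1552 i)) (Bool.rec (motive := fun _ => Nat) (0x380000cab) (0x2000380000263) (Nat.ble 1554 i)) (Nat.ble 1553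 i)) (Bool.rec (motive := fun _ => Nat) (Bool.rec (motive := fun _ => Nat) (0x100038100009f) (0x300038100056b) (Nat.ble 1556 i)) (Bool.rec (motive := fun _ => Nat) (0x1000382000040) (0x100038300010b) (Nat.ble 1558 i)) (Nat.ble 1557 i)) (Nat.ble 1555 i)) (Nat.ble 1551 i)) (Bool.rec (motive := fun _ => Nat) (Bool.rec (motive := fun _ => Nat) (Bool.rec (motive := fun _ => Nat) (Bool.rec (motive := fun _ => Nat) (0x38400078f) (0x30003850007a2) (Nat.ble 1560 i)) (Bool.rec (motive := fun _ => Nat) (0x3000387000670) (0x100038a0000cc) (Nat.ble 1562 i)) (Nat.ble 1561 i)) (Bool.rec (motive := fun _ => Nat) (Bool.rec (motive := fun _ => Nat) (0x200038a000e5b) (0x38b000afa) (Nat.ble 1564 i)) (Bool.rec (motive := fun _ => Nat) (0x200038b0006d8) (0x300038b000b8c) (Nat.ble 1566 i)) (Nat.ble 1565 i)) (Nat.ble 1563 i)) (Bool.rec (motive := fun _ => Nat) (Bool.rec (motive := fun _ => Nat) (Bool.rec (motive := fun _ => Nat) (0x300038c0006e8) (0x38e000db5) (Nat.ble 1568 i)) (Bool.rec (motive := fun _ => Nat) (0x100038e000d80)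 (0x38f000680) (Nat.ble 1570 i)) (Nat.ble 1569 i)) (Bool.rec (motive := fun _ => Nat) (Bool.rec (motive := fun _ => Nat) (0x300038f000f20) (0x1000390000691) (Nat.ble 1572 i)) (Bool.rec (motive := fun _ => Nat) (0x20003900000a0) (0x1000392000895) (Nat.ble 1574 i)) (Nat.ble 1573 i)) (Nat.ble 1571 i)) (Nat.ble 1567 i)) (Nat.ble 1559 i)) (Nat.ble 1543 i))
noncomputable def C20P_25 (i : Nat) : Nat := (Bool.rec (motive := fun _ => Nat) (Bool.rec (motive := fun _ => Nat) (Bool.rec (motive := fun _ => Nat) (Bool.rec (motive := fun _ => Nat) (Bool.rec (motive := fun _ => Nat) (0x3000392000d39) (Bool.rec (motive := fun _ => Nat) (0x3000393000ef0) (0x10003950000e0) (Nat.ble 1577 i)) (Nat.ble 1576 i)) (Bool.rec (motive := fun _ => Nat) (Bool.rec (motive := fun _ => Nat) (0x396000c16) (0x1000396000d0d) (Nat.ble 1579 i)) (Bool.rec (motive := fun _ => Nat) (0x20003960002ea) (0x3000396000c22) (Nat.ble 1581 i)) (Nat.ble 1580 i)) (Nat.ble 1578 i)) (Bool.rec (motive := fun _ => Nat) (Bool.rec (motive := fun _ =>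 Nat) (Bool.rec (motive := fun _ => Nat) (0x397000bbf) (0x30003980007a1) (Nat.ble 1583 i)) (Bool.rec (motive := fun _ => Nat) (0x300039b000758) (0x200039c000b54) (Nat.ble 1585 i)) (Nat.ble 1584 i)) (Bool.rec (motive := fun _ => Nat) (Bool.rec (motive := fun _ => Nat) (0x300039c00040b) (0x300039d000773) (Nat.ble 1587 i)) (Bool.rec (motive := fun _ => Nat) (0x300039f0006ef) (0x20003a00002a7) (Nat.ble 1589 i)) (Nat.ble 1588 i)) (Nat.ble 1586 i)) (Nat.ble 1582 i)) (Bool.rec (motive := fun _ => Nat) (Bool.rec (motive := fun _ => Nat) (Bool.rec (motive := fun _ => Nat) (Bool.rec (motive := fun _ => Nat) (0x20003a1000e75) (0x3a200078c) (Nat.ble 1591 i)) (Bool.rec (motive := fun _ => Nat) (0x20003a2000985) (0x30003a4000768) (Nat.ble 1593 i)) (Nat.ble 1592 i)) (Bool.rec (motive := fun _ => Nat) (Bool.rec (motive := fun _ => Nat) (0x3a50008ea) (0x20003a5000ee5) (Nat.ble 1595 i)) (Bool.rec (motive := fun _ => Nat) (0x20003a7000430) (0x3a800047e) (Nat.ble 1597 i)) (Nat.ble 1596 i)) (Nat.ble 1594 i)) (Bool.rec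 (motive := fun _ => Nat) (Bool.rec (motive := fun _ => Nat) (Bool.rec (motive := fun _ => Nat) (0x10003a80003fd) (0x30003a800080b) (Nat.ble 1599 i)) (Bool.rec (motive := fun _ => Nat) (0x20003a900045f) (0x10003aa000bd7) (Nat.ble 1601 i)) (Nat.ble 1600 i)) (Bool.rec (motive := fun _ => Nat) (Bool.rec (motive := fun _ => Nat) (0x30003aa000b69) (0x3ab0001c7) (Nat.ble 1603 i)) (Bool.rec (motive := fun _ => Nat) (0x10003ab000751) (0x30003ac0009e0) (Nat.ble 1605 i)) (Nat.ble 1604 i)) (Nat.ble 1602 i)) (Nat.ble 1598 i)) (Nat.ble 1590 i)) (Bool.rec (motive := fun _ => Nat) (Bool.rec (motive := fun _ => Nat) (Bool.rec (motive := fun _ => Nat) (Bool.rec (motive := fun _ => Nat) (Bool.rec (motive := fun _ => Nat) (0x3ad00014a) (0x30003ae000986) (Nat.ble 1607 i)) (Bool.rec (motive := fun _ => Nat) (0x3af000a37) (0x20003b000050b) (Nat.ble 1609 i)) (Nat.ble 1608 i)) (Bool.rec (motive := fun _ => Nat) (Bool.rec (motive := fun _ => Nat) (0x3b1000c8a) (0x20003b10008c1) (Nat.ble 1611 i)) (Bool.rec (motive :=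 fun _ => Nat) (0x30003b10004c0) (0x10003b30003fb) (Nat.ble 1613 i)) (Nat.ble 1612 i)) (Nat.ble 1610 i)) (Bool.rec (motive := fun _ => Nat) (Bool.rec (motive := fun _ => Nat) (Bool.rec (motive := fun _ => Nat) (0x20003b3000770) (0x10003b40009de) (Nat.ble 1615 i)) (Bool.rec (motive := fun _ => Nat) (0x20003b40009c1) (0x3b5000381) (Nat.ble 1617 i)) (Nat.ble 1616 i)) (Bool.rec (motive := fun _ => Nat) (Bool.rec (motive := fun _ => Nat) (0x30003b500019a) (0x20003b6000a39) (Nat.ble 1619 i)) (Bool.rec (motive := fun _ => Nat) (0x10003b70001d8) (0x20003b7000218) (Nat.ble 1621 i)) (Nat.ble 1620 i)) (Nat.ble 1618 i)) (Nat.ble 1614 i)) (Bool.rec (motive := fun _ => Nat) (Bool.rec (motive := fun _ => Nat) (Bool.rec (motive := fun _ => Nat) (Bool.rec (motive := fun _ => Nat) (0x30003b8000016) (0x30003b9000a8e) (Nat.ble 1623 i)) (Bool.rec (motive := fun _ => Nat) (0x30003ba0006a2) (0x20003bb000956) (Nat.ble 1625 i)) (Nat.ble 1624 i)) (Bool.rec (motive := fun _ => Nat) (Bool.rec (motive := fun _ => Nat) (0x30003bc00046d)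 (0x20003bd000624) (Nat.ble 1627 i)) (Bool.rec (motive := fun _ => Nat) (0x20003be000e59) (0x30003be0008c0) (Nat.ble 1629 i)) (Nat.ble 1628 i)) (Nat.ble 1626 i)) (Bool.rec (motive := fun _ => Nat) (Bool.rec (motive := fun _ => Nat) (Bool.rec (motive := fun _ => Nat) (0x10003bf000d38) (0x20003bf000f2c) (Nat.ble 1631 i)) (Bool.rec (motive := fun _ => Nat) (0x20003c100066c) (0x20003c20004b6) (Nat.ble 1633 i)) (Nat.ble 1632 i)) (Bool.rec (motive := fun _ => Nat) (Bool.rec (motive := fun _ => Nat) (0x30003c2000ef4) (0x30003c300047f) (Nat.ble 1635 i)) (Bool.rec (motive := fun _ => Nat) (0x3c4000732) (0x20003c4000a03) (Nat.ble 1637 i)) (Nat.ble 1636 i)) (Nat.ble 1634 i)) (Nat.ble 1630 i)) (Nat.ble 1622 i)) (Nat.ble 1606 i))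
noncomputable def C20P_26 (i : Nat) : Nat := (Bool.rec (motive := fun _ => Nat) (Bool.rec (motive := fun _ => Nat) (Bool.rec (motive := fun _ => Nat) (Bool.rec (motive := fun _ => Nat) (Bool.rec (motive := fun _ => Nat) (0x30003c40000cb) (Bool.rec (motive := fun _ => Nat) (0x3c60009bc) (0x20003c7000b47) (Nat.ble 1640 i)) (Nat.ble 1639 i)) (Bool.rec (motive := fun _ => Nat) (Bool.rec (motive := fun _ => Nat) (0x3c80002b3) (0x20003c8000cc3) (Nat.ble 1642 i)) (Bool.rec (motive := fun _ => Nat) (0x3c9000ee0) (0x20003c9000b99) (Nat.ble 1644 i)) (Nat.ble 1643 i)) (Nat.ble 1641 i)) (Bool.rec (motive := fun _ => Nat) (Bool.rec (motive := fun _ => Nat) (Bool.rec (motive := fun _ => Nat) (0x3ca0000c1) (0x20003ca0005e7) (Nat.ble 1646 i)) (Bool.rec (motive := fun _ => Nat) (0x30003ca000e6e) (0x3cb0000c3) (Nat.ble 1648 i)) (Nat.ble 1647 i)) (Bool.rec (motive := fun _ => Nat) (Bool.rec (motive := fun _ => Nat) (0x20003cb0005c7) (0x30003cb000477) (Nat.ble 1650 i)) (Bool.rec (motive := fun _ => Nat) (0x10003cc0001e5)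 (0x30003cc000896) (Nat.ble 1652 i)) (Nat.ble 1651 i)) (Nat.ble 1649 i)) (Nat.ble 1645 i)) (Bool.rec (motive := fun _ => Nat) (Bool.rec (motive := fun _ => Nat) (Bool.rec (motive := fun _ => Nat) (Bool.rec (motive := fun _ => Nat) (0x10003cd000463) (0x30003cd000906) (Nat.ble 1654 i)) (Bool.rec (motive := fun _ => Nat) (0x3ce000662) (0x10003ce000616) (Nat.ble 1656 i)) (Nat.ble 1655 i)) (Bool.rec (motive := fun _ => Nat) (Bool.rec (motive := fun _ => Nat) (0x30003ce000bf0) (0x10003cf0000bc) (Nat.ble 1658 i)) (Bool.rec (motive := fun _ => Nat) (0x30003cf000790) (0x10003d00003a5) (Nat.ble 1660 i)) (Nat.ble 1659 i)) (Nat.ble 1657 i)) (Bool.rec (motive := fun _ => Nat) (Bool.rec (motive := fun _ => Nat) (Bool.rec (motive := fun _ => Nat) (0x30003d0000e6f) (0x3d1000202) (Nat.ble 1662 i)) (Bool.rec (motive := fun _ => Nat) (0x20003d20009b7) (0x3d3000a16) (Nat.ble 1664 i)) (Nat.ble 1663 i)) (Bool.rec (motive := fun _ => Nat) (Bool.rec (motive := fun _ => Nat) (0x3d4000cc8) (0x3d5000d9c) (Nat.ble 1666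 i)) (Bool.rec (motive := fun _ => Nat) (0x10003d60007c0) (0x10003d8000490) (Nat.ble 1668 i)) (Nat.ble 1667 i)) (Nat.ble 1665 i)) (Nat.ble 1661 i)) (Nat.ble 1653 i)) (Bool.rec (motive := fun _ => Nat) (Bool.rec (motive := fun _ => Nat) (Bool.rec (motive := fun _ => Nat) (Bool.rec (motive := fun _ => Nat) (Bool.rec (motive := fun _ => Nat) (0x20003d8000229) (0x3d9000df2) (Nat.ble 1670 i)) (Bool.rec (motive := fun _ => Nat) (0x30003d900042a) (0x20003da00066d) (Nat.ble 1672 i)) (Nat.ble 1671 i)) (Bool.rec (motive := fun _ => Nat) (Bool.rec (motive := fun _ => Nat) (0x10003dc0002f2) (0x30003dc00021c) (Nat.ble 1674 i)) (Bool.rec (motive := fun _ => Nat) (0x30003dd000be6) (0x3de000b89) (Nat.ble 1676 i)) (Nat.ble 1675 i)) (Nat.ble 1673 i)) (Bool.rec (motive := fun _ => Nat) (Bool.rec (motive := fun _ => Nat) (Bool.rec (motive := fun _ => Nat) (0x10003de0007c4) (0x10003df000613) (Nat.ble 1678 i)) (Bool.rec (motive := fun _ => Nat) (0x30003df000ede) (0x30003e000068a) (Nat.ble 1680 i)) (Nat.ble 1679 i))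 (Bool.rec (motive := fun _ => Nat) (Bool.rec (motive := fun _ => Nat) (0x30003e1000d7e) (0x3e2000c74) (Nat.ble 1682 i)) (Bool.rec (motive := fun _ => Nat) (0x20003e2000354) (0x3e3000cfa) (Nat.ble 1684 i)) (Nat.ble 1683 i)) (Nat.ble 1681 i)) (Nat.ble 1677 i)) (Bool.rec (motive := fun _ => Nat) (Bool.rec (motive := fun _ => Nat) (Bool.rec (motive := fun _ => Nat) (Bool.rec (motive := fun _ => Nat) (0x10003e3000cf9) (0x20003e3000ed2) (Nat.ble 1686 i)) (Bool.rec (motive := fun _ => Nat) (0x20003e4000e4d) (0x30003e5000615) (Nat.ble 1688 i)) (Nat.ble 1687 i)) (Bool.rec (motive := fun _ => Nat) (Bool.rec (motive := fun _ => Nat) (0x20003e700087c) (0x3e80005e1) (Nat.ble 1690 i)) (Bool.rec (motive := fun _ => Nat) (0x3e9000427) (0x10003e900013b) (Nat.ble 1692 i)) (Nat.ble 1691 i)) (Nat.ble 1689 i)) (Bool.rec (motive := fun _ => Nat) (Bool.rec (motive := fun _ => Nat) (Bool.rec (motive := fun _ => Nat) (0x20003ea00090c) (0x3eb000717) (Nat.ble 1694 i)) (Bool.rec (motive := fun _ => Nat) (0x20003eb000d09)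 (0x3ec000724) (Nat.ble 1696 i)) (Nat.ble 1695 i)) (Bool.rec (motive := fun _ => Nat) (Bool.rec (motive := fun _ => Nat) (0x20003ec000d82) (0x30003ec000336) (Nat.ble 1698 i)) (Bool.rec (motive := fun _ => Nat) (0x3ef000c05) (0x30003ef0002f7) (Nat.ble 1700 i)) (Nat.ble 1699 i)) (Nat.ble 1697 i)) (Nat.ble 1693 i)) (Nat.ble 1685 i)) (Nat.ble 1669 i))
noncomputable def C20P_27 (i : Nat) : Nat := (Bool.rec (motive := fun _ => Nat) (Bool.rec (motive := fun _ => Nat) (Bool.rec (motive := fun _ => Nat) (Bool.rec (motive := fun _ => Nat) (Bool.rec (motive := fun _ => Nat) (0x30003f1000c2b) (Bool.rec (motive := fun _ => Nat) (0x20003f7000f21) (0x20003f8000ef2) (Nat.ble 1703 i)) (Nat.ble 1702 i)) (Bool.rec (motive := fun _ => Nat) (Bool.rec (motive := fun _ => Nat) (0x3f9000bd8) (0x30003f9000683) (Nat.ble 1705 i)) (Bool.rec (motive := fun _ => Nat) (0x10003fa000ab0) (0x20003fa000d75) (Nat.ble 1707 i)) (Nat.ble 1706 i)) (Nat.ble 1704 i)) (Bool.rec (motive := fun _ => Nat) (Bool.rec (motive := fun _ => Nat)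 (Bool.rec (motive := fun _ => Nat) (0x10003fe00080a) (0x20003ff000a32) (Nat.ble 1709 i)) (Bool.rec (motive := fun _ => Nat) (0x30003ff0000e3) (0x4000004c3) (Nat.ble 1711 i)) (Nat.ble 1710 i)) (Bool.rec (motive := fun _ => Nat) (Bool.rec (motive := fun _ => Nat) (0x2000400000a9d) (0x300040000075f) (Nat.ble 1713 i)) (Bool.rec (motive := fun _ => Nat) (0x20004010005a6) (0x403000aac) (Nat.ble 1715 i)) (Nat.ble 1714 i)) (Nat.ble 1712 i)) (Nat.ble 1708 i)) (Bool.rec (motive := fun _ => Nat) (Bool.rec (motive := fun _ => Nat) (Bool.rec (motive := fun _ => Nat) (Bool.rec (motive := fun _ => Nat) (0x1000405000a7e) (0x30004060006c2) (Nat.ble 1717 i)) (Bool.rec (motive := fun _ => Nat) (0x10004070000a4) (0x100040c000299) (Nat.ble 1719 i)) (Nat.ble 1718 i)) (Bool.rec (motive := fun _ => Nat) (Bool.rec (motive := fun _ => Nat) (0x200040c000296) (0x100040f000d5a) (Nat.ble 1721 i)) (Bool.rec (motive := fun _ => Nat) (0x410000d01) (0x2000410000d59) (Nat.ble 1723 i)) (Nat.ble 1722 i)) (Nat.ble 1720 i)) (Bool.rec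 (motive := fun _ => Nat) (Bool.rec (motive := fun _ => Nat) (Bool.rec (motive := fun _ => Nat) (0x300041100086d) (0x3000413000c81) (Nat.ble 1725 i)) (Bool.rec (motive := fun _ => Nat) (0x20004150005f9) (0x4160001b7) (Nat.ble 1727 i)) (Nat.ble 1726 i)) (Bool.rec (motive := fun _ => Nat) (Bool.rec (motive := fun _ => Nat) (0x3000416000618) (0x417000129) (Nat.ble 1729 i)) (Bool.rec (motive := fun _ => Nat) (0x1000418000492) (0x100041a000992) (Nat.ble 1731 i)) (Nat.ble 1730 i)) (Nat.ble 1728 i)) (Nat.ble 1724 i)) (Nat.ble 1716 i)) (Bool.rec (motive := fun _ => Nat) (Bool.rec (motive := fun _ => Nat) (Bool.rec (motive := fun _ => Nat) (Bool.rec (motive := fun _ => Nat) (Bool.rec (motive := fun _ => Nat) (0x41c000f31) (0x300041c000ecb) (Nat.ble 1733 i)) (Bool.rec (motive := fun _ => Nat) (0x200041d000c66) (0x10004230001e2) (Nat.ble 1735 i)) (Nat.ble 1734 i)) (Bool.rec (motive := fun _ => Nat) (Bool.rec (motive := fun _ => Nat) (0x20004250008ee) (0x1000427000e7b) (Nat.ble 1737 i)) (Bool.rec (motive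 := fun _ => Nat) (0x2000429000937) (0x42a000537) (Nat.ble 1739 i)) (Nat.ble 1738 i)) (Nat.ble 1736 i)) (Bool.rec (motive := fun _ => Nat) (Bool.rec (motive := fun _ => Nat) (Bool.rec (motive := fun _ => Nat) (0x300042a0007e8) (0x100042c0003e5) (Nat.ble 1741 i)) (Bool.rec (motive := fun _ => Nat) (0x42d000335) (0x200042e000f13) (Nat.ble 1743 i)) (Nat.ble 1742 i)) (Bool.rec (motive := fun _ => Nat) (Bool.rec (motive := fun _ => Nat) (0x10004300003f4) (0x2000430000d0e) (Nat.ble 1745 i)) (Bool.rec (motive := fun _ => Nat) (0x3000431000c7f) (0x2000432000754) (Nat.ble 1747 i)) (Nat.ble 1746 i)) (Nat.ble 1744 i)) (Nat.ble 1740 i)) (Bool.rec (motive := fun _ => Nat) (Bool.rec (motive := fun _ => Nat) (Bool.rec (motive := fun _ => Nat) (Bool.rec (motive := fun _ => Nat) (0x3000432000d3e) (0x1000434000b1b) (Nat.ble 1749 i)) (Bool.rec (motive := fun _ => Nat) (0x3000437000b00) (0x2000439000911) (Nat.ble 1751 i)) (Nat.ble 1750 i)) (Bool.rec (motive := fun _ => Nat) (Bool.rec (motive := fun _ => Nat) (0x43b000ba3)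 (0x200043e000668) (Nat.ble 1753 i)) (Bool.rec (motive := fun _ => Nat) (0x43f0005b9) (0x442000bb9) (Nat.ble 1755 i)) (Nat.ble 1754 i)) (Nat.ble 1752 i)) (Bool.rec (motive := fun _ => Nat) (Bool.rec (motive := fun _ => Nat) (Bool.rec (motive := fun _ => Nat) (0x3000442000a4d) (0x200044300084c) (Nat.ble 1757 i)) (Bool.rec (motive := fun _ => Nat) (0x100044400082e) (0x3000444000d68) (Nat.ble 1759 i)) (Nat.ble 1758 i)) (Bool.rec (motive := fun _ => Nat) (Bool.rec (motive := fun _ => Nat) (0x446000928) (0x3000447000ece) (Nat.ble 1761 i)) (Bool.rec (motive := fun _ => Nat) (0x100044900039e) (0x44a000a05) (Nat.ble 1763 i)) (Nat.ble 1762 i)) (Nat.ble 1760 i)) (Nat.ble 1756 i)) (Nat.ble 1748 i)) (Nat.ble 1732 i))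
noncomputable def C20P_28 (i : Nat) : Nat := (Bool.rec (motive := fun _ => Nat) (Bool.rec (motive := fun _ => Nat) (Bool.rec (motive := fun _ => Nat) (Bool.rec (motive := fun _ => Nat) (Bool.rec (motive := fun _ => Nat) (0x100044f000669) (Bool.rec (motive := fun _ => Nat) (0x200044f0009c5) (0x3000452000c9c) (Nat.ble 1766 i)) (Nat.ble 1765 i)) (Bool.rec (motive := fun _ => Nat) (Bool.rec (motive := fun _ => Nat) (0x1000454000133) (0x30004550006b3) (Nat.ble 1768 i)) (Bool.rec (motive := fun _ => Nat) (0x10004560005b2) (0x300045700057c) (Nat.ble 1770 i)) (Nat.ble 1769 i)) (Nat.ble 1767 i)) (Bool.rec (motive := fun _ => Nat) (Bool.rec (motive := fun _ => Nat) (Bool.rec (motive := fun _ => Nat) (0x1000459000686) (0x3000459000b2a) (Nat.ble 1772 i)) (Bool.rec (motive := fun _ => Nat) (0x45a00026b) (0x300045a000e99) (Nat.ble 1774 i)) (Nat.ble 1773 i)) (Bool.rec (motive := fun _ => Nat) (Bool.rec (motive := fun _ => Nat) (0x300045b00020a) (0x200045c00003d) (Nat.ble 1776 i)) (Bool.rec (motive := fun _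 => Nat) (0x30004600005f1) (0x1000464000bc4) (Nat.ble 1778 i)) (Nat.ble 1777 i)) (Nat.ble 1775 i)) (Nat.ble 1771 i)) (Bool.rec (motive := fun _ => Nat) (Bool.rec (motive := fun _ => Nat) (Bool.rec (motive := fun _ => Nat) (Bool.rec (motive := fun _ => Nat) (0x2000464000152) (0x2000466000baa) (Nat.ble 1780 i)) (Bool.rec (motive := fun _ => Nat) (0x4670005ba) (0x3000467000bec) (Nat.ble 1782 i)) (Nat.ble 1781 i)) (Bool.rec (motive := fun _ => Nat) (Bool.rec (motive := fun _ => Nat) (0x200046800038e) (0x2000469000c84) (Nat.ble 1784 i)) (Bool.rec (motive := fun _ => Nat) (0x200046a00004d) (0x100046d000308) (Nat.ble 1786 i)) (Nat.ble 1785 i)) (Nat.ble 1783 i)) (Bool.rec (motive := fun _ => Nat) (Bool.rec (motive := fun _ => Nat) (Bool.rec (motive := fun _ => Nat) (0x200046d00044a) (0x300046e00019f) (Nat.ble 1788 i)) (Bool.rec (motive := fun _ => Nat) (0x3000471000f24) (0x2000473000cd0) (Nat.ble 1790 i)) (Nat.ble 1789 i)) (Bool.rec (motive := fun _ => Nat) (Bool.rec (motive := fun _ => Nat) (0x10004740007fe)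 (0x2000475000500) (Nat.ble 1792 i)) (Bool.rec (motive := fun _ => Nat) (0x47c0002e1) (0x100047d000372) (Nat.ble 1794 i)) (Nat.ble 1793 i)) (Nat.ble 1791 i)) (Nat.ble 1787 i)) (Nat.ble 1779 i)) (Bool.rec (motive := fun _ => Nat) (Bool.rec (motive := fun _ => Nat) (Bool.rec (motive := fun _ => Nat) (Bool.rec (motive := fun _ => Nat) (Bool.rec (motive := fun _ => Nat) (0x47e000bb8) (0x200047e000195) (Nat.ble 1796 i)) (Bool.rec (motive := fun _ => Nat) (0x300047e000403) (0x200047f000878) (Nat.ble 1798 i)) (Nat.ble 1797 i)) (Bool.rec (motive := fun _ => Nat) (Bool.rec (motive := fun _ => Nat) (0x300047f00096a) (0x30004820003d8) (Nat.ble 1800 i)) (Bool.rec (motive := fun _ => Nat) (0x200048600077c) (0x100048900083b) (Nat.ble 1802 i)) (Nat.ble 1801 i)) (Nat.ble 1799 i)) (Bool.rec (motive := fun _ => Nat) (Bool.rec (motive := fun _ => Nat) (Bool.rec (motive := fun _ => Nat) (0x3000489000b73) (0x300048a0008f1) (Nat.ble 1804 i)) (Bool.rec (motive := fun _ => Nat) (0x300048b000702) (0x49200012c) (Nat.ble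 1806 i)) (Nat.ble 1805 i)) (Bool.rec (motive := fun _ => Nat) (Bool.rec (motive := fun _ => Nat) (0x493000572) (0x20004930006da) (Nat.ble 1808 i)) (Bool.rec (motive := fun _ => Nat) (0x1000494000199) (0x100049500071d) (Nat.ble 1810 i)) (Nat.ble 1809 i)) (Nat.ble 1807 i)) (Nat.ble 1803 i)) (Bool.rec (motive := fun _ => Nat) (Bool.rec (motive := fun _ => Nat) (Bool.rec (motive := fun _ => Nat) (Bool.rec (motive := fun _ => Nat) (0x1000496000a71) (0x1000497000b77) (Nat.ble 1812 i)) (Bool.rec (motive := fun _ => Nat) (0x200049800019c) (0x3000499000153) (Nat.ble 1814 i)) (Nat.ble 1813 i)) (Bool.rec (motive := fun _ => Nat) (Bool.rec (motive := fun _ => Nat) (0x200049a000954) (0x49d00026e) (Nat.ble 1816 i)) (Bool.rec (motive := fun _ => Nat) (0x300049f000b0d) (0x4a0000041) (Nat.ble 1818 i)) (Nat.ble 1817 i)) (Nat.ble 1815 i)) (Bool.rec (motive := fun _ => Nat) (Bool.rec (motive := fun _ => Nat) (Bool.rec (motive := fun _ => Nat) (0x10004a2000e1d) (0x10004a4000d26) (Nat.ble 1820 i)) (Bool.rec (motive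 := fun _ => Nat) (0x30004a4000b9f) (0x30004a5000337) (Nat.ble 1822 i)) (Nat.ble 1821 i)) (Bool.rec (motive := fun _ => Nat) (Bool.rec (motive := fun _ => Nat) (0x10004a6000eff) (0x10004a7000e1c) (Nat.ble 1824 i)) (Bool.rec (motive := fun _ => Nat) (0x4a9000ecd) (0x20004a9000b80) (Nat.ble 1826 i)) (Nat.ble 1825 i)) (Nat.ble 1823 i)) (Nat.ble 1819 i)) (Nat.ble 1811 i)) (Nat.ble 1795 i))
noncomputable def C20P_29 (i : Nat) : Nat := (Bool.rec (motive := fun _ => Nat) (Bool.rec (motive := fun _ => Nat) (Bool.rec (motive := fun _ => Nat) (Bool.rec (motive := fun _ => Nat) (Bool.rec (motive := fun _ => Nat) (0x4ac000d1f) (Bool.rec (motive := fun _ => Nat) (0x30004ac0006a0) (0x30004af0000f3) (Nat.ble 1829 i)) (Nat.ble 1828 i)) (Bool.rec (motive := fun _ => Nat) (Bool.rec (motive := fun _ => Nat) (0x10004b00008c4) (0x10004b1000d71) (Nat.ble 1831 i)) (Bool.rec (motive := fun _ => Nat) (0x4b3000b78) (0x20004b30009be) (Nat.ble 1833 i)) (Nat.ble 1832 i)) (Nat.ble 1830 i)) (Bool.rec (motive := fun _ => Nat)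 (Bool.rec (motive := fun _ => Nat) (Bool.rec (motive := fun _ => Nat) (0x10004b500075c) (0x30004b5000194) (Nat.ble 1835 i)) (Bool.rec (motive := fun _ => Nat) (0x4b6000718) (0x30004b70004eb) (Nat.ble 1837 i)) (Nat.ble 1836 i)) (Bool.rec (motive := fun _ => Nat) (Bool.rec (motive := fun _ => Nat) (0x30004b8000051) (0x30004b90000f2) (Nat.ble 1839 i)) (Bool.rec (motive := fun _ => Nat) (0x30004ba000b20) (0x10004bc00032f) (Nat.ble 1841 i)) (Nat.ble 1840 i)) (Nat.ble 1838 i)) (Nat.ble 1834 i)) (Bool.rec (motive := fun _ => Nat) (Bool.rec (motive := fun _ => Nat) (Bool.rec (motive := fun _ => Nat) (Bool.rec (motive := fun _ => Nat) (0x10004be000d4f) (0x20004be0003b4) (Nat.ble 1843 i)) (Bool.rec (motive := fun _ => Nat) (0x30004c00006e4) (0x4c1000324) (Nat.ble 1845 i)) (Nat.ble 1844 i)) (Bool.rec (motive := fun _ => Nat) (Bool.rec (motive := fun _ => Nat) (0x10004c1000288) (0x20004c1000636) (Nat.ble 1847 i)) (Bool.rec (motive := fun _ => Nat) (0x20004c4000d31) (0x30004cc00053b) (Nat.ble 1849 i)) (Nat.ble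 1848 i)) (Nat.ble 1846 i)) (Bool.rec (motive := fun _ => Nat) (Bool.rec (motive := fun _ => Nat) (Bool.rec (motive := fun _ => Nat) (0x30004ce000e8d) (0x4cf0008fa) (Nat.ble 1851 i)) (Bool.rec (motive := fun _ => Nat) (0x20004d0000ea2) (0x30004d000004b) (Nat.ble 1853 i)) (Nat.ble 1852 i)) (Bool.rec (motive := fun _ => Nat) (Bool.rec (motive := fun _ => Nat) (0x20004d40002d9) (0x30004d4000d5f) (Nat.ble 1855 i)) (Bool.rec (motive := fun _ => Nat) (0x30004d5000c8d) (0x30004d7000f3a) (Nat.ble 1857 i)) (Nat.ble 1856 i)) (Nat.ble 1854 i)) (Nat.ble 1850 i)) (Nat.ble 1842 i)) (Bool.rec (motive := fun _ => Nat) (Bool.rec (motive := fun _ => Nat) (Bool.rec (motive := fun _ => Nat) (Bool.rec (motive := fun _ => Nat) (Bool.rec (motive := fun _ => Nat) (0x30004d8000dc7) (0x4db000870) (Nat.ble 1859 i)) (Bool.rec (motive := fun _ => Nat) (0x30004db0006b0) (0x30004dc0002f3) (Nat.ble 1861 i)) (Nat.ble 1860 i)) (Bool.rec (motive := fun _ => Nat) (Bool.rec (motive := fun _ => Nat) (0x4dd000d21) (0x20004dd0007e7)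 (Nat.ble 1863 i)) (Bool.rec (motive := fun _ => Nat) (0x10004de0009f1) (0x10004df000b76) (Nat.ble 1865 i)) (Nat.ble 1864 i)) (Nat.ble 1862 i)) (Bool.rec (motive := fun _ => Nat) (Bool.rec (motive := fun _ => Nat) (Bool.rec (motive := fun _ => Nat) (0x30004df00092d) (0x30004e0000c91) (Nat.ble 1867 i)) (Bool.rec (motive := fun _ => Nat) (0x4e2000f18) (0x20004e70009df) (Nat.ble 1869 i)) (Nat.ble 1868 i)) (Bool.rec (motive := fun _ => Nat) (Bool.rec (motive := fun _ => Nat) (0x30004e8000869) (0x30004ec000bc3) (Nat.ble 1871 i)) (Bool.rec (motive := fun _ => Nat) (0x20004ef000ef6) (0x20004f0000487) (Nat.ble 1873 i)) (Nat.ble 1872 i)) (Nat.ble 1870 i)) (Nat.ble 1866 i)) (Bool.rec (motive := fun _ => Nat) (Bool.rec (motive := fun _ => Nat) (Bool.rec (motive := fun _ => Nat) (Bool.rec (motive := fun _ => Nat) (0x10004f2000a1a) (0x30004f3000517) (Nat.ble 1875 i)) (Bool.rec (motive := fun _ => Nat) (0x30004f4000ae5) (0x30004f5000ddb) (Nat.ble 1877 i)) (Nat.ble 1876 i)) (Bool.rec (motive := fun _ => Nat)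 (Bool.rec (motive := fun _ => Nat) (0x30004f9000e84) (0x10004fa000700) (Nat.ble 1879 i)) (Bool.rec (motive := fun _ => Nat) (0x30004fa0002de) (0x20004fc000110) (Nat.ble 1881 i)) (Nat.ble 1880 i)) (Nat.ble 1878 i)) (Bool.rec (motive := fun _ => Nat) (Bool.rec (motive := fun _ => Nat) (Bool.rec (motive := fun _ => Nat) (0x20004fd000e51) (0x2000500000176) (Nat.ble 1883 i)) (Bool.rec (motive := fun _ => Nat) (0x3000503000b15) (0x50600039c) (Nat.ble 1885 i)) (Nat.ble 1884 i)) (Bool.rec (motive := fun _ => Nat) (Bool.rec (motive := fun _ => Nat) (0x5090008e5) (0x10005090008b8) (Nat.ble 1887 i)) (Bool.rec (motive := fun _ => Nat) (0x20005090006f3) (0x300050b0007fb) (Nat.ble 1889 i)) (Nat.ble 1888 i)) (Nat.ble 1886 i)) (Nat.ble 1882 i)) (Nat.ble 1874 i)) (Nat.ble 1858 i))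
noncomputable def C20P_30 (i : Nat) : Nat := (Bool.rec (motive := fun _ => Nat) (Bool.rec (motive := fun _ => Nat) (Bool.rec (motive := fun _ => Nat) (Bool.rec (motive := fun _ => Nat) (Bool.rec (motive := fun _ => Nat) (0x511000cb5) (Bool.rec (motive := fun _ => Nat) (0x1000511000a64) (0x20005110000bf) (Nat.ble 1892 i)) (Nat.ble 1891 i)) (Bool.rec (motive := fun _ => Nat) (Bool.rec (motive := fun _ => Nat) (0x3000513000e4f) (0x3000515000432) (Nat.ble 1894 i)) (Bool.rec (motive := fun _ => Nat) (0x10005180009b2) (0x200051f000667) (Nat.ble 1896 i)) (Nat.ble 1895 i)) (Nat.ble 1893 i)) (Bool.rec (motive := fun _ => Nat) (Bool.rec (motive := fun _ => Nat) (Bool.rec (motive := fun _ => Nat) (0x520000aa9) (0x2000520000785) (Nat.ble 1898 i)) (Bool.rec (motive := fun _ => Nat) (0x2000521000d7a) (0x100052500082a) (Nat.ble 1900 i)) (Nat.ble 1899 i)) (Bool.rec (motive := fun _ => Nat) (Bool.rec (motive := fun _ => Nat) (0x526000b49) (0x2000526000810) (Nat.ble 1902 i)) (Bool.rec (motive := fun _ => Nat)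 (0x5290006e5) (0x300052b00017d) (Nat.ble 1904 i)) (Nat.ble 1903 i)) (Nat.ble 1901 i)) (Nat.ble 1897 i)) (Bool.rec (motive := fun _ => Nat) (Bool.rec (motive := fun _ => Nat) (Bool.rec (motive := fun _ => Nat) (Bool.rec (motive := fun _ => Nat) (0x300052c0005d9) (0x52d00057a) (Nat.ble 1906 i)) (Bool.rec (motive := fun _ => Nat) (0x3000530000815) (0x3000533000be8) (Nat.ble 1908 i)) (Nat.ble 1907 i)) (Bool.rec (motive := fun _ => Nat) (Bool.rec (motive := fun _ => Nat) (0x1000534000e49) (0x2000539000661) (Nat.ble 1910 i)) (Bool.rec (motive := fun _ => Nat) (0x53a000e9e) (0x53b00063b) (Nat.ble 1912 i)) (Nat.ble 1911 i)) (Nat.ble 1909 i)) (Bool.rec (motive := fun _ => Nat) (Bool.rec (motive := fun _ => Nat) (Bool.rec (motive := fun _ => Nat) (0x200053b000290) (0x300053b000681) (Nat.ble 1914 i)) (Bool.rec (motive := fun _ => Nat) (0x53d000655) (0x300053f000e03) (Nat.ble 1916 i)) (Nat.ble 1915 i)) (Bool.rec (motive := fun _ => Nat) (Bool.rec (motive := fun _ => Nat) (0x1000547000198) (0x2000547000045)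 (Nat.ble 1918 i)) (Bool.rec (motive := fun _ => Nat) (0x1000549000c53) (0x300054a000bf9) (Nat.ble 1920 i)) (Nat.ble 1919 i)) (Nat.ble 1917 i)) (Nat.ble 1913 i)) (Nat.ble 1905 i)) (Bool.rec (motive := fun _ => Nat) (Bool.rec (motive := fun _ => Nat) (Bool.rec (motive := fun _ => Nat) (Bool.rec (motive := fun _ => Nat) (Bool.rec (motive := fun _ => Nat) (0x100054d0007db) (0x200054e000524) (Nat.ble 1922 i)) (Bool.rec (motive := fun _ => Nat) (0x300054f000976) (0x3000551000922) (Nat.ble 1924 i)) (Nat.ble 1923 i)) (Bool.rec (motive := fun _ => Nat) (Bool.rec (motive := fun _ => Nat) (0x2000556000cd1) (0x1000559000b07) (Nat.ble 1926 i)) (Bool.rec (motive := fun _ => Nat) (0x2000559000ac8) (0x55a000f14) (Nat.ble 1928 i)) (Nat.ble 1927 i)) (Nat.ble 1925 i)) (Bool.rec (motive := fun _ => Nat) (Bool.rec (motive := fun _ => Nat) (Bool.rec (motive := fun _ => Nat) (0x55e0000f0) (0x200055e000a90) (Nat.ble 1930 i)) (Bool.rec (motive := fun _ => Nat) (0x55f0002c0) (0x561000dca) (Nat.ble 1932 i)) (Nat.ble 1931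 i)) (Bool.rec (motive := fun _ => Nat) (Bool.rec (motive := fun _ => Nat) (0x3000561000bba) (0x100056400018e) (Nat.ble 1934 i)) (Bool.rec (motive := fun _ => Nat) (0x100056700077d) (0x1000568000e1b) (Nat.ble 1936 i)) (Nat.ble 1935 i)) (Nat.ble 1933 i)) (Nat.ble 1929 i)) (Bool.rec (motive := fun _ => Nat) (Bool.rec (motive := fun _ => Nat) (Bool.rec (motive := fun _ => Nat) (Bool.rec (motive := fun _ => Nat) (0x3000569000f1c) (0x100056b000233) (Nat.ble 1938 i)) (Bool.rec (motive := fun _ => Nat) (0x300056c000b71) (0x2000570000049) (Nat.ble 1940 i)) (Nat.ble 1939 i)) (Bool.rec (motive := fun _ => Nat) (Bool.rec (motive := fun _ => Nat) (0x572000a93) (0x30005720000fa) (Nat.ble 1942 i)) (Bool.rec (motive := fun _ => Nat) (0x20005730007d8) (0x2000578000e77) (Nat.ble 1944 i)) (Nat.ble 1943 i)) (Nat.ble 1941 i)) (Bool.rec (motive := fun _ => Nat) (Bool.rec (motive := fun _ => Nat) (Bool.rec (motive := fun _ => Nat) (0x581000e32) (0x1000589000868) (Nat.ble 1946 i)) (Bool.rec (motive := fun _ => Nat)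 (0x300058f000ef1) (0x1000593000ae4) (Nat.ble 1948 i)) (Nat.ble 1947 i)) (Bool.rec (motive := fun _ => Nat) (Bool.rec (motive := fun _ => Nat) (0x200059f000bfa) (0x30005a70006c8) (Nat.ble 1950 i)) (Bool.rec (motive := fun _ => Nat) (0x10005a90007e4) (0x30005ac00015a) (Nat.ble 1952 i)) (Nat.ble 1951 i)) (Nat.ble 1949 i)) (Nat.ble 1945 i)) (Nat.ble 1937 i)) (Nat.ble 1921 i))
noncomputable def C20P_31 (i : Nat) : Nat := (Bool.rec (motive := fun _ => Nat) (Bool.rec (motive := fun _ => Nat) (Bool.rec (motive := fun _ => Nat) (Bool.rec (motive := fun _ => Nat) (Bool.rec (motive := fun _ => Nat) (0x20005ad0006b5) (Bool.rec (motive := fun _ => Nat) (0x30005af0007a7) (0x10005b100050f) (Nat.ble 1955 i)) (Nat.ble 1954 i)) (Bool.rec (motive := fun _ => Nat) (Bool.rec (motive := fun _ => Nat) (0x5bd000d2f) (0x20005be0006d9) (Nat.ble 1957 i)) (Bool.rec (motive := fun _ => Nat) (0x30005c20006d4) (0x30005c6000a7f) (Nat.ble 1959 i)) (Nat.ble 1958 i)) (Nat.ble 1956 i)) (Bool.rec (motive := fun _ => Nat) (Bool.rec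 (motive := fun _ => Nat) (Bool.rec (motive := fun _ => Nat) (0x5c90007e6) (0x30005ca000d22) (Nat.ble 1961 i)) (Bool.rec (motive := fun _ => Nat) (0x20005cb0004cb) (0x5cc000247) (Nat.ble 1963 i)) (Nat.ble 1962 i)) (Bool.rec (motive := fun _ => Nat) (Bool.rec (motive := fun _ => Nat) (0x30005d600076d) (0x30005db000c06) (Nat.ble 1965 i)) (Bool.rec (motive := fun _ => Nat) (0x5e7000dbe) (0x20005e7000be5) (Nat.ble 1967 i)) (Nat.ble 1966 i)) (Nat.ble 1964 i)) (Nat.ble 1960 i)) (Bool.rec (motive := fun _ => Nat) (Bool.rec (motive := fun _ => Nat) (Bool.rec (motive := fun _ => Nat) (Bool.rec (motive := fun _ => Nat) (0x30005e80004e0) (0x10005ea000932) (Nat.ble 1969 i)) (Bool.rec (motive := fun _ => Nat) (0x30005f2000940) (0x5f6000d6e) (Nat.ble 1971 i)) (Nat.ble 1970 i)) (Bool.rec (motive := fun _ => Nat) (Bool.rec (motive := fun _ => Nat) (0x20005f60006aa) (0x30005fa000c9a) (Nat.ble 1973 i)) (Bool.rec (motive := fun _ => Nat) (0x1000600000f16) (0x300060000094d) (Nat.ble 1975 i)) (Nat.ble 1974 i)) (Nat.ble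 1972 i)) (Bool.rec (motive := fun _ => Nat) (Bool.rec (motive := fun _ => Nat) (Bool.rec (motive := fun _ => Nat) (0x602000134) (0x30006060006fa) (Nat.ble 1977 i)) (Bool.rec (motive := fun _ => Nat) (0x20006140009bf) (0x618000945) (Nat.ble 1979 i)) (Nat.ble 1978 i)) (Bool.rec (motive := fun _ => Nat) (Bool.rec (motive := fun _ => Nat) (0x20006180008bd) (0x6230006c6) (Nat.ble 1981 i)) (Bool.rec (motive := fun _ => Nat) (0x2000623000645) (0x3000625000f1f) (Nat.ble 1983 i)) (Nat.ble 1982 i)) (Nat.ble 1980 i)) (Nat.ble 1976 i)) (Nat.ble 1968 i)) (Bool.rec (motive := fun _ => Nat) (Bool.rec (motive := fun _ => Nat) (Bool.rec (motive := fun _ => Nat) (Bool.rec (motive := fun _ => Nat) (Bool.rec (motive := fun _ => Nat) (0x2000627000d29) (0x3000629000897) (Nat.ble 1985 i)) (Bool.rec (motive := fun _ => Nat) (0x62a000f1b) (0x200062a000e48) (Nat.ble 1987 i)) (Nat.ble 1986 i)) (Bool.rec (motive := fun _ => Nat) (Bool.rec (motive := fun _ => Nat) (0x100062c000c26) (0x62d00090d) (Nat.ble 1989 i)) (Bool.rec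 (motive := fun _ => Nat) (0x63500010e) (0x1000636000397) (Nat.ble 1991 i)) (Nat.ble 1990 i)) (Nat.ble 1988 i)) (Bool.rec (motive := fun _ => Nat) (Bool.rec (motive := fun _ => Nat) (Bool.rec (motive := fun _ => Nat) (0x300063c0004e9) (0x300063f0005d8) (Nat.ble 1993 i)) (Bool.rec (motive := fun _ => Nat) (0x200064800048d) (0x3000669000ddc) (Nat.ble 1995 i)) (Nat.ble 1994 i)) (Bool.rec (motive := fun _ => Nat) (Bool.rec (motive := fun _ => Nat) (0x100066a0003bc) (0x300066d000dbc) (Nat.ble 1997 i)) (Bool.rec (motive := fun _ => Nat) (0x300066f000e33) (0x3000674000291) (Nat.ble 1999 i)) (Nat.ble 1998 i)) (Nat.ble 1996 i)) (Nat.ble 1992 i)) (Bool.rec (motive := fun _ => Nat) (Bool.rec (motive := fun _ => Nat) (Bool.rec (motive := fun _ => Nat) (Bool.rec (motive := fun _ => Nat) (0x200067b0006f9) (0x300067f000788) (Nat.ble 2001 i)) (Bool.rec (motive := fun _ => Nat) (0x3000680000756) (0x3000696000ce8) (Nat.ble 2003 i)) (Nat.ble 2002 i)) (Bool.rec (motive := fun _ => Nat) (Bool.rec (motive := fun _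 => Nat) (0x10006a5000e9c) (0x20006a5000c98) (Nat.ble 2005 i)) (Bool.rec (motive := fun _ => Nat) (0x30006ae000c9f) (0x30006b2000611) (Nat.ble 2007 i)) (Nat.ble 2006 i)) (Nat.ble 2004 i)) (Bool.rec (motive := fun _ => Nat) (Bool.rec (motive := fun _ => Nat) (Bool.rec (motive := fun _ => Nat) (0x30006b6000268) (0x10006c00004e2) (Nat.ble 2009 i)) (Bool.rec (motive := fun _ => Nat) (0x30006c80006ba) (0x30006fc000117) (Nat.ble 2011 i)) (Nat.ble 2010 i)) (Bool.rec (motive := fun _ => Nat) (Bool.rec (motive := fun _ => Nat) (0x10006fd000a8a) (0x3000745000be4) (Nat.ble 2013 i)) (Bool.rec (motive := fun _ => Nat) (0x300074c000bb7) (0x30007520005db) (Nat.ble 2015 i)) (Nat.ble 2014 i)) (Nat.ble 2012 i)) (Nat.ble 2008 i)) (Nat.ble 2000 i)) (Nat.ble 1984 i))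
noncomputable def C20P (i : Nat) : Nat := (Bool.rec (motive := fun _ => Nat) (Bool.rec (motive := fun _ => Nat) (Bool.rec (motive := fun _ => Nat) (Bool.rec (motive := fun _ => Nat) (Bool.rec (motive := fun _ => Nat) (C20P_0 i) (C20P_1 i) (Nat.ble 63 i)) (Bool.rec (motive := fun _ => Nat) (C20P_2 i) (C20P_3 i) (Nat.ble 189 i)) (Nat.ble 126 i)) (Bool.rec (motive := fun _ => Nat) (Bool.rec (motive := fun _ => Nat) (C20P_4 i) (C20P_5 i) (Nat.ble 315 i)) (Bool.rec (motive := fun _ => Nat) (C20P_6 i) (C20P_7 i) (Nat.ble 441 i)) (Nat.ble 378 i)) (Nat.ble 252 i)) (Bool.rec (motive := fun _ => Nat) (Bool.rec (motive := fun _ => Nat) (Bool.rec (motive := fun _ => Nat) (C20P_8 i) (C20P_9 i) (Nat.ble 567 i)) (Bool.rec (motive := fun _ => Nat) (C20P_10 i) (C20P_11 i) (Nat.ble 693 i)) (Nat.ble 630 i)) (Bool.rec (motive := fun _ => Nat) (Bool.rec (motive := fun _ => Nat) (C20P_12 i) (C20P_13 i) (Nat.ble 819 i)) (Bool.rec (motive := fun _ => Nat) (C20P_14 i) (C20P_15 i) (Nat.ble 945 i)) (Nat.ble 882 i)) (Nat.ble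 756 i)) (Nat.ble 504 i)) (Bool.rec (motive := fun _ => Nat) (Bool.rec (motive := fun _ => Nat) (Bool.rec (motive := fun _ => Nat) (Bool.rec (motive := fun _ => Nat) (C20P_16 i) (C20P_17 i) (Nat.ble 1071 i)) (Bool.rec (motive := fun _ => Nat) (C20P_18 i) (C20P_19 i) (Nat.ble 1197 i)) (Nat.ble 1134 i)) (Bool.rec (motive := fun _ => Nat) (Bool.rec (motive := fun _ => Nat) (C20P_20 i) (C20P_21 i) (Nat.ble 1323 i)) (Bool.rec (motive := fun _ => Nat) (C20P_22 i) (C20P_23 i) (Nat.ble 1449 i)) (Nat.ble 1386 i)) (Nat.ble 1260 i)) (Bool.rec (motive := fun _ => Nat) (Bool.rec (motive := fun _ => Nat) (Bool.rec (motive := fun _ => Nat) (C20P_24 i) (C20P_25 i) (Nat.ble 1575 i)) (Bool.rec (motive := fun _ => Nat) (C20P_26 i) (C20P_27 i) (Nat.ble 1701 i)) (Nat.ble 1638 i)) (Bool.rec (motive := fun _ => Nat) (Bool.rec (motive := fun _ => Nat) (C20P_28 i) (C20P_29 i) (Nat.ble 1827 i)) (Bool.rec (motive := fun _ => Nat) (C20P_30 i) (C20P_31 i) (Nat.ble 1953 i)) (Nat.ble 1890 i)) (Nat.ble 1764 i)) (Nat.ble 1512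 i)) (Nat.ble 1008 i))
noncomputable def C20InvB_0 (i : Nat) : Nat := (Bool.rec (motive := fun _ => Nat) (Bool.rec (motive := fun _ => Nat) (Bool.rec (motive := fun _ => Nat) (Bool.rec (motive := fun _ => Nat) (Bool.rec (motive := fun _ => Nat) (0x6f00000a30000000000000000000000000003cb0004b90000000000000004b700000000000000000000017c0000000000000000000000000000000002fb00035800037500000000020e0000000003f000010a0001ad00000000000000017a00059300000000038d000000000345000235000377000656000000000000000000000000000000000000000000000000000000000000000000000000000000000000000000000000000000000000000000000000000000000000) (Bool.rec (motive := fun _ => Nat) (0x59500035c0000770005bf00000000000000000000000000046f0000000005960000000005a80000000000000004280000360000000000000000000001d90000000000000002780000000000000000000000000000d100025800000000000000039c00000000047e0000000000000000000000000000000000000001950000ab00000000000000072e0005880000000000000006f90003e700073d00040a0007940000000000000005a100077e00000000000000054f00071a000615)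 (0x76400000000000000067a0000000004f60002060004f30000000000000000000003150001240000000000000000000000000001670001c70000000000000000000005940003eb0000000000000000000006b6000000000000000000000625000613000000000000000000000000000000000000000000000000000000000000000000000000000000000000000000000000000000000000000000000000000000000000000000000000000000000152000000000000000000000338000000) (Nat.ble 2 i)) (Nat.ble 1 i)) (Bool.rec (motive := fun _ => Nat) (Bool.rec (motive := fun _ => Nat) (0x4a90000d200000000000000046300079600023c00003a00000000000000055400051000072500072f0000da0007890000000002410005d200000000030c0000000000000000c300039700058200038e00036c0006ae0000000005f00006290000000000000000000006050002910002670000000003c10003da00000000003800000000060f0004910000000002840004e10003c400000000061a00066600000000000000000000056d0004f400000000050100067000000000066d000123) (0x4320000c100000000069c0004b600000000000000057200000000004a0007b80006e70000000000000005510000000001130000c700070e0005970003170006c10000700000470004970004950000000000000000000000020000000005e60000000000000000000003b10001640000000000000007db00024e0000000002340000f50000000006070007590003ac0007c60000000005f100061600000000000000008b0000000000000002700000000003e8000000000000000000)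 (Nat.ble 4 i)) (Bool.rec (motive := fun _ => Nat) (0x40e0007700000600001c000000000055900000000000000075b0001e10000000003f50003f40000000000000000000000a600000000000000050700040100028c0000000000c40000000000000000000000000000000005eb00023f00039a0000000000000000f80000000007a00000000000000003290000c50000000002d80007160006f30000000003860004db0001af0000000000000000000006460000f000006800039f0000830001a400048d000269000000000000000000) (0x3010000000000000000000000000003ff0006bf0005500001aa00000000013a0000000000000000000001f500000000000000000000000000000000000000000000000000031100034e0000000000000000000000000002f90006fc00000000000000071500009b00065200071100077d0002cf0004df00070400072b00021b0000000000880001b70003b900078e0001260000000001c50005760000000000000000000000000000dc0000b300041b0000000000a7000000) (Nat.ble 6 i)) (Nat.ble 5 i)) (Nat.ble 3 i)) (Bool.rec (motive := fun _ => Nat) (Bool.rec (motive := fun _ => Nat) (Bool.rec (motive := fun _ => Nat) (0x2f20000000004b50004240000000000000000000001380000000000000000000002120001dc0000000000000000000000000000000000000000ce0000d70000000001a20000000000000000000006730000000000230006c70000000002210003ad0000000000000000b400000000018800052500065400014e0000000002a500006d0002fc00050e0000000005d6000000000000000000000000000000000000000149000000000643000000000000000000000000000000000000000000)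 (0x79200037d0004ca0002f30000000000000004ac00040000000000027f00068500044f0005d30000000000000004ae00050300040500041500000000000000000000000000068a00000000012d0001b00006550000000000000000000000000000000000000000e600000000000000000000032400000000051e0006ef0000000003ed0004a300028a00000000046700000000067e0003ca0005a4) (Nat.ble 8 i)) (Bool.rec (motive := fun _ => Nat) (0x5ec0004450000000000000000000002130000000000000001020000760000000000000002850000000000000007180000d80001500006ed0000000002e20007d800000000037f0000eb0001c80006120000000000000001a90005cc00037100033e0004860003fb0000000005ad0000a90000000003be0000000000000000000000000000b10000000000000000000000000004230003a40002e300048b0000000007ab0000000001cb000000000000000000000000000000) (0x1e80001a10005a30000000002870000fa0003ea00033b0000000000000006690000000000000000000000000002230000000000000000000000000001df00000000063500000000010e0001b20000000000000000000003830000000000000005c60004c60001da0004ed0006b70002ba0004610006b80006030000000000000000000007cf0007790005310000000005bb0002c80001170000000000000007360000000000000005e80001290004140003af0000000001b5)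 (Nat.ble 10 i)) (Nat.ble 9 i)) (Bool.rec (motive := fun _ => Nat) (Bool.rec (motive := fun _ => Nat) (0x37b0000000000000000000001f600052d0000000005ea0006a400045100000000000000074500068900000000052000056a00040c0002ee00000000044400062c00000000000000000000003c0004750002e60000000000000007010004cb0004b200075800000000000000055f0001fe00073e00030b0000000005c900000000000000006f00000000005d0001fc00000000000000000000024a0000000000fe00000000000000000000034800021e00035300000000032800000000078b) (0x4dd0004ab0000000000ed00000000000000071e0006a20006ce0000000001990000000000000000000007310006080003120002d20005240000a20000000000f70001e30000450000000007350000000000000000000000000000000001270004fd00020d0000000002ef0000c600000000000000000000000000030700049300000000053d0002de0000000000000005cd0000000000000003350000000006fa0000000000000004a400028e000000000000000000000000) (Nat.ble 12 i)) (Bool.rec (motive := fun _ => Nat) (0x40200042a0000000000000000000000000003060000000001eb00040600010500000000031600070200011b0000000003fa00000000000000000000000000000000000000052600000000000000000000000000000000052e0000000000000000900000000000000000000000000002b30003880002f500017000000000010b00069300044700000000015800000000000000000000000000032c00000000051d00059900000000000000000000000000000000000000033a000000000000)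 (0x1120007cc00000000000000042c0000000000420000000000000007330002f700016800025b00019c0000000004a200000000012100000000000000022400000000000000057a00067c0000000000000000000000000000000003210006e200056c00075d0000460001e50000000000000007c700000000057100000000012b00008e0000000000180000000006f70000000000000000000001a60003870000000000dd0005c7000000000000000000000000000651000460) (Nat.ble 14 i)) (Nat.ble 13 i)) (Nat.ble 11 i)) (Nat.ble 7 i)) (Bool.rec (motive := fun _ => Nat) (Bool.rec (motive := fun _ => Nat) (Bool.rec (motive := fun _ => Nat) (Bool.rec (motive := fun _ => Nat) (0x5b400000000063e00000000064d00000000054c0000000002ae00058600017f0006d000003e0000000000000000d30000000000000001470000040000000000000004b10000000000000000b60006cd0000000000000000000000000000000000000000f10000000003dc00000000051c0000800007080000000000000000000003fc0000000000000000ea0000000004e40000000000000005470000000000db0000b90000000005e40004920000000002ea000000000000000000000000) (0x80000000002900000000004650000000000000000000000000000000000000000000007660002f400063c0005ca00051f00000000000000000000068700000000000000069b0003d60000000001850000fb00020b00057e0002790002d60003c00000000000000001180000000000000002da00000000000000000000000000056700058d00016900021600000000030200009d0000000006320000000000000000000000000000000000000000210007050000000001b100049d)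 (Nat.ble 16 i)) (Bool.rec (motive := fun _ => Nat) (0x66300063d00042900000000000000000000057b00000000067200000000016f00028600000000000000057700000000000000054000065a00000000026400030900047f00000000000000056f0001ac0004cc0006750002200003d80000000006400000000000000002bc0005cb0005bd00004100021500059d00000000032d0000000000000000000005c100000000000000000000022b0000000000000006fb0000000000000000000004e600006a00000000000000038000054e000000) (0x17100000000000000000000000000000000030d0002cc0005a50006610000000000000000000002710002a90000000000000003cf0001860000000000000000000005040000000000000000000000000000000000000000000000000001f20000000000000000000000000000000000000000000000000000000000000000000000000000000006c20004d20006840000000000000007ca00025200000000006c00000000032300075100000000000000014f000000000288000000000000) (Nat.ble 18 i)) (Nat.ble 17 i)) (Bool.rec (motive := fun _ => Nat) (Bool.rec (motive := fun _ => Nat) (0x5360000000000000001f80005d80000000000000005340000000001c90000000000000001d50000000000000000000004260003ee00000000072d0000000007c800000000000000000000000000027d0001900007d90000000007b00000000000000000000000000000000000000000000000000000000000000000000000000000000000000000000000000000000000000000000002ab0007aa0002cb0000000000000000000001730002cd00026f0006af0000000003d000064c)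 (0x3810000000000ca0000000007390004c70000000000c00006cb0005c300053300008f0000000002c40004830000000000000001410000000002d900019f0000000000000000000000000000000000000007820000000000000001ed00032000026e0002aa0002f100052a0003e300000000000000053b0007530005bc0002190005220005b800058100045200049e0007a30000df0000000003f70006490004ba0004e00002d40001bc0000000001e90000000000870003b0000000000700) (Nat.ble 20 i)) (Bool.rec (motive := fun _ => Nat) (0x6ea00000000077200056400047300000000001b00043b00000000005e00070f0000000000000000000004f000058000000000061400040b0002030000000000000000000004b80000000005420000970005d100000000031e00011f00041200058f0003190004850001bd00029600029b0000cc0001e600000000041000000000019b00000000025f0000b5000000000000000000000000000000000000000000000000000000000092000516000160000000000000) (0x2800001700000000030e0000000006f50006da0001330000000002a30005280000000000000006e90000000000000000000000000000000003c30000000000000000000000000000000006b20000000000560000cd00000000000000018e0003510000b20000000005e00000000000000000000001d400037000000000000000000000000000000000000000000000000000027b0000ba0000000000000000000001f90000000000000000000002e700000000023b000000000277000000)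 (Nat.ble 22 i)) (Nat.ble 21 i)) (Nat.ble 19 i)) (Bool.rec (motive := fun _ => Nat) (Bool.rec (motive := fun _ => Nat) (Bool.rec (motive := fun _ => Nat) (0x51b0000f30002050000fc0006be00000000000000047700038b0000000000000005050006f10000000000000004f900029e0004f80000000001220000000002d100066e00018a0002ad00009c00000000000000069a0000000001760000cf0000000000000007df0005110007710007c90000000002af0000000003b60000000000000006020004430003c60000000000000000000000000001740002fe0000000006710000000003a30001c30004c30000e00003ab000000) (0x4c50000220000000001810007780000000005fd0000000000000007370000000003e500000000000000000f00036200036300039e00000000000000000000000000000000000000059000043a00000000065b00050a0004aa00049a00000000000000000000055a0004ce0000000000000000000006c000057c00067800069800000000068e0000000007d700000000021a00018200002d00027e0000000000000000000000000000000000000004af0001200001f40004b0000232000000) (Nat.ble 24 i)) (Bool.rec (motive := fun _ => Nat) (0x3dd00000000000000000000000000000000000000045d0000000000000006190000000000000006880006600000000001540006e40006d90007680000000003f60000000002c10006770007760000000000670000000000000003420002400000000002f600000000000000000000077b0000000000000000000003c20002df0000000000000004d50000000000000000000000000000000000100002550007be00002f0000000000250000ad000000)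 (0x1870003040000000003100000000007da00000000018d0002390000a40007a10004ea0006e800000000058a00074400000000000000025e0002630003660007b400029200026c0000000003330000000004bf0005ac00065800051900072400000000055800028200000000057f00000000000000000000046c00000000000000000000001a0002600006240005750002280000740000000005f40003930006900000000005d700000a0006eb0000000004390006a900000000077a000622) (Nat.ble 26 i)) (Nat.ble 25 i)) (Bool.rec (motive := fun _ => Nat) (Bool.rec (motive := fun _ => Nat) (0x2f00007b90007d00000370004330000000000000000000007600000000002d300012500063400000000010100019e0000810004d70000e200061f0000000001e200076f00073400005f00038f0000000000000004310000000000000000000000000007100007a500061d0000000001780001ae0007a600037c0000000000130000540000000000000005b900000000043800036b00000000079e0000000007bd0000000004c200034c0006b5000000000000) (0x3b0000000001ee00000000006600000000048f0005ab00012e00056300029a0000000000000006640000000003bd00000000000000050d0003bb0001ef0002940000bb00000000000000010400008a0006a000034a0004be0000000004760000000000000007120004540001be00000000000000072c00069e0002450003ba00007200000000016a00024400000000034000000000041700000000000000023300000000000000000000000000000000000000000000070d000000000757)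 (Nat.ble 28 i)) (Bool.rec (motive := fun _ => Nat) (0x1400002fa00078f00070900003f0000000000000000000000790000000000000001360006330002eb00024d00064e00000000021f0007ac00059b0003aa00059c0001f000063900000000000000000000023d00000000000000006500041c0006b100003200000000072a0004cf00056e00045e00063000044a0007d20003850006d30000bd00000000064400048e0001060003610000000001d80000000000000000000000000000000000000000000005690001d0000000000000000217) (0x21c0003910000000005270000000000000000960001fa0000000002b40000000001b600000000000000056b0000000000000001ca0000000000000004220000000000000005b30007a200000000000000040900031f00061800062f00047800000000000000013200002900000000000000000000000000024f00000000045b00000000000000000000000000067b0006170005e20000000006370000000000000000000007d100000000000000076a0000000001ff00013b000227000091) (Nat.ble 30 i)) (Nat.ble 29 i)) (Nat.ble 27 i)) (Nat.ble 23 i)) (Nat.ble 15 i)) (Bool.rec (motive := fun _ => Nat) (Bool.rec (motive := fun _ => Nat) (Bool.rec (motive := fun _ => Nat)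 (Bool.rec (motive := fun _ => Nat) (0x2e50006ff0000000001b30007610000000005d00002070001de0000930002140000000000e10000000000ee00000000000000028d0000000001350000000000000000e90006cc0007470007a80003de00079f00047100000000051400036a00000000000000000000000000078100004b00059e00079700019d0000a500000000037a0005440002d70001b90004f700000000000000008d00000000000000033000037600000000000000055200015700068d0002c500036d000000000683) (Bool.rec (motive := fun _ => Nat) (0x1ea00007300000000011400070a0003b400000000000000000000060b00000000047c0000000004560000000000000000000006de00000000010f00000000076c0003a600016300000000000000035d0000000003600000d50000000005e900013400002e0000000000000004080000000000000000000000d90000000007730000990001d200005900000600076e00000000000000000000000000063f0006ac00025100000000039d000000000211000000000071000000000000000103) (0x5b60000000006990000000000000000000007060005550002be0001620001bf0001980000de00013d00074300000000001d0006bc0001d100000000000000074e00079a00000000022500005200000000000000041a0000000005560003920000750000000000000001590000000000000000000000cb00004900006b0004b400000000000000060d0000000000000000000000000006dd0000000000000000000002610005c800000000018c000000000000000283000000000000)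 (Nat.ble 33 i)) (Nat.ble 32 i)) (Bool.rec (motive := fun _ => Nat) (Bool.rec (motive := fun _ => Nat) (0x5b10007bc00000000000000004000000000075f00016d0004b300023100019700054300050c0001550000350000000002020004de00007e00000000040400011e0005450002590003b700000000000000047d0000000002890002c300000000000000000000000000021d00059800013c0004d10007c10006740006260000f600045000054100000000011d00000000000000017b0001930000000000b80000000000000000000003270000000000000000000000000000000000fd) (0x3ce0004840000000000c800002600073b0005f20000000000000000000000000000000000000002b100070c00000000054d0006c80000000001cd0003a000063a00000000048000043000000000075e00051a00000000000000045900000000000000000000051700035000004d0000e70000000005f500033900000000058c0000050003a10000000000000000000000150002dd0004fb00000000000000011100000000000000000000000000000000072600000000000000064b00065d) (Nat.ble 35 i)) (Bool.rec (motive := fun _ => Nat) (0x6090000000000000000000000000006ca0003d700000000000000053a0007b100044e0000000005de00000000074a0004420000000000ec0000000006e000006e00000000035700000000000000078400000000000000000000001c0000af0000000000000000a80000ef00012a0001300000000000000005da0000000000000006d70000690001d70000000007c500069d00014b0002260002bd0000000000000006760000000000820001100001000005fe000000)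 (0x55300000000000000000000000000000000078300056100000000000000000000045f00000000000000000000000000000000020f00070700024c00000300033f0005f70000000005cf00000000000000000000000000046900000000000000000000049b0004400000000002db0000000006590004dc00071700012f0003b800006100031c0000d400029d0007b70001450005b000043d00013e0002a00003730000e40007bb0000000004ec0000000000000007b2) (Nat.ble 37 i)) (Nat.ble 36 i)) (Nat.ble 34 i)) (Bool.rec (motive := fun _ => Nat) (Bool.rec (motive := fun _ => Nat) (Bool.rec (motive := fun _ => Nat) (0x7ba0007290000000006670000000005c500000000000000067f0000000001940000000000000007670000000000000001d600016100055d0000000000000001e000000000049c0002e40001a50001e40000000000000000950000000000b70004e80000000000000001190002ca0001dd0001420002530000000000000000480000000000000006c30000000002620000530000000002e900000000000000014600000000015f0003560006470006380001d3000000000000000000000000) (0x2a400000000000000000000000000000000027600000000000000000000000000000000000000074800000000000000000000008c0002380000000000000000000004d60004d30000000001ab0005ae0000ae0000640005aa00064500074d00064f0000000000000000000000000002e000018f00000000000000000000000000000000027c0005c400032500022d00025a00042d0001390000000003740000000000f40000980002360006e50000000004f10002ce000650000000)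 (Nat.ble 39 i)) (Bool.rec (motive := fun _ => Nat) (0x33d00055c0003b500000000000000000000065300000000064800048700028b0000000000000006ad00000000000000000000000000000000000000000000000000000000043e00000000046d0004ff0004880000190000000000000000000000000000000004890000000000000007520003d90000000000000006800000000000000000000001c60005d900000000000000000000000000060400041100001200054b0001a30000440000000006e30005c2000665000000000000000000) (0x7a70006b400049900005b00000000000000000000024200000000005500010700000000000000000000071300000000000000000000000000050000000000000000056800000000031d00032200010900076300027300000000001e0000000000000000000000e800001f00000000000000000000000000000000000000015100000000035e00041800034b00000000052c0002980006dc00000000002000029900000000000000000000000000000000000000000c00000000058e0002c0) (Nat.ble 41 i)) (Nat.ble 40 i)) (Bool.rec (motive := fun _ => Nat) (Bool.rec (motive := fun _ => Nat) (0x2b80001f30000580000e50000d000016c0001bb00000000009e0000000006aa0005230003c70000000006b300025c0000000007690000000001310000000003ae0001ec0000000002180003c50000000000000002a60006b000017200000000000000000000012c00034d00000000000000000000079500000000000000078a00042f0006570000000000000000000007dc0005e10004640000000000000000000000000000000003d20000000000be)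 (0x1c200038a00057800000000044900061c00000000010d0000000000000002b20000000002950006100000000000000000000000000000000003820005ff0005150000000000000005e300005700075400079c00007d0004fa00011c00025000047900043f00000000000000000000000000057d0000000000000000000000000000000003680000000002090000000000000000000000000000000000000001ce00009f0007870000000000000005f800023e0004210000aa0000000000f9) (Nat.ble 43 i)) (Bool.rec (motive := fun _ => Nat) (0x48100000000000000000000000000000000000000000000000000040300030f00024700000000015c00000000014a0000000000000003960001f70000000006ec0000000005790001530002c200000000000000000000047a00002a0007300000000000000005290000000006d500030300056500045300030a0002bf00075c0000000000000005f60000000002650000000004580007190004c800000000008900000000000000078600000000000e0000000001920000000000000006d6) (0x4bd0005620000000004c400000000000000041e0007280007140007490001db00014d00070b0005e700079300038900044c0000000000000000000000000001ba0006420000000000000000000000000001960000c90005180000000001a70003e20000000000000003260000000000000005910002ff0004130000000000000006310000ac00000000000000000000000000000000000000000000000000000000076d00000000066800048a00000000020400000000032a000000000222)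 (Nat.ble 45 i)) (Nat.ble 44 i)) (Nat.ble 42 i)) (Nat.ble 38 i)) (Bool.rec (motive := fun _ => Nat) (Bool.rec (motive := fun _ => Nat) (Bool.rec (motive := fun _ => Nat) (Bool.rec (motive := fun _ => Nat) (0x62e0004660000000002a10004d900078d0006db0007030007de0005320000000002f800000100004f0000000000000001c100000000033600000000023a0006f400000000000000004300052b0000000004460006d80001a00003f80003e400071d00000000000000031300034100000000066c00000000000000000000003d00000000000000000000000000000000000000000000060c00061e0005a700000000068c00000000000000016e0002b500000000033c0000000004a7000722) (0x2bb0000000002b700000000079d0007800004a500000000000000049f0000000000000005ef0003670006790000000001910000000006f600040d00000000000000077400000000068b0007af0007dd0000000004eb0000000000000000000000000000000000000000000000000000000006a800064100024b0000000000000000000003780000000000000003f10005c000025600000000000000000000000000054a0000000000000000000006f200074f0004fe0003bc000539) (Nat.ble 47 i)) (Bool.rec (motive :=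 fun _ => Nat) (0x3460000000000000000000004270000000003a50005f90000000000000000000000000000000002430000000000000000000000000003e60000000006a50005f300048c0005fb0003900007c400033700048200000000062d0004ee00052f0000bf0000000000000000000000000000000000000001c400021000062a0005fa00000000009a0001370000000000000000000001e70000000003690000000000000003ef00000700004c0007ad0006a3000000000000000000000000000128) (0x6d20004900000000000000002010000000005a20000000000000000000006010006920000000000000000000000140000000002370004740003f30005740000000001430000d600053c0006c600022900000000000000020a00016b00035500000000029c0000000000000003a800016600000000000000000000037e00000000000000077f00055b0000000003490004c00002970000000000f20000000000000000000000000000000000000000000002740005730005890003ec000000) (Nat.ble 49 i)) (Nat.ble 48 i)) (Bool.rec (motive := fun _ => Nat) (Bool.rec (motive := fun _ => Nat) (0x43c0000000000000004360000000000000000000004620000000000620007620000000004c10000000000000000000000000002ec0000000000000006110004190002300003640005dc0005b50000000005ce00000d00000000035a0000000007d60000000005090006e600034f0007b50000000007d50001b80000000005db00000000000000000000074b0000000000000004550007400000000002d000064a0000000000000000000000000000000006f800000000040f0006bd000000)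 (0x32b0005be0005df0000000002e800069400069500042b0000000006060000000000000000000003fe00037900047b00000000000000024900042e0000000003520000000007d30001f100043500000000000000046e0000000005af0000000003a20003430003f20004bc00000000020000000000000000000000028f0000000000000000000000000007850006fe0000000002b000000000000000000000000000060e0006810004e500000000000000000000066a000000000000000000) (Nat.ble 51 i)) (Bool.rec (motive := fun _ => Nat) (0x6d400000000014800017e00000000062700065e00025d0000000000000000000000000000000007380000000007a40000000000000004ad0000000000000007c000000000049600071c0005e50000500001560007a90007460000000007230000000000840000000003080000000003d50005490005080002e10000000000000000000000000000000000000000000006d100062b0003df0005ed00058b00069f00030500031b00000000022c0000000000160000000006ba000000) (0x10c00069100000000000000000000076b0002ac0005ba00022f0003980006ab0000000004f50005350007270000000000000007b30004370004e20000000004980000000006df00031a0000270005870005380000000003fd0004e700000000073f0000b00000000000000000000006b90006bb0004410000000002d500044d00042000029300000000000000032e0007320005300004d00004070000000001a8000000000000000000000000000000000000000000000000000000000000)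 (Nat.ble 53 i)) (Nat.ble 52 i)) (Nat.ble 50 i)) (Bool.rec (motive := fun _ => Nat) (Bool.rec (motive := fun _ => Nat) (Bool.rec (motive := fun _ => Nat) (0x7ae00022e0007cd0005020000000000000003c900054600030000062000006300015d0000bc00000000000000050b0000000000000005dd00000000010800000000014c0000300000000000000000000003d40004a00000000000000000000000000000000006820000000000340000000000000000000005130005b200018b00000000000000000000000000007b00000000000000000000005c00024600000000000000015b00000000015e0002a80000ff0006a1000000000621) (0x39900060000000900000000000000000000025400000000000000000000028100037200002c0006860000330000000000000001cf0000000000000000000003f90000000000000000000000000000000004680003e000000000044b00015a0000000000000000000007cb0007550003e100011500000000000000000000000000000000007c00014400002b00026b00044800000000000000051200000000078c0002ed000000000742000000000094000000000000000000000584000177) (Nat.ble 55 i)) (Bool.rec (motive := fun _ => Nat) (0x34700038400045c00031400000000027a0004da0000000005a90007ce0007990000000000000000000000000000000000000000000005a000000000018300035900000000036f0005ee00035b00007f0005920004f200050f00000000071b0007200007900000000000860000510000000002b600000000041600018900026d0002fd00017d0000000001790000000000000000000000000003cc00026a00000000000000000000000000077c0000390005b7000000)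 (0x3b30000000000c20000000006c900046a0000000004fc0007980000000006360000000003180000000000000004d800067d00066f0003650000000000000005830004ef0002c60004cd0000000000000003a900035f00033100000000039400000000000000000000000000061b00000000065c00053f0000000000000004d400019a00000000054800075a00000000076500059a0006970000000000000004a10007750007c30000000000000001cc0000850003340000e3000000000000) (Nat.ble 57 i)) (Nat.ble 56 i)) (Bool.rec (motive := fun _ => Nat) (Bool.rec (motive := fun _ => Nat) (0x28000000000024800000000020c0000000000000004c90000000000000000000000000000000002570004700003e90005700000000000000000000003540004a600022a00000000000000000000000000018400073c0000000000000005570007770002680007d40003a70005660006ee00000000000000026600000000000000000000041f00004e00000000000000000000073a00000000011a0004e900005a0000000005d40000110003c8000756000000000000000000000000) (0x71f00000000053e0005210003bf00000000032f0000000000000007500001800006620000000006a700079b0006280000240001fb00000000000000055e00003100017500000000041d0001fd00063b00000000000000000000036e00066b00000000068f0000a100013f0000000000000000000000000000000000000000000000000000000006960000000000000000000006e10007210004bb0006c500043400049400046b0005d50003db0004a80000000005a600038c00000b0002a7)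 (Nat.ble 59 i)) (Bool.rec (motive := fun _ => Nat) (0x1b40002dc0000000000000007410000000000000003cd00000000039b0005600003d10000000006c40005fc0002c900016500000000065f00000000029f0000a00000000001160002720000780006fd0003b20004e30006a60006230007bf00060a0002c70007910007c200000000000000074c0000000007b600059f0007880006cf0005060002080002b900045700047200042500007a0000000000000003d30002750005850000000002a200000000000000045a000395000537) (0x332000344) (Nat.ble 61 i)) (Nat.ble 60 i)) (Nat.ble 58 i)) (Nat.ble 54 i)) (Nat.ble 46 i)) (Nat.ble 31 i))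
noncomputable def C20InvB (i : Nat) : Nat := (C20InvB_0 i)
noncomputable def C20Inv (i : Nat) : Nat := Nat.land (Nat.shiftRight (C20InvB (Nat.shiftRight i 6)) (Nat.mul 24 (Nat.land i 63))) 16777215
/-- Generators of a level. -/
def C21G : List (List Nat) := [[6, 10, 7, 14, 4, 12, 11], [10, 13, 5, 15, 6, 11, 7]]
noncomputable def C21P_0 (i : Nat) : Nat := (Bool.rec (motive := fun _ => Nat) (0x178) (Bool.rec (motive := fun _ => Nat) (0x982) (0x1000000000088) (Nat.ble 2 i)) (Nat.ble 1 i))
noncomputable def C21P (i : Nat) : Nat := (C21P_0 i)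
noncomputable def C21InvB_0 (i : Nat) : Nat := (Bool.rec (motive := fun _ => Nat) (Bool.rec (motive := fun _ => Nat) (Bool.rec (motive := fun _ => Nat) (Bool.rec (motive := fun _ => Nat) (Bool.rec (motive := fun _ => Nat) (0) (Bool.rec (motive := fun _ => Nat) (0) (0x2000000000000000000000000000000000000000000000000) (Nat.ble 2 i)) (Nat.ble 1 i)) (Bool.rec (motive := fun _ => Nat) (Bool.rec (motive := fun _ => Nat) (0) (0) (Nat.ble 4 i)) (Bool.rec (motive := fun _ => Nat) (0) (0) (Nat.ble 6 i)) (Nat.ble 5 i)) (Nat.ble 3 i)) (Bool.rec (motive := fun _ => Nat) (Bool.rec (motive := fun _ => Nat) (Bool.rec (motive := fun _ => Nat) (0) (0) (Nat.ble 8 i)) (Bool.rec (motive := fun _ => Nat) (0) (0) (Nat.ble 10 i)) (Nat.ble 9 i)) (Bool.rec (motive := fun _ => Nat) (Bool.rec (motive := fun _ => Nat) (0) (0) (Nat.ble 12 i)) (Bool.rec (motive := fun _ => Nat) (0) (0) (Nat.ble 14 i)) (Nat.ble 13 i)) (Nat.ble 11 i)) (Nat.ble 7 i)) (Bool.rec (motive := fun _ => Nat) (Bool.rec (motive := fun _ => Nat) (Bool.rec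 (motive := fun _ => Nat) (Bool.rec (motive := fun _ => Nat) (0) (0) (Nat.ble 16 i)) (Bool.rec (motive := fun _ => Nat) (0) (0) (Nat.ble 18 i)) (Nat.ble 17 i)) (Bool.rec (motive := fun _ => Nat) (Bool.rec (motive := fun _ => Nat) (0) (0) (Nat.ble 20 i)) (Bool.rec (motive := fun _ => Nat) (0) (0) (Nat.ble 22 i)) (Nat.ble 21 i)) (Nat.ble 19 i)) (Bool.rec (motive := fun _ => Nat) (Bool.rec (motive := fun _ => Nat) (Bool.rec (motive := fun _ => Nat) (0) (0) (Nat.ble 24 i)) (Bool.rec (motive := fun _ => Nat) (0) (0) (Nat.ble 26 i)) (Nat.ble 25 i)) (Bool.rec (motive := fun _ => Nat) (Bool.rec (motive := fun _ => Nat) (0) (0) (Nat.ble 28 i)) (Bool.rec (motive := fun _ => Nat) (0) (0) (Nat.ble 30 i)) (Nat.ble 29 i)) (Nat.ble 27 i)) (Nat.ble 23 i)) (Nat.ble 15 i)) (Bool.rec (motive := fun _ => Nat) (Bool.rec (motive := fun _ => Nat) (Bool.rec (motive := fun _ => Nat) (Bool.rec (motive := fun _ => Nat) (0) (Bool.rec (motive := fun _ => Nat) (0) (0) (Nat.ble 33 i)) (Nat.ble 32 i)) (Bool.rec (motive := fun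 _ => Nat) (Bool.rec (motive := fun _ => Nat) (0) (0) (Nat.ble 35 i)) (Bool.rec (motive := fun _ => Nat) (0) (0) (Nat.ble 37 i)) (Nat.ble 36 i)) (Nat.ble 34 i)) (Bool.rec (motive := fun _ => Nat) (Bool.rec (motive := fun _ => Nat) (Bool.rec (motive := fun _ => Nat) (0x1000000000000) (0) (Nat.ble 39 i)) (Bool.rec (motive := fun _ => Nat) (0) (0) (Nat.ble 41 i)) (Nat.ble 40 i)) (Bool.rec (motive := fun _ => Nat) (Bool.rec (motive := fun _ => Nat) (0) (0) (Nat.ble 43 i)) (Bool.rec (motive := fun _ => Nat) (0) (0) (Nat.ble 45 i)) (Nat.ble 44 i)) (Nat.ble 42 i)) (Nat.ble 38 i)) (Bool.rec (motive := fun _ => Nat) (Bool.rec (motive := fun _ => Nat) (Bool.rec (motive := fun _ => Nat) (Bool.rec (motive := fun _ => Nat) (0) (0) (Nat.ble 47 i)) (Bool.rec (motive := fun _ => Nat) (0) (0) (Nat.ble 49 i)) (Nat.ble 48 i)) (Bool.rec (motive := fun _ => Nat) (Bool.rec (motive := fun _ => Nat) (0) (0) (Nat.ble 51 i)) (Bool.rec (motive := fun _ => Nat) (0) (0) (Nat.ble 53 i)) (Nat.ble 52 i)) (Nat.ble 50 i)) (Bool.rec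 (motive := fun _ => Nat) (Bool.rec (motive := fun _ => Nat) (Bool.rec (motive := fun _ => Nat) (0) (0) (Nat.ble 55 i)) (Bool.rec (motive := fun _ => Nat) (0) (0) (Nat.ble 57 i)) (Nat.ble 56 i)) (Bool.rec (motive := fun _ => Nat) (Bool.rec (motive := fun _ => Nat) (0) (0) (Nat.ble 59 i)) (Bool.rec (motive := fun _ => Nat) (0) (0) (Nat.ble 61 i)) (Nat.ble 60 i)) (Nat.ble 58 i)) (Nat.ble 54 i)) (Nat.ble 46 i)) (Nat.ble 31 i))
noncomputable def C21InvB (i : Nat) : Nat := (C21InvB_0 i)
noncomputable def C21Inv (i : Nat) : Nat := Nat.land (Nat.shiftRight (C21InvB (Nat.shiftRight i 6)) (Nat.mul 24 (Nat.land i 63))) 16777215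
/-- Generators of a level. -/
def C30G : List (List Nat) := [[3, 3, 0, 2, 0], [2, 0, 2, 2, 0, 2, 0], [0, 2, 2, 0, 2, 6, 1, 3, 1], [4, 14, 3, 15, 6, 15, 1, 9, 5, 6, 0]]
noncomputable def C30P_0 (i : Nat) : Nat := (Bool.rec (motive := fun _ => Nat) (Bool.rec (motive := fun _ => Nat) (Bool.rec (motive := fun _ => Nat) (Bool.rec (motive := fun _ => Nat) (Bool.rec (motive := fun _ => Nat) (0x5eb) (Bool.rec (motive := fun _ => Nat) (0x226) (0x10000000001c0) (Nat.ble 2 i)) (Nat.ble 1 i)) (Bool.rec (motive := fun _ => Nat) (Bool.rec (motive := fun _ => Nat) (0x2000000000d2c) (0x300000000052c) (Nat.ble 4 i)) (Bool.rec (motive := fun _ => Nat) (0x10008af) (0x1000001000edf) (Nat.ble 6 i)) (Nat.ble 5 i)) (Nat.ble 3 i)) (Bool.rec (motive := fun _ => Nat) (Bool.rec (motive := fun _ => Nat) (Bool.rec (motive := fun _ => Nat) (0x2000001000a4a) (0x3000001000bed) (Nat.ble 8 i)) (Bool.rec (motive := fun _ => Nat) (0x2000203) (0x10000020008c8) (Nat.ble 10 i)) (Nat.ble 9 i)) (Bool.rec (motive := fun _ => Nat) (Bool.rec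 (motive := fun _ => Nat) (0x200000200022a) (0x30000020000a6) (Nat.ble 12 i)) (Bool.rec (motive := fun _ => Nat) (0x30001b7) (0x10000030009a5) (Nat.ble 14 i)) (Nat.ble 13 i)) (Nat.ble 11 i)) (Nat.ble 7 i)) (Bool.rec (motive := fun _ => Nat) (Bool.rec (motive := fun _ => Nat) (Bool.rec (motive := fun _ => Nat) (Bool.rec (motive := fun _ => Nat) (0x3000003000285) (0x4000df3) (Nat.ble 16 i)) (Bool.rec (motive := fun _ => Nat) (0x1000004000c2d) (0x2000004000467) (Nat.ble 18 i)) (Nat.ble 17 i)) (Bool.rec (motive := fun _ => Nat) (Bool.rec (motive := fun _ => Nat) (0x30000040002ee) (0x500072e) (Nat.ble 20 i)) (Bool.rec (motive := fun _ => Nat) (0x1000005000ba9) (0x2000005000954) (Nat.ble 22 i)) (Nat.ble 21 i)) (Nat.ble 19 i)) (Bool.rec (motive := fun _ => Nat) (Bool.rec (motive := fun _ => Nat) (Bool.rec (motive := fun _ => Nat) (0x300000500090c) (0x600064f) (Nat.ble 24 i)) (Bool.rec (motive := fun _ => Nat) (0x10000060001e1) (0x2000006000349) (Nat.ble 26 i)) (Nat.ble 25 i)) (Bool.rec (motive := fun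 _ => Nat) (Bool.rec (motive := fun _ => Nat) (0x3000006000ece) (0x10000070008b2) (Nat.ble 28 i)) (Bool.rec (motive := fun _ => Nat) (0x30000070005e7) (0x8000863) (Nat.ble 30 i)) (Nat.ble 29 i)) (Nat.ble 27 i)) (Nat.ble 23 i)) (Nat.ble 15 i)) (Bool.rec (motive := fun _ => Nat) (Bool.rec (motive := fun _ => Nat) (Bool.rec (motive := fun _ => Nat) (Bool.rec (motive := fun _ => Nat) (Bool.rec (motive := fun _ => Nat) (0x1000008000e57) (0x2000008000cd9) (Nat.ble 32 i)) (Bool.rec (motive := fun _ => Nat) (0x3000008000662) (0x90004c9) (Nat.ble 34 i)) (Nat.ble 33 i)) (Bool.rec (motive := fun _ => Nat) (Bool.rec (motive := fun _ => Nat) (0x20000090005d6) (0x30000090002f0) (Nat.ble 36 i)) (Bool.rec (motive := fun _ => Nat) (0x100000a000749) (0x200000a000e1f) (Nat.ble 38 i)) (Nat.ble 37 i)) (Nat.ble 35 i)) (Bool.rec (motive := fun _ => Nat) (Bool.rec (motive := fun _ => Nat) (Bool.rec (motive := fun _ => Nat) (0x300000a000c3c) (0xb000412) (Nat.ble 40 i)) (Bool.rec (motive := fun _ => Nat) (0x300000b000c84)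 (0xc0003d7) (Nat.ble 42 i)) (Nat.ble 41 i)) (Bool.rec (motive := fun _ => Nat) (Bool.rec (motive := fun _ => Nat) (0x100000c00049c) (0x200000c00049a) (Nat.ble 44 i)) (Bool.rec (motive := fun _ => Nat) (0x300000c000e68) (0xd0008a1) (Nat.ble 46 i)) (Nat.ble 45 i)) (Nat.ble 43 i)) (Nat.ble 39 i)) (Bool.rec (motive := fun _ => Nat) (Bool.rec (motive := fun _ => Nat) (Bool.rec (motive := fun _ => Nat) (Bool.rec (motive := fun _ => Nat) (0x100000d000a1a) (0x200000d000270) (Nat.ble 48 i)) (Bool.rec (motive := fun _ => Nat) (0x300000d0008e2) (0xe000b78) (Nat.ble 50 i)) (Nat.ble 49 i)) (Bool.rec (motive := fun _ => Nat) (Bool.rec (motive := fun _ => Nat) (0x100000e000e20) (0x200000e000a18) (Nat.ble 52 i)) (Bool.rec (motive := fun _ => Nat) (0x300000e000289) (0xf000bad) (Nat.ble 54 i)) (Nat.ble 53 i)) (Nat.ble 51 i)) (Bool.rec (motive := fun _ => Nat) (Bool.rec (motive := fun _ => Nat) (Bool.rec (motive := fun _ => Nat) (0x100000f000b54) (0x200000f00005c) (Nat.ble 56 i)) (Bool.rec (motive := fun _ =>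 Nat) (0x300000f00047f) (0x100007e1) (Nat.ble 58 i)) (Nat.ble 57 i)) (Bool.rec (motive := fun _ => Nat) (Bool.rec (motive := fun _ => Nat) (0x10000100004f5) (0x2000010000345) (Nat.ble 60 i)) (Bool.rec (motive := fun _ => Nat) (0x300001000037e) (0x11000544) (Nat.ble 62 i)) (Nat.ble 61 i)) (Nat.ble 59 i)) (Nat.ble 55 i)) (Nat.ble 47 i)) (Nat.ble 31 i))
noncomputable def C30P_1 (i : Nat) : Nat := (Bool.rec (motive := fun _ => Nat) (Bool.rec (motive := fun _ => Nat) (Bool.rec (motive := fun _ => Nat) (Bool.rec (motive := fun _ => Nat) (Bool.rec (motive := fun _ => Nat) (0x100001100062f) (Bool.rec (motive := fun _ => Nat) (0x20000110001be) (0x3000011000bb8) (Nat.ble 65 i)) (Nat.ble 64 i)) (Bool.rec (motive := fun _ => Nat) (Bool.rec (motive := fun _ => Nat) (0x12000a54) (0x100001200020f) (Nat.ble 67 i)) (Bool.rec (motive := fun _ => Nat) (0x3000012000c21) (0x13000807) (Nat.ble 69 i)) (Nat.ble 68 i)) (Nat.ble 66 i)) (Bool.rec (motive := fun _ => Nat) (Bool.rec (motive := fun _ => Nat) (Bool.rec (motive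 := fun _ => Nat) (0x1000013000543) (0x2000013000c6b) (Nat.ble 71 i)) (Bool.rec (motive := fun _ => Nat) (0x3000013000a6b) (0x14000489) (Nat.ble 73 i)) (Nat.ble 72 i)) (Bool.rec (motive := fun _ => Nat) (Bool.rec (motive := fun _ => Nat) (0x3000014000a5c) (0x15000abc) (Nat.ble 75 i)) (Bool.rec (motive := fun _ => Nat) (0x3000015000dd4) (0x17000d1b) (Nat.ble 77 i)) (Nat.ble 76 i)) (Nat.ble 74 i)) (Nat.ble 70 i)) (Bool.rec (motive := fun _ => Nat) (Bool.rec (motive := fun _ => Nat) (Bool.rec (motive := fun _ => Nat) (Bool.rec (motive := fun _ => Nat) (0x100001700013b) (0x200001700026e) (Nat.ble 79 i)) (Bool.rec (motive := fun _ => Nat) (0x300001700036b) (0x18000a34) (Nat.ble 81 i)) (Nat.ble 80 i)) (Bool.rec (motive := fun _ => Nat) (Bool.rec (motive := fun _ => Nat) (0x200001800021a) (0x3000018000d43) (Nat.ble 83 i)) (Bool.rec (motive := fun _ => Nat) (0x1a0005f9) (0x300001a00097a) (Nat.ble 85 i)) (Nat.ble 84 i)) (Nat.ble 82 i)) (Bool.rec (motive := fun _ => Nat) (Bool.rec (motive := fun _ => Nat)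 (Bool.rec (motive := fun _ => Nat) (0x1b000e52) (0x100001b000041) (Nat.ble 87 i)) (Bool.rec (motive := fun _ => Nat) (0x200001b000c87) (0x300001b000ada) (Nat.ble 89 i)) (Nat.ble 88 i)) (Bool.rec (motive := fun _ => Nat) (Bool.rec (motive := fun _ => Nat) (0x1c0005a6) (0x100001c00070d) (Nat.ble 91 i)) (Bool.rec (motive := fun _ => Nat) (0x200001c0004be) (0x300001c000de4) (Nat.ble 93 i)) (Nat.ble 92 i)) (Nat.ble 90 i)) (Nat.ble 86 i)) (Nat.ble 78 i)) (Bool.rec (motive := fun _ => Nat) (Bool.rec (motive := fun _ => Nat) (Bool.rec (motive := fun _ => Nat) (Bool.rec (motive := fun _ => Nat) (Bool.rec (motive := fun _ => Nat) (0x1d000492) (0x100001d000a19) (Nat.ble 95 i)) (Bool.rec (motive := fun _ => Nat) (0x200001d00016e) (0x300001d000609) (Nat.ble 97 i)) (Nat.ble 96 i)) (Bool.rec (motive := fun _ => Nat) (Bool.rec (motive := fun _ => Nat) (0x1e000ca0) (0x100001e000bf7) (Nat.ble 99 i)) (Bool.rec (motive := fun _ => Nat) (0x200001e000541) (0x300001e0000c6) (Nat.ble 101 i)) (Nat.ble 100 i)) (Nat.ble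 98 i)) (Bool.rec (motive := fun _ => Nat) (Bool.rec (motive := fun _ => Nat) (Bool.rec (motive := fun _ => Nat) (0x1f000e90) (0x100001f000a84) (Nat.ble 103 i)) (Bool.rec (motive := fun _ => Nat) (0x200001f000912) (0x300001f0007b2) (Nat.ble 105 i)) (Nat.ble 104 i)) (Bool.rec (motive := fun _ => Nat) (Bool.rec (motive := fun _ => Nat) (0x20000e53) (0x10000200003e8) (Nat.ble 107 i)) (Bool.rec (motive := fun _ => Nat) (0x3000020000224) (0x2100034c) (Nat.ble 109 i)) (Nat.ble 108 i)) (Nat.ble 106 i)) (Nat.ble 102 i)) (Bool.rec (motive := fun _ => Nat) (Bool.rec (motive := fun _ => Nat) (Bool.rec (motive := fun _ => Nat) (Bool.rec (motive := fun _ => Nat) (0x1000021000f12) (0x2000021000be1) (Nat.ble 111 i)) (Bool.rec (motive := fun _ => Nat) (0x3000021000802) (0x1000022000a2a) (Nat.ble 113 i)) (Nat.ble 112 i)) (Bool.rec (motive := fun _ => Nat) (Bool.rec (motive := fun _ => Nat) (0x3000022000192) (0x1000023000a03) (Nat.ble 115 i)) (Bool.rec (motive := fun _ => Nat) (0x300002300038c) (0x240006d9) (Nat.ble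 117 i)) (Nat.ble 116 i)) (Nat.ble 114 i)) (Bool.rec (motive := fun _ => Nat) (Bool.rec (motive := fun _ => Nat) (Bool.rec (motive := fun _ => Nat) (0x1000024000914) (0x30000240003a8) (Nat.ble 119 i)) (Bool.rec (motive := fun _ => Nat) (0x10000250005c6) (0x20000250001df) (Nat.ble 121 i)) (Nat.ble 120 i)) (Bool.rec (motive := fun _ => Nat) (Bool.rec (motive := fun _ => Nat) (0x3000025000e9e) (0x26000955) (Nat.ble 123 i)) (Bool.rec (motive := fun _ => Nat) (0x3000026000589) (0x270002fd) (Nat.ble 125 i)) (Nat.ble 124 i)) (Nat.ble 122 i)) (Nat.ble 118 i)) (Nat.ble 110 i)) (Nat.ble 94 i))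
noncomputable def C30P_2 (i : Nat) : Nat := (Bool.rec (motive := fun _ => Nat) (Bool.rec (motive := fun _ => Nat) (Bool.rec (motive := fun _ => Nat) (Bool.rec (motive := fun _ => Nat) (Bool.rec (motive := fun _ => Nat) (0x10000270002ba) (Bool.rec (motive := fun _ => Nat) (0x3000027000bc3) (0x1000028000a3d) (Nat.ble 128 i)) (Nat.ble 127 i)) (Bool.rec (motive := fun _ => Nat) (Bool.rec (motive := fun _ => Nat) (0x3000028000250) (0x29000da2) (Nat.ble 130 i)) (Bool.rec (motive := fun _ => Nat) (0x100002900042a) (0x3000029000229) (Nat.ble 132 i)) (Nat.ble 131 i)) (Nat.ble 129 i)) (Bool.rec (motive := fun _ => Nat) (Bool.rec (motive := fun _ => Nat) (Bool.rec (motive := fun _ => Nat) (0x2a000bf6) (0x100002a000548) (Nat.ble 134 i)) (Bool.rec (motive := fun _ => Nat) (0x200002a00054b) (0x300002a000b7e) (Nat.ble 136 i)) (Nat.ble 135 i)) (Bool.rec (motive := fun _ => Nat) (Bool.rec (motive := fun _ => Nat) (0x2b000098) (0x100002b00015e) (Nat.ble 138 i)) (Bool.rec (motive := fun _ => Nat) (0x200002b000e07)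 (0x300002b00011f) (Nat.ble 140 i)) (Nat.ble 139 i)) (Nat.ble 137 i)) (Nat.ble 133 i)) (Bool.rec (motive := fun _ => Nat) (Bool.rec (motive := fun _ => Nat) (Bool.rec (motive := fun _ => Nat) (Bool.rec (motive := fun _ => Nat) (0x2c000494) (0x100002c000e05) (Nat.ble 142 i)) (Bool.rec (motive := fun _ => Nat) (0x300002c000e71) (0x2d000e4f) (Nat.ble 144 i)) (Nat.ble 143 i)) (Bool.rec (motive := fun _ => Nat) (Bool.rec (motive := fun _ => Nat) (0x100002d000e49) (0x200002d000e55) (Nat.ble 146 i)) (Bool.rec (motive := fun _ => Nat) (0x300002d00084a) (0x300002e0000ca) (Nat.ble 148 i)) (Nat.ble 147 i)) (Nat.ble 145 i)) (Bool.rec (motive := fun _ => Nat) (Bool.rec (motive := fun _ => Nat) (Bool.rec (motive := fun _ => Nat) (0x300002f000924) (0x310002c1) (Nat.ble 150 i)) (Bool.rec (motive := fun _ => Nat) (0x1000031000de9) (0x30000310004a0) (Nat.ble 152 i)) (Nat.ble 151 i)) (Bool.rec (motive := fun _ => Nat) (Bool.rec (motive := fun _ => Nat) (0x34000a9f) (0x3000034000ec3) (Nat.ble 154 i)) (Bool.rec (motive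 := fun _ => Nat) (0x35000789) (0x100003500034f) (Nat.ble 156 i)) (Nat.ble 155 i)) (Nat.ble 153 i)) (Nat.ble 149 i)) (Nat.ble 141 i)) (Bool.rec (motive := fun _ => Nat) (Bool.rec (motive := fun _ => Nat) (Bool.rec (motive := fun _ => Nat) (Bool.rec (motive := fun _ => Nat) (Bool.rec (motive := fun _ => Nat) (0x300003500089e) (0x360003da) (Nat.ble 158 i)) (Bool.rec (motive := fun _ => Nat) (0x1000036000847) (0x2000036000718) (Nat.ble 160 i)) (Nat.ble 159 i)) (Bool.rec (motive := fun _ => Nat) (Bool.rec (motive := fun _ => Nat) (0x3000036000e7d) (0x370002b6) (Nat.ble 162 i)) (Bool.rec (motive := fun _ => Nat) (0x10000370001d0) (0x200003700089a) (Nat.ble 164 i)) (Nat.ble 163 i)) (Nat.ble 161 i)) (Bool.rec (motive := fun _ => Nat) (Bool.rec (motive := fun _ => Nat) (Bool.rec (motive := fun _ => Nat) (0x30000370002ec) (0x38000d65) (Nat.ble 166 i)) (Bool.rec (motive := fun _ => Nat) (0x1000038000e4e) (0x30000380001f0) (Nat.ble 168 i)) (Nat.ble 167 i)) (Bool.rec (motive := fun _ => Nat) (Bool.rec (motive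 := fun _ => Nat) (0x390001c9) (0x1000039000537) (Nat.ble 170 i)) (Bool.rec (motive := fun _ => Nat) (0x20000390006f2) (0x3000039000627) (Nat.ble 172 i)) (Nat.ble 171 i)) (Nat.ble 169 i)) (Nat.ble 165 i)) (Bool.rec (motive := fun _ => Nat) (Bool.rec (motive := fun _ => Nat) (Bool.rec (motive := fun _ => Nat) (Bool.rec (motive := fun _ => Nat) (0x3a00062e) (0x100003a0006b6) (Nat.ble 174 i)) (Bool.rec (motive := fun _ => Nat) (0x200003a000035) (0x300003a000c20) (Nat.ble 176 i)) (Nat.ble 175 i)) (Bool.rec (motive := fun _ => Nat) (Bool.rec (motive := fun _ => Nat) (0x3b00060f) (0x100003b00094c) (Nat.ble 178 i)) (Bool.rec (motive := fun _ => Nat) (0x200003b00056c) (0x300003b000ed7) (Nat.ble 180 i)) (Nat.ble 179 i)) (Nat.ble 177 i)) (Bool.rec (motive := fun _ => Nat) (Bool.rec (motive := fun _ => Nat) (Bool.rec (motive := fun _ => Nat) (0x100003c000731) (0x3d000a26) (Nat.ble 182 i)) (Bool.rec (motive := fun _ => Nat) (0x100003d000c5b) (0x200003d000067) (Nat.ble 184 i)) (Nat.ble 183 i)) (Bool.rec (motive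 := fun _ => Nat) (Bool.rec (motive := fun _ => Nat) (0x300003d000ee3) (0x3e00090f) (Nat.ble 186 i)) (Bool.rec (motive := fun _ => Nat) (0x200003e0004d0) (0x300003e000d99) (Nat.ble 188 i)) (Nat.ble 187 i)) (Nat.ble 185 i)) (Nat.ble 181 i)) (Nat.ble 173 i)) (Nat.ble 157 i))
noncomputable def C30P_3 (i : Nat) : Nat := (Bool.rec (motive := fun _ => Nat) (Bool.rec (motive := fun _ => Nat) (Bool.rec (motive := fun _ => Nat) (Bool.rec (motive := fun _ => Nat) (Bool.rec (motive := fun _ => Nat) (0x100003f000673) (Bool.rec (motive := fun _ => Nat) (0x200003f000ac1) (0x300003f0009ba) (Nat.ble 191 i)) (Nat.ble 190 i)) (Bool.rec (motive := fun _ => Nat) (Bool.rec (motive := fun _ => Nat) (0x400000ac) (0x3000040000097) (Nat.ble 193 i)) (Bool.rec (motive := fun _ => Nat) (0x41000420) (0x1000041000313) (Nat.ble 195 i)) (Nat.ble 194 i)) (Nat.ble 192 i)) (Bool.rec (motive := fun _ => Nat) (Bool.rec (motive := fun _ => Nat) (Bool.rec (motive := fun _ => Nat) (0x2000041000069) (0x3000041000a2d) (Nat.ble 197 i))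 (Bool.rec (motive := fun _ => Nat) (0x42000625) (0x1000042000e26) (Nat.ble 199 i)) (Nat.ble 198 i)) (Bool.rec (motive := fun _ => Nat) (Bool.rec (motive := fun _ => Nat) (0x2000042000813) (0x30000420006e8) (Nat.ble 201 i)) (Bool.rec (motive := fun _ => Nat) (0x43000aa3) (0x10000430005f8) (Nat.ble 203 i)) (Nat.ble 202 i)) (Nat.ble 200 i)) (Nat.ble 196 i)) (Bool.rec (motive := fun _ => Nat) (Bool.rec (motive := fun _ => Nat) (Bool.rec (motive := fun _ => Nat) (Bool.rec (motive := fun _ => Nat) (0x20000430008b4) (0x3000043000b02) (Nat.ble 205 i)) (Bool.rec (motive := fun _ => Nat) (0x44000d37) (0x10000440002b3) (Nat.ble 207 i)) (Nat.ble 206 i)) (Bool.rec (motive := fun _ => Nat) (Bool.rec (motive := fun _ => Nat) (0x2000044000f1d) (0x3000044000b45) (Nat.ble 209 i)) (Bool.rec (motive := fun _ => Nat) (0x4500097c) (0x1000045000f40) (Nat.ble 211 i)) (Nat.ble 210 i)) (Nat.ble 208 i)) (Bool.rec (motive := fun _ => Nat) (Bool.rec (motive := fun _ => Nat) (Bool.rec (motive := fun _ => Nat) (0x2000045000c8b)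 (0x3000045000c22) (Nat.ble 213 i)) (Bool.rec (motive := fun _ => Nat) (0x4600017e) (0x1000046000296) (Nat.ble 215 i)) (Nat.ble 214 i)) (Bool.rec (motive := fun _ => Nat) (Bool.rec (motive := fun _ => Nat) (0x2000046000c24) (0x30000460003b9) (Nat.ble 217 i)) (Bool.rec (motive := fun _ => Nat) (0x47000c75) (0x1000047000e6e) (Nat.ble 219 i)) (Nat.ble 218 i)) (Nat.ble 216 i)) (Nat.ble 212 i)) (Nat.ble 204 i)) (Bool.rec (motive := fun _ => Nat) (Bool.rec (motive := fun _ => Nat) (Bool.rec (motive := fun _ => Nat) (Bool.rec (motive := fun _ => Nat) (Bool.rec (motive := fun _ => Nat) (0x30000470001e5) (0x480009b9) (Nat.ble 221 i)) (Bool.rec (motive := fun _ => Nat) (0x10000480006ee) (0x2000048000ccd) (Nat.ble 223 i)) (Nat.ble 222 i)) (Bool.rec (motive := fun _ => Nat) (Bool.rec (motive := fun _ => Nat) (0x3000048000dcb) (0x49000279) (Nat.ble 225 i)) (Bool.rec (motive := fun _ => Nat) (0x3000049000809) (0x4a000edc) (Nat.ble 227 i)) (Nat.ble 226 i)) (Nat.ble 224 i)) (Bool.rec (motive := fun _ => Nat)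 (Bool.rec (motive := fun _ => Nat) (Bool.rec (motive := fun _ => Nat) (0x100004a0002a5) (0x200004a00080a) (Nat.ble 229 i)) (Bool.rec (motive := fun _ => Nat) (0x300004a000e0c) (0x300004b000795) (Nat.ble 231 i)) (Nat.ble 230 i)) (Bool.rec (motive := fun _ => Nat) (Bool.rec (motive := fun _ => Nat) (0x4c000261) (0x100004c00059d) (Nat.ble 233 i)) (Bool.rec (motive := fun _ => Nat) (0x300004c00011e) (0x4d000e39) (Nat.ble 235 i)) (Nat.ble 234 i)) (Nat.ble 232 i)) (Nat.ble 228 i)) (Bool.rec (motive := fun _ => Nat) (Bool.rec (motive := fun _ => Nat) (Bool.rec (motive := fun _ => Nat) (Bool.rec (motive := fun _ => Nat) (0x100004d000572) (0x200004d0001e2) (Nat.ble 237 i)) (Bool.rec (motive := fun _ => Nat) (0x300004d0003d5) (0x4e0000b3) (Nat.ble 239 i)) (Nat.ble 238 i)) (Bool.rec (motive := fun _ => Nat) (Bool.rec (motive := fun _ => Nat) (0x100004e000717) (0x200004e0004fa) (Nat.ble 241 i)) (Bool.rec (motive := fun _ => Nat) (0x300004e000852) (0x4f000451) (Nat.ble 243 i)) (Nat.ble 242 i)) (Nat.ble 240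 i)) (Bool.rec (motive := fun _ => Nat) (Bool.rec (motive := fun _ => Nat) (Bool.rec (motive := fun _ => Nat) (0x100004f0002c6) (0x300004f0009d1) (Nat.ble 245 i)) (Bool.rec (motive := fun _ => Nat) (0x50000325) (0x10000500003a0) (Nat.ble 247 i)) (Nat.ble 246 i)) (Bool.rec (motive := fun _ => Nat) (Bool.rec (motive := fun _ => Nat) (0x20000500006c0) (0x30000500006ae) (Nat.ble 249 i)) (Bool.rec (motive := fun _ => Nat) (0x1000051000628) (0x30000510000e7) (Nat.ble 251 i)) (Nat.ble 250 i)) (Nat.ble 248 i)) (Nat.ble 244 i)) (Nat.ble 236 i)) (Nat.ble 220 i))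
noncomputable def C30P_4 (i : Nat) : Nat := (Bool.rec (motive := fun _ => Nat) (Bool.rec (motive := fun _ => Nat) (Bool.rec (motive := fun _ => Nat) (Bool.rec (motive := fun _ => Nat) (Bool.rec (motive := fun _ => Nat) (0x10000520004a9) (Bool.rec (motive := fun _ => Nat) (0x30000520004d8) (0x53000141) (Nat.ble 254 i)) (Nat.ble 253 i)) (Bool.rec (motive := fun _ => Nat) (Bool.rec (motive := fun _ => Nat) (0x1000053000b88) (0x30000530007a9) (Nat.ble 256 i)) (Bool.rec (motive := fun _ => Nat) (0x3000054000161) (0x55000752) (Nat.ble 258 i)) (Nat.ble 257 i)) (Nat.ble 255 i)) (Bool.rec (motive := fun _ => Nat) (Bool.rec (motive := fun _ => Nat) (Bool.rec (motive := fun _ => Nat) (0x10000550000f6) (0x3000055000eae) (Nat.ble 260 i)) (Bool.rec (motive := fun _ => Nat) (0x56000e6f) (0x1000056000516) (Nat.ble 262 i)) (Nat.ble 261 i)) (Bool.rec (motive := fun _ => Nat) (Bool.rec (motive := fun _ => Nat) (0x200005600054c) (0x3000056000709) (Nat.ble 264 i)) (Bool.rec (motive := fun _ => Nat) (0x5700031d)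 (0x1000057000869) (Nat.ble 266 i)) (Nat.ble 265 i)) (Nat.ble 263 i)) (Nat.ble 259 i)) (Bool.rec (motive := fun _ => Nat) (Bool.rec (motive := fun _ => Nat) (Bool.rec (motive := fun _ => Nat) (Bool.rec (motive := fun _ => Nat) (0x2000057000d8c) (0x3000057000915) (Nat.ble 268 i)) (Bool.rec (motive := fun _ => Nat) (0x58000af4) (0x10000580003e4) (Nat.ble 270 i)) (Nat.ble 269 i)) (Bool.rec (motive := fun _ => Nat) (Bool.rec (motive := fun _ => Nat) (0x30000580006a5) (0x5900061f) (Nat.ble 272 i)) (Bool.rec (motive := fun _ => Nat) (0x10000590004ba) (0x2000059000201) (Nat.ble 274 i)) (Nat.ble 273 i)) (Nat.ble 271 i)) (Bool.rec (motive := fun _ => Nat) (Bool.rec (motive := fun _ => Nat) (Bool.rec (motive := fun _ => Nat) (0x3000059000567) (0x300005c0004f0) (Nat.ble 276 i)) (Bool.rec (motive := fun _ => Nat) (0x5d000263) (0x100005d000a40) (Nat.ble 278 i)) (Nat.ble 277 i)) (Bool.rec (motive := fun _ => Nat) (Bool.rec (motive := fun _ => Nat) (0x300005d00051e) (0x5e0005b6) (Nat.ble 280 i)) (Bool.rec (motive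 := fun _ => Nat) (0x100005e000d1f) (0x200005e0000d5) (Nat.ble 282 i)) (Nat.ble 281 i)) (Nat.ble 279 i)) (Nat.ble 275 i)) (Nat.ble 267 i)) (Bool.rec (motive := fun _ => Nat) (Bool.rec (motive := fun _ => Nat) (Bool.rec (motive := fun _ => Nat) (Bool.rec (motive := fun _ => Nat) (Bool.rec (motive := fun _ => Nat) (0x300005e000d3f) (0x5f000a35) (Nat.ble 284 i)) (Bool.rec (motive := fun _ => Nat) (0x100005f0000c3) (0x200005f000503) (Nat.ble 286 i)) (Nat.ble 285 i)) (Bool.rec (motive := fun _ => Nat) (Bool.rec (motive := fun _ => Nat) (0x300005f00067c) (0x60000dd1) (Nat.ble 288 i)) (Bool.rec (motive := fun _ => Nat) (0x1000060000910) (0x3000060000ea4) (Nat.ble 290 i)) (Nat.ble 289 i)) (Nat.ble 287 i)) (Bool.rec (motive := fun _ => Nat) (Bool.rec (motive := fun _ => Nat) (Bool.rec (motive := fun _ => Nat) (0x610005f4) (0x10000610005b7) (Nat.ble 292 i)) (Bool.rec (motive := fun _ => Nat) (0x2000061000bb3) (0x3000061000ae8) (Nat.ble 294 i)) (Nat.ble 293 i)) (Bool.rec (motive := fun _ => Nat) (Bool.rec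 (motive := fun _ => Nat) (0x62000a6f) (0x1000062000be0) (Nat.ble 296 i)) (Bool.rec (motive := fun _ => Nat) (0x2000062000c54) (0x30000620005fe) (Nat.ble 298 i)) (Nat.ble 297 i)) (Nat.ble 295 i)) (Nat.ble 291 i)) (Bool.rec (motive := fun _ => Nat) (Bool.rec (motive := fun _ => Nat) (Bool.rec (motive := fun _ => Nat) (Bool.rec (motive := fun _ => Nat) (0x63000c2e) (0x1000063000b2e) (Nat.ble 300 i)) (Bool.rec (motive := fun _ => Nat) (0x2000063000da1) (0x3000063000835) (Nat.ble 302 i)) (Nat.ble 301 i)) (Bool.rec (motive := fun _ => Nat) (Bool.rec (motive := fun _ => Nat) (0x1000064000762) (0x6500020a) (Nat.ble 304 i)) (Bool.rec (motive := fun _ => Nat) (0x10000650009c3) (0x2000065000108) (Nat.ble 306 i)) (Nat.ble 305 i)) (Nat.ble 303 i)) (Bool.rec (motive := fun _ => Nat) (Bool.rec (motive := fun _ => Nat) (Bool.rec (motive := fun _ => Nat) (0x300006500033c) (0x66000cc2) (Nat.ble 308 i)) (Bool.rec (motive := fun _ => Nat) (0x2000066000821) (0x300006600021e) (Nat.ble 310 i)) (Nat.ble 309 i)) (Bool.rec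 (motive := fun _ => Nat) (Bool.rec (motive := fun _ => Nat) (0x1000067000d9e) (0x2000067000246) (Nat.ble 312 i)) (Bool.rec (motive := fun _ => Nat) (0x3000067000036) (0x3000068000370) (Nat.ble 314 i)) (Nat.ble 313 i)) (Nat.ble 311 i)) (Nat.ble 307 i)) (Nat.ble 299 i)) (Nat.ble 283 i))
noncomputable def C30P_5 (i : Nat) : Nat := (Bool.rec (motive := fun _ => Nat) (Bool.rec (motive := fun _ => Nat) (Bool.rec (motive := fun _ => Nat) (Bool.rec (motive := fun _ => Nat) (Bool.rec (motive := fun _ => Nat) (0x69000d2a) (Bool.rec (motive := fun _ => Nat) (0x1000069000916) (0x200006900088e) (Nat.ble 317 i)) (Nat.ble 316 i)) (Bool.rec (motive := fun _ => Nat) (Bool.rec (motive := fun _ => Nat) (0x30000690007e3) (0x6a000699) (Nat.ble 319 i)) (Bool.rec (motive := fun _ => Nat) (0x100006a0006c9) (0x200006a000294) (Nat.ble 321 i)) (Nat.ble 320 i)) (Nat.ble 318 i)) (Bool.rec (motive := fun _ => Nat) (Bool.rec (motive := fun _ => Nat) (Bool.rec (motive := fun _ => Nat) (0x300006a000a5d) (0x6b000796) (Nat.ble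 323 i)) (Bool.rec (motive := fun _ => Nat) (0x200006b000de2) (0x300006b00020b) (Nat.ble 325 i)) (Nat.ble 324 i)) (Bool.rec (motive := fun _ => Nat) (Bool.rec (motive := fun _ => Nat) (0x6c00056e) (0x100006c000463) (Nat.ble 327 i)) (Bool.rec (motive := fun _ => Nat) (0x200006c000eb8) (0x300006c00056f) (Nat.ble 329 i)) (Nat.ble 328 i)) (Nat.ble 326 i)) (Nat.ble 322 i)) (Bool.rec (motive := fun _ => Nat) (Bool.rec (motive := fun _ => Nat) (Bool.rec (motive := fun _ => Nat) (Bool.rec (motive := fun _ => Nat) (0x6d000bc2) (0x100006d00028c) (Nat.ble 331 i)) (Bool.rec (motive := fun _ => Nat) (0x200006d000a7b) (0x300006d0001b8) (Nat.ble 333 i)) (Nat.ble 332 i)) (Bool.rec (motive := fun _ => Nat) (Bool.rec (motive := fun _ => Nat) (0x6e000442) (0x100006e000932) (Nat.ble 335 i)) (Bool.rec (motive := fun _ => Nat) (0x300006e000391) (0x6f000b3a) (Nat.ble 337 i)) (Nat.ble 336 i)) (Nat.ble 334 i)) (Bool.rec (motive := fun _ => Nat) (Bool.rec (motive := fun _ => Nat) (Bool.rec (motive := fun _ => Nat) (0x100006f000787)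 (0x300006f000e73) (Nat.ble 339 i)) (Bool.rec (motive := fun _ => Nat) (0x7000084e) (0x100007000005d) (Nat.ble 341 i)) (Nat.ble 340 i)) (Bool.rec (motive := fun _ => Nat) (Bool.rec (motive := fun _ => Nat) (0x20000700002bb) (0x300007000045a) (Nat.ble 343 i)) (Bool.rec (motive := fun _ => Nat) (0x3000071000946) (0x72000bcb) (Nat.ble 345 i)) (Nat.ble 344 i)) (Nat.ble 342 i)) (Nat.ble 338 i)) (Nat.ble 330 i)) (Bool.rec (motive := fun _ => Nat) (Bool.rec (motive := fun _ => Nat) (Bool.rec (motive := fun _ => Nat) (Bool.rec (motive := fun _ => Nat) (Bool.rec (motive := fun _ => Nat) (0x10000720006af) (0x3000072000658) (Nat.ble 347 i)) (Bool.rec (motive := fun _ => Nat) (0x740006fe) (0x1000074000612) (Nat.ble 349 i)) (Nat.ble 348 i)) (Bool.rec (motive := fun _ => Nat) (Bool.rec (motive := fun _ => Nat) (0x3000074000659) (0x75000ede) (Nat.ble 351 i)) (Bool.rec (motive := fun _ => Nat) (0x2000075000af7) (0x3000075000321) (Nat.ble 353 i)) (Nat.ble 352 i)) (Nat.ble 350 i)) (Bool.rec (motive := fun _ =>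 Nat) (Bool.rec (motive := fun _ => Nat) (Bool.rec (motive := fun _ => Nat) (0x7600053a) (0x3000076000bc7) (Nat.ble 355 i)) (Bool.rec (motive := fun _ => Nat) (0x77000ac7) (0x2000077000282) (Nat.ble 357 i)) (Nat.ble 356 i)) (Bool.rec (motive := fun _ => Nat) (Bool.rec (motive := fun _ => Nat) (0x3000077000c4d) (0x3000078000eaf) (Nat.ble 359 i)) (Bool.rec (motive := fun _ => Nat) (0x30000790009b3) (0x100007a00039c) (Nat.ble 361 i)) (Nat.ble 360 i)) (Nat.ble 358 i)) (Nat.ble 354 i)) (Bool.rec (motive := fun _ => Nat) (Bool.rec (motive := fun _ => Nat) (Bool.rec (motive := fun _ => Nat) (Bool.rec (motive := fun _ => Nat) (0x300007a000318) (0x300007b00043a) (Nat.ble 363 i)) (Bool.rec (motive := fun _ => Nat) (0x100007c000a52) (0x300007c0008c7) (Nat.ble 365 i)) (Nat.ble 364 i)) (Bool.rec (motive := fun _ => Nat) (Bool.rec (motive := fun _ => Nat) (0x200007d000efa) (0x300007e000aa8) (Nat.ble 367 i)) (Bool.rec (motive := fun _ => Nat) (0x100007f00095f) (0x200007f000da6) (Nat.ble 369 i)) (Nat.ble 368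 i)) (Nat.ble 366 i)) (Bool.rec (motive := fun _ => Nat) (Bool.rec (motive := fun _ => Nat) (Bool.rec (motive := fun _ => Nat) (0x300007f000775) (0x3000080000b4d) (Nat.ble 371 i)) (Bool.rec (motive := fun _ => Nat) (0x81000ead) (0x1000081000580) (Nat.ble 373 i)) (Nat.ble 372 i)) (Bool.rec (motive := fun _ => Nat) (Bool.rec (motive := fun _ => Nat) (0x3000081000791) (0x820004fe) (Nat.ble 375 i)) (Bool.rec (motive := fun _ => Nat) (0x1000082000b8d) (0x20000820000b2) (Nat.ble 377 i)) (Nat.ble 376 i)) (Nat.ble 374 i)) (Nat.ble 370 i)) (Nat.ble 362 i)) (Nat.ble 346 i))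
noncomputable def C30P_6 (i : Nat) : Nat := (Bool.rec (motive := fun _ => Nat) (Bool.rec (motive := fun _ => Nat) (Bool.rec (motive := fun _ => Nat) (Bool.rec (motive := fun _ => Nat) (Bool.rec (motive := fun _ => Nat) (0x3000082000139) (Bool.rec (motive := fun _ => Nat) (0x83000d96) (0x20000830007df) (Nat.ble 380 i)) (Nat.ble 379 i)) (Bool.rec (motive := fun _ => Nat) (Bool.rec (motive := fun _ => Nat) (0x3000083000804) (0x840005cf) (Nat.ble 382 i)) (Bool.rec (motive := fun _ => Nat) (0x1000084000a9e) (0x20000840000dd) (Nat.ble 384 i)) (Nat.ble 383 i)) (Nat.ble 381 i)) (Bool.rec (motive := fun _ => Nat) (Bool.rec (motive := fun _ => Nat) (Bool.rec (motive := fun _ => Nat) (0x3000084000a6a) (0x850002b4) (Nat.ble 386 i)) (Bool.rec (motive := fun _ => Nat) (0x1000085000238) (0x20000850004d7) (Nat.ble 388 i)) (Nat.ble 387 i)) (Bool.rec (motive := fun _ => Nat) (Bool.rec (motive := fun _ => Nat) (0x30000850002f8) (0x8600049b) (Nat.ble 390 i)) (Bool.rec (motive := fun _ => Nat) (0x1000086000547)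 (0x200008600008a) (Nat.ble 392 i)) (Nat.ble 391 i)) (Nat.ble 389 i)) (Nat.ble 385 i)) (Bool.rec (motive := fun _ => Nat) (Bool.rec (motive := fun _ => Nat) (Bool.rec (motive := fun _ => Nat) (Bool.rec (motive := fun _ => Nat) (0x88000dac) (0x1000088000477) (Nat.ble 394 i)) (Bool.rec (motive := fun _ => Nat) (0x2000088000e00) (0x890006f5) (Nat.ble 396 i)) (Nat.ble 395 i)) (Bool.rec (motive := fun _ => Nat) (Bool.rec (motive := fun _ => Nat) (0x200008900009a) (0x300008900001a) (Nat.ble 398 i)) (Bool.rec (motive := fun _ => Nat) (0x100008a0004db) (0x200008a0004d5) (Nat.ble 400 i)) (Nat.ble 399 i)) (Nat.ble 397 i)) (Bool.rec (motive := fun _ => Nat) (Bool.rec (motive := fun _ => Nat) (Bool.rec (motive := fun _ => Nat) (0x300008a0000db) (0x8b000089) (Nat.ble 402 i)) (Bool.rec (motive := fun _ => Nat) (0x300008b000632) (0x8c0000d2) (Nat.ble 404 i)) (Nat.ble 403 i)) (Bool.rec (motive := fun _ => Nat) (Bool.rec (motive := fun _ => Nat) (0x100008c000e2a) (0x200008c00021d) (Nat.ble 406 i)) (Bool.rec (motive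 := fun _ => Nat) (0x300008c000811) (0x8d0004d3) (Nat.ble 408 i)) (Nat.ble 407 i)) (Nat.ble 405 i)) (Nat.ble 401 i)) (Nat.ble 393 i)) (Bool.rec (motive := fun _ => Nat) (Bool.rec (motive := fun _ => Nat) (Bool.rec (motive := fun _ => Nat) (Bool.rec (motive := fun _ => Nat) (Bool.rec (motive := fun _ => Nat) (0x100008d000010) (0x200008d000e2b) (Nat.ble 410 i)) (Bool.rec (motive := fun _ => Nat) (0x300008d000115) (0x8e00009b) (Nat.ble 412 i)) (Nat.ble 411 i)) (Bool.rec (motive := fun _ => Nat) (Bool.rec (motive := fun _ => Nat) (0x100008e0004d9) (0x200008e0004da) (Nat.ble 414 i)) (Bool.rec (motive := fun _ => Nat) (0x300008e000950) (0x8f000a6e) (Nat.ble 416 i)) (Nat.ble 415 i)) (Nat.ble 413 i)) (Bool.rec (motive := fun _ => Nat) (Bool.rec (motive := fun _ => Nat) (Bool.rec (motive := fun _ => Nat) (0x300008f00064a) (0x90000723) (Nat.ble 418 i)) (Bool.rec (motive := fun _ => Nat) (0x1000090000bee) (0x2000090000f18) (Nat.ble 420 i)) (Nat.ble 419 i)) (Bool.rec (motive := fun _ => Nat) (Bool.rec (motive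 := fun _ => Nat) (0x3000090000ea6) (0x91000d72) (Nat.ble 422 i)) (Bool.rec (motive := fun _ => Nat) (0x1000091000d64) (0x2000091000922) (Nat.ble 424 i)) (Nat.ble 423 i)) (Nat.ble 421 i)) (Nat.ble 417 i)) (Bool.rec (motive := fun _ => Nat) (Bool.rec (motive := fun _ => Nat) (Bool.rec (motive := fun _ => Nat) (Bool.rec (motive := fun _ => Nat) (0x3000091000ac6) (0x92000bbb) (Nat.ble 426 i)) (Bool.rec (motive := fun _ => Nat) (0x1000092000d29) (0x3000092000a13) (Nat.ble 428 i)) (Nat.ble 427 i)) (Bool.rec (motive := fun _ => Nat) (Bool.rec (motive := fun _ => Nat) (0x93000a5a) (0x1000093000672) (Nat.ble 430 i)) (Bool.rec (motive := fun _ => Nat) (0x20000930005ef) (0x200009400028b) (Nat.ble 432 i)) (Nat.ble 431 i)) (Nat.ble 429 i)) (Bool.rec (motive := fun _ => Nat) (Bool.rec (motive := fun _ => Nat) (Bool.rec (motive := fun _ => Nat) (0x3000094000bc1) (0x3000095000929) (Nat.ble 434 i)) (Bool.rec (motive := fun _ => Nat) (0x1000096000633) (0x1000097000b2f) (Nat.ble 436 i)) (Nat.ble 435 i)) (Bool.rec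 (motive := fun _ => Nat) (Bool.rec (motive := fun _ => Nat) (0x2000097000b61) (0x30000970003a6) (Nat.ble 438 i)) (Bool.rec (motive := fun _ => Nat) (0x980004ae) (0x30000980001b4) (Nat.ble 440 i)) (Nat.ble 439 i)) (Nat.ble 437 i)) (Nat.ble 433 i)) (Nat.ble 425 i)) (Nat.ble 409 i))
noncomputable def C30P_7 (i : Nat) : Nat := (Bool.rec (motive := fun _ => Nat) (Bool.rec (motive := fun _ => Nat) (Bool.rec (motive := fun _ => Nat) (Bool.rec (motive := fun _ => Nat) (Bool.rec (motive := fun _ => Nat) (0x3000099000cc1) (Bool.rec (motive := fun _ => Nat) (0x9a0007d8) (0x100009a000d3b) (Nat.ble 443 i)) (Nat.ble 442 i)) (Bool.rec (motive := fun _ => Nat) (Bool.rec (motive := fun _ => Nat) (0x300009a000e42) (0x9b0002cb) (Nat.ble 445 i)) (Bool.rec (motive := fun _ => Nat) (0x200009b000518) (0x300009b000d95) (Nat.ble 447 i)) (Nat.ble 446 i)) (Nat.ble 444 i)) (Bool.rec (motive := fun _ => Nat) (Bool.rec (motive := fun _ => Nat) (Bool.rec (motive := fun _ => Nat) (0x9c000640) (0x200009c000510) (Nat.ble 449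 i)) (Bool.rec (motive := fun _ => Nat) (0x300009c0008ed) (0x9d000e88) (Nat.ble 451 i)) (Nat.ble 450 i)) (Bool.rec (motive := fun _ => Nat) (Bool.rec (motive := fun _ => Nat) (0x200009d000677) (0x300009d000469) (Nat.ble 453 i)) (Bool.rec (motive := fun _ => Nat) (0x100009e000432) (0x200009f0000a9) (Nat.ble 455 i)) (Nat.ble 454 i)) (Nat.ble 452 i)) (Nat.ble 448 i)) (Bool.rec (motive := fun _ => Nat) (Bool.rec (motive := fun _ => Nat) (Bool.rec (motive := fun _ => Nat) (Bool.rec (motive := fun _ => Nat) (0x300009f00012a) (0x10000a0000050) (Nat.ble 457 i)) (Bool.rec (motive := fun _ => Nat) (0xa1000dd3) (0xa200024c) (Nat.ble 459 i)) (Nat.ble 458 i)) (Bool.rec (motive := fun _ => Nat) (Bool.rec (motive := fun _ => Nat) (0x20000a2000029) (0x30000a2000d16) (Nat.ble 461 i)) (Bool.rec (motive := fun _ => Nat) (0x10000a3000810) (0x20000a3000ad9) (Nat.ble 463 i)) (Nat.ble 462 i)) (Nat.ble 460 i)) (Bool.rec (motive := fun _ => Nat) (Bool.rec (motive := fun _ => Nat) (Bool.rec (motive := fun _ => Nat) (0x30000a4000616)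 (0xa5000638) (Nat.ble 465 i)) (Bool.rec (motive := fun _ => Nat) (0x10000a5000def) (0x20000a50005d7) (Nat.ble 467 i)) (Nat.ble 466 i)) (Bool.rec (motive := fun _ => Nat) (Bool.rec (motive := fun _ => Nat) (0x30000a50009fb) (0x20000a60003fd) (Nat.ble 469 i)) (Bool.rec (motive := fun _ => Nat) (0xa7000045) (0x20000a70009ad) (Nat.ble 471 i)) (Nat.ble 470 i)) (Nat.ble 468 i)) (Nat.ble 464 i)) (Nat.ble 456 i)) (Bool.rec (motive := fun _ => Nat) (Bool.rec (motive := fun _ => Nat) (Bool.rec (motive := fun _ => Nat) (Bool.rec (motive := fun _ => Nat) (Bool.rec (motive := fun _ => Nat) (0x30000a7000c73) (0xa80003cd) (Nat.ble 473 i)) (Bool.rec (motive := fun _ => Nat) (0x10000a8000921) (0x20000a8000eac) (Nat.ble 475 i)) (Nat.ble 474 i)) (Bool.rec (motive := fun _ => Nat) (Bool.rec (motive := fun _ => Nat) (0x30000a800064b) (0xa9000829) (Nat.ble 477 i)) (Bool.rec (motive := fun _ => Nat) (0x10000a900007b) (0x20000a9000991) (Nat.ble 479 i)) (Nat.ble 478 i)) (Nat.ble 476 i)) (Bool.rec (motive := fun _ =>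 Nat) (Bool.rec (motive := fun _ => Nat) (Bool.rec (motive := fun _ => Nat) (0x30000a90001b2) (0xaa00045c) (Nat.ble 481 i)) (Bool.rec (motive := fun _ => Nat) (0x10000aa00042f) (0x30000aa0004b1) (Nat.ble 483 i)) (Nat.ble 482 i)) (Bool.rec (motive := fun _ => Nat) (Bool.rec (motive := fun _ => Nat) (0xab0009d4) (0x10000ab00081c) (Nat.ble 485 i)) (Bool.rec (motive := fun _ => Nat) (0x30000ab000641) (0xac00055b) (Nat.ble 487 i)) (Nat.ble 486 i)) (Nat.ble 484 i)) (Nat.ble 480 i)) (Bool.rec (motive := fun _ => Nat) (Bool.rec (motive := fun _ => Nat) (Bool.rec (motive := fun _ => Nat) (Bool.rec (motive := fun _ => Nat) (0x10000ac000aea) (0x20000ac000ed5) (Nat.ble 489 i)) (Bool.rec (motive := fun _ => Nat) (0xae00085b) (0x30000ae000908) (Nat.ble 491 i)) (Nat.ble 490 i)) (Bool.rec (motive := fun _ => Nat) (Bool.rec (motive := fun _ => Nat) (0x10000b0000815) (0x30000b0000248) (Nat.ble 493 i)) (Bool.rec (motive := fun _ => Nat) (0xb100052e) (0x20000b1000210) (Nat.ble 495 i)) (Nat.ble 494 i)) (Nat.ble 492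 i)) (Bool.rec (motive := fun _ => Nat) (Bool.rec (motive := fun _ => Nat) (Bool.rec (motive := fun _ => Nat) (0xb3000e17) (0xb40007fa) (Nat.ble 497 i)) (Bool.rec (motive := fun _ => Nat) (0x20000b40001a7) (0x30000b4000937) (Nat.ble 499 i)) (Nat.ble 498 i)) (Bool.rec (motive := fun _ => Nat) (Bool.rec (motive := fun _ => Nat) (0xb50004c7) (0x20000b5000280) (Nat.ble 501 i)) (Bool.rec (motive := fun _ => Nat) (0xb7000308) (0xb8000c81) (Nat.ble 503 i)) (Nat.ble 502 i)) (Nat.ble 500 i)) (Nat.ble 496 i)) (Nat.ble 488 i)) (Nat.ble 472 i))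
noncomputable def C30P_8 (i : Nat) : Nat := (Bool.rec (motive := fun _ => Nat) (Bool.rec (motive := fun _ => Nat) (Bool.rec (motive := fun _ => Nat) (Bool.rec (motive := fun _ => Nat) (Bool.rec (motive := fun _ => Nat) (0x10000b8000bba) (Bool.rec (motive := fun _ => Nat) (0x30000b8000840) (0xb9000d9f) (Nat.ble 506 i)) (Nat.ble 505 i)) (Bool.rec (motive := fun _ => Nat) (Bool.rec (motive := fun _ => Nat) (0x10000b9000839) (0x20000b90003fa) (Nat.ble 508 i)) (Bool.rec (motive := fun _ => Nat) (0x30000b9000a8c) (0x30000ba00023e) (Nat.ble 510 i)) (Nat.ble 509 i)) (Nat.ble 507 i)) (Bool.rec (motive := fun _ => Nat) (Bool.rec (motive := fun _ => Nat) (Bool.rec (motive := fun _ => Nat) (0x10000bb000453) (0x30000bb00097e) (Nat.ble 512 i)) (Bool.rec (motive := fun _ => Nat) (0xbc000778) (0x30000bc00006f) (Nat.ble 514 i)) (Nat.ble 513 i)) (Bool.rec (motive := fun _ => Nat) (Bool.rec (motive := fun _ => Nat) (0x20000bd000a9b) (0xbe000483) (Nat.ble 516 i)) (Bool.rec (motive := fun _ => Nat) (0x10000c000063a)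 (0x30000c00001c8) (Nat.ble 518 i)) (Nat.ble 517 i)) (Nat.ble 515 i)) (Nat.ble 511 i)) (Bool.rec (motive := fun _ => Nat) (Bool.rec (motive := fun _ => Nat) (Bool.rec (motive := fun _ => Nat) (Bool.rec (motive := fun _ => Nat) (0xc100009c) (0x10000c200012c) (Nat.ble 520 i)) (Bool.rec (motive := fun _ => Nat) (0x20000c20003c1) (0xc3000d6a) (Nat.ble 522 i)) (Nat.ble 521 i)) (Bool.rec (motive := fun _ => Nat) (Bool.rec (motive := fun _ => Nat) (0x10000c3000d0a) (0x20000c300052d) (Nat.ble 524 i)) (Bool.rec (motive := fun _ => Nat) (0x30000c30006bb) (0xc400075d) (Nat.ble 526 i)) (Nat.ble 525 i)) (Nat.ble 523 i)) (Bool.rec (motive := fun _ => Nat) (Bool.rec (motive := fun _ => Nat) (Bool.rec (motive := fun _ => Nat) (0x10000c4000675) (0x30000c4000974) (Nat.ble 528 i)) (Bool.rec (motive := fun _ => Nat) (0xc5000ed4) (0x10000c5000838) (Nat.ble 530 i)) (Nat.ble 529 i)) (Bool.rec (motive := fun _ => Nat) (Bool.rec (motive := fun _ => Nat) (0x20000c50007d0) (0x30000c500067f) (Nat.ble 532 i)) (Bool.rec (motive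 := fun _ => Nat) (0x30000c6000e58) (0x30000c7000352) (Nat.ble 534 i)) (Nat.ble 533 i)) (Nat.ble 531 i)) (Nat.ble 527 i)) (Nat.ble 519 i)) (Bool.rec (motive := fun _ => Nat) (Bool.rec (motive := fun _ => Nat) (Bool.rec (motive := fun _ => Nat) (Bool.rec (motive := fun _ => Nat) (Bool.rec (motive := fun _ => Nat) (0x30000c9000996) (0xcc0006ad) (Nat.ble 536 i)) (Bool.rec (motive := fun _ => Nat) (0x30000cc000eb0) (0x10000cd000032) (Nat.ble 538 i)) (Nat.ble 537 i)) (Bool.rec (motive := fun _ => Nat) (Bool.rec (motive := fun _ => Nat) (0xce00064d) (0x20000ce000d78) (Nat.ble 540 i)) (Bool.rec (motive := fun _ => Nat) (0x30000ce000297) (0xcf000df5) (Nat.ble 542 i)) (Nat.ble 541 i)) (Nat.ble 539 i)) (Bool.rec (motive := fun _ => Nat) (Bool.rec (motive := fun _ => Nat) (Bool.rec (motive := fun _ => Nat) (0x10000cf000c4e) (0x20000cf000c05) (Nat.ble 544 i)) (Bool.rec (motive := fun _ => Nat) (0x30000cf0008c6) (0xd0000a11) (Nat.ble 546 i)) (Nat.ble 545 i)) (Bool.rec (motive := fun _ => Nat) (Bool.rec (motive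 := fun _ => Nat) (0x30000d000061e) (0xd100093a) (Nat.ble 548 i)) (Bool.rec (motive := fun _ => Nat) (0x30000d100073a) (0xd20002ed) (Nat.ble 550 i)) (Nat.ble 549 i)) (Nat.ble 547 i)) (Nat.ble 543 i)) (Bool.rec (motive := fun _ => Nat) (Bool.rec (motive := fun _ => Nat) (Bool.rec (motive := fun _ => Nat) (Bool.rec (motive := fun _ => Nat) (0x10000d2000baa) (0x20000d2000c28) (Nat.ble 552 i)) (Bool.rec (motive := fun _ => Nat) (0x30000d2000ad5) (0xd300087c) (Nat.ble 554 i)) (Nat.ble 553 i)) (Bool.rec (motive := fun _ => Nat) (Bool.rec (motive := fun _ => Nat) (0x10000d3000768) (0x20000d3000b58) (Nat.ble 556 i)) (Bool.rec (motive := fun _ => Nat) (0x30000d30001f7) (0xd50006c3) (Nat.ble 558 i)) (Nat.ble 557 i)) (Nat.ble 555 i)) (Bool.rec (motive := fun _ => Nat) (Bool.rec (motive := fun _ => Nat) (Bool.rec (motive := fun _ => Nat) (0x10000d5000305) (0x20000d5000f41) (Nat.ble 560 i)) (Bool.rec (motive := fun _ => Nat) (0x30000d5000218) (0xd60002ef) (Nat.ble 562 i)) (Nat.ble 561 i)) (Bool.rec (motive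 := fun _ => Nat) (Bool.rec (motive := fun _ => Nat) (0x20000d600094a) (0x30000d600036e) (Nat.ble 564 i)) (Bool.rec (motive := fun _ => Nat) (0x10000d700004c) (0x20000d7000d59) (Nat.ble 566 i)) (Nat.ble 565 i)) (Nat.ble 563 i)) (Nat.ble 559 i)) (Nat.ble 551 i)) (Nat.ble 535 i))
noncomputable def C30P_9 (i : Nat) : Nat := (Bool.rec (motive := fun _ => Nat) (Bool.rec (motive := fun _ => Nat) (Bool.rec (motive := fun _ => Nat) (Bool.rec (motive := fun _ => Nat) (Bool.rec (motive := fun _ => Nat) (0x30000d7000aa5) (Bool.rec (motive := fun _ => Nat) (0xd8000b59) (0x30000d8000779) (Nat.ble 569 i)) (Nat.ble 568 i)) (Bool.rec (motive := fun _ => Nat) (Bool.rec (motive := fun _ => Nat) (0x10000d90002f7) (0x20000d9000a96) (Nat.ble 571 i)) (Bool.rec (motive := fun _ => Nat) (0xda000ea3) (0x10000da000958) (Nat.ble 573 i)) (Nat.ble 572 i)) (Nat.ble 570 i)) (Bool.rec (motive := fun _ => Nat) (Bool.rec (motive := fun _ => Nat) (Bool.rec (motive := fun _ => Nat) (0x20000da000561) (0x30000da000ca6) (Nat.ble 575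 i)) (Bool.rec (motive := fun _ => Nat) (0xdb000e3a) (0x10000db000d58) (Nat.ble 577 i)) (Nat.ble 576 i)) (Bool.rec (motive := fun _ => Nat) (Bool.rec (motive := fun _ => Nat) (0x20000db000042) (0x30000db00091a) (Nat.ble 579 i)) (Bool.rec (motive := fun _ => Nat) (0x10000dc0001b3) (0x20000dc0007e2) (Nat.ble 581 i)) (Nat.ble 580 i)) (Nat.ble 578 i)) (Nat.ble 574 i)) (Bool.rec (motive := fun _ => Nat) (Bool.rec (motive := fun _ => Nat) (Bool.rec (motive := fun _ => Nat) (Bool.rec (motive := fun _ => Nat) (0xdd000d28) (0x10000dd00063d) (Nat.ble 583 i)) (Bool.rec (motive := fun _ => Nat) (0x20000dd000da0) (0x30000dd0005ee) (Nat.ble 585 i)) (Nat.ble 584 i)) (Bool.rec (motive := fun _ => Nat) (Bool.rec (motive := fun _ => Nat) (0xde000aa6) (0x10000de000519) (Nat.ble 587 i)) (Bool.rec (motive := fun _ => Nat) (0x20000de0008f5) (0x30000de000db9) (Nat.ble 589 i)) (Nat.ble 588 i)) (Nat.ble 586 i)) (Bool.rec (motive := fun _ => Nat) (Bool.rec (motive := fun _ => Nat) (Bool.rec (motive := fun _ => Nat) (0xdf00093f)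 (0x10000df0006e0) (Nat.ble 591 i)) (Bool.rec (motive := fun _ => Nat) (0x30000df000447) (0xe0000350) (Nat.ble 593 i)) (Nat.ble 592 i)) (Bool.rec (motive := fun _ => Nat) (Bool.rec (motive := fun _ => Nat) (0x10000e0000b8a) (0x20000e000004d) (Nat.ble 595 i)) (Bool.rec (motive := fun _ => Nat) (0x30000e00005a8) (0x30000e1000881) (Nat.ble 597 i)) (Nat.ble 596 i)) (Nat.ble 594 i)) (Nat.ble 590 i)) (Nat.ble 582 i)) (Bool.rec (motive := fun _ => Nat) (Bool.rec (motive := fun _ => Nat) (Bool.rec (motive := fun _ => Nat) (Bool.rec (motive := fun _ => Nat) (Bool.rec (motive := fun _ => Nat) (0x30000e2000759) (0xe300075e) (Nat.ble 599 i)) (Bool.rec (motive := fun _ => Nat) (0x10000e3000865) (0x20000e30000ba) (Nat.ble 601 i)) (Nat.ble 600 i)) (Bool.rec (motive := fun _ => Nat) (Bool.rec (motive := fun _ => Nat) (0x30000e3000f3c) (0xe4000de0) (Nat.ble 603 i)) (Bool.rec (motive := fun _ => Nat) (0x10000e400015c) (0x20000e4000a32) (Nat.ble 605 i)) (Nat.ble 604 i)) (Nat.ble 602 i)) (Bool.rec (motive := fun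 _ => Nat) (Bool.rec (motive := fun _ => Nat) (Bool.rec (motive := fun _ => Nat) (0x30000e40004ff) (0xe500026d) (Nat.ble 607 i)) (Bool.rec (motive := fun _ => Nat) (0x10000e50004c3) (0x30000e500067e) (Nat.ble 609 i)) (Nat.ble 608 i)) (Bool.rec (motive := fun _ => Nat) (Bool.rec (motive := fun _ => Nat) (0xe70000ad) (0x10000e7000d79) (Nat.ble 611 i)) (Bool.rec (motive := fun _ => Nat) (0x30000e7000642) (0x20000e80008e7) (Nat.ble 613 i)) (Nat.ble 612 i)) (Nat.ble 610 i)) (Nat.ble 606 i)) (Bool.rec (motive := fun _ => Nat) (Bool.rec (motive := fun _ => Nat) (Bool.rec (motive := fun _ => Nat) (Bool.rec (motive := fun _ => Nat) (0xe9000df8) (0x20000e90003f4) (Nat.ble 615 i)) (Bool.rec (motive := fun _ => Nat) (0x30000e9000dd7) (0xea0003f2) (Nat.ble 617 i)) (Nat.ble 616 i)) (Bool.rec (motive := fun _ => Nat) (Bool.rec (motive := fun _ => Nat) (0x20000ea000336) (0x30000ea0003c0) (Nat.ble 619 i)) (Bool.rec (motive := fun _ => Nat) (0x30000ec000a50) (0x30000ee000c9c) (Nat.ble 621 i)) (Nat.ble 620 i))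 (Nat.ble 618 i)) (Bool.rec (motive := fun _ => Nat) (Bool.rec (motive := fun _ => Nat) (Bool.rec (motive := fun _ => Nat) (0x30000ef0003a4) (0x30000f1000e63) (Nat.ble 623 i)) (Bool.rec (motive := fun _ => Nat) (0xf2000eb2) (0x10000f2000366) (Nat.ble 625 i)) (Nat.ble 624 i)) (Bool.rec (motive := fun _ => Nat) (Bool.rec (motive := fun _ => Nat) (0x20000f200019a) (0x30000f2000be2) (Nat.ble 627 i)) (Bool.rec (motive := fun _ => Nat) (0x30000f4000637) (0x10000f500037f) (Nat.ble 629 i)) (Nat.ble 628 i)) (Nat.ble 626 i)) (Nat.ble 622 i)) (Nat.ble 614 i)) (Nat.ble 598 i))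
noncomputable def C30P_10 (i : Nat) : Nat := (Bool.rec (motive := fun _ => Nat) (Bool.rec (motive := fun _ => Nat) (Bool.rec (motive := fun _ => Nat) (Bool.rec (motive := fun _ => Nat) (Bool.rec (motive := fun _ => Nat) (0x30000f50005e1) (Bool.rec (motive := fun _ => Nat) (0x10000f60006ff) (0x20000f600070b) (Nat.ble 632 i)) (Nat.ble 631 i)) (Bool.rec (motive := fun _ => Nat) (Bool.rec (motive := fun _ => Nat) (0xf7000e7e) (0x30000f7000a2e) (Nat.ble 634 i)) (Bool.rec (motive := fun _ => Nat) (0xf8000d14) (0x10000f8000159) (Nat.ble 636 i)) (Nat.ble 635 i)) (Nat.ble 633 i)) (Bool.rec (motive := fun _ => Nat) (Bool.rec (motive := fun _ => Nat) (Bool.rec (motive := fun _ => Nat) (0x30000f8000961) (0xf9000861) (Nat.ble 638 i)) (Bool.rec (motive := fun _ => Nat) (0x30000f90008b9) (0xfb00016b) (Nat.ble 640 i)) (Nat.ble 639 i)) (Bool.rec (motive := fun _ => Nat) (Bool.rec (motive := fun _ => Nat) (0x10000fb000d01) (0x30000fb0007da) (Nat.ble 642 i)) (Bool.rec (motive := fun _ => Nat) (0xfd0004ac) (0x30000fd000b82)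 (Nat.ble 644 i)) (Nat.ble 643 i)) (Nat.ble 641 i)) (Nat.ble 637 i)) (Bool.rec (motive := fun _ => Nat) (Bool.rec (motive := fun _ => Nat) (Bool.rec (motive := fun _ => Nat) (Bool.rec (motive := fun _ => Nat) (0xff0007de) (0x30000ff000e5c) (Nat.ble 646 i)) (Bool.rec (motive := fun _ => Nat) (0x100000394) (0x3000100000db0) (Nat.ble 648 i)) (Nat.ble 647 i)) (Bool.rec (motive := fun _ => Nat) (Bool.rec (motive := fun _ => Nat) (0x1010006a6) (0x100010100063b) (Nat.ble 650 i)) (Bool.rec (motive := fun _ => Nat) (0x30001010000b8) (0x1000102000332) (Nat.ble 652 i)) (Nat.ble 651 i)) (Nat.ble 649 i)) (Bool.rec (motive := fun _ => Nat) (Bool.rec (motive := fun _ => Nat) (Bool.rec (motive := fun _ => Nat) (0x200010200013e) (0x103000064) (Nat.ble 654 i)) (Bool.rec (motive := fun _ => Nat) (0x30001030002f4) (0x104000764) (Nat.ble 656 i)) (Nat.ble 655 i)) (Bool.rec (motive := fun _ => Nat) (Bool.rec (motive := fun _ => Nat) (0x2000104000299) (0x100010500032b) (Nat.ble 658 i)) (Bool.rec (motive := fun _ =>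 Nat) (0x1000106000298) (0x1080007ac) (Nat.ble 660 i)) (Nat.ble 659 i)) (Nat.ble 657 i)) (Nat.ble 653 i)) (Nat.ble 645 i)) (Bool.rec (motive := fun _ => Nat) (Bool.rec (motive := fun _ => Nat) (Bool.rec (motive := fun _ => Nat) (Bool.rec (motive := fun _ => Nat) (Bool.rec (motive := fun _ => Nat) (0x1000108000178) (0x109000636) (Nat.ble 662 i)) (Bool.rec (motive := fun _ => Nat) (0x200010900057f) (0x30001090002d4) (Nat.ble 664 i)) (Nat.ble 663 i)) (Bool.rec (motive := fun _ => Nat) (Bool.rec (motive := fun _ => Nat) (0x200010a00078a) (0x300010a0007a5) (Nat.ble 666 i)) (Bool.rec (motive := fun _ => Nat) (0x10c000ae9) (0x100010c000671) (Nat.ble 668 i)) (Nat.ble 667 i)) (Nat.ble 665 i)) (Bool.rec (motive := fun _ => Nat) (Bool.rec (motive := fun _ => Nat) (Bool.rec (motive := fun _ => Nat) (0x200010c0005f0) (0x10d000da9) (Nat.ble 670 i)) (Bool.rec (motive := fun _ => Nat) (0x200010d0008ff) (0x300010d000154) (Nat.ble 672 i)) (Nat.ble 671 i)) (Bool.rec (motive := fun _ => Nat) (Bool.rec (motive :=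 fun _ => Nat) (0x10e0003d0) (0x300010f000379) (Nat.ble 674 i)) (Bool.rec (motive := fun _ => Nat) (0x1100003a7) (0x100011000044c) (Nat.ble 676 i)) (Nat.ble 675 i)) (Nat.ble 673 i)) (Nat.ble 669 i)) (Bool.rec (motive := fun _ => Nat) (Bool.rec (motive := fun _ => Nat) (Bool.rec (motive := fun _ => Nat) (Bool.rec (motive := fun _ => Nat) (0x20001100000c4) (0x30001100008e6) (Nat.ble 678 i)) (Bool.rec (motive := fun _ => Nat) (0x1110009f6) (0x2000111000f37) (Nat.ble 680 i)) (Nat.ble 679 i)) (Bool.rec (motive := fun _ => Nat) (Bool.rec (motive := fun _ => Nat) (0x3000111000329) (0x112000278) (Nat.ble 682 i)) (Bool.rec (motive := fun _ => Nat) (0x3000112000b47) (0x113000e76) (Nat.ble 684 i)) (Nat.ble 683 i)) (Nat.ble 681 i)) (Bool.rec (motive := fun _ => Nat) (Bool.rec (motive := fun _ => Nat) (Bool.rec (motive := fun _ => Nat) (0x100011300060a) (0x2000113000a24) (Nat.ble 686 i)) (Bool.rec (motive := fun _ => Nat) (0x114000e2c) (0x30001140004f7) (Nat.ble 688 i)) (Nat.ble 687 i)) (Bool.rec (motive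 := fun _ => Nat) (Bool.rec (motive := fun _ => Nat) (0x2000115000cb1) (0x2000116000c5d) (Nat.ble 690 i)) (Bool.rec (motive := fun _ => Nat) (0x3000116000654) (0x2000117000e46) (Nat.ble 692 i)) (Nat.ble 691 i)) (Nat.ble 689 i)) (Nat.ble 685 i)) (Nat.ble 677 i)) (Nat.ble 661 i))
noncomputable def C30P_11 (i : Nat) : Nat := (Bool.rec (motive := fun _ => Nat) (Bool.rec (motive := fun _ => Nat) (Bool.rec (motive := fun _ => Nat) (Bool.rec (motive := fun _ => Nat) (Bool.rec (motive := fun _ => Nat) (0x1000118000a37) (Bool.rec (motive := fun _ => Nat) (0x2000119000e22) (0x3000119000b97) (Nat.ble 695 i)) (Nat.ble 694 i)) (Bool.rec (motive := fun _ => Nat) (Bool.rec (motive := fun _ => Nat) (0x100011a000880) (0x11b000501) (Nat.ble 697 i)) (Bool.rec (motive := fun _ => Nat) (0x11c0004b6) (0x200011c000573) (Nat.ble 699 i)) (Nat.ble 698 i)) (Nat.ble 696 i)) (Bool.rec (motive := fun _ => Nat) (Bool.rec (motive := fun _ => Nat) (Bool.rec (motive := fun _ => Nat) (0x300011c000905) (0x100011d000ab9) (Nat.ble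 701 i)) (Bool.rec (motive := fun _ => Nat) (0x200011d000edd) (0x11f000566) (Nat.ble 703 i)) (Nat.ble 702 i)) (Bool.rec (motive := fun _ => Nat) (Bool.rec (motive := fun _ => Nat) (0x100011f000ee8) (0x200011f000e16) (Nat.ble 705 i)) (Bool.rec (motive := fun _ => Nat) (0x2000120000274) (0x121000534) (Nat.ble 707 i)) (Nat.ble 706 i)) (Nat.ble 704 i)) (Nat.ble 700 i)) (Bool.rec (motive := fun _ => Nat) (Bool.rec (motive := fun _ => Nat) (Bool.rec (motive := fun _ => Nat) (Bool.rec (motive := fun _ => Nat) (0x20001210009cc) (0x30001210006dc) (Nat.ble 709 i)) (Bool.rec (motive := fun _ => Nat) (0x122000643) (0x10001220007b7) (Nat.ble 711 i)) (Nat.ble 710 i)) (Bool.rec (motive := fun _ => Nat) (Bool.rec (motive := fun _ => Nat) (0x20001220000d7) (0x30001220003cc) (Nat.ble 713 i)) (Bool.rec (motive := fun _ => Nat) (0x100012300021b) (0x20001230008b1) (Nat.ble 715 i)) (Nat.ble 714 i)) (Nat.ble 712 i)) (Bool.rec (motive := fun _ => Nat) (Bool.rec (motive := fun _ => Nat) (Bool.rec (motive := fun _ =>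 Nat) (0x124000e15) (0x1000124000bae) (Nat.ble 717 i)) (Bool.rec (motive := fun _ => Nat) (0x300012400087e) (0x125000ca3) (Nat.ble 719 i)) (Nat.ble 718 i)) (Bool.rec (motive := fun _ => Nat) (Bool.rec (motive := fun _ => Nat) (0x1000125000919) (0x3000125000f13) (Nat.ble 721 i)) (Bool.rec (motive := fun _ => Nat) (0x12600062c) (0x1000126000ddf) (Nat.ble 723 i)) (Nat.ble 722 i)) (Nat.ble 720 i)) (Nat.ble 716 i)) (Nat.ble 708 i)) (Bool.rec (motive := fun _ => Nat) (Bool.rec (motive := fun _ => Nat) (Bool.rec (motive := fun _ => Nat) (Bool.rec (motive := fun _ => Nat) (Bool.rec (motive := fun _ => Nat) (0x2000126000a5e) (0x100012a0002c3) (Nat.ble 725 i)) (Bool.rec (motive := fun _ => Nat) (0x300012a0009b0) (0x12b000e8f) (Nat.ble 727 i)) (Nat.ble 726 i)) (Bool.rec (motive := fun _ => Nat) (Bool.rec (motive := fun _ => Nat) (0x12e000600) (0x200012e00051f) (Nat.ble 729 i)) (Bool.rec (motive := fun _ => Nat) (0x300012e000486) (0x12f000649) (Nat.ble 731 i)) (Nat.ble 730 i)) (Nat.ble 728 i)) (Bool.rec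 (motive := fun _ => Nat) (Bool.rec (motive := fun _ => Nat) (Bool.rec (motive := fun _ => Nat) (0x131000cf2) (0x132000dd2) (Nat.ble 733 i)) (Bool.rec (motive := fun _ => Nat) (0x1000132000631) (0x3000132000ec1) (Nat.ble 735 i)) (Nat.ble 734 i)) (Bool.rec (motive := fun _ => Nat) (Bool.rec (motive := fun _ => Nat) (0x133000df2) (0x200013300027f) (Nat.ble 737 i)) (Bool.rec (motive := fun _ => Nat) (0x300013300082f) (0x13600015b) (Nat.ble 739 i)) (Nat.ble 738 i)) (Nat.ble 736 i)) (Nat.ble 732 i)) (Bool.rec (motive := fun _ => Nat) (Bool.rec (motive := fun _ => Nat) (Bool.rec (motive := fun _ => Nat) (Bool.rec (motive := fun _ => Nat) (0x3000136000540) (0x100013b00030e) (Nat.ble 741 i)) (Bool.rec (motive := fun _ => Nat) (0x200013b000c3d) (0x100013c000b3c) (Nat.ble 743 i)) (Nat.ble 742 i)) (Bool.rec (motive := fun _ => Nat) (Bool.rec (motive := fun _ => Nat) (0x200013c0006b9) (0x300013c00094b) (Nat.ble 745 i)) (Bool.rec (motive := fun _ => Nat) (0x13d000bde) (0x100013d00029f) (Nat.ble 747 i)) (Nat.ble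 746 i)) (Nat.ble 744 i)) (Bool.rec (motive := fun _ => Nat) (Bool.rec (motive := fun _ => Nat) (Bool.rec (motive := fun _ => Nat) (0x300013d000830) (0x200013e000bd2) (Nat.ble 749 i)) (Bool.rec (motive := fun _ => Nat) (0x300013f0005e0) (0x30001420008ac) (Nat.ble 751 i)) (Nat.ble 750 i)) (Bool.rec (motive := fun _ => Nat) (Bool.rec (motive := fun _ => Nat) (0x144000bdf) (0x3000144000887) (Nat.ble 753 i)) (Bool.rec (motive := fun _ => Nat) (0x1000145000e21) (0x146000ec0) (Nat.ble 755 i)) (Nat.ble 754 i)) (Nat.ble 752 i)) (Nat.ble 748 i)) (Nat.ble 740 i)) (Nat.ble 724 i))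
noncomputable def C30P_12 (i : Nat) : Nat := (Bool.rec (motive := fun _ => Nat) (Bool.rec (motive := fun _ => Nat) (Bool.rec (motive := fun _ => Nat) (Bool.rec (motive := fun _ => Nat) (Bool.rec (motive := fun _ => Nat) (0x20001460009f7) (Bool.rec (motive := fun _ => Nat) (0x3000146000933) (0x1000147000651) (Nat.ble 758 i)) (Nat.ble 757 i)) (Bool.rec (motive := fun _ => Nat) (Bool.rec (motive := fun _ => Nat) (0x148000cd2) (0x3000148000450) (Nat.ble 760 i)) (Bool.rec (motive := fun _ => Nat) (0x149000ebf) (0x30001490002c2) (Nat.ble 762 i)) (Nat.ble 761 i)) (Nat.ble 759 i)) (Bool.rec (motive := fun _ => Nat) (Bool.rec (motive := fun _ => Nat) (Bool.rec (motive := fun _ => Nat) (0x14a000661) (0x100014a000785) (Nat.ble 764 i)) (Bool.rec (motive := fun _ => Nat) (0x200014a000dba) (0x14b000eb7) (Nat.ble 766 i)) (Nat.ble 765 i)) (Bool.rec (motive := fun _ => Nat) (Bool.rec (motive := fun _ => Nat) (0x100014b000bce) (0x300014b000ee7) (Nat.ble 768 i)) (Bool.rec (motive := fun _ => Nat) (0x14d000461)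 (0x100014d0008cd) (Nat.ble 770 i)) (Nat.ble 769 i)) (Nat.ble 767 i)) (Nat.ble 763 i)) (Bool.rec (motive := fun _ => Nat) (Bool.rec (motive := fun _ => Nat) (Bool.rec (motive := fun _ => Nat) (Bool.rec (motive := fun _ => Nat) (0x200014d000e5d) (0x14e00028d) (Nat.ble 772 i)) (Bool.rec (motive := fun _ => Nat) (0x200014e000c0a) (0x100014f000d84) (Nat.ble 774 i)) (Nat.ble 773 i)) (Bool.rec (motive := fun _ => Nat) (Bool.rec (motive := fun _ => Nat) (0x200014f000e97) (0x300014f0001f8) (Nat.ble 776 i)) (Bool.rec (motive := fun _ => Nat) (0x200015000070c) (0x151000276) (Nat.ble 778 i)) (Nat.ble 777 i)) (Nat.ble 775 i)) (Bool.rec (motive := fun _ => Nat) (Bool.rec (motive := fun _ => Nat) (Bool.rec (motive := fun _ => Nat) (0x1000151000c85) (0x2000151000cb3) (Nat.ble 780 i)) (Bool.rec (motive := fun _ => Nat) (0x30001510005ff) (0x15200065e) (Nat.ble 782 i)) (Nat.ble 781 i)) (Bool.rec (motive := fun _ => Nat) (Bool.rec (motive := fun _ => Nat) (0x1000152000e61) (0x2000152000288) (Nat.ble 784 i)) (Bool.rec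 (motive := fun _ => Nat) (0x3000152000cec) (0x1540002e3) (Nat.ble 786 i)) (Nat.ble 785 i)) (Nat.ble 783 i)) (Nat.ble 779 i)) (Nat.ble 771 i)) (Bool.rec (motive := fun _ => Nat) (Bool.rec (motive := fun _ => Nat) (Bool.rec (motive := fun _ => Nat) (Bool.rec (motive := fun _ => Nat) (Bool.rec (motive := fun _ => Nat) (0x15500058c) (0x2000155000ec9) (Nat.ble 788 i)) (Bool.rec (motive := fun _ => Nat) (0x3000155000a9d) (0x1000156000d09) (Nat.ble 790 i)) (Nat.ble 789 i)) (Bool.rec (motive := fun _ => Nat) (Bool.rec (motive := fun _ => Nat) (0x157000b0c) (0x200015700057b) (Nat.ble 792 i)) (Bool.rec (motive := fun _ => Nat) (0x1000158000899) (0x159000d5b) (Nat.ble 794 i)) (Nat.ble 793 i)) (Nat.ble 791 i)) (Bool.rec (motive := fun _ => Nat) (Bool.rec (motive := fun _ => Nat) (Bool.rec (motive := fun _ => Nat) (0x20001590002de) (0x3000159000499) (Nat.ble 796 i)) (Bool.rec (motive := fun _ => Nat) (0x200015a000b8c) (0x300015b000b01) (Nat.ble 798 i)) (Nat.ble 797 i)) (Bool.rec (motive := fun _ => Nat)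 (Bool.rec (motive := fun _ => Nat) (0x200015c000105) (0x100015d000356) (Nat.ble 800 i)) (Bool.rec (motive := fun _ => Nat) (0x200015d000249) (0x200015e0005c5) (Nat.ble 802 i)) (Nat.ble 801 i)) (Nat.ble 799 i)) (Nat.ble 795 i)) (Bool.rec (motive := fun _ => Nat) (Bool.rec (motive := fun _ => Nat) (Bool.rec (motive := fun _ => Nat) (Bool.rec (motive := fun _ => Nat) (0x15f00086d) (0x1000160000794) (Nat.ble 804 i)) (Bool.rec (motive := fun _ => Nat) (0x161000973) (0x100016100061a) (Nat.ble 806 i)) (Nat.ble 805 i)) (Bool.rec (motive := fun _ => Nat) (Bool.rec (motive := fun _ => Nat) (0x2000161000966) (0x3000161000aee) (Nat.ble 808 i)) (Bool.rec (motive := fun _ => Nat) (0x2000162000443) (0x3000162000674) (Nat.ble 810 i)) (Nat.ble 809 i)) (Nat.ble 807 i)) (Bool.rec (motive := fun _ => Nat) (Bool.rec (motive := fun _ => Nat) (Bool.rec (motive := fun _ => Nat) (0x163000554) (0x1000163000704) (Nat.ble 812 i)) (Bool.rec (motive := fun _ => Nat) (0x20001630001f9) (0x164000384) (Nat.ble 814 i)) (Nat.ble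 813 i)) (Bool.rec (motive := fun _ => Nat) (Bool.rec (motive := fun _ => Nat) (0x2000164000490) (0x300016400058b) (Nat.ble 816 i)) (Bool.rec (motive := fun _ => Nat) (0x1650000bc) (0x3000165000d26) (Nat.ble 818 i)) (Nat.ble 817 i)) (Nat.ble 815 i)) (Nat.ble 811 i)) (Nat.ble 803 i)) (Nat.ble 787 i))
noncomputable def C30P_13 (i : Nat) : Nat := (Bool.rec (motive := fun _ => Nat) (Bool.rec (motive := fun _ => Nat) (Bool.rec (motive := fun _ => Nat) (Bool.rec (motive := fun _ => Nat) (Bool.rec (motive := fun _ => Nat) (0x100016700001e) (Bool.rec (motive := fun _ => Nat) (0x300016a00067b) (0x100016b000431) (Nat.ble 821 i)) (Nat.ble 820 i)) (Bool.rec (motive := fun _ => Nat) (Bool.rec (motive := fun _ => Nat) (0x300016b000532) (0x200016c000d9a) (Nat.ble 823 i)) (Bool.rec (motive := fun _ => Nat) (0x100016d0007d5) (0x100016f000aad) (Nat.ble 825 i)) (Nat.ble 824 i)) (Nat.ble 822 i)) (Bool.rec (motive := fun _ => Nat) (Bool.rec (motive := fun _ => Nat) (Bool.rec (motive := fun _ => Nat) (0x300017000036a)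 (0x1000171000c6f) (Nat.ble 827 i)) (Bool.rec (motive := fun _ => Nat) (0x10001720003bb) (0x2000172000199) (Nat.ble 829 i)) (Nat.ble 828 i)) (Bool.rec (motive := fun _ => Nat) (Bool.rec (motive := fun _ => Nat) (0x2000175000362) (0x30001780004cb) (Nat.ble 831 i)) (Bool.rec (motive := fun _ => Nat) (0x1000179000b68) (0x17a000439) (Nat.ble 833 i)) (Nat.ble 832 i)) (Nat.ble 830 i)) (Nat.ble 826 i)) (Bool.rec (motive := fun _ => Nat) (Bool.rec (motive := fun _ => Nat) (Bool.rec (motive := fun _ => Nat) (Bool.rec (motive := fun _ => Nat) (0x17b000d68) (0x200017b000b87) (Nat.ble 835 i)) (Bool.rec (motive := fun _ => Nat) (0x300017b000479) (0x100017d000369) (Nat.ble 837 i)) (Nat.ble 836 i)) (Bool.rec (motive := fun _ => Nat) (Bool.rec (motive := fun _ => Nat) (0x200017d000198) (0x17e0000c1) (Nat.ble 839 i)) (Bool.rec (motive := fun _ => Nat) (0x100017e000a8e) (0x300017e00011d) (Nat.ble 841 i)) (Nat.ble 840 i)) (Nat.ble 838 i)) (Bool.rec (motive := fun _ => Nat) (Bool.rec (motive := fun _ => Nat) (Bool.rec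 (motive := fun _ => Nat) (0x17f000603) (0x100017f000037) (Nat.ble 843 i)) (Bool.rec (motive := fun _ => Nat) (0x300017f0000ec) (0x300018500077a) (Nat.ble 845 i)) (Nat.ble 844 i)) (Bool.rec (motive := fun _ => Nat) (Bool.rec (motive := fun _ => Nat) (0x186000099) (0x2000186000a30) (Nat.ble 847 i)) (Bool.rec (motive := fun _ => Nat) (0x188000011) (0x18b0002dd) (Nat.ble 849 i)) (Nat.ble 848 i)) (Nat.ble 846 i)) (Nat.ble 842 i)) (Nat.ble 834 i)) (Bool.rec (motive := fun _ => Nat) (Bool.rec (motive := fun _ => Nat) (Bool.rec (motive := fun _ => Nat) (Bool.rec (motive := fun _ => Nat) (Bool.rec (motive := fun _ => Nat) (0x100018d000495) (0x200018f000e06) (Nat.ble 851 i)) (Bool.rec (motive := fun _ => Nat) (0x3000192000421) (0x195000604) (Nat.ble 853 i)) (Nat.ble 852 i)) (Bool.rec (motive := fun _ => Nat) (Bool.rec (motive := fun _ => Nat) (0x100019500020d) (0x1960000d4) (Nat.ble 855 i)) (Bool.rec (motive := fun _ => Nat) (0x3000196000dfc) (0x2000197000aed) (Nat.ble 857 i)) (Nat.ble 856 i)) (Nat.ble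 854 i)) (Bool.rec (motive := fun _ => Nat) (Bool.rec (motive := fun _ => Nat) (Bool.rec (motive := fun _ => Nat) (0x30001990007aa) (0x100019f000987) (Nat.ble 859 i)) (Bool.rec (motive := fun _ => Nat) (0x30001a0000e62) (0x1a2000cff) (Nat.ble 861 i)) (Nat.ble 860 i)) (Bool.rec (motive := fun _ => Nat) (Bool.rec (motive := fun _ => Nat) (0x30001a20008b0) (0x1a3000e4a) (Nat.ble 863 i)) (Bool.rec (motive := fun _ => Nat) (0x30001a3000b6f) (0x10001a5000ccf) (Nat.ble 865 i)) (Nat.ble 864 i)) (Nat.ble 862 i)) (Nat.ble 858 i)) (Bool.rec (motive := fun _ => Nat) (Bool.rec (motive := fun _ => Nat) (Bool.rec (motive := fun _ => Nat) (Bool.rec (motive := fun _ => Nat) (0x20001a7000db8) (0x30001a8000939) (Nat.ble 867 i)) (Bool.rec (motive := fun _ => Nat) (0x10001a9000c10) (0x20001aa0009a8) (Nat.ble 869 i)) (Nat.ble 868 i)) (Bool.rec (motive := fun _ => Nat) (Bool.rec (motive := fun _ => Nat) (0x20001ab000a8f) (0x20001ac000693) (Nat.ble 871 i)) (Bool.rec (motive := fun _ => Nat) (0x1ad000885) (0x30001ae0003f9)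 (Nat.ble 873 i)) (Nat.ble 872 i)) (Nat.ble 870 i)) (Bool.rec (motive := fun _ => Nat) (Bool.rec (motive := fun _ => Nat) (Bool.rec (motive := fun _ => Nat) (0x1b00009a7) (0x30001b000070f) (Nat.ble 875 i)) (Bool.rec (motive := fun _ => Nat) (0x10001b1000ee6) (0x30001b30008f7) (Nat.ble 877 i)) (Nat.ble 876 i)) (Bool.rec (motive := fun _ => Nat) (Bool.rec (motive := fun _ => Nat) (0x1b6000491) (0x30001b6000b49) (Nat.ble 879 i)) (Bool.rec (motive := fun _ => Nat) (0x1b800033b) (0x20001b8000cbd) (Nat.ble 881 i)) (Nat.ble 880 i)) (Nat.ble 878 i)) (Nat.ble 874 i)) (Nat.ble 866 i)) (Nat.ble 850 i))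
noncomputable def C30P_14 (i : Nat) : Nat := (Bool.rec (motive := fun _ => Nat) (Bool.rec (motive := fun _ => Nat) (Bool.rec (motive := fun _ => Nat) (Bool.rec (motive := fun _ => Nat) (Bool.rec (motive := fun _ => Nat) (0x30001b8000e3b) (Bool.rec (motive := fun _ => Nat) (0x20001ba0003af) (0x1bb000c0c) (Nat.ble 884 i)) (Nat.ble 883 i)) (Bool.rec (motive := fun _ => Nat) (Bool.rec (motive := fun _ => Nat) (0x20001bb0008bf) (0x30001bb00048b) (Nat.ble 886 i)) (Bool.rec (motive := fun _ => Nat) (0x1bf0007d9) (0x10001bf000314) (Nat.ble 888 i)) (Nat.ble 887 i)) (Nat.ble 885 i)) (Bool.rec (motive := fun _ => Nat) (Bool.rec (motive := fun _ => Nat) (Bool.rec (motive := fun _ => Nat) (0x20001c3000f2d) (0x1c400044e) (Nat.ble 890 i)) (Bool.rec (motive := fun _ => Nat) (0x30001c4000af0) (0x1c500076c) (Nat.ble 892 i)) (Nat.ble 891 i)) (Bool.rec (motive := fun _ => Nat) (Bool.rec (motive := fun _ => Nat) (0x1c7000143) (0x1c8000739) (Nat.ble 894 i)) (Bool.rec (motive := fun _ => Nat) (0x1cd00012b) (0x30001cd000e9f)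 (Nat.ble 896 i)) (Nat.ble 895 i)) (Nat.ble 893 i)) (Nat.ble 889 i)) (Bool.rec (motive := fun _ => Nat) (Bool.rec (motive := fun _ => Nat) (Bool.rec (motive := fun _ => Nat) (Bool.rec (motive := fun _ => Nat) (0x10001d100093e) (0x20001d10003a3) (Nat.ble 898 i)) (Bool.rec (motive := fun _ => Nat) (0x1d4000414) (0x20001d4000bb2) (Nat.ble 900 i)) (Nat.ble 899 i)) (Bool.rec (motive := fun _ => Nat) (Bool.rec (motive := fun _ => Nat) (0x30001d4000913) (0x1d900045e) (Nat.ble 902 i)) (Bool.rec (motive := fun _ => Nat) (0x30001d9000430) (0x10001da000776) (Nat.ble 904 i)) (Nat.ble 903 i)) (Nat.ble 901 i)) (Bool.rec (motive := fun _ => Nat) (Bool.rec (motive := fun _ => Nat) (Bool.rec (motive := fun _ => Nat) (0x30001da00091b) (0x1dd00047e) (Nat.ble 906 i)) (Bool.rec (motive := fun _ => Nat) (0x10001dd000380) (0x20001dd00069c) (Nat.ble 908 i)) (Nat.ble 907 i)) (Bool.rec (motive := fun _ => Nat) (Bool.rec (motive := fun _ => Nat) (0x1de000536) (0x10001de0005b5) (Nat.ble 910 i)) (Bool.rec (motive := fun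 _ => Nat) (0x30001de000163) (0x10001e000064e) (Nat.ble 912 i)) (Nat.ble 911 i)) (Nat.ble 909 i)) (Nat.ble 905 i)) (Nat.ble 897 i)) (Bool.rec (motive := fun _ => Nat) (Bool.rec (motive := fun _ => Nat) (Bool.rec (motive := fun _ => Nat) (Bool.rec (motive := fun _ => Nat) (Bool.rec (motive := fun _ => Nat) (0x20001e0000e38) (0x1e1000335) (Nat.ble 914 i)) (Bool.rec (motive := fun _ => Nat) (0x30001e10005a2) (0x10001e2000667) (Nat.ble 916 i)) (Nat.ble 915 i)) (Bool.rec (motive := fun _ => Nat) (Bool.rec (motive := fun _ => Nat) (0x30001e20003ce) (0x1e40007f2) (Nat.ble 918 i)) (Bool.rec (motive := fun _ => Nat) (0x10001e4000657) (0x20001e4000c52) (Nat.ble 920 i)) (Nat.ble 919 i)) (Nat.ble 917 i)) (Bool.rec (motive := fun _ => Nat) (Bool.rec (motive := fun _ => Nat) (Bool.rec (motive := fun _ => Nat) (0x30001e40009b8) (0x10001e5000dce) (Nat.ble 922 i)) (Bool.rec (motive := fun _ => Nat) (0x10001e60008cf) (0x20001e60009a4) (Nat.ble 924 i)) (Nat.ble 923 i)) (Bool.rec (motive := fun _ => Nat) (Bool.rec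 (motive := fun _ => Nat) (0x10001e70009f8) (0x20001e700060b) (Nat.ble 926 i)) (Bool.rec (motive := fun _ => Nat) (0x10001e800051d) (0x30001ea000ced) (Nat.ble 928 i)) (Nat.ble 927 i)) (Nat.ble 925 i)) (Nat.ble 921 i)) (Bool.rec (motive := fun _ => Nat) (Bool.rec (motive := fun _ => Nat) (Bool.rec (motive := fun _ => Nat) (Bool.rec (motive := fun _ => Nat) (0x20001ec000f05) (0x30001ef000024) (Nat.ble 930 i)) (Bool.rec (motive := fun _ => Nat) (0x10001f2000468) (0x30001f500046a) (Nat.ble 932 i)) (Nat.ble 931 i)) (Bool.rec (motive := fun _ => Nat) (Bool.rec (motive := fun _ => Nat) (0x1f90007eb) (0x30001f90009a6) (Nat.ble 934 i)) (Bool.rec (motive := fun _ => Nat) (0x1fb00095c) (0x30001fb000adb) (Nat.ble 936 i)) (Nat.ble 935 i)) (Nat.ble 933 i)) (Bool.rec (motive := fun _ => Nat) (Bool.rec (motive := fun _ => Nat) (Bool.rec (motive := fun _ => Nat) (0x30001fc0006dd) (0x201000ed6) (Nat.ble 938 i)) (Bool.rec (motive := fun _ => Nat) (0x30002010005d2) (0x206000e0f) (Nat.ble 940 i)) (Nat.ble 939 i))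 (Bool.rec (motive := fun _ => Nat) (Bool.rec (motive := fun _ => Nat) (0x100020f0003c5) (0x20002110000d8) (Nat.ble 942 i)) (Bool.rec (motive := fun _ => Nat) (0x20002120005ed) (0x1000214000e1e) (Nat.ble 944 i)) (Nat.ble 943 i)) (Nat.ble 941 i)) (Nat.ble 937 i)) (Nat.ble 929 i)) (Nat.ble 913 i))
noncomputable def C30P_15 (i : Nat) : Nat := (Bool.rec (motive := fun _ => Nat) (Bool.rec (motive := fun _ => Nat) (Bool.rec (motive := fun _ => Nat) (Bool.rec (motive := fun _ => Nat) (Bool.rec (motive := fun _ => Nat) (0x2000214000e44) (Bool.rec (motive := fun _ => Nat) (0x30002150001d5) (0x30002160003ef) (Nat.ble 947 i)) (Nat.ble 946 i)) (Bool.rec (motive := fun _ => Nat) (Bool.rec (motive := fun _ => Nat) (0x3000217000f27) (0x100021b000f22) (Nat.ble 949 i)) (Bool.rec (motive := fun _ => Nat) (0x21d000758) (0x100021f000d9c) (Nat.ble 951 i)) (Nat.ble 950 i)) (Nat.ble 948 i)) (Bool.rec (motive := fun _ => Nat) (Bool.rec (motive := fun _ => Nat) (Bool.rec (motive := fun _ => Nat) (0x200021f000b74) (0x10002230003ee)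 (Nat.ble 953 i)) (Bool.rec (motive := fun _ => Nat) (0x1000229000e0d) (0x22a0000fb) (Nat.ble 955 i)) (Nat.ble 954 i)) (Bool.rec (motive := fun _ => Nat) (Bool.rec (motive := fun _ => Nat) (0x200022a000ce1) (0x200022d000eea) (Nat.ble 957 i)) (Bool.rec (motive := fun _ => Nat) (0x231000283) (0x3000231000331) (Nat.ble 959 i)) (Nat.ble 958 i)) (Nat.ble 956 i)) (Nat.ble 952 i)) (Bool.rec (motive := fun _ => Nat) (Bool.rec (motive := fun _ => Nat) (Bool.rec (motive := fun _ => Nat) (Bool.rec (motive := fun _ => Nat) (0x1000238000b5c) (0x3000238000812) (Nat.ble 961 i)) (Bool.rec (motive := fun _ => Nat) (0x100023a000bcd) (0x300023b0004bb) (Nat.ble 963 i)) (Nat.ble 962 i)) (Bool.rec (motive := fun _ => Nat) (Bool.rec (motive := fun _ => Nat) (0x300023c000257) (0x300023f000342) (Nat.ble 965 i)) (Bool.rec (motive := fun _ => Nat) (0x1000243000d5e) (0x20002440002e8) (Nat.ble 967 i)) (Nat.ble 966 i)) (Nat.ble 964 i)) (Bool.rec (motive := fun _ => Nat) (Bool.rec (motive := fun _ => Nat) (Bool.rec (motive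 := fun _ => Nat) (0x245000cf7) (0x24600086b) (Nat.ble 969 i)) (Bool.rec (motive := fun _ => Nat) (0x10002460002a6) (0x2000246000e79) (Nat.ble 971 i)) (Nat.ble 970 i)) (Bool.rec (motive := fun _ => Nat) (Bool.rec (motive := fun _ => Nat) (0x1000247000c4a) (0x249000487) (Nat.ble 973 i)) (Bool.rec (motive := fun _ => Nat) (0x20002490009cb) (0x300024900081d) (Nat.ble 975 i)) (Nat.ble 974 i)) (Nat.ble 972 i)) (Nat.ble 968 i)) (Nat.ble 960 i)) (Bool.rec (motive := fun _ => Nat) (Bool.rec (motive := fun _ => Nat) (Bool.rec (motive := fun _ => Nat) (Bool.rec (motive := fun _ => Nat) (Bool.rec (motive := fun _ => Nat) (0x100024b000ed8) (0x24e0002cf) (Nat.ble 977 i)) (Bool.rec (motive := fun _ => Nat) (0x300024e000acc) (0x200024f000e80) (Nat.ble 979 i)) (Nat.ble 978 i)) (Bool.rec (motive := fun _ => Nat) (Bool.rec (motive := fun _ => Nat) (0x30002580004c0) (0x300025d000059) (Nat.ble 981 i)) (Bool.rec (motive := fun _ => Nat) (0x3000260000d8d) (0x264000b21) (Nat.ble 983 i)) (Nat.ble 982 i)) (Nat.ble 980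 i)) (Bool.rec (motive := fun _ => Nat) (Bool.rec (motive := fun _ => Nat) (Bool.rec (motive := fun _ => Nat) (0x3000264000466) (0x300026a000223) (Nat.ble 985 i)) (Bool.rec (motive := fun _ => Nat) (0x2000273000c48) (0x279000941) (Nat.ble 987 i)) (Nat.ble 986 i)) (Bool.rec (motive := fun _ => Nat) (Bool.rec (motive := fun _ => Nat) (0x2000279000cd4) (0x27b000ee2) (Nat.ble 989 i)) (Bool.rec (motive := fun _ => Nat) (0x300027b000824) (0x20002810003a2) (Nat.ble 991 i)) (Nat.ble 990 i)) (Nat.ble 988 i)) (Nat.ble 984 i)) (Bool.rec (motive := fun _ => Nat) (Bool.rec (motive := fun _ => Nat) (Bool.rec (motive := fun _ => Nat) (Bool.rec (motive := fun _ => Nat) (0x100028600053e) (0x3000287000521) (Nat.ble 993 i)) (Bool.rec (motive := fun _ => Nat) (0x200028e000d73) (0x200028f000c76) (Nat.ble 995 i)) (Nat.ble 994 i)) (Bool.rec (motive := fun _ => Nat) (Bool.rec (motive := fun _ => Nat) (0x29d00014d) (0x10002ca00062b) (Nat.ble 997 i)) (Bool.rec (motive := fun _ => Nat) (0x2cf0006f8) (0x20002cf000034) (Nat.ble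 999 i)) (Nat.ble 998 i)) (Nat.ble 996 i)) (Bool.rec (motive := fun _ => Nat) (Bool.rec (motive := fun _ => Nat) (Bool.rec (motive := fun _ => Nat) (0x30002cf000e09) (0x20002d5000271) (Nat.ble 1001 i)) (Bool.rec (motive := fun _ => Nat) (0x10002d9000147) (0x10002f30009fe) (Nat.ble 1003 i)) (Nat.ble 1002 i)) (Bool.rec (motive := fun _ => Nat) (Bool.rec (motive := fun _ => Nat) (0x10002f800083d) (0x2fe0003e5) (Nat.ble 1005 i)) (Bool.rec (motive := fun _ => Nat) (0x34a0001c7) (0x2000388000bbd) (Nat.ble 1007 i)) (Nat.ble 1006 i)) (Nat.ble 1004 i)) (Nat.ble 1000 i)) (Nat.ble 992 i)) (Nat.ble 976 i))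
noncomputable def C30P (i : Nat) : Nat := (Bool.rec (motive := fun _ => Nat) (Bool.rec (motive := fun _ => Nat) (Bool.rec (motive := fun _ => Nat) (Bool.rec (motive := fun _ => Nat) (C30P_0 i) (C30P_1 i) (Nat.ble 63 i)) (Bool.rec (motive := fun _ => Nat) (C30P_2 i) (C30P_3 i) (Nat.ble 189 i)) (Nat.ble 126 i)) (Bool.rec (motive := fun _ => Nat) (Bool.rec (motive := fun _ => Nat) (C30P_4 i) (C30P_5 i) (Nat.ble 315 i)) (Bool.rec (motive := fun _ => Nat) (C30P_6 i) (C30P_7 i) (Nat.ble 441 i)) (Nat.ble 378 i)) (Nat.ble 252 i)) (Bool.rec (motive := fun _ => Nat) (Bool.rec (motive := fun _ => Nat) (Bool.rec (motive := fun _ => Nat) (C30P_8 i) (C30P_9 i) (Nat.ble 567 i)) (Bool.rec (motive := fun _ => Nat) (C30P_10 i) (C30P_11 i) (Nat.ble 693 i)) (Nat.ble 630 i)) (Bool.rec (motive := fun _ => Nat) (Bool.rec (motive := fun _ => Nat) (C30P_12 i) (C30P_13 i) (Nat.ble 819 i)) (Bool.rec (motive := fun _ => Nat) (C30P_14 i) (C30P_15 i) (Nat.ble 945 i)) (Nat.ble 882 i)) (Nat.ble 756 i)) (Nat.ble 504 i))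
noncomputable def C30InvB_0 (i : Nat) : Nat := (Bool.rec (motive := fun _ => Nat) (Bool.rec (motive := fun _ => Nat) (Bool.rec (motive := fun _ => Nat) (Bool.rec (motive := fun _ => Nat) (Bool.rec (motive := fun _ => Nat) (0x34b0001390000af0003e700000000021a0000000000000000000000000000000000000000000000000001cc0000000000000000000000000003a200000000000000000000000000000000033300000000000000000000018e000000000000000000000000000000000000000000000000000350000199000000000000000000000000000000000000000000000000000000000000000000000000000000000000000000000000) (Bool.rec (motive := fun _ => Nat) (0x1de0000000000000000000000000000000000000000000000000000000000000000000002020000000000000000000000000000000000c40000000000b800000000000000028e0000000000000000000000000000000000000001550000380000000000000003d50000000000000000000000000000000000000000000000000001c90000000000000002530002350000000000000000000000000000000000000001d6000000000000000242000057000000) (0x33100000000025900000000028b0000000000000000000000000000ef0001790000000000000000000000000002620000c00000000000000001c700000000000000000c00000000000000000000000000000000000000000000000000000000020700019c00018d00034e0000890000c1000000000000000000000000000000000000000000000000000000000000000000000000000188000192000000000000000000000000000000000000000000000000000000)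 (Nat.ble 2 i)) (Nat.ble 1 i)) (Bool.rec (motive := fun _ => Nat) (Bool.rec (motive := fun _ => Nat) (0x3bb00000000000000000000000000010300000000000000000000000000000000000000000000000000000000034c0000000000000000000000000000fb0000000000000000000000000000000000000000000000000000000001800000000001910000000000000003ae0002c800000000011a0003570000000001940000000000000000000000000000000000000000000000940000000000000000000000650000000002a500011d000000000347000000) (0x28d00000000000000004e00000000017a00000000000000000000000000000000000000000000000000000000000000000000000000020800037f0001c800000000000000000000000000000000000000000000000000000000000000008c0000ea00034900000000000000000000000000000000000000000000019b00000000000000000000000000000000000000000000000000000000000000000000000000013200000000000000031f000000000000000000000000000000) (Nat.ble 4 i)) (Bool.rec (motive := fun _ => Nat) (0xd600000000000000000000000000000000029500000000000000000000000000000000000000000000000000000000006000000000000000028000000000000000000000000000000000000000000000038f00000000010100000000000000008a00000000025c0002e300000000027c0000000000000000000000000002a00000000000000000000000000000000000000003e40000000000000000000000000000000003ea00000000000000000000037d0000000000fe000000)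 (0x4000000000000000000000000000000000014d00000d0000000000000001b80002440001e00000000000000000000000000000000000000000000000000000000000000001f200000000000000000000000000000000000000000000000000000000000000000000000000027200033d000346000000000000000000000000000000000072000000000000000000000000000000000000000000000000000000000000000000000000000000000000000000000000000000000000) (Nat.ble 6 i)) (Nat.ble 5 i)) (Nat.ble 3 i)) (Bool.rec (motive := fun _ => Nat) (Bool.rec (motive := fun _ => Nat) (Bool.rec (motive := fun _ => Nat) (0x32d00030800022d0000000000000000000000000000000000000000a80000000000000000000000000000000000000000000000000000000000000000dc0000000000000000ed0000190000000000790000000000000000000000000000000000000000000000000000000003b20000000000000000000000000000a30000000000000000000000000000000000000000a90002060003ee000000000000000000000000000000000000000002) (0x1fe00000000000000000000000000000000018300000000000000000000000000000000000000000000000000000000000000000000000000000000000b00008400000000000000000100000000006c0003d90000000000000000000000000001360001960000000002ca0000520000000002310000000000000000000000000000000000000000000001ef000043000000000356000000000145000130000000000000000000000000000000000000000009000000000112000000)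 (Nat.ble 8 i)) (Bool.rec (motive := fun _ => Nat) (0x2e10000000000000000000000000000000000e10002aa00000000030a0000000002c20000000000000003e900003000000000004f00025f0000000000000000000000000000000000000000000000000000000001150000000000e80000000000000000000000000000000000000000000000000000000003c40000000000000000000000000000000000000000810000000000000000000001cb0000000000000003210001ed000000000138000000000000000000000000000000000000) (0x15600007e0000000000000000000000a20000000001820000cf0000000000000000000000000000000000000000000000000000000000000000000000000003ca0000e40000000000000000000000000000000002eb00000000000000000000000000000000029100029300021d0000d700000000014100000000000000000000000000000000000000030400014b0001b000000000003500031000000000000000000f0000000003be0001650000000001f5) (Nat.ble 10 i)) (Nat.ble 9 i)) (Bool.rec (motive := fun _ => Nat) (Bool.rec (motive := fun _ => Nat) (0x7d00000000000000000000000000018500023a00000000000000028f0000000000000000000000240002320000130002260000a50000000000000000000003c700000000000000000000000000031200000000000000000000000000031b0003510000000000000000000000000000000000000000000000000002980000000000000000000000000003d10000000000000000000001bd0000000000000000000000000000f40000000000000002d50002fa000096000000)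 (0x13300037000000000000000000000000000026a00039200000000000000028c0003bf0000000000000000000000000000000002920000000002a90000000000000000000000f600000000000000000000016100000000000000000000010900000000000000000000000000016a0000000000000000000003780000c30000000000000000000000000002e50000000000000000000000000000000001f600000000000000022f000000000000000000000000000000) (Nat.ble 12 i)) (Bool.rec (motive := fun _ => Nat) (0x27500003d0000000000000000000000000002a200000000000000000000000000000000000000000000000000013a00000000023400000000000000005000033a00034500000000000000027100000000000000000000033e00000000000000000000000000000000000000000000000000000000000000000000032000000000000000000000021600000000025100009c00000000000000006d00000000000000001a00000000000000000000003c0000000000000003c5000000000000) (0x33c0000000000d90000000000000000000000000000000000000000000000000000000003730000000000000000000000000000000000000000770002a30001b600000000026e0003820003df0000000000f700000000000000000000016900000000000000000000000000000000000000000000028700000000000000015000000000000000000000000000007400000000000000000000000000000000000000000000032e00000000000000000000038b)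 (Nat.ble 14 i)) (Nat.ble 13 i)) (Nat.ble 11 i)) (Nat.ble 7 i)) (Bool.rec (motive := fun _ => Nat) (Bool.rec (motive := fun _ => Nat) (Bool.rec (motive := fun _ => Nat) (Bool.rec (motive := fun _ => Nat) (0x1d50000000000000001fc0003690000000000000000000000000002670000000002690000000000000003b30003b900000000000000000000000000000000006b0000000000000003ed00010e00000000000000000000000000000000000000000000000000000000009e00000000000000002a0000000000ee0000000000000000000000000002a10000000003950001d90002c90000000000000000000000000000000000000003ad00000000000000000000020900026b) (0x16b0003410000000000000000000000000000000000000001c60003350003870001e20000000000000000000000000000830000000000000000000000000000000000000000000000000003540000c2000000000000000000000000000000000000000000000000000000000000000000000383000000000028000000000000000000000000000000000000000000000000000000000000000000000000000000000000000000000000000000000000) (Nat.ble 16 i)) (Bool.rec (motive := fun _ => Nat) (0x3900038a00000000000000000000000000034400000000018a0000000000000000000000000000000000000000000000000000000000000000000000000003a40001c50003a30000120003d80000000000000001470000000003010000000000000003860000000001e10000000001570000000000000000000000000000000000000001ff0000000000f30002f800000000037a0000000002a400000000000000000000000000025000000000000000000000032900014e000000000000)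 (0x5c0000000000000003c30001110000000000000000000002ba0000000000000000000000000001e30000000000000001b70000000002830000000000000000fc00000000000000000000000000000000000000000000000000009800000000000000000000002b00018600002c00031c00000000000000000000035200008d00000000005e00036e00032f0000000000000000000000000003760000000000490000000003cd0002da000000000000000204000000000000000000) (Nat.ble 18 i)) (Nat.ble 17 i)) (Bool.rec (motive := fun _ => Nat) (Bool.rec (motive := fun _ => Nat) (0x25e0001770000000000000000000000f10000000000000002b000000000003b00000000000000000000000000011400000000000000000000000000000000000000000000000000000000000000000000000000000000000000000000000000000000000000000000000000018f00019e00019d0000fd0001840000000001900000000001980000000000000000bb00000000000000000000000000033f0000000000220000000001f40000000000000000000002600000000000000003d4) (0x3e00000000000000000000001620000000000000000aa00038d0000000002c30000000003360000000000000000000001ee00020c0000040000000000000000000000000000000000000000000000000000000000000003e10000000002d900011700039f00000000000000000000024b0001be0000000001060000000000000000000000000000000001c100000000000000000000000000000000000000000000000000000000000000000000000000011e0000000002b9000000)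 (Nat.ble 20 i)) (Bool.rec (motive := fun _ => Nat) (0x2970000000000000000000003180000000000000000000000000000000000000000000002bb0000ec0000000000000001490001460000000000b30000000000000000000000000001130002bf00000000000000000000000000023e0000000000000000000000000000000001e700000000000000000000000000000000000000032b00000000000000000000000000000000000000000000010700008700000000000000008600018700000000000000003e0000460000000000640002e4) (0x12400011800038e00000000000000000000000000000000000000000000000000000000000000000000000000025400000000005a0000000000000000000003930000000000000000000000000000e900000000000000000000000000000000000000000000000000000000000000000000000000000000000000000000000000031300033000000000007c000000000000000000000000000000000000000000000000000175) (Nat.ble 22 i)) (Nat.ble 21 i)) (Nat.ble 19 i)) (Bool.rec (motive := fun _ => Nat) (Bool.rec (motive := fun _ => Nat) (Bool.rec (motive := fun _ => Nat) (0x30d00012a0000000000000000000000000000540000cb00000000000000000000012300000000000000000000029d0001af0002490003af00000000000000000000000000000000001d0000000000000000000000000000000002760002ee0000000000000000000000000000000000000000000000000001d30000230000000000000000000003ab00000000000000017e000000000000000000000000000000000000000000000000000078000322000000000000000000000000000000)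 (0x24700000000028a0002050000000001d10002740002960000000000000001b30001930002de00000000003f0000ad0000000002d20003e50000000000000000fa0000ac0000000000c60000000000000000000000000000000001100002230000000000000000000003260000000000000000000001d000000000000000000000015d0000000000000000b100000000000000000000039e0002ad00006100000000000000000000000000035500034a0000000000000002d8) (Nat.ble 24 i)) (Bool.rec (motive := fun _ => Nat) (0x21400026100000000011f0003340000000000000000000001c400000000020f00032a0000bd0001ae00029c0000000000000000000000000000000000000000000000000000000003940000000000000000000000000000210002fb00000000000000030e00000000000000000000000000015e00015b0003970000000000000002b30000000000000002f600000000001800039000021b0000000001dc0001a10002db0000000000000000000000000000000002c60002640001e60001c0) (0x20d0000000002e80000000000000000ae00000000000000000000000000000000000000015a0000f900021800000000000000000000000000000000000000028900010f00000000000000000000000000000000000000000000000000038c00000000000000013f000000000000000000000000000000000367000000000000000000000000000000000000000000000000000000000000000000000000000000000000000000000000000000000000000000)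 (Nat.ble 26 i)) (Nat.ble 25 i)) (Bool.rec (motive := fun _ => Nat) (Bool.rec (motive := fun _ => Nat) (0x27700015c0000000000000000000000000000000003e600000000000000018c0000000000000000ab0000000000000000000000de0000000000000000000000000000000000c900000000000000000000000000000000000000000000024f0000000000000003a90002c500000000000000007500000000000000000000000000000000000000000000000000000000000000000000000000000000000000000000014000000000000000000000000000000000022e0000000000000000f8) (0x22500037e0000000000000000000000000000000000000000000000b50000000000000000140000000000000000000000000000000000000000000000000000000000000001a20000000000000000000000000000000000000000000000000000000000000000a00000f000000000000000000000000000000000000000000000036b00000000005b00030900027800000000010800000000000000000000000000032c000000000000000000000000) (Nat.ble 28 i)) (Bool.rec (motive := fun _ => Nat) (0x34d00023900020100000000038800017200000000000000000000000000000000000000000000000000037c00000000000000000000022b00000000000000000000029000000000012f00000000000000000000025700020e0000000000000000000002560003b6000000000000000000000000000000000102000000000000000000000000000000000000000000000000000025000000000000000000000000000000000000000000000000000000)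 (0x2c700000000000000000000000000006900000000000000000000000000000000029400000000035a00010000000000000000000000029a0000000000000000000000000000000000000000000000000000000000000000000000000000000000000001430000e700032400000000000000017600000000000000000000000000000000000000029900009b0000000001520000000002fc000000000000000000000000000000) (Nat.ble 30 i)) (Nat.ble 29 i)) (Nat.ble 27 i)) (Nat.ble 23 i)) (Nat.ble 15 i)) (Bool.rec (motive := fun _ => Nat) (Bool.rec (motive := fun _ => Nat) (Bool.rec (motive := fun _ => Nat) (Bool.rec (motive := fun _ => Nat) (0x1f10000000000000000000000000000000000000000000003960000000000000000000000000000000000000003a500000000000000000000000000000000000000000000013e00024500003a00000000017c0002850000000000000000000002820003770001ba000000000000000338000000000000000000000000000213000000000000000000000000000000000000000000000000000000000000000000000000000000000000000000000000) (Bool.rec (motive := fun _ => Nat) (0x3ec0000000000000000000001fb00021200000000000000012e0000000000000000000000000002ec0002e20000000000000000000000000000000001dd0000000000000000000000000003de0000000000000001350000000000000000000003cf0001e50000000000000000000000000000000000000001ec0000000000c80003c10001970001ce0000000000000000000000000000000000e50000e200000000004500000000000000017d000000000070000000000000)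 (0x2ce00000000022a0000000000000000000000000000000000000000000000000000000000000000000000000000000000000003230000000003c900000000010a00000000000000000000025800000000001e00000000027e0000000000000000000000000000000001ea0000000000000000000000000000000000000000000000000000f200000000000000000000015400000000000000000000009300000000000000009f0000000000000000000000000000000000000001f9) (Nat.ble 33 i)) (Nat.ble 32 i)) (Bool.rec (motive := fun _ => Nat) (Bool.rec (motive := fun _ => Nat) (0x37500000000000000000000000000000000027f0000000000000000000000000000cc00000000001c0002cb00035e0000050000000000000002ef00000000000000000000000000000000000000000000000000000000000000002e00000000000000009d0000000000000000000000a400031900000000000000000000000000000000000000000000000000000000000000013d0000000000000000000000000000000000000002f10000000003680000000000000000000002550002b8) (0x29f00000000000000000000000000000000000000000000036d00000000024c0000000000000000000000000000000000000000000001c20000000000000000000000000000000002650002a600000000000000000000003100000000000000000000000000000000000000000000000000000000000000000000000000000000000000000000000000000000000000039b00000000030200000000000000000000000000000a00016d000221000000000000000000000000000000000000)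 (Nat.ble 35 i)) (Bool.rec (motive := fun _ => Nat) (0x24e0003810000000000000000000002240003630000000001f30000000000000000000002f500014f0000000000000000000000000000000000000000000000000001b20000000000000000000000000000950000000001a80001da0000000000000000000000000000000003890002430002d000000000000000013c00010c0000760003850000680000000001210000ba0000000000000000170000000000000000000001eb0000000000000002bc000000000000000000000000000000) (0x2000000000000d200000000005500000000000000000000000000000000021000032500000000000000000000000000000000000000000000000000000000000000000000000000032700000000000000000000000000027d0000000001700000000000000003a700000000000000000000023d00000000000000007b00001600000000000000000000019f0000000000000000000000b20002e90002330000000000000000000001580000000000000000000000000003db000000) (Nat.ble 37 i)) (Nat.ble 36 i)) (Nat.ble 34 i)) (Bool.rec (motive := fun _ => Nat) (Bool.rec (motive := fun _ => Nat) (Bool.rec (motive := fun _ => Nat) (0xbf0000dd0003990000000000000000000000000001680000000000000002d60000000000000001d700000000000000000000000000036500036a0003a600000e00039c0000000000000000000000000000000000000000000000000000000000000000000000000000000002170000000000000000000000000001df00000000000000000000000000000000000000000000000000000000035b000000000000000000000000000000000000000000)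 (0x3eb0000000000000001d400000000000000039d0002f40002a70000000000000000000000000000000000000000000000000000000000000000000000000000000000000000000000000000000000000000000000000000000000000000000000000000000000000000000000000000000000000000000000000000000001e40000000000000000f50000000000000000000000000002c40003ce000000000000000000000000000000000000000000000131000000000000000000) (Nat.ble 39 i)) (Bool.rec (motive := fun _ => Nat) (0x800000000000000000000000000000000002b500000000011c00005100000000025d00000000034f00000000027a0000c50000000000000000710000000000000000000000b60000000002ae00000000000000000000000000000000000000000000000000000000002f00005f0000340000000000000000000000000001ac000000000222000000000000000000000000000000000000000000000000000000000000000000000000000000000073000000000000000000) (0x14c0000000000000000000000000000000000000000000000000000000000000000000001270001a00000000000000000480001810000000000000000000000000000000000000000000000000000000000000000000002d400014200004a0000000001ad00000000000000000000000000000000004200000000016c00000000026c000000000000000000000000000000000007000000000000000000000000000000000000000000000000000000000116)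 (Nat.ble 41 i)) (Nat.ble 40 i)) (Bool.rec (motive := fun _ => Nat) (Bool.rec (motive := fun _ => Nat) (0x4b0000000000000002bd00000000000000000000000000000000000000000000000000000000000000000000033900000000000000000000000000016f00000000024a0002370000000000ca00000000000000000000009900017f00031500000000020300000000000000000000000000023b0000000000000000000000000000000000000003660003480000000001fd000000000000000000000000000000000000000000000067000000000000000000000000) (0x16000000000000000010d00000000000000000000037b0000000003280003590000000000000001e800029b0001260000000000000000000000000000000000000000000000000000000000000000000000000003a80000590001cf0000000000000000000002290000000000000000000000000000000000000000000000000003d20000000000000000000000000001640001a90000000000000000000000000000be000000) (Nat.ble 43 i)) (Bool.rec (motive := fun _ => Nat) (0x2e70000000001510000000000000000000000000000000000000000000000000000000000000001b400012c0000000000000000000000000000000000000000000000000000000000000000000000000003d70000000000000000000000000000000000000000000000000000000000000000000000000000000000000000000000000000000000000000000000000003170000000000000000000000000000000000000000000000000000000000cd00031e000000)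 (0x880000000000000000000000000000000000320000000000000000000003b80000000000000000000000000003600000000000000000000000000000000000000003400000000000000000000000000000000000000001b50000000000000000000000000003c000000000000000023800022c00000000000000000000003700000000000000000000000000000000000000017300000000000000000000036f0000000002ab0000000000d1000000000000000000000000000000) (Nat.ble 45 i)) (Nat.ble 44 i)) (Nat.ble 42 i)) (Nat.ble 38 i)) (Bool.rec (motive := fun _ => Nat) (Bool.rec (motive := fun _ => Nat) (Bool.rec (motive := fun _ => Nat) (Bool.rec (motive := fun _ => Nat) (0x3ef0000000001aa0001f80000000000410000000000000000000000000001250003840000000000000000000002cd0000360000000000000002270000150000000000000000000000000000000000000000000000000000000000000000000000000000000000000000000000000000000002b700000000000000000000000000000000000000000000000000000000017800031d0000000002520000000000ff000343000000000000000000000000000284000000000000) (0x630000850000000000000000000000000000000000000000000001a300000800000000000000000000000000000000000000000000000000000000000000027300006f0001280002f00002ea0000000000000000000000000000000000000000000000000000000000000000000002ed0000000000000000000002ff0003c200000000015900000000000000000000016300000000000000000000007f00014a0001b1000000)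 (Nat.ble 47 i)) (Bool.rec (motive := fun _ => Nat) (0x2e600002700000000000000000000000000000000000000000000000000000000000000000000000000000000012b0000110000000000000000000000000002280000000000000000000000d80000000000d50000440000b0000000000000000000000000000000000000000000000000000000000000000000000000000000000000000000000364000000000000000000000374000000000305000000000000000000000000000220000000000000000000000000000000) (0x3e30000da0000000001d800000000000000000000033b0000000000000000000000470000000000000000000000000000000000000000000000000000000000000000000000000000000002b20000000000b700000000000000000000000000000000000000012900000000039800000000000000000000021f0001660000000000000003cc0000000003da000000000000000000000000000000000000000000000000) (Nat.ble 49 i)) (Nat.ble 48 i)) (Bool.rec (motive := fun _ => Nat) (Bool.rec (motive := fun _ => Nat) (0x37100000000000000000000000000000000000000000000000000000000030c0000000002b100000000000000000000000000000000000000000000000000000000000000023f0000000000000002cf00000000000000006200000000000000000000026d0000000000000000000000000000000000000000000000000000000000000000000000000000000000000000000000000000d400000000000000000000005800000000030b0000290000000000000001f7000000)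 (0x35d0000000000000000000000000000000000000000000003c80000000000000000000000000002dc0000000000000000000000000003a00003110000000000000000000000000000000000000000000000000000000000000003bc0000000000000000000000000000000000000000000000200000000000000000000000000003dc0000000002f70000000000000003610000000000df0000000000000000000000000000000000000000000000000000000000000001340001b9000000) (Nat.ble 51 i)) (Bool.rec (motive := fun _ => Nat) (0x11b0000000000000000000001bb0000000000000000000000ce00000000000000000000000000000000000000000000000000000000000000000300000000013b0001ab00024600000000033200000000000000000000000000000000000000011900000000000000000000004d0000000000000000000000000001cd00000000027b00000000000000000000000000000000000000000000000000000000020b000316000000000000000000000000000000000000000000000281000000) (0x26300021c0000000000000000000000000003e20001a600000000000000000000000000000000000000000000020a0000000003420000000000000000a60001a70000000000000000000000000000000003c600000000000000031a000000000236000241000000000000000000000000000000000000000000000000000000000000000000000000000000000000000000000000000000000000000000000000000053000000000000000000)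 (Nat.ble 53 i)) (Nat.ble 52 i)) (Nat.ble 50 i)) (Bool.rec (motive := fun _ => Nat) (Bool.rec (motive := fun _ => Nat) (Bool.rec (motive := fun _ => Nat) (0x2fd00024d00036200000000000000000000000000000000000000000000028800000000000000000000018900000000000000029e00000000000000017100000000000000000000008200012d0002480001fa0001370000000003b70000000003370000bc00000000000000017b0001bf0000000000000000000000000000000000000000000003d600010b000000000000000000000000000000000000000000000306000000000000000000000000) (0x35800000000000000000000026600000000000000021e0000000000100002e00000000000000001d200000000000000000000000000000000009700000000000000000000000000005d00000000014400000000025b0002d300000000000000000000000000000000000000000000026800000000000000004c0001ca0002dd00012000000000000000039a0000000000000000e0000000000000000000000000000000000000000000000000000000000000000000) (Nat.ble 55 i)) (Bool.rec (motive := fun _ => Nat) (0x3720002400000eb0003910000000000000000000000000000000000000000000000000000000000000000000002af00019a0001950000000000000000000000c70000000000000000000002b60002f20000330000260003b00000000000000000000000000000000000000001f00002c10002cc0000000000000000000000000000000003ac0000000003ba0000e60000000000000003e800000000008b00035300008e00000000000000000000000000018b)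 (0x2790000a10000000000000000000003cb0000000000000002ac00000000000000015300000000008f0000000001050000db00000000000000000000000000000000002d00000000000000000000000000026f00035c00030f00000000000000000000030300028600000000000000000000021500001f00000000009200000000006a0000560000000000000000900000a700000000000000000000035f0000910000000000000002b40000000003b10000000001bc000000000000) (Nat.ble 57 i)) (Nat.ble 56 i)) (Bool.rec (motive := fun _ => Nat) (Bool.rec (motive := fun _ => Nat) (0x2f90000000000000000000000000000000000000001480002fe0000000000000000000000000002700000000002190001670001040001740001db0000000000000000000000000000000001a500000000012200023c00000000000000000000038000007a0000000000000000000000000000000000000003070000000000000000000000000000000000000000660002d70000000000000000000000000000000000000001c30000000000000000000000000000000000000000000003d3) (0x16e0000000000000000000000000000000000000000000000000000000000000000000000000000000000000000000003bd0000000002c000030000036c0000000000000000b90003dd00000000000000000600015f0002be0000e30000000000000000000003d00000b40003aa0001e900021100000000000000000000000000000000001b00000000000000000000000000031400000000000000000000000000000000009a0000000002df0002f3)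 (Nat.ble 59 i)) (Bool.rec (motive := fun _ => Nat) (0x25a0000000000000000000000000002a80000000000000000000000000000000000000000000000000000000003790000000000000000000000000000000003b40000000000000000000000000003b50000000000000000000000000000d00000000000000000000000000001a40000000000000000000000000002d100006e0000000000000000000000000000000000000000000000000000000000000000000000000003a1000000000000000000000000000000) (0x2300000d3) (Nat.ble 61 i)) (Nat.ble 60 i)) (Nat.ble 58 i)) (Nat.ble 54 i)) (Nat.ble 46 i)) (Nat.ble 31 i))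
noncomputable def C30InvB (i : Nat) : Nat := (C30InvB_0 i)
noncomputable def C30Inv (i : Nat) : Nat := Nat.land (Nat.shiftRight (C30InvB (Nat.shiftRight i 6)) (Nat.mul 24 (Nat.land i 63))) 16777215
/-- Generators of a level. -/
def C40G : List (List Nat) := [[3, 0, 2, 12, 2, 0, 2, 1, 3, 1], [2, 0, 2, 1, 3, 5, 3, 1], [5, 1, 3, 3, 1, 2, 15, 1], [2, 1, 8, 5, 15, 0, 2, 1, 2, 1], [6, 4, 6, 5, 6, 14, 11, 12, 2, 0], [2, 11, 15, 16, 1, 6, 17, 14, 10, 3]]
noncomputable def C40P_0 (i : Nat) : Nat := (Bool.rec (motive := fun _ => Nat) (Bool.rec (motive := fun _ => Nat) (Bool.rec (motive := fun _ => Nat) (Bool.rec (motive := fun _ => Nat) (Bool.rec (motive := fun _ => Nat) (0x95e) (0xe84) (Nat.ble 1 i)) (Bool.rec (motive := fun _ => Nat) (0x1000000000703) (Bool.rec (motive := fun _ => Nat) (0x2000000000f15) (0x3000000000c0a) (Nat.ble 4 i)) (Nat.ble 3 i)) (Nat.ble 2 i)) (Bool.rec (motive := fun _ => Nat) (Bool.rec (motive := fun _ => Nat) (0x4000000000bb8) (Bool.rec (motive := fun _ => Nat) (0x500000000015a)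 (0x1000988) (Nat.ble 7 i)) (Nat.ble 6 i)) (Bool.rec (motive := fun _ => Nat) (0x1000001000238) (Bool.rec (motive := fun _ => Nat) (0x200000100071a) (0x30000010002bc) (Nat.ble 10 i)) (Nat.ble 9 i)) (Nat.ble 8 i)) (Nat.ble 5 i)) (Bool.rec (motive := fun _ => Nat) (Bool.rec (motive := fun _ => Nat) (Bool.rec (motive := fun _ => Nat) (0x4000001000c13) (0x500000100064b) (Nat.ble 12 i)) (Bool.rec (motive := fun _ => Nat) (0x1000002000693) (Bool.rec (motive := fun _ => Nat) (0x2000002000945) (0x3000002000e4b) (Nat.ble 15 i)) (Nat.ble 14 i)) (Nat.ble 13 i)) (Bool.rec (motive := fun _ => Nat) (Bool.rec (motive := fun _ => Nat) (0x40000020008e2) (Bool.rec (motive := fun _ => Nat) (0x50000020000e6) (0x300023e) (Nat.ble 18 i)) (Nat.ble 17 i)) (Bool.rec (motive := fun _ => Nat) (0x1000003000946) (Bool.rec (motive := fun _ => Nat) (0x2000003000c80) (0x3000003000240) (Nat.ble 21 i)) (Nat.ble 20 i)) (Nat.ble 19 i)) (Nat.ble 16 i)) (Nat.ble 11 i)) (Bool.rec (motive := fun _ => Nat) (Bool.rec (motive := fun _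 => Nat) (Bool.rec (motive := fun _ => Nat) (Bool.rec (motive := fun _ => Nat) (0x400000300059d) (0x5000003000156) (Nat.ble 23 i)) (Bool.rec (motive := fun _ => Nat) (0x4000a69) (Bool.rec (motive := fun _ => Nat) (0x1000004000c05) (0x2000004000ae3) (Nat.ble 26 i)) (Nat.ble 25 i)) (Nat.ble 24 i)) (Bool.rec (motive := fun _ => Nat) (Bool.rec (motive := fun _ => Nat) (0x3000004000352) (Bool.rec (motive := fun _ => Nat) (0x40000040009ba) (0x5000004000590) (Nat.ble 29 i)) (Nat.ble 28 i)) (Bool.rec (motive := fun _ => Nat) (0x500024b) (Bool.rec (motive := fun _ => Nat) (0x100000500046f) (0x300000500027c) (Nat.ble 32 i)) (Nat.ble 31 i)) (Nat.ble 30 i)) (Nat.ble 27 i)) (Bool.rec (motive := fun _ => Nat) (Bool.rec (motive := fun _ => Nat) (Bool.rec (motive := fun _ => Nat) (0x40000050001c1) (Bool.rec (motive := fun _ => Nat) (0x5000005000904) (0x6000f1f) (Nat.ble 35 i)) (Nat.ble 34 i)) (Bool.rec (motive := fun _ => Nat) (0x1000006000ef7) (Bool.rec (motive := fun _ => Nat) (0x20000060006bb) (0x3000006000106)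 (Nat.ble 38 i)) (Nat.ble 37 i)) (Nat.ble 36 i)) (Bool.rec (motive := fun _ => Nat) (Bool.rec (motive := fun _ => Nat) (0x40000060009e6) (Bool.rec (motive := fun _ => Nat) (0x7000a29) (0x10000070006db) (Nat.ble 41 i)) (Nat.ble 40 i)) (Bool.rec (motive := fun _ => Nat) (0x2000007000148) (Bool.rec (motive := fun _ => Nat) (0x300000700062f) (0x5000007000c8f) (Nat.ble 44 i)) (Nat.ble 43 i)) (Nat.ble 42 i)) (Nat.ble 39 i)) (Nat.ble 33 i)) (Nat.ble 22 i))
noncomputable def C40P_1 (i : Nat) : Nat := (Bool.rec (motive := fun _ => Nat) (Bool.rec (motive := fun _ => Nat) (Bool.rec (motive := fun _ => Nat) (Bool.rec (motive := fun _ => Nat) (Bool.rec (motive := fun _ => Nat) (0x1000008000846) (0x2000008000dd2) (Nat.ble 46 i)) (Bool.rec (motive := fun _ => Nat) (0x3000008000c0f) (Bool.rec (motive := fun _ => Nat) (0x4000008000608) (0x50000080006ef) (Nat.ble 49 i)) (Nat.ble 48 i)) (Nat.ble 47 i)) (Bool.rec (motive := fun _ => Nat) (Bool.rec (motive := fun _ => Nat) (0x9000366) (Bool.rec (motive := fun _ =>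 Nat) (0x10000090000fd) (0x2000009000ddb) (Nat.ble 52 i)) (Nat.ble 51 i)) (Bool.rec (motive := fun _ => Nat) (0x300000900024e) (Bool.rec (motive := fun _ => Nat) (0x400000900093a) (0x5000009000555) (Nat.ble 55 i)) (Nat.ble 54 i)) (Nat.ble 53 i)) (Nat.ble 50 i)) (Bool.rec (motive := fun _ => Nat) (Bool.rec (motive := fun _ => Nat) (Bool.rec (motive := fun _ => Nat) (0xa0008c2) (0x100000a0007da) (Nat.ble 57 i)) (Bool.rec (motive := fun _ => Nat) (0x200000a00029d) (Bool.rec (motive := fun _ => Nat) (0x400000a00082d) (0x500000a000d0f) (Nat.ble 60 i)) (Nat.ble 59 i)) (Nat.ble 58 i)) (Bool.rec (motive := fun _ => Nat) (Bool.rec (motive := fun _ => Nat) (0xb000bb5) (Bool.rec (motive := fun _ => Nat) (0x100000b000af3) (0x300000b00011a) (Nat.ble 63 i)) (Nat.ble 62 i)) (Bool.rec (motive := fun _ => Nat) (0x400000b0001f3) (Bool.rec (motive := fun _ => Nat) (0x500000b000b88) (0xc000761) (Nat.ble 66 i)) (Nat.ble 65 i)) (Nat.ble 64 i)) (Nat.ble 61 i)) (Nat.ble 56 i)) (Bool.rec (motive := fun _ => Nat) (Bool.rec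 (motive := fun _ => Nat) (Bool.rec (motive := fun _ => Nat) (Bool.rec (motive := fun _ => Nat) (0x100000c00028e) (0x200000c000125) (Nat.ble 68 i)) (Bool.rec (motive := fun _ => Nat) (0x300000c000076) (Bool.rec (motive := fun _ => Nat) (0x400000c000ea2) (0x100000d000cbc) (Nat.ble 71 i)) (Nat.ble 70 i)) (Nat.ble 69 i)) (Bool.rec (motive := fun _ => Nat) (Bool.rec (motive := fun _ => Nat) (0x200000d000dd1) (Bool.rec (motive := fun _ => Nat) (0x300000d000291) (0x400000d000655) (Nat.ble 74 i)) (Nat.ble 73 i)) (Bool.rec (motive := fun _ => Nat) (0x500000d000a71) (Bool.rec (motive := fun _ => Nat) (0x100000e00094a) (0x200000e00086a) (Nat.ble 77 i)) (Nat.ble 76 i)) (Nat.ble 75 i)) (Nat.ble 72 i)) (Bool.rec (motive := fun _ => Nat) (Bool.rec (motive := fun _ => Nat) (Bool.rec (motive := fun _ => Nat) (0x300000e000d6c) (Bool.rec (motive := fun _ => Nat) (0x400000e000c16) (0x500000e000829) (Nat.ble 80 i)) (Nat.ble 79 i)) (Bool.rec (motive := fun _ => Nat) (0xf000bea) (Bool.rec (motive := fun _ => Nat)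 (0x200000f000b4d) (0x300000f0004e5) (Nat.ble 83 i)) (Nat.ble 82 i)) (Nat.ble 81 i)) (Bool.rec (motive := fun _ => Nat) (Bool.rec (motive := fun _ => Nat) (0x400000f000378) (Bool.rec (motive := fun _ => Nat) (0x500000f0008a7) (0x10000043) (Nat.ble 86 i)) (Nat.ble 85 i)) (Bool.rec (motive := fun _ => Nat) (0x30000100006c2) (Bool.rec (motive := fun _ => Nat) (0x400001000081d) (0x5000010000a5c) (Nat.ble 89 i)) (Nat.ble 88 i)) (Nat.ble 87 i)) (Nat.ble 84 i)) (Nat.ble 78 i)) (Nat.ble 67 i))
noncomputable def C40P_2 (i : Nat) : Nat := (Bool.rec (motive := fun _ => Nat) (Bool.rec (motive := fun _ => Nat) (Bool.rec (motive := fun _ => Nat) (Bool.rec (motive := fun _ => Nat) (Bool.rec (motive := fun _ => Nat) (0x1100061d) (0x100001100087f) (Nat.ble 91 i)) (Bool.rec (motive := fun _ => Nat) (0x2000011000c87) (Bool.rec (motive := fun _ => Nat) (0x3000011000bd4) (0x400001100038e) (Nat.ble 94 i)) (Nat.ble 93 i)) (Nat.ble 92 i)) (Bool.rec (motive := fun _ => Nat) (Bool.rec (motive := fun _ => Nat) (0x12000966)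 (Bool.rec (motive := fun _ => Nat) (0x1000012000764) (0x2000012000bb3) (Nat.ble 97 i)) (Nat.ble 96 i)) (Bool.rec (motive := fun _ => Nat) (0x30000120002a7) (Bool.rec (motive := fun _ => Nat) (0x4000012000410) (0x50000120001e4) (Nat.ble 100 i)) (Nat.ble 99 i)) (Nat.ble 98 i)) (Nat.ble 95 i)) (Bool.rec (motive := fun _ => Nat) (Bool.rec (motive := fun _ => Nat) (Bool.rec (motive := fun _ => Nat) (0x1000013000166) (0x2000013000d5e) (Nat.ble 102 i)) (Bool.rec (motive := fun _ => Nat) (0x30000130007e5) (Bool.rec (motive := fun _ => Nat) (0x40000130002ae) (0x5000013000866) (Nat.ble 105 i)) (Nat.ble 104 i)) (Nat.ble 103 i)) (Bool.rec (motive := fun _ => Nat) (Bool.rec (motive := fun _ => Nat) (0x14000dee) (Bool.rec (motive := fun _ => Nat) (0x10000140009d7) (0x2000014000e78) (Nat.ble 108 i)) (Nat.ble 107 i)) (Bool.rec (motive := fun _ => Nat) (0x30000140009ad) (Bool.rec (motive := fun _ => Nat) (0x40000140008f7) (0x5000014000931) (Nat.ble 111 i)) (Nat.ble 110 i)) (Nat.ble 109 i)) (Nat.ble 106 i)) (Nat.ble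 101 i)) (Bool.rec (motive := fun _ => Nat) (Bool.rec (motive := fun _ => Nat) (Bool.rec (motive := fun _ => Nat) (Bool.rec (motive := fun _ => Nat) (0x150002a5) (0x10000150006fc) (Nat.ble 113 i)) (Bool.rec (motive := fun _ => Nat) (0x2000015000a99) (Bool.rec (motive := fun _ => Nat) (0x30000150004dc) (0x400001500019a) (Nat.ble 116 i)) (Nat.ble 115 i)) (Nat.ble 114 i)) (Bool.rec (motive := fun _ => Nat) (Bool.rec (motive := fun _ => Nat) (0x50000150002c2) (Bool.rec (motive := fun _ => Nat) (0x1600066b) (0x1000016000351) (Nat.ble 119 i)) (Nat.ble 118 i)) (Bool.rec (motive := fun _ => Nat) (0x30000160000d1) (Bool.rec (motive := fun _ => Nat) (0x4000016000b8a) (0x5000016000363) (Nat.ble 122 i)) (Nat.ble 121 i)) (Nat.ble 120 i)) (Nat.ble 117 i)) (Bool.rec (motive := fun _ => Nat) (Bool.rec (motive := fun _ => Nat) (Bool.rec (motive := fun _ => Nat) (0x17000ab1) (Bool.rec (motive := fun _ => Nat) (0x10000170002a0) (0x20000170003b2) (Nat.ble 125 i)) (Nat.ble 124 i)) (Bool.rec (motive := fun _ => Nat)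 (0x30000170001f9) (Bool.rec (motive := fun _ => Nat) (0x4000017000306) (0x1000018000be9) (Nat.ble 128 i)) (Nat.ble 127 i)) (Nat.ble 126 i)) (Bool.rec (motive := fun _ => Nat) (Bool.rec (motive := fun _ => Nat) (0x2000018000ade) (Bool.rec (motive := fun _ => Nat) (0x400001800094d) (0x5000018000863) (Nat.ble 131 i)) (Nat.ble 130 i)) (Bool.rec (motive := fun _ => Nat) (0x1000019000b75) (Bool.rec (motive := fun _ => Nat) (0x3000019000cf1) (0x4000019000760) (Nat.ble 134 i)) (Nat.ble 133 i)) (Nat.ble 132 i)) (Nat.ble 129 i)) (Nat.ble 123 i)) (Nat.ble 112 i))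
noncomputable def C40P_3 (i : Nat) : Nat := (Bool.rec (motive := fun _ => Nat) (Bool.rec (motive := fun _ => Nat) (Bool.rec (motive := fun _ => Nat) (Bool.rec (motive := fun _ => Nat) (Bool.rec (motive := fun _ => Nat) (0x5000019000c86) (0x1a0009b8) (Nat.ble 136 i)) (Bool.rec (motive := fun _ => Nat) (0x100001a000a98) (Bool.rec (motive := fun _ => Nat) (0x400001a000e4c) (0x500001a000382) (Nat.ble 139 i)) (Nat.ble 138 i)) (Nat.ble 137 i)) (Bool.rec (motive := fun _ => Nat) (Bool.rec (motive := fun _ => Nat) (0x100001b0004e6) (Bool.rec (motive := fun _ => Nat) (0x200001b0001a3) (0x300001b0001b0) (Nat.ble 142 i)) (Nat.ble 141 i)) (Bool.rec (motive := fun _ => Nat) (0x400001b000e0e) (Bool.rec (motive := fun _ => Nat) (0x500001b000bf2) (0x1c00045d) (Nat.ble 145 i)) (Nat.ble 144 i)) (Nat.ble 143 i)) (Nat.ble 140 i)) (Bool.rec (motive := fun _ => Nat) (Bool.rec (motive := fun _ => Nat) (Bool.rec (motive := fun _ => Nat) (0x100001c000dba) (0x300001c000895) (Nat.ble 147 i)) (Bool.rec (motive := fun _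 => Nat) (0x400001c0004bb) (Bool.rec (motive := fun _ => Nat) (0x500001c0002e6) (0x1d000b2d) (Nat.ble 150 i)) (Nat.ble 149 i)) (Nat.ble 148 i)) (Bool.rec (motive := fun _ => Nat) (Bool.rec (motive := fun _ => Nat) (0x100001d000def) (Bool.rec (motive := fun _ => Nat) (0x200001d000294) (0x300001d000d17) (Nat.ble 153 i)) (Nat.ble 152 i)) (Bool.rec (motive := fun _ => Nat) (0x400001d000c43) (Bool.rec (motive := fun _ => Nat) (0x1e000c31) (0x100001e000241) (Nat.ble 156 i)) (Nat.ble 155 i)) (Nat.ble 154 i)) (Nat.ble 151 i)) (Nat.ble 146 i)) (Bool.rec (motive := fun _ => Nat) (Bool.rec (motive := fun _ => Nat) (Bool.rec (motive := fun _ => Nat) (Bool.rec (motive := fun _ => Nat) (0x200001e00064d) (0x300001e000bad) (Nat.ble 158 i)) (Bool.rec (motive := fun _ => Nat) (0x400001e0001ad) (Bool.rec (motive := fun _ => Nat) (0x500001e0005a0) (0x100001f000058) (Nat.ble 161 i)) (Nat.ble 160 i)) (Nat.ble 159 i)) (Bool.rec (motive := fun _ => Nat) (Bool.rec (motive := fun _ => Nat) (0x200001f0007d3) (Bool.rec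 (motive := fun _ => Nat) (0x300001f000888) (0x500001f000935) (Nat.ble 164 i)) (Nat.ble 163 i)) (Bool.rec (motive := fun _ => Nat) (0x20000ceb) (Bool.rec (motive := fun _ => Nat) (0x1000020000c1d) (0x20000200000da) (Nat.ble 167 i)) (Nat.ble 166 i)) (Nat.ble 165 i)) (Nat.ble 162 i)) (Bool.rec (motive := fun _ => Nat) (Bool.rec (motive := fun _ => Nat) (Bool.rec (motive := fun _ => Nat) (0x3000020000a6e) (Bool.rec (motive := fun _ => Nat) (0x500002000018e) (0x2100067e) (Nat.ble 170 i)) (Nat.ble 169 i)) (Bool.rec (motive := fun _ => Nat) (0x1000021000ac0) (Bool.rec (motive := fun _ => Nat) (0x30000210008fd) (0x5000021000c52) (Nat.ble 173 i)) (Nat.ble 172 i)) (Nat.ble 171 i)) (Bool.rec (motive := fun _ => Nat) (Bool.rec (motive := fun _ => Nat) (0x22000af6) (Bool.rec (motive := fun _ => Nat) (0x1000022000f02) (0x2000022000b46) (Nat.ble 176 i)) (Nat.ble 175 i)) (Bool.rec (motive := fun _ => Nat) (0x300002200070b) (Bool.rec (motive := fun _ => Nat) (0x40000220007d8) (0x23000cf3) (Nat.ble 179 i)) (Nat.ble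 178 i)) (Nat.ble 177 i)) (Nat.ble 174 i)) (Nat.ble 168 i)) (Nat.ble 157 i))
noncomputable def C40P_4 (i : Nat) : Nat := (Bool.rec (motive := fun _ => Nat) (Bool.rec (motive := fun _ => Nat) (Bool.rec (motive := fun _ => Nat) (Bool.rec (motive := fun _ => Nat) (Bool.rec (motive := fun _ => Nat) (0x1000023000124) (0x2000023000019) (Nat.ble 181 i)) (Bool.rec (motive := fun _ => Nat) (0x30000230007a5) (Bool.rec (motive := fun _ => Nat) (0x4000023000284) (0x50000230008aa) (Nat.ble 184 i)) (Nat.ble 183 i)) (Nat.ble 182 i)) (Bool.rec (motive := fun _ => Nat) (Bool.rec (motive := fun _ => Nat) (0x1000024000af8) (Bool.rec (motive := fun _ => Nat) (0x2000024000049) (0x3000024000bf1) (Nat.ble 187 i)) (Nat.ble 186 i)) (Bool.rec (motive := fun _ => Nat) (0x40000240002f3) (Bool.rec (motive := fun _ => Nat) (0x5000024000737) (0x25000170) (Nat.ble 190 i)) (Nat.ble 189 i)) (Nat.ble 188 i)) (Nat.ble 185 i)) (Bool.rec (motive := fun _ => Nat) (Bool.rec (motive := fun _ => Nat) (Bool.rec (motive := fun _ => Nat)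 (0x100002500004a) (0x200002500093c) (Nat.ble 192 i)) (Bool.rec (motive := fun _ => Nat) (0x4000025000d2f) (Bool.rec (motive := fun _ => Nat) (0x500002500071d) (0x260009b9) (Nat.ble 195 i)) (Nat.ble 194 i)) (Nat.ble 193 i)) (Bool.rec (motive := fun _ => Nat) (Bool.rec (motive := fun _ => Nat) (0x1000026000ca2) (Bool.rec (motive := fun _ => Nat) (0x2000026000cd5) (0x3000026000f22) (Nat.ble 198 i)) (Nat.ble 197 i)) (Bool.rec (motive := fun _ => Nat) (0x4000026000793) (Bool.rec (motive := fun _ => Nat) (0x5000026000958) (0x27000a77) (Nat.ble 201 i)) (Nat.ble 200 i)) (Nat.ble 199 i)) (Nat.ble 196 i)) (Nat.ble 191 i)) (Bool.rec (motive := fun _ => Nat) (Bool.rec (motive := fun _ => Nat) (Bool.rec (motive := fun _ => Nat) (Bool.rec (motive := fun _ => Nat) (0x1000027000a11) (0x30000270003df) (Nat.ble 203 i)) (Bool.rec (motive := fun _ => Nat) (0x4000027000d7d) (Bool.rec (motive := fun _ => Nat) (0x5000027000034) (0x1000028000bd0) (Nat.ble 206 i)) (Nat.ble 205 i)) (Nat.ble 204 i)) (Bool.rec (motive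 := fun _ => Nat) (Bool.rec (motive := fun _ => Nat) (0x30000280003b4) (Bool.rec (motive := fun _ => Nat) (0x40000280009f2) (0x10000290006fa) (Nat.ble 209 i)) (Nat.ble 208 i)) (Bool.rec (motive := fun _ => Nat) (0x20000290007d9) (Bool.rec (motive := fun _ => Nat) (0x3000029000ec2) (0x5000029000db5) (Nat.ble 212 i)) (Nat.ble 211 i)) (Nat.ble 210 i)) (Nat.ble 207 i)) (Bool.rec (motive := fun _ => Nat) (Bool.rec (motive := fun _ => Nat) (Bool.rec (motive := fun _ => Nat) (0x2a000e47) (Bool.rec (motive := fun _ => Nat) (0x100002a000790) (0x200002a000968) (Nat.ble 215 i)) (Nat.ble 214 i)) (Bool.rec (motive := fun _ => Nat) (0x300002a000438) (Bool.rec (motive := fun _ => Nat) (0x400002a000bed) (0x500002a000533) (Nat.ble 218 i)) (Nat.ble 217 i)) (Nat.ble 216 i)) (Bool.rec (motive := fun _ => Nat) (Bool.rec (motive := fun _ => Nat) (0x2b000b2e) (Bool.rec (motive := fun _ => Nat) (0x100002b000386) (0x200002b00063b) (Nat.ble 221 i)) (Nat.ble 220 i)) (Bool.rec (motive := fun _ => Nat) (0x400002b000e3c)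 (Bool.rec (motive := fun _ => Nat) (0x500002b00076d) (0x2c000e40) (Nat.ble 224 i)) (Nat.ble 223 i)) (Nat.ble 222 i)) (Nat.ble 219 i)) (Nat.ble 213 i)) (Nat.ble 202 i))
noncomputable def C40P_5 (i : Nat) : Nat := (Bool.rec (motive := fun _ => Nat) (Bool.rec (motive := fun _ => Nat) (Bool.rec (motive := fun _ => Nat) (Bool.rec (motive := fun _ => Nat) (Bool.rec (motive := fun _ => Nat) (0x100002c00018d) (0x200002c0000f0) (Nat.ble 226 i)) (Bool.rec (motive := fun _ => Nat) (0x300002c0007fd) (Bool.rec (motive := fun _ => Nat) (0x400002c000ace) (0x100002d000798) (Nat.ble 229 i)) (Nat.ble 228 i)) (Nat.ble 227 i)) (Bool.rec (motive := fun _ => Nat) (Bool.rec (motive := fun _ => Nat) (0x200002d000399) (Bool.rec (motive := fun _ => Nat) (0x300002d000d64) (0x400002d000b17) (Nat.ble 232 i)) (Nat.ble 231 i)) (Bool.rec (motive := fun _ => Nat) (0x100002e00096e) (Bool.rec (motive := fun _ => Nat) (0x300002e000d62) (0x400002e000688) (Nat.ble 235 i)) (Nat.ble 234 i)) (Nat.ble 233 i)) (Nat.ble 230 i)) (Bool.rec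 (motive := fun _ => Nat) (Bool.rec (motive := fun _ => Nat) (Bool.rec (motive := fun _ => Nat) (0x500002e0008da) (0x2f00063e) (Nat.ble 237 i)) (Bool.rec (motive := fun _ => Nat) (0x200002f0001e6) (Bool.rec (motive := fun _ => Nat) (0x400002f000d50) (0x500002f000df5) (Nat.ble 240 i)) (Nat.ble 239 i)) (Nat.ble 238 i)) (Bool.rec (motive := fun _ => Nat) (Bool.rec (motive := fun _ => Nat) (0x30000443) (Bool.rec (motive := fun _ => Nat) (0x3000030000ca8) (0x40000300001e9) (Nat.ble 243 i)) (Nat.ble 242 i)) (Bool.rec (motive := fun _ => Nat) (0x5000030000afd) (Bool.rec (motive := fun _ => Nat) (0x31000eea) (0x1000031000f10) (Nat.ble 246 i)) (Nat.ble 245 i)) (Nat.ble 244 i)) (Nat.ble 241 i)) (Nat.ble 236 i)) (Bool.rec (motive := fun _ => Nat) (Bool.rec (motive := fun _ => Nat) (Bool.rec (motive := fun _ => Nat) (Bool.rec (motive := fun _ => Nat) (0x2000031000e51) (0x3000031000c83) (Nat.ble 248 i)) (Bool.rec (motive := fun _ => Nat) (0x400003100012f) (Bool.rec (motive := fun _ => Nat) (0x10000320003bb)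 (0x2000032000755) (Nat.ble 251 i)) (Nat.ble 250 i)) (Nat.ble 249 i)) (Bool.rec (motive := fun _ => Nat) (Bool.rec (motive := fun _ => Nat) (0x3000032000b24) (Bool.rec (motive := fun _ => Nat) (0x5000032000a83) (0x100003300062d) (Nat.ble 254 i)) (Nat.ble 253 i)) (Bool.rec (motive := fun _ => Nat) (0x2000033000338) (Bool.rec (motive := fun _ => Nat) (0x3000033000997) (0x4000033000cb7) (Nat.ble 257 i)) (Nat.ble 256 i)) (Nat.ble 255 i)) (Nat.ble 252 i)) (Bool.rec (motive := fun _ => Nat) (Bool.rec (motive := fun _ => Nat) (Bool.rec (motive := fun _ => Nat) (0x5000033000a48) (Bool.rec (motive := fun _ => Nat) (0x34000c5c) (0x10000340008d0) (Nat.ble 260 i)) (Nat.ble 259 i)) (Bool.rec (motive := fun _ => Nat) (0x200003400097d) (Bool.rec (motive := fun _ => Nat) (0x3000034000be2) (0x4000034000e28) (Nat.ble 263 i)) (Nat.ble 262 i)) (Nat.ble 261 i)) (Bool.rec (motive := fun _ => Nat) (Bool.rec (motive := fun _ => Nat) (0x5000034000ec5) (Bool.rec (motive := fun _ => Nat) (0x35000b49) (0x2000035000b23)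 (Nat.ble 266 i)) (Nat.ble 265 i)) (Bool.rec (motive := fun _ => Nat) (0x4000035000a7a) (Bool.rec (motive := fun _ => Nat) (0x36000680) (0x1000036000c1e) (Nat.ble 269 i)) (Nat.ble 268 i)) (Nat.ble 267 i)) (Nat.ble 264 i)) (Nat.ble 258 i)) (Nat.ble 247 i))
noncomputable def C40P_6 (i : Nat) : Nat := (Bool.rec (motive := fun _ => Nat) (Bool.rec (motive := fun _ => Nat) (Bool.rec (motive := fun _ => Nat) (Bool.rec (motive := fun _ => Nat) (Bool.rec (motive := fun _ => Nat) (0x300003600094b) (0x4000036000c0e) (Nat.ble 271 i)) (Bool.rec (motive := fun _ => Nat) (0x37000f17) (Bool.rec (motive := fun _ => Nat) (0x10000370000f8) (0x2000037000121) (Nat.ble 274 i)) (Nat.ble 273 i)) (Nat.ble 272 i)) (Bool.rec (motive := fun _ => Nat) (Bool.rec (motive := fun _ => Nat) (0x3000037000b72) (Bool.rec (motive := fun _ => Nat) (0x40000370008b5) (0x1000038000696) (Nat.ble 277 i)) (Nat.ble 276 i)) (Bool.rec (motive := fun _ => Nat) (0x2000038000be1) (Bool.rec (motive := fun _ => Nat) (0x40000380006b2) (0x5000038000636)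 (Nat.ble 280 i)) (Nat.ble 279 i)) (Nat.ble 278 i)) (Nat.ble 275 i)) (Bool.rec (motive := fun _ => Nat) (Bool.rec (motive := fun _ => Nat) (Bool.rec (motive := fun _ => Nat) (0x1000039000780) (0x3000039000754) (Nat.ble 282 i)) (Bool.rec (motive := fun _ => Nat) (0x400003900095f) (Bool.rec (motive := fun _ => Nat) (0x50000390007c4) (0x3a0005b0) (Nat.ble 285 i)) (Nat.ble 284 i)) (Nat.ble 283 i)) (Bool.rec (motive := fun _ => Nat) (Bool.rec (motive := fun _ => Nat) (0x100003a000df1) (Bool.rec (motive := fun _ => Nat) (0x3b000a28) (0x100003b0003c2) (Nat.ble 288 i)) (Nat.ble 287 i)) (Bool.rec (motive := fun _ => Nat) (0x300003b000f0c) (Bool.rec (motive := fun _ => Nat) (0x500003b000231) (0x3c000114) (Nat.ble 291 i)) (Nat.ble 290 i)) (Nat.ble 289 i)) (Nat.ble 286 i)) (Nat.ble 281 i)) (Bool.rec (motive := fun _ => Nat) (Bool.rec (motive := fun _ => Nat) (Bool.rec (motive := fun _ => Nat) (Bool.rec (motive := fun _ => Nat) (0x100003c000160) (0x200003c00016c) (Nat.ble 293 i)) (Bool.rec (motive := fun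 _ => Nat) (0x300003c0007d5) (Bool.rec (motive := fun _ => Nat) (0x400003c000557) (0x100003d000b6c) (Nat.ble 296 i)) (Nat.ble 295 i)) (Nat.ble 294 i)) (Bool.rec (motive := fun _ => Nat) (Bool.rec (motive := fun _ => Nat) (0x200003d000151) (Bool.rec (motive := fun _ => Nat) (0x300003d0000b0) (0x400003d000615) (Nat.ble 299 i)) (Nat.ble 298 i)) (Bool.rec (motive := fun _ => Nat) (0x500003d000090) (Bool.rec (motive := fun _ => Nat) (0x100003e000d83) (0x200003e0002ac) (Nat.ble 302 i)) (Nat.ble 301 i)) (Nat.ble 300 i)) (Nat.ble 297 i)) (Bool.rec (motive := fun _ => Nat) (Bool.rec (motive := fun _ => Nat) (Bool.rec (motive := fun _ => Nat) (0x300003e0007af) (Bool.rec (motive := fun _ => Nat) (0x500003e000130) (0x3f0007aa) (Nat.ble 305 i)) (Nat.ble 304 i)) (Bool.rec (motive := fun _ => Nat) (0x100003f000db3) (Bool.rec (motive := fun _ => Nat) (0x200003f000976) (0x300003f0000ad) (Nat.ble 308 i)) (Nat.ble 307 i)) (Nat.ble 306 i)) (Bool.rec (motive := fun _ => Nat) (Bool.rec (motive := fun _ => Nat) (0x500003f00044c)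 (Bool.rec (motive := fun _ => Nat) (0x4000049c) (0x10000400003b5) (Nat.ble 311 i)) (Nat.ble 310 i)) (Bool.rec (motive := fun _ => Nat) (0x3000040000b6e) (Bool.rec (motive := fun _ => Nat) (0x5000040000dc0) (0x410005a2) (Nat.ble 314 i)) (Nat.ble 313 i)) (Nat.ble 312 i)) (Nat.ble 309 i)) (Nat.ble 303 i)) (Nat.ble 292 i))
noncomputable def C40P_7 (i : Nat) : Nat := (Bool.rec (motive := fun _ => Nat) (Bool.rec (motive := fun _ => Nat) (Bool.rec (motive := fun _ => Nat) (Bool.rec (motive := fun _ => Nat) (Bool.rec (motive := fun _ => Nat) (0x1000041000686) (0x2000041000007) (Nat.ble 316 i)) (Bool.rec (motive := fun _ => Nat) (0x3000041000971) (Bool.rec (motive := fun _ => Nat) (0x42000c2e) (0x1000042000d30) (Nat.ble 319 i)) (Nat.ble 318 i)) (Nat.ble 317 i)) (Bool.rec (motive := fun _ => Nat) (Bool.rec (motive := fun _ => Nat) (0x2000042000353) (Bool.rec (motive := fun _ => Nat) (0x30000420005c4) (0x400004200081c) (Nat.ble 322 i)) (Nat.ble 321 i)) (Bool.rec (motive := fun _ => Nat) (0x5000042000e45)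 (Bool.rec (motive := fun _ => Nat) (0x100004300041c) (0x2000043000571) (Nat.ble 325 i)) (Nat.ble 324 i)) (Nat.ble 323 i)) (Nat.ble 320 i)) (Bool.rec (motive := fun _ => Nat) (Bool.rec (motive := fun _ => Nat) (Bool.rec (motive := fun _ => Nat) (0x30000430004db) (0x4000043000c53) (Nat.ble 327 i)) (Bool.rec (motive := fun _ => Nat) (0x5000043000bcf) (Bool.rec (motive := fun _ => Nat) (0x1000044000685) (0x2000044000c72) (Nat.ble 330 i)) (Nat.ble 329 i)) (Nat.ble 328 i)) (Bool.rec (motive := fun _ => Nat) (Bool.rec (motive := fun _ => Nat) (0x400004400012d) (Bool.rec (motive := fun _ => Nat) (0x100004500065c) (0x200004500076a) (Nat.ble 333 i)) (Nat.ble 332 i)) (Bool.rec (motive := fun _ => Nat) (0x5000045000bb9) (Bool.rec (motive := fun _ => Nat) (0x4600033d) (0x1000046000c88) (Nat.ble 336 i)) (Nat.ble 335 i)) (Nat.ble 334 i)) (Nat.ble 331 i)) (Nat.ble 326 i)) (Bool.rec (motive := fun _ => Nat) (Bool.rec (motive := fun _ => Nat) (Bool.rec (motive := fun _ => Nat) (Bool.rec (motive := fun _ => Nat)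 (0x30000460002b3) (0x4000046000e26) (Nat.ble 338 i)) (Bool.rec (motive := fun _ => Nat) (0x5000046000c59) (Bool.rec (motive := fun _ => Nat) (0x2000047000c36) (0x3000047000b36) (Nat.ble 341 i)) (Nat.ble 340 i)) (Nat.ble 339 i)) (Bool.rec (motive := fun _ => Nat) (Bool.rec (motive := fun _ => Nat) (0x40000470002ba) (Bool.rec (motive := fun _ => Nat) (0x5000047000ed2) (0x300004800079f) (Nat.ble 344 i)) (Nat.ble 343 i)) (Bool.rec (motive := fun _ => Nat) (0x4000048000b86) (Bool.rec (motive := fun _ => Nat) (0x5000048000ba7) (0x49000dec) (Nat.ble 347 i)) (Nat.ble 346 i)) (Nat.ble 345 i)) (Nat.ble 342 i)) (Bool.rec (motive := fun _ => Nat) (Bool.rec (motive := fun _ => Nat) (Bool.rec (motive := fun _ => Nat) (0x30000490006f9) (Bool.rec (motive := fun _ => Nat) (0x400004900000d) (0x5000049000f06) (Nat.ble 350 i)) (Nat.ble 349 i)) (Bool.rec (motive := fun _ => Nat) (0x4a000738) (Bool.rec (motive := fun _ => Nat) (0x400004a000ced) (0x4b000bfb) (Nat.ble 353 i)) (Nat.ble 352 i)) (Nat.ble 351 i)) (Bool.rec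 (motive := fun _ => Nat) (Bool.rec (motive := fun _ => Nat) (0x200004b000e00) (Bool.rec (motive := fun _ => Nat) (0x400004b000a0c) (0x100004c000d18) (Nat.ble 356 i)) (Nat.ble 355 i)) (Bool.rec (motive := fun _ => Nat) (0x200004c000165) (Bool.rec (motive := fun _ => Nat) (0x400004c00003d) (0x500004c00033e) (Nat.ble 359 i)) (Nat.ble 358 i)) (Nat.ble 357 i)) (Nat.ble 354 i)) (Nat.ble 348 i)) (Nat.ble 337 i))
noncomputable def C40P_8 (i : Nat) : Nat := (Bool.rec (motive := fun _ => Nat) (Bool.rec (motive := fun _ => Nat) (Bool.rec (motive := fun _ => Nat) (Bool.rec (motive := fun _ => Nat) (Bool.rec (motive := fun _ => Nat) (0x200004d000bf9) (0x300004d000679) (Nat.ble 361 i)) (Bool.rec (motive := fun _ => Nat) (0x400004d0004b2) (Bool.rec (motive := fun _ => Nat) (0x500004d000b7a) (0x4e0006dc) (Nat.ble 364 i)) (Nat.ble 363 i)) (Nat.ble 362 i)) (Bool.rec (motive := fun _ => Nat) (Bool.rec (motive := fun _ => Nat) (0x200004e000c15) (Bool.rec (motive := fun _ => Nat) (0x300004e00073b) (0x400004e000e8c)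 (Nat.ble 367 i)) (Nat.ble 366 i)) (Bool.rec (motive := fun _ => Nat) (0x400004f000448) (Bool.rec (motive := fun _ => Nat) (0x500004f00073e) (0x1000050000113) (Nat.ble 370 i)) (Nat.ble 369 i)) (Nat.ble 368 i)) (Nat.ble 365 i)) (Bool.rec (motive := fun _ => Nat) (Bool.rec (motive := fun _ => Nat) (Bool.rec (motive := fun _ => Nat) (0x2000050000108) (0x3000050000aff) (Nat.ble 372 i)) (Bool.rec (motive := fun _ => Nat) (0x2000051000b05) (Bool.rec (motive := fun _ => Nat) (0x4000051000d4b) (0x5000051000c6b) (Nat.ble 375 i)) (Nat.ble 374 i)) (Nat.ble 373 i)) (Bool.rec (motive := fun _ => Nat) (Bool.rec (motive := fun _ => Nat) (0x4000052000117) (Bool.rec (motive := fun _ => Nat) (0x100005300079c) (0x3000053000ee6) (Nat.ble 378 i)) (Nat.ble 377 i)) (Bool.rec (motive := fun _ => Nat) (0x4000053000634) (Bool.rec (motive := fun _ => Nat) (0x50000530001a9) (0x10000540000a6) (Nat.ble 381 i)) (Nat.ble 380 i)) (Nat.ble 379 i)) (Nat.ble 376 i)) (Nat.ble 371 i)) (Bool.rec (motive := fun _ => Nat) (Bool.rec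 (motive := fun _ => Nat) (Bool.rec (motive := fun _ => Nat) (Bool.rec (motive := fun _ => Nat) (0x3000054000bf8) (0x50000540007b0) (Nat.ble 383 i)) (Bool.rec (motive := fun _ => Nat) (0x55000216) (Bool.rec (motive := fun _ => Nat) (0x1000055000a4a) (0x2000055000a05) (Nat.ble 386 i)) (Nat.ble 385 i)) (Nat.ble 384 i)) (Bool.rec (motive := fun _ => Nat) (Bool.rec (motive := fun _ => Nat) (0x3000055000135) (Bool.rec (motive := fun _ => Nat) (0x400005500056e) (0x56000570) (Nat.ble 389 i)) (Nat.ble 388 i)) (Bool.rec (motive := fun _ => Nat) (0x300005600079a) (Bool.rec (motive := fun _ => Nat) (0x400005600031e) (0x5000056000856) (Nat.ble 392 i)) (Nat.ble 391 i)) (Nat.ble 390 i)) (Nat.ble 387 i)) (Bool.rec (motive := fun _ => Nat) (Bool.rec (motive := fun _ => Nat) (Bool.rec (motive := fun _ => Nat) (0x1000057000887) (Bool.rec (motive := fun _ => Nat) (0x20000570009b0) (0x300005700090d) (Nat.ble 395 i)) (Nat.ble 394 i)) (Bool.rec (motive := fun _ => Nat) (0x50000570004e2) (Bool.rec (motive := fun _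 => Nat) (0x1000058000dd3) (0x3000058000264) (Nat.ble 398 i)) (Nat.ble 397 i)) (Nat.ble 396 i)) (Bool.rec (motive := fun _ => Nat) (Bool.rec (motive := fun _ => Nat) (0x5000058000eb1) (Bool.rec (motive := fun _ => Nat) (0x59000da3) (0x1000059000318) (Nat.ble 401 i)) (Nat.ble 400 i)) (Bool.rec (motive := fun _ => Nat) (0x3000059000254) (Bool.rec (motive := fun _ => Nat) (0x4000059000eca) (0x400005a0008fb) (Nat.ble 404 i)) (Nat.ble 403 i)) (Nat.ble 402 i)) (Nat.ble 399 i)) (Nat.ble 393 i)) (Nat.ble 382 i))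
noncomputable def C40P_9 (i : Nat) : Nat := (Bool.rec (motive := fun _ => Nat) (Bool.rec (motive := fun _ => Nat) (Bool.rec (motive := fun _ => Nat) (Bool.rec (motive := fun _ => Nat) (Bool.rec (motive := fun _ => Nat) (0x500005a000584) (0x100005b000314) (Nat.ble 406 i)) (Bool.rec (motive := fun _ => Nat) (0x400005b0007fe) (Bool.rec (motive := fun _ => Nat) (0x500005b000ee7) (0x5c00087e) (Nat.ble 409 i)) (Nat.ble 408 i)) (Nat.ble 407 i)) (Bool.rec (motive := fun _ => Nat) (Bool.rec (motive := fun _ => Nat) (0x100005c000b58) (Bool.rec (motive := fun _ => Nat) (0x200005c0006d6) (0x400005c0004a4) (Nat.ble 412 i)) (Nat.ble 411 i)) (Bool.rec (motive := fun _ => Nat) (0x5d00034e) (Bool.rec (motive := fun _ => Nat) (0x300005d0005fc) (0x500005d000451) (Nat.ble 415 i)) (Nat.ble 414 i)) (Nat.ble 413 i)) (Nat.ble 410 i)) (Bool.rec (motive := fun _ => Nat) (Bool.rec (motive := fun _ => Nat) (Bool.rec (motive := fun _ => Nat) (0x5e000323) (0x100005e0008ee) (Nat.ble 417 i)) (Bool.rec (motive := fun _ => Nat)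 (0x400005e000198) (Bool.rec (motive := fun _ => Nat) (0x500005e000cb3) (0x5f000517) (Nat.ble 420 i)) (Nat.ble 419 i)) (Nat.ble 418 i)) (Bool.rec (motive := fun _ => Nat) (Bool.rec (motive := fun _ => Nat) (0x100005f000d91) (Bool.rec (motive := fun _ => Nat) (0x400005f000aab) (0x4000060000319) (Nat.ble 423 i)) (Nat.ble 422 i)) (Bool.rec (motive := fun _ => Nat) (0x61000cc4) (Bool.rec (motive := fun _ => Nat) (0x4000061000dfa) (0x5000061000115) (Nat.ble 426 i)) (Nat.ble 425 i)) (Nat.ble 424 i)) (Nat.ble 421 i)) (Nat.ble 416 i)) (Bool.rec (motive := fun _ => Nat) (Bool.rec (motive := fun _ => Nat) (Bool.rec (motive := fun _ => Nat) (Bool.rec (motive := fun _ => Nat) (0x62000b18) (0x4000062000d3c) (Nat.ble 428 i)) (Bool.rec (motive := fun _ => Nat) (0x50000620005b5) (Bool.rec (motive := fun _ => Nat) (0x63000824) (0x10000630008ef) (Nat.ble 431 i)) (Nat.ble 430 i)) (Nat.ble 429 i)) (Bool.rec (motive := fun _ => Nat) (Bool.rec (motive := fun _ => Nat) (0x300006300077e) (Bool.rec (motive := fun _ =>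 Nat) (0x400006300084b) (0x50000630002f5) (Nat.ble 434 i)) (Nat.ble 433 i)) (Bool.rec (motive := fun _ => Nat) (0x640009f4) (Bool.rec (motive := fun _ => Nat) (0x1000064000270) (0x30000640008b1) (Nat.ble 437 i)) (Nat.ble 436 i)) (Nat.ble 435 i)) (Nat.ble 432 i)) (Bool.rec (motive := fun _ => Nat) (Bool.rec (motive := fun _ => Nat) (Bool.rec (motive := fun _ => Nat) (0x4000064000f14) (Bool.rec (motive := fun _ => Nat) (0x4000065000454) (0x4000066000c24) (Nat.ble 440 i)) (Nat.ble 439 i)) (Bool.rec (motive := fun _ => Nat) (0x50000660007d6) (Bool.rec (motive := fun _ => Nat) (0x4000067000da8) (0x5000067000258) (Nat.ble 443 i)) (Nat.ble 442 i)) (Nat.ble 441 i)) (Bool.rec (motive := fun _ => Nat) (Bool.rec (motive := fun _ => Nat) (0x3000068000072) (Bool.rec (motive := fun _ => Nat) (0x40000680003cb) (0x50000680008ff) (Nat.ble 446 i)) (Nat.ble 445 i)) (Bool.rec (motive := fun _ => Nat) (0x69000120) (Bool.rec (motive := fun _ => Nat) (0x10000690005d9) (0x2000069000387) (Nat.ble 449 i)) (Nat.ble 448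 i)) (Nat.ble 447 i)) (Nat.ble 444 i)) (Nat.ble 438 i)) (Nat.ble 427 i))
noncomputable def C40P_10 (i : Nat) : Nat := (Bool.rec (motive := fun _ => Nat) (Bool.rec (motive := fun _ => Nat) (Bool.rec (motive := fun _ => Nat) (Bool.rec (motive := fun _ => Nat) (Bool.rec (motive := fun _ => Nat) (0x300006900050a) (0x4000069000de5) (Nat.ble 451 i)) (Bool.rec (motive := fun _ => Nat) (0x400006a000f0d) (Bool.rec (motive := fun _ => Nat) (0x300006b000907) (0x400006b000b6a) (Nat.ble 454 i)) (Nat.ble 453 i)) (Nat.ble 452 i)) (Bool.rec (motive := fun _ => Nat) (Bool.rec (motive := fun _ => Nat) (0x500006b00066a) (Bool.rec (motive := fun _ => Nat) (0x300006c000668) (0x400006c0004ca) (Nat.ble 457 i)) (Nat.ble 456 i)) (Bool.rec (motive := fun _ => Nat) (0x500006c000eda) (Bool.rec (motive := fun _ => Nat) (0x400006d000502) (0x500006d000233) (Nat.ble 460 i)) (Nat.ble 459 i)) (Nat.ble 458 i)) (Nat.ble 455 i)) (Bool.rec (motive := fun _ => Nat) (Bool.rec (motive := fun _ => Nat) (Bool.rec (motive := fun _ => Nat)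 (0x6e000bc7) (0x100006e0007b8) (Nat.ble 462 i)) (Bool.rec (motive := fun _ => Nat) (0x300006e0007fb) (Bool.rec (motive := fun _ => Nat) (0x400006e0000b4) (0x6f000dbe) (Nat.ble 465 i)) (Nat.ble 464 i)) (Nat.ble 463 i)) (Bool.rec (motive := fun _ => Nat) (Bool.rec (motive := fun _ => Nat) (0x200006f000991) (Bool.rec (motive := fun _ => Nat) (0x400006f00088b) (0x1000070000b89) (Nat.ble 468 i)) (Nat.ble 467 i)) (Bool.rec (motive := fun _ => Nat) (0x2000070000d36) (Bool.rec (motive := fun _ => Nat) (0x4000070000e64) (0x5000070000674) (Nat.ble 471 i)) (Nat.ble 470 i)) (Nat.ble 469 i)) (Nat.ble 466 i)) (Nat.ble 461 i)) (Bool.rec (motive := fun _ => Nat) (Bool.rec (motive := fun _ => Nat) (Bool.rec (motive := fun _ => Nat) (Bool.rec (motive := fun _ => Nat) (0x400007100035b) (0x500007100089c) (Nat.ble 473 i)) (Bool.rec (motive := fun _ => Nat) (0x40000720001cc) (Bool.rec (motive := fun _ => Nat) (0x4000073000a58) (0x740005f6) (Nat.ble 476 i)) (Nat.ble 475 i)) (Nat.ble 474 i)) (Bool.rec (motive := fun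 _ => Nat) (Bool.rec (motive := fun _ => Nat) (0x100007400015e) (Bool.rec (motive := fun _ => Nat) (0x3000074000b2c) (0x4000074000896) (Nat.ble 479 i)) (Nat.ble 478 i)) (Bool.rec (motive := fun _ => Nat) (0x5000074000bb4) (Bool.rec (motive := fun _ => Nat) (0x75000593) (0x1000075000b62) (Nat.ble 482 i)) (Nat.ble 481 i)) (Nat.ble 480 i)) (Nat.ble 477 i)) (Bool.rec (motive := fun _ => Nat) (Bool.rec (motive := fun _ => Nat) (Bool.rec (motive := fun _ => Nat) (0x200007500050c) (Bool.rec (motive := fun _ => Nat) (0x300007500010c) (0x76000250) (Nat.ble 485 i)) (Nat.ble 484 i)) (Bool.rec (motive := fun _ => Nat) (0x10000760003b3) (Bool.rec (motive := fun _ => Nat) (0x2000076000573) (0x3000076000205) (Nat.ble 488 i)) (Nat.ble 487 i)) (Nat.ble 486 i)) (Bool.rec (motive := fun _ => Nat) (Bool.rec (motive := fun _ => Nat) (0x4000076000ec4) (Bool.rec (motive := fun _ => Nat) (0x5000076000b02) (0x1000077000158) (Nat.ble 491 i)) (Nat.ble 490 i)) (Bool.rec (motive := fun _ => Nat) (0x200007700064e) (Bool.rec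 (motive := fun _ => Nat) (0x50000770005a3) (0x78000565) (Nat.ble 494 i)) (Nat.ble 493 i)) (Nat.ble 492 i)) (Nat.ble 489 i)) (Nat.ble 483 i)) (Nat.ble 472 i))
noncomputable def C40P_11 (i : Nat) : Nat := (Bool.rec (motive := fun _ => Nat) (Bool.rec (motive := fun _ => Nat) (Bool.rec (motive := fun _ => Nat) (Bool.rec (motive := fun _ => Nat) (Bool.rec (motive := fun _ => Nat) (0x10000780009f5) (0x2000078000a50) (Nat.ble 496 i)) (Bool.rec (motive := fun _ => Nat) (0x3000078000a7f) (Bool.rec (motive := fun _ => Nat) (0x5000078000c30) (0x79000e93) (Nat.ble 499 i)) (Nat.ble 498 i)) (Nat.ble 497 i)) (Bool.rec (motive := fun _ => Nat) (Bool.rec (motive := fun _ => Nat) (0x1000079000a75) (Bool.rec (motive := fun _ => Nat) (0x30000790000db) (0x5000079000f2f) (Nat.ble 502 i)) (Nat.ble 501 i)) (Bool.rec (motive := fun _ => Nat) (0x7a000415) (Bool.rec (motive := fun _ => Nat) (0x100007a000782) (0x200007a0001c2) (Nat.ble 505 i)) (Nat.ble 504 i)) (Nat.ble 503 i)) (Nat.ble 500 i)) (Bool.rec (motive := fun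 _ => Nat) (Bool.rec (motive := fun _ => Nat) (Bool.rec (motive := fun _ => Nat) (0x300007a000c56) (0x400007a0000d7) (Nat.ble 507 i)) (Bool.rec (motive := fun _ => Nat) (0x100007b000728) (Bool.rec (motive := fun _ => Nat) (0x200007b00025a) (0x300007b00008b) (Nat.ble 510 i)) (Nat.ble 509 i)) (Nat.ble 508 i)) (Bool.rec (motive := fun _ => Nat) (Bool.rec (motive := fun _ => Nat) (0x400007b00017a) (Bool.rec (motive := fun _ => Nat) (0x500007b0002bd) (0x100007c0008a2) (Nat.ble 513 i)) (Nat.ble 512 i)) (Bool.rec (motive := fun _ => Nat) (0x200007c0008c0) (Bool.rec (motive := fun _ => Nat) (0x300007c00080b) (0x400007c000ce2) (Nat.ble 516 i)) (Nat.ble 515 i)) (Nat.ble 514 i)) (Nat.ble 511 i)) (Nat.ble 506 i)) (Bool.rec (motive := fun _ => Nat) (Bool.rec (motive := fun _ => Nat) (Bool.rec (motive := fun _ => Nat) (Bool.rec (motive := fun _ => Nat) (0x7d000eb2) (0x100007d000104) (Nat.ble 518 i)) (Bool.rec (motive := fun _ => Nat) (0x200007d0003b7) (Bool.rec (motive := fun _ => Nat) (0x400007d000313) (0x500007d00007e)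 (Nat.ble 521 i)) (Nat.ble 520 i)) (Nat.ble 519 i)) (Bool.rec (motive := fun _ => Nat) (Bool.rec (motive := fun _ => Nat) (0x7e0009c2) (Bool.rec (motive := fun _ => Nat) (0x500007e000609) (0x7f000d76) (Nat.ble 524 i)) (Nat.ble 523 i)) (Bool.rec (motive := fun _ => Nat) (0x100007f0008d3) (Bool.rec (motive := fun _ => Nat) (0x300007f000bd5) (0x400007f000498) (Nat.ble 527 i)) (Nat.ble 526 i)) (Nat.ble 525 i)) (Nat.ble 522 i)) (Bool.rec (motive := fun _ => Nat) (Bool.rec (motive := fun _ => Nat) (Bool.rec (motive := fun _ => Nat) (0x500007f000535) (Bool.rec (motive := fun _ => Nat) (0x4000080000742) (0x5000080000268) (Nat.ble 530 i)) (Nat.ble 529 i)) (Bool.rec (motive := fun _ => Nat) (0x4000081000b30) (Bool.rec (motive := fun _ => Nat) (0x5000081000ad2) (0x30000820000d3) (Nat.ble 533 i)) (Nat.ble 532 i)) (Nat.ble 531 i)) (Bool.rec (motive := fun _ => Nat) (Bool.rec (motive := fun _ => Nat) (0x4000082000d1c) (Bool.rec (motive := fun _ => Nat) (0x100008300077f) (0x400008300031b) (Nat.ble 536 i)) (Nat.ble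 535 i)) (Bool.rec (motive := fun _ => Nat) (0x4000084000532) (Bool.rec (motive := fun _ => Nat) (0x50000840009e5) (0x85000b55) (Nat.ble 539 i)) (Nat.ble 538 i)) (Nat.ble 537 i)) (Nat.ble 534 i)) (Nat.ble 528 i)) (Nat.ble 517 i))
noncomputable def C40P_12 (i : Nat) : Nat := (Bool.rec (motive := fun _ => Nat) (Bool.rec (motive := fun _ => Nat) (Bool.rec (motive := fun _ => Nat) (Bool.rec (motive := fun _ => Nat) (Bool.rec (motive := fun _ => Nat) (0x3000085000b9e) (0x4000085000633) (Nat.ble 541 i)) (Bool.rec (motive := fun _ => Nat) (0x3000086000b68) (Bool.rec (motive := fun _ => Nat) (0x4000086000e2a) (0x50000860008e9) (Nat.ble 544 i)) (Nat.ble 543 i)) (Nat.ble 542 i)) (Bool.rec (motive := fun _ => Nat) (Bool.rec (motive := fun _ => Nat) (0x3000087000068) (Bool.rec (motive := fun _ => Nat) (0x4000087000086) (0x4000088000a0e) (Nat.ble 547 i)) (Nat.ble 546 i)) (Bool.rec (motive := fun _ => Nat) (0x5000088000255) (Bool.rec (motive := fun _ => Nat) (0x4000089000c60) (0x8a00039a) (Nat.ble 550 i))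 (Nat.ble 549 i)) (Nat.ble 548 i)) (Nat.ble 545 i)) (Bool.rec (motive := fun _ => Nat) (Bool.rec (motive := fun _ => Nat) (Bool.rec (motive := fun _ => Nat) (0x100008a00029a) (0x300008a000b4e) (Nat.ble 552 i)) (Bool.rec (motive := fun _ => Nat) (0x500008a0008b8) (Bool.rec (motive := fun _ => Nat) (0x8b00093d) (0x200008b000d7a) (Nat.ble 555 i)) (Nat.ble 554 i)) (Nat.ble 553 i)) (Bool.rec (motive := fun _ => Nat) (Bool.rec (motive := fun _ => Nat) (0x400008b00016a) (Bool.rec (motive := fun _ => Nat) (0x400008c000096) (0x500008c000eb0) (Nat.ble 558 i)) (Nat.ble 557 i)) (Bool.rec (motive := fun _ => Nat) (0x500008d00063f) (Bool.rec (motive := fun _ => Nat) (0x400008e00040f) (0x8f000d52) (Nat.ble 561 i)) (Nat.ble 560 i)) (Nat.ble 559 i)) (Nat.ble 556 i)) (Nat.ble 551 i)) (Bool.rec (motive := fun _ => Nat) (Bool.rec (motive := fun _ => Nat) (Bool.rec (motive := fun _ => Nat) (Bool.rec (motive := fun _ => Nat) (0x100008f000322) (0x300008f000028) (Nat.ble 563 i)) (Bool.rec (motive := fun _ => Nat) (0x400008f000db4)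 (Bool.rec (motive := fun _ => Nat) (0x500008f000b12) (0x90000692) (Nat.ble 566 i)) (Nat.ble 565 i)) (Nat.ble 564 i)) (Bool.rec (motive := fun _ => Nat) (Bool.rec (motive := fun _ => Nat) (0x20000900007b4) (Bool.rec (motive := fun _ => Nat) (0x3000090000a33) (0x400009000058d) (Nat.ble 569 i)) (Nat.ble 568 i)) (Bool.rec (motive := fun _ => Nat) (0x910003e5) (Bool.rec (motive := fun _ => Nat) (0x100009100082f) (0x2000091000a0f) (Nat.ble 572 i)) (Nat.ble 571 i)) (Nat.ble 570 i)) (Nat.ble 567 i)) (Bool.rec (motive := fun _ => Nat) (Bool.rec (motive := fun _ => Nat) (Bool.rec (motive := fun _ => Nat) (0x3000091000af5) (Bool.rec (motive := fun _ => Nat) (0x40000910002b1) (0x5000091000a31) (Nat.ble 575 i)) (Nat.ble 574 i)) (Bool.rec (motive := fun _ => Nat) (0x1000092000425) (Bool.rec (motive := fun _ => Nat) (0x20000920007e6) (0x30000920000d9) (Nat.ble 578 i)) (Nat.ble 577 i)) (Nat.ble 576 i)) (Bool.rec (motive := fun _ => Nat) (Bool.rec (motive := fun _ => Nat) (0x50000920007ec) (Bool.rec (motive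 := fun _ => Nat) (0x9300073a) (0x94000bd2) (Nat.ble 581 i)) (Nat.ble 580 i)) (Bool.rec (motive := fun _ => Nat) (0x10000940006ad) (Bool.rec (motive := fun _ => Nat) (0x5000094000edb) (0x95000c90) (Nat.ble 584 i)) (Nat.ble 583 i)) (Nat.ble 582 i)) (Nat.ble 579 i)) (Nat.ble 573 i)) (Nat.ble 562 i))
noncomputable def C40P_13 (i : Nat) : Nat := (Bool.rec (motive := fun _ => Nat) (Bool.rec (motive := fun _ => Nat) (Bool.rec (motive := fun _ => Nat) (Bool.rec (motive := fun _ => Nat) (Bool.rec (motive := fun _ => Nat) (0x1000095000811) (0x2000095000e9e) (Nat.ble 586 i)) (Bool.rec (motive := fun _ => Nat) (0x3000095000b1b) (Bool.rec (motive := fun _ => Nat) (0x4000095000afc) (0x96000903) (Nat.ble 589 i)) (Nat.ble 588 i)) (Nat.ble 587 i)) (Bool.rec (motive := fun _ => Nat) (Bool.rec (motive := fun _ => Nat) (0x100009600032e) (Bool.rec (motive := fun _ => Nat) (0x30000960003a8) (0x4000096000d13) (Nat.ble 592 i)) (Nat.ble 591 i)) (Bool.rec (motive := fun _ => Nat) (0x1000097000619) (Bool.rec (motive :=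 fun _ => Nat) (0x2000097000c3a) (0x30000970006f5) (Nat.ble 595 i)) (Nat.ble 594 i)) (Nat.ble 593 i)) (Nat.ble 590 i)) (Bool.rec (motive := fun _ => Nat) (Bool.rec (motive := fun _ => Nat) (Bool.rec (motive := fun _ => Nat) (0x4000097000770) (0x98000040) (Nat.ble 597 i)) (Bool.rec (motive := fun _ => Nat) (0x1000098000b50) (Bool.rec (motive := fun _ => Nat) (0x2000098000b96) (0x40000980003de) (Nat.ble 600 i)) (Nat.ble 599 i)) (Nat.ble 598 i)) (Bool.rec (motive := fun _ => Nat) (Bool.rec (motive := fun _ => Nat) (0x500009800007f) (Bool.rec (motive := fun _ => Nat) (0x100009900042e) (0x3000099000efe) (Nat.ble 603 i)) (Nat.ble 602 i)) (Bool.rec (motive := fun _ => Nat) (0x4000099000ab0) (Bool.rec (motive := fun _ => Nat) (0x9a00046c) (0x100009a000aa9) (Nat.ble 606 i)) (Nat.ble 605 i)) (Nat.ble 604 i)) (Nat.ble 601 i)) (Nat.ble 596 i)) (Bool.rec (motive := fun _ => Nat) (Bool.rec (motive := fun _ => Nat) (Bool.rec (motive := fun _ => Nat) (Bool.rec (motive := fun _ => Nat) (0x300009a000256) (0x400009a000aee)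 (Nat.ble 608 i)) (Bool.rec (motive := fun _ => Nat) (0x9b000a10) (Bool.rec (motive := fun _ => Nat) (0x100009b00029f) (0x200009b0000df) (Nat.ble 611 i)) (Nat.ble 610 i)) (Nat.ble 609 i)) (Bool.rec (motive := fun _ => Nat) (Bool.rec (motive := fun _ => Nat) (0x400009b0001c3) (Bool.rec (motive := fun _ => Nat) (0x500009b0001ba) (0x100009c000648) (Nat.ble 614 i)) (Nat.ble 613 i)) (Bool.rec (motive := fun _ => Nat) (0x200009c000b47) (Bool.rec (motive := fun _ => Nat) (0x400009c000e02) (0x500009c0000ed) (Nat.ble 617 i)) (Nat.ble 616 i)) (Nat.ble 615 i)) (Nat.ble 612 i)) (Bool.rec (motive := fun _ => Nat) (Bool.rec (motive := fun _ => Nat) (Bool.rec (motive := fun _ => Nat) (0x9d000821) (Bool.rec (motive := fun _ => Nat) (0x9e000cb0) (0x100009e000df3) (Nat.ble 620 i)) (Nat.ble 619 i)) (Bool.rec (motive := fun _ => Nat) (0x200009e000bba) (Bool.rec (motive := fun _ => Nat) (0x400009e000292) (0x100009f000854) (Nat.ble 623 i)) (Nat.ble 622 i)) (Nat.ble 621 i)) (Bool.rec (motive := fun _ => Nat) (Bool.rec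 (motive := fun _ => Nat) (0x300009f00090a) (Bool.rec (motive := fun _ => Nat) (0x500009f0008c9) (0xa0000810) (Nat.ble 626 i)) (Nat.ble 625 i)) (Bool.rec (motive := fun _ => Nat) (0x20000a0000f04) (Bool.rec (motive := fun _ => Nat) (0x30000a0000bc2) (0x10000a1000bda) (Nat.ble 629 i)) (Nat.ble 628 i)) (Nat.ble 627 i)) (Nat.ble 624 i)) (Nat.ble 618 i)) (Nat.ble 607 i))
noncomputable def C40P_14 (i : Nat) : Nat := (Bool.rec (motive := fun _ => Nat) (Bool.rec (motive := fun _ => Nat) (Bool.rec (motive := fun _ => Nat) (Bool.rec (motive := fun _ => Nat) (Bool.rec (motive := fun _ => Nat) (0x20000a1000c2f) (0x50000a1000875) (Nat.ble 631 i)) (Bool.rec (motive := fun _ => Nat) (0x20000a20008e3) (Bool.rec (motive := fun _ => Nat) (0xa30005b9) (0x20000a300078e) (Nat.ble 634 i)) (Nat.ble 633 i)) (Nat.ble 632 i)) (Bool.rec (motive := fun _ => Nat) (Bool.rec (motive := fun _ => Nat) (0x40000a3000715) (Bool.rec (motive := fun _ => Nat) (0xa4000a61) (0x10000a4000c70) (Nat.ble 637 i)) (Nat.ble 636 i)) (Bool.rec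 (motive := fun _ => Nat) (0x20000a4000c6f) (Bool.rec (motive := fun _ => Nat) (0x30000a40006d9) (0x40000a4000174) (Nat.ble 640 i)) (Nat.ble 639 i)) (Nat.ble 638 i)) (Nat.ble 635 i)) (Bool.rec (motive := fun _ => Nat) (Bool.rec (motive := fun _ => Nat) (Bool.rec (motive := fun _ => Nat) (0x10000a5000acb) (0xa7000d10) (Nat.ble 642 i)) (Bool.rec (motive := fun _ => Nat) (0x10000a700006a) (Bool.rec (motive := fun _ => Nat) (0x50000a7000262) (0x10000a8000354) (Nat.ble 645 i)) (Nat.ble 644 i)) (Nat.ble 643 i)) (Bool.rec (motive := fun _ => Nat) (Bool.rec (motive := fun _ => Nat) (0x30000a8000bec) (Bool.rec (motive := fun _ => Nat) (0x40000a80004fa) (0x50000a80004b4) (Nat.ble 648 i)) (Nat.ble 647 i)) (Bool.rec (motive := fun _ => Nat) (0xa9000a41) (Bool.rec (motive := fun _ => Nat) (0x10000a900088a) (0x30000a9000511) (Nat.ble 651 i)) (Nat.ble 650 i)) (Nat.ble 649 i)) (Nat.ble 646 i)) (Nat.ble 641 i)) (Bool.rec (motive := fun _ => Nat) (Bool.rec (motive := fun _ => Nat) (Bool.rec (motive := fun _ =>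 Nat) (Bool.rec (motive := fun _ => Nat) (0x40000a9000a1c) (0xaa0001b7) (Nat.ble 653 i)) (Bool.rec (motive := fun _ => Nat) (0x10000aa0008ad) (Bool.rec (motive := fun _ => Nat) (0x20000aa000147) (0x10000ab0001dd) (Nat.ble 656 i)) (Nat.ble 655 i)) (Nat.ble 654 i)) (Bool.rec (motive := fun _ => Nat) (Bool.rec (motive := fun _ => Nat) (0x20000ab0000c8) (Bool.rec (motive := fun _ => Nat) (0xac000bf4) (0x10000ac0009f6) (Nat.ble 659 i)) (Nat.ble 658 i)) (Bool.rec (motive := fun _ => Nat) (0x20000ac000251) (Bool.rec (motive := fun _ => Nat) (0x50000ac000b1e) (0xad000b71) (Nat.ble 662 i)) (Nat.ble 661 i)) (Nat.ble 660 i)) (Nat.ble 657 i)) (Bool.rec (motive := fun _ => Nat) (Bool.rec (motive := fun _ => Nat) (Bool.rec (motive := fun _ => Nat) (0x10000ad000cc9) (Bool.rec (motive := fun _ => Nat) (0x20000ad000d5c) (0x30000ad000d19) (Nat.ble 665 i)) (Nat.ble 664 i)) (Bool.rec (motive := fun _ => Nat) (0x40000ad0008a0) (Bool.rec (motive := fun _ => Nat) (0x10000ae000677) (0x30000ae000e30) (Nat.ble 668 i))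 (Nat.ble 667 i)) (Nat.ble 666 i)) (Bool.rec (motive := fun _ => Nat) (Bool.rec (motive := fun _ => Nat) (0x50000ae000ce0) (Bool.rec (motive := fun _ => Nat) (0x30000af00012c) (0x50000af000b1d) (Nat.ble 671 i)) (Nat.ble 670 i)) (Bool.rec (motive := fun _ => Nat) (0xb0000d69) (Bool.rec (motive := fun _ => Nat) (0x10000b0000e1c) (0x20000b00002a4) (Nat.ble 674 i)) (Nat.ble 673 i)) (Nat.ble 672 i)) (Nat.ble 669 i)) (Nat.ble 663 i)) (Nat.ble 652 i))
noncomputable def C40P_15 (i : Nat) : Nat := (Bool.rec (motive := fun _ => Nat) (Bool.rec (motive := fun _ => Nat) (Bool.rec (motive := fun _ => Nat) (Bool.rec (motive := fun _ => Nat) (Bool.rec (motive := fun _ => Nat) (0x50000b00006cb) (0x10000b1000915) (Nat.ble 676 i)) (Bool.rec (motive := fun _ => Nat) (0x40000b1000676) (Bool.rec (motive := fun _ => Nat) (0x50000b100086f) (0x10000b2000099) (Nat.ble 679 i)) (Nat.ble 678 i)) (Nat.ble 677 i)) (Bool.rec (motive := fun _ => Nat) (Bool.rec (motive := fun _ => Nat) (0x30000b2000877) (Bool.rec (motive := fun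 _ => Nat) (0xb30009aa) (0x10000b3000891) (Nat.ble 682 i)) (Nat.ble 681 i)) (Bool.rec (motive := fun _ => Nat) (0x20000b30003bd) (Bool.rec (motive := fun _ => Nat) (0x40000b300031a) (0x10000b400076b) (Nat.ble 685 i)) (Nat.ble 684 i)) (Nat.ble 683 i)) (Nat.ble 680 i)) (Bool.rec (motive := fun _ => Nat) (Bool.rec (motive := fun _ => Nat) (Bool.rec (motive := fun _ => Nat) (0x20000b4000f19) (0x30000b4000c84) (Nat.ble 687 i)) (Bool.rec (motive := fun _ => Nat) (0x40000b400016e) (Bool.rec (motive := fun _ => Nat) (0xb5000236) (0x10000b50009e7) (Nat.ble 690 i)) (Nat.ble 689 i)) (Nat.ble 688 i)) (Bool.rec (motive := fun _ => Nat) (Bool.rec (motive := fun _ => Nat) (0x20000b5000e9c) (Bool.rec (motive := fun _ => Nat) (0x30000b500078f) (0xb60000eb) (Nat.ble 693 i)) (Nat.ble 692 i)) (Bool.rec (motive := fun _ => Nat) (0x10000b600057f) (Bool.rec (motive := fun _ => Nat) (0x20000b6000eef) (0x40000b6000e89) (Nat.ble 696 i)) (Nat.ble 695 i)) (Nat.ble 694 i)) (Nat.ble 691 i)) (Nat.ble 686 i)) (Bool.rec (motive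 := fun _ => Nat) (Bool.rec (motive := fun _ => Nat) (Bool.rec (motive := fun _ => Nat) (Bool.rec (motive := fun _ => Nat) (0x50000b6000d25) (0xb70005ad) (Nat.ble 698 i)) (Bool.rec (motive := fun _ => Nat) (0x10000b700059b) (Bool.rec (motive := fun _ => Nat) (0x30000b7000c58) (0x40000b7000356) (Nat.ble 701 i)) (Nat.ble 700 i)) (Nat.ble 699 i)) (Bool.rec (motive := fun _ => Nat) (Bool.rec (motive := fun _ => Nat) (0xb800056c) (Bool.rec (motive := fun _ => Nat) (0x20000b80001d4) (0x40000b8000a3a) (Nat.ble 704 i)) (Nat.ble 703 i)) (Bool.rec (motive := fun _ => Nat) (0x10000b900089d) (Bool.rec (motive := fun _ => Nat) (0x20000b9000d48) (0x40000b9000d9f) (Nat.ble 707 i)) (Nat.ble 706 i)) (Nat.ble 705 i)) (Nat.ble 702 i)) (Bool.rec (motive := fun _ => Nat) (Bool.rec (motive := fun _ => Nat) (Bool.rec (motive := fun _ => Nat) (0x20000ba000ea1) (Bool.rec (motive := fun _ => Nat) (0xbb000187) (0x20000bb000a92) (Nat.ble 710 i)) (Nat.ble 709 i)) (Bool.rec (motive := fun _ => Nat) (0x30000bb000b20) (Bool.rec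 (motive := fun _ => Nat) (0x40000bb000c3f) (0x50000bb00001e) (Nat.ble 713 i)) (Nat.ble 712 i)) (Nat.ble 711 i)) (Bool.rec (motive := fun _ => Nat) (Bool.rec (motive := fun _ => Nat) (0xbc000e85) (Bool.rec (motive := fun _ => Nat) (0x30000bc000208) (0xbd0000dc) (Nat.ble 716 i)) (Nat.ble 715 i)) (Bool.rec (motive := fun _ => Nat) (0x20000bd000044) (Bool.rec (motive := fun _ => Nat) (0x30000bd00040b) (0x40000bd0003ea) (Nat.ble 719 i)) (Nat.ble 718 i)) (Nat.ble 717 i)) (Nat.ble 714 i)) (Nat.ble 708 i)) (Nat.ble 697 i))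
noncomputable def C40P_16 (i : Nat) : Nat := (Bool.rec (motive := fun _ => Nat) (Bool.rec (motive := fun _ => Nat) (Bool.rec (motive := fun _ => Nat) (Bool.rec (motive := fun _ => Nat) (Bool.rec (motive := fun _ => Nat) (0xbe00057a) (0x10000be000d87) (Nat.ble 721 i)) (Bool.rec (motive := fun _ => Nat) (0x20000be000c3e) (Bool.rec (motive := fun _ => Nat) (0x30000be0006de) (0x40000be00062e) (Nat.ble 724 i)) (Nat.ble 723 i)) (Nat.ble 722 i)) (Bool.rec (motive := fun _ => Nat) (Bool.rec (motive := fun _ => Nat) (0x50000be000906) (Bool.rec (motive := fun _ => Nat) (0x20000bf000eb6) (0x30000bf0003c5) (Nat.ble 727 i)) (Nat.ble 726 i)) (Bool.rec (motive := fun _ => Nat) (0x10000c0000b9a) (Bool.rec (motive := fun _ => Nat) (0x20000c0000d74) (0x40000c0000e04) (Nat.ble 730 i)) (Nat.ble 729 i)) (Nat.ble 728 i)) (Nat.ble 725 i)) (Bool.rec (motive := fun _ => Nat) (Bool.rec (motive := fun _ => Nat) (Bool.rec (motive := fun _ => Nat) (0xc1000773) (0x10000c1000a94) (Nat.ble 732 i)) (Bool.rec (motive := fun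 _ => Nat) (0x30000c10004ed) (Bool.rec (motive := fun _ => Nat) (0x40000c1000bd9) (0x50000c1000401) (Nat.ble 735 i)) (Nat.ble 734 i)) (Nat.ble 733 i)) (Bool.rec (motive := fun _ => Nat) (Bool.rec (motive := fun _ => Nat) (0xc2000e2f) (Bool.rec (motive := fun _ => Nat) (0x40000c2000996) (0x20000c30003c7) (Nat.ble 738 i)) (Nat.ble 737 i)) (Bool.rec (motive := fun _ => Nat) (0x40000c3000616) (Bool.rec (motive := fun _ => Nat) (0x10000c40007bb) (0x40000c4000ebc) (Nat.ble 741 i)) (Nat.ble 740 i)) (Nat.ble 739 i)) (Nat.ble 736 i)) (Nat.ble 731 i)) (Bool.rec (motive := fun _ => Nat) (Bool.rec (motive := fun _ => Nat) (Bool.rec (motive := fun _ => Nat) (Bool.rec (motive := fun _ => Nat) (0xc5000691) (0x10000c500097e) (Nat.ble 743 i)) (Bool.rec (motive := fun _ => Nat) (0x40000c5000b54) (Bool.rec (motive := fun _ => Nat) (0x10000c60007e0) (0x20000c600079d) (Nat.ble 746 i)) (Nat.ble 745 i)) (Nat.ble 744 i)) (Bool.rec (motive := fun _ => Nat) (Bool.rec (motive := fun _ => Nat) (0x30000c6000c8b) (Bool.rec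 (motive := fun _ => Nat) (0x40000c6000cc0) (0xc70006e9) (Nat.ble 749 i)) (Nat.ble 748 i)) (Bool.rec (motive := fun _ => Nat) (0x10000c7000844) (Bool.rec (motive := fun _ => Nat) (0x30000c7000445) (0x40000c7000e7d) (Nat.ble 752 i)) (Nat.ble 751 i)) (Nat.ble 750 i)) (Nat.ble 747 i)) (Bool.rec (motive := fun _ => Nat) (Bool.rec (motive := fun _ => Nat) (Bool.rec (motive := fun _ => Nat) (0xc8000763) (Bool.rec (motive := fun _ => Nat) (0x40000c8000ee9) (0x10000c9000d38) (Nat.ble 755 i)) (Nat.ble 754 i)) (Bool.rec (motive := fun _ => Nat) (0x30000c90006e1) (Bool.rec (motive := fun _ => Nat) (0x40000c9000812) (0x50000ca000245) (Nat.ble 758 i)) (Nat.ble 757 i)) (Nat.ble 756 i)) (Bool.rec (motive := fun _ => Nat) (Bool.rec (motive := fun _ => Nat) (0xcc00037c) (Bool.rec (motive := fun _ => Nat) (0x10000cc000b66) (0x30000cc000e4f) (Nat.ble 761 i)) (Nat.ble 760 i)) (Bool.rec (motive := fun _ => Nat) (0x50000cc000146) (Bool.rec (motive := fun _ => Nat) (0xcd0009e4) (0x10000cd00040c) (Nat.ble 764 i)) (Nat.ble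 763 i)) (Nat.ble 762 i)) (Nat.ble 759 i)) (Nat.ble 753 i)) (Nat.ble 742 i))
noncomputable def C40P_17 (i : Nat) : Nat := (Bool.rec (motive := fun _ => Nat) (Bool.rec (motive := fun _ => Nat) (Bool.rec (motive := fun _ => Nat) (Bool.rec (motive := fun _ => Nat) (Bool.rec (motive := fun _ => Nat) (0x20000cd0001ce) (0x30000cd000800) (Nat.ble 766 i)) (Bool.rec (motive := fun _ => Nat) (0x40000cd000647) (Bool.rec (motive := fun _ => Nat) (0x40000ce0008e8) (0x50000ce000937) (Nat.ble 769 i)) (Nat.ble 768 i)) (Nat.ble 767 i)) (Bool.rec (motive := fun _ => Nat) (Bool.rec (motive := fun _ => Nat) (0xcf000b5d) (Bool.rec (motive := fun _ => Nat) (0x20000cf000a8f) (0x50000cf000070) (Nat.ble 772 i)) (Nat.ble 771 i)) (Bool.rec (motive := fun _ => Nat) (0x30000d0000367) (Bool.rec (motive := fun _ => Nat) (0x40000d000047f) (0x50000d00006b0) (Nat.ble 775 i)) (Nat.ble 774 i)) (Nat.ble 773 i)) (Nat.ble 770 i)) (Bool.rec (motive := fun _ => Nat) (Bool.rec (motive := fun _ => Nat) (Bool.rec (motive := fun _ => Nat)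 (0x50000d1000539) (0x10000d20003d8) (Nat.ble 777 i)) (Bool.rec (motive := fun _ => Nat) (0x40000d2000e08) (Bool.rec (motive := fun _ => Nat) (0x50000d20000cd) (0xd3000999) (Nat.ble 780 i)) (Nat.ble 779 i)) (Nat.ble 778 i)) (Bool.rec (motive := fun _ => Nat) (Bool.rec (motive := fun _ => Nat) (0x40000d300019e) (Bool.rec (motive := fun _ => Nat) (0x50000d300046b) (0x40000d400077d) (Nat.ble 783 i)) (Nat.ble 782 i)) (Bool.rec (motive := fun _ => Nat) (0x10000d50002cd) (Bool.rec (motive := fun _ => Nat) (0x20000d50004dd) (0x30000d500078b) (Nat.ble 786 i)) (Nat.ble 785 i)) (Nat.ble 784 i)) (Nat.ble 781 i)) (Nat.ble 776 i)) (Bool.rec (motive := fun _ => Nat) (Bool.rec (motive := fun _ => Nat) (Bool.rec (motive := fun _ => Nat) (Bool.rec (motive := fun _ => Nat) (0x40000d5000c1f) (0x20000d600074b) (Nat.ble 788 i)) (Bool.rec (motive := fun _ => Nat) (0x40000d6000951) (Bool.rec (motive := fun _ => Nat) (0x20000d70005be) (0x30000d7000c09) (Nat.ble 791 i)) (Nat.ble 790 i)) (Nat.ble 789 i)) (Bool.rec (motive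 := fun _ => Nat) (Bool.rec (motive := fun _ => Nat) (0x40000d700034d) (Bool.rec (motive := fun _ => Nat) (0x50000d70000e8) (0x40000d800044d) (Nat.ble 794 i)) (Nat.ble 793 i)) (Bool.rec (motive := fun _ => Nat) (0x50000d8000a0b) (Bool.rec (motive := fun _ => Nat) (0xd9000bb2) (0x10000d9000b67) (Nat.ble 797 i)) (Nat.ble 796 i)) (Nat.ble 795 i)) (Nat.ble 792 i)) (Bool.rec (motive := fun _ => Nat) (Bool.rec (motive := fun _ => Nat) (Bool.rec (motive := fun _ => Nat) (0x40000d90001ff) (Bool.rec (motive := fun _ => Nat) (0x50000d9000e62) (0x10000da000192) (Nat.ble 800 i)) (Nat.ble 799 i)) (Bool.rec (motive := fun _ => Nat) (0x30000da000f01) (Bool.rec (motive := fun _ => Nat) (0x40000da000aae) (0x40000db000c50) (Nat.ble 803 i)) (Nat.ble 802 i)) (Nat.ble 801 i)) (Bool.rec (motive := fun _ => Nat) (Bool.rec (motive := fun _ => Nat) (0x40000dc000083) (Bool.rec (motive := fun _ => Nat) (0x50000dc000af7) (0x10000dd00075b) (Nat.ble 806 i)) (Nat.ble 805 i)) (Bool.rec (motive := fun _ => Nat) (0x40000dd000eb3)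 (Bool.rec (motive := fun _ => Nat) (0x50000dd0004d1) (0xde00082b) (Nat.ble 809 i)) (Nat.ble 808 i)) (Nat.ble 807 i)) (Nat.ble 804 i)) (Nat.ble 798 i)) (Nat.ble 787 i))
noncomputable def C40P_18 (i : Nat) : Nat := (Bool.rec (motive := fun _ => Nat) (Bool.rec (motive := fun _ => Nat) (Bool.rec (motive := fun _ => Nat) (Bool.rec (motive := fun _ => Nat) (Bool.rec (motive := fun _ => Nat) (0x50000de0004a2) (0xdf000cd3) (Nat.ble 811 i)) (Bool.rec (motive := fun _ => Nat) (0x20000df000e5a) (Bool.rec (motive := fun _ => Nat) (0x40000df0009fc) (0x10000e0000925) (Nat.ble 814 i)) (Nat.ble 813 i)) (Nat.ble 812 i)) (Bool.rec (motive := fun _ => Nat) (Bool.rec (motive := fun _ => Nat) (0x30000e0000981) (Bool.rec (motive := fun _ => Nat) (0x40000e0000874) (0x50000e00008c1) (Nat.ble 817 i)) (Nat.ble 816 i)) (Bool.rec (motive := fun _ => Nat) (0x40000e10006d3) (Bool.rec (motive := fun _ => Nat) (0x50000e1000936) (0xe2000105) (Nat.ble 820 i)) (Nat.ble 819 i)) (Nat.ble 818 i)) (Nat.ble 815 i)) (Bool.rec (motive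 := fun _ => Nat) (Bool.rec (motive := fun _ => Nat) (Bool.rec (motive := fun _ => Nat) (0x20000e20008a4) (0xe30002dd) (Nat.ble 822 i)) (Bool.rec (motive := fun _ => Nat) (0x20000e3000d99) (Bool.rec (motive := fun _ => Nat) (0x40000e3000052) (0xe40009a1) (Nat.ble 825 i)) (Nat.ble 824 i)) (Nat.ble 823 i)) (Bool.rec (motive := fun _ => Nat) (Bool.rec (motive := fun _ => Nat) (0x10000e40002d6) (Bool.rec (motive := fun _ => Nat) (0x40000e4000588) (0x20000e500051a) (Nat.ble 828 i)) (Nat.ble 827 i)) (Bool.rec (motive := fun _ => Nat) (0x30000e5000678) (Bool.rec (motive := fun _ => Nat) (0x40000e60004ce) (0xe7000528) (Nat.ble 831 i)) (Nat.ble 830 i)) (Nat.ble 829 i)) (Nat.ble 826 i)) (Nat.ble 821 i)) (Bool.rec (motive := fun _ => Nat) (Bool.rec (motive := fun _ => Nat) (Bool.rec (motive := fun _ => Nat) (Bool.rec (motive := fun _ => Nat) (0x40000e7000342) (0xe8000155) (Nat.ble 833 i)) (Bool.rec (motive := fun _ => Nat) (0x40000e8000311) (Bool.rec (motive := fun _ => Nat) (0x40000e9000639) (0xea000a87)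 (Nat.ble 836 i)) (Nat.ble 835 i)) (Nat.ble 834 i)) (Bool.rec (motive := fun _ => Nat) (Bool.rec (motive := fun _ => Nat) (0x20000ea000670) (Bool.rec (motive := fun _ => Nat) (0x40000ea000dbd) (0x50000ea000329) (Nat.ble 839 i)) (Nat.ble 838 i)) (Bool.rec (motive := fun _ => Nat) (0xeb00026b) (Bool.rec (motive := fun _ => Nat) (0x40000eb000341) (0x50000eb000325) (Nat.ble 842 i)) (Nat.ble 841 i)) (Nat.ble 840 i)) (Nat.ble 837 i)) (Bool.rec (motive := fun _ => Nat) (Bool.rec (motive := fun _ => Nat) (Bool.rec (motive := fun _ => Nat) (0x10000ec000266) (Bool.rec (motive := fun _ => Nat) (0x30000ec000f26) (0x40000ed000d4e) (Nat.ble 845 i)) (Nat.ble 844 i)) (Bool.rec (motive := fun _ => Nat) (0x10000ef000bfe) (Bool.rec (motive := fun _ => Nat) (0x30000ef000e20) (0x50000ef000d9a) (Nat.ble 848 i)) (Nat.ble 847 i)) (Nat.ble 846 i)) (Bool.rec (motive := fun _ => Nat) (Bool.rec (motive := fun _ => Nat) (0xf000024a) (Bool.rec (motive := fun _ => Nat) (0x10000f0000681) (0x20000f0000006) (Nat.ble 851 i)) (Nat.ble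 850 i)) (Bool.rec (motive := fun _ => Nat) (0x30000f0000e4e) (Bool.rec (motive := fun _ => Nat) (0xf10002a3) (0x40000f1000722) (Nat.ble 854 i)) (Nat.ble 853 i)) (Nat.ble 852 i)) (Nat.ble 849 i)) (Nat.ble 843 i)) (Nat.ble 832 i))
noncomputable def C40P_19 (i : Nat) : Nat := (Bool.rec (motive := fun _ => Nat) (Bool.rec (motive := fun _ => Nat) (Bool.rec (motive := fun _ => Nat) (Bool.rec (motive := fun _ => Nat) (Bool.rec (motive := fun _ => Nat) (0x30000f2000bac) (0x10000f3000884) (Nat.ble 856 i)) (Bool.rec (motive := fun _ => Nat) (0x30000f300043c) (Bool.rec (motive := fun _ => Nat) (0x40000f40004f8) (0x40000f5000db0) (Nat.ble 859 i)) (Nat.ble 858 i)) (Nat.ble 857 i)) (Bool.rec (motive := fun _ => Nat) (Bool.rec (motive := fun _ => Nat) (0x50000f500047d) (Bool.rec (motive := fun _ => Nat) (0x40000f6000644) (0x50000f60004e7) (Nat.ble 862 i)) (Nat.ble 861 i)) (Bool.rec (motive := fun _ => Nat) (0xf700042d) (Bool.rec (motive := fun _ => Nat) (0x10000f70006ee) (0x30000f8000a6c) (Nat.ble 865 i))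 (Nat.ble 864 i)) (Nat.ble 863 i)) (Nat.ble 860 i)) (Bool.rec (motive := fun _ => Nat) (Bool.rec (motive := fun _ => Nat) (Bool.rec (motive := fun _ => Nat) (0x40000f8000708) (0xf9000486) (Nat.ble 867 i)) (Bool.rec (motive := fun _ => Nat) (0x10000f9000210) (Bool.rec (motive := fun _ => Nat) (0x50000f9000ece) (0xfb000098) (Nat.ble 870 i)) (Nat.ble 869 i)) (Nat.ble 868 i)) (Bool.rec (motive := fun _ => Nat) (Bool.rec (motive := fun _ => Nat) (0x40000fb0003b0) (Bool.rec (motive := fun _ => Nat) (0x50000fb0001c8) (0x40000fc0009fb) (Nat.ble 873 i)) (Nat.ble 872 i)) (Bool.rec (motive := fun _ => Nat) (0x50000fc0007d2) (Bool.rec (motive := fun _ => Nat) (0xfd000731) (0x40000fe0000dd) (Nat.ble 876 i)) (Nat.ble 875 i)) (Nat.ble 874 i)) (Nat.ble 871 i)) (Nat.ble 866 i)) (Bool.rec (motive := fun _ => Nat) (Bool.rec (motive := fun _ => Nat) (Bool.rec (motive := fun _ => Nat) (Bool.rec (motive := fun _ => Nat) (0x40001000004c2) (0x5000100000a81) (Nat.ble 878 i)) (Bool.rec (motive := fun _ => Nat) (0x101000bdd)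 (Bool.rec (motive := fun _ => Nat) (0x300010100015f) (0x4000101000eae) (Nat.ble 881 i)) (Nat.ble 880 i)) (Nat.ble 879 i)) (Bool.rec (motive := fun _ => Nat) (Bool.rec (motive := fun _ => Nat) (0x5000101000c44) (Bool.rec (motive := fun _ => Nat) (0x102000064) (0x10001020002b5) (Nat.ble 884 i)) (Nat.ble 883 i)) (Bool.rec (motive := fun _ => Nat) (0x3000102000145) (Bool.rec (motive := fun _ => Nat) (0x40001030004c6) (0x40001040004d4) (Nat.ble 887 i)) (Nat.ble 886 i)) (Nat.ble 885 i)) (Nat.ble 882 i)) (Bool.rec (motive := fun _ => Nat) (Bool.rec (motive := fun _ => Nat) (Bool.rec (motive := fun _ => Nat) (0x500010400090f) (Bool.rec (motive := fun _ => Nat) (0x30001050008c3) (0x4000105000673) (Nat.ble 890 i)) (Nat.ble 889 i)) (Bool.rec (motive := fun _ => Nat) (0x50001050009c4) (Bool.rec (motive := fun _ => Nat) (0x5000106000ad3) (0x107000f09) (Nat.ble 893 i)) (Nat.ble 892 i)) (Nat.ble 891 i)) (Bool.rec (motive := fun _ => Nat) (Bool.rec (motive := fun _ => Nat) (0x300010700082a) (Bool.rec (motive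 := fun _ => Nat) (0x4000107000732) (0x108000ecf) (Nat.ble 896 i)) (Nat.ble 895 i)) (Bool.rec (motive := fun _ => Nat) (0x4000109000b0c) (Bool.rec (motive := fun _ => Nat) (0x5000109000d81) (0x400010a000801) (Nat.ble 899 i)) (Nat.ble 898 i)) (Nat.ble 897 i)) (Nat.ble 894 i)) (Nat.ble 888 i)) (Nat.ble 877 i))
noncomputable def C40P_20 (i : Nat) : Nat := (Bool.rec (motive := fun _ => Nat) (Bool.rec (motive := fun _ => Nat) (Bool.rec (motive := fun _ => Nat) (Bool.rec (motive := fun _ => Nat) (Bool.rec (motive := fun _ => Nat) (0x10b000ca1) (0x100010b000be4) (Nat.ble 901 i)) (Bool.rec (motive := fun _ => Nat) (0x300010b0008db) (Bool.rec (motive := fun _ => Nat) (0x400010b000e69) (0x500010b000d0b) (Nat.ble 904 i)) (Nat.ble 903 i)) (Nat.ble 902 i)) (Bool.rec (motive := fun _ => Nat) (Bool.rec (motive := fun _ => Nat) (0x100010c000bcb) (Bool.rec (motive := fun _ => Nat) (0x400010c00019c) (0x500010c000dc9) (Nat.ble 907 i)) (Nat.ble 906 i)) (Bool.rec (motive := fun _ => Nat) (0x100010d000269) (Bool.rec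 (motive := fun _ => Nat) (0x200010d000f3c) (0x300010d00078a) (Nat.ble 910 i)) (Nat.ble 909 i)) (Nat.ble 908 i)) (Nat.ble 905 i)) (Bool.rec (motive := fun _ => Nat) (Bool.rec (motive := fun _ => Nat) (Bool.rec (motive := fun _ => Nat) (0x200010e000423) (0x300010e000281) (Nat.ble 912 i)) (Bool.rec (motive := fun _ => Nat) (0x10f000852) (Bool.rec (motive := fun _ => Nat) (0x300010f000e21) (0x500010f00017c) (Nat.ble 915 i)) (Nat.ble 914 i)) (Nat.ble 913 i)) (Bool.rec (motive := fun _ => Nat) (Bool.rec (motive := fun _ => Nat) (0x1000110000ca9) (Bool.rec (motive := fun _ => Nat) (0x2000110000290) (0x3000110000cba) (Nat.ble 918 i)) (Nat.ble 917 i)) (Bool.rec (motive := fun _ => Nat) (0x4000110000405) (Bool.rec (motive := fun _ => Nat) (0x10001110008f1) (0x2000111000873) (Nat.ble 921 i)) (Nat.ble 920 i)) (Nat.ble 919 i)) (Nat.ble 916 i)) (Nat.ble 911 i)) (Bool.rec (motive := fun _ => Nat) (Bool.rec (motive := fun _ => Nat) (Bool.rec (motive := fun _ => Nat) (Bool.rec (motive := fun _ => Nat) (0x30001110004ee)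 (0x4000111000622) (Nat.ble 923 i)) (Bool.rec (motive := fun _ => Nat) (0x4000112000ae6) (Bool.rec (motive := fun _ => Nat) (0x113000b8d) (0x1000113000acd) (Nat.ble 926 i)) (Nat.ble 925 i)) (Nat.ble 924 i)) (Bool.rec (motive := fun _ => Nat) (Bool.rec (motive := fun _ => Nat) (0x3000113000e97) (Bool.rec (motive := fun _ => Nat) (0x4000113000558) (0x5000113000823) (Nat.ble 929 i)) (Nat.ble 928 i)) (Bool.rec (motive := fun _ => Nat) (0x114000625) (Bool.rec (motive := fun _ => Nat) (0x100011400020c) (0x4000114000898) (Nat.ble 932 i)) (Nat.ble 931 i)) (Nat.ble 930 i)) (Nat.ble 927 i)) (Bool.rec (motive := fun _ => Nat) (Bool.rec (motive := fun _ => Nat) (Bool.rec (motive := fun _ => Nat) (0x5000114000897) (Bool.rec (motive := fun _ => Nat) (0x5000115000bbb) (0x5000116000e54) (Nat.ble 935 i)) (Nat.ble 934 i)) (Bool.rec (motive := fun _ => Nat) (0x100011700026e) (Bool.rec (motive := fun _ => Nat) (0x30001170000d4) (0x4000118000923) (Nat.ble 938 i)) (Nat.ble 937 i)) (Nat.ble 936 i)) (Bool.rec (motive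 := fun _ => Nat) (Bool.rec (motive := fun _ => Nat) (0x400011900084d) (Bool.rec (motive := fun _ => Nat) (0x5000119000a7b) (0x500011b00092d) (Nat.ble 941 i)) (Nat.ble 940 i)) (Bool.rec (motive := fun _ => Nat) (0x300011c000289) (Bool.rec (motive := fun _ => Nat) (0x400011c000745) (0x400011d000ca5) (Nat.ble 944 i)) (Nat.ble 943 i)) (Nat.ble 942 i)) (Nat.ble 939 i)) (Nat.ble 933 i)) (Nat.ble 922 i))
noncomputable def C40P_21 (i : Nat) : Nat := (Bool.rec (motive := fun _ => Nat) (Bool.rec (motive := fun _ => Nat) (Bool.rec (motive := fun _ => Nat) (Bool.rec (motive := fun _ => Nat) (Bool.rec (motive := fun _ => Nat) (0x200011f000548) (0x500011f000b10) (Nat.ble 946 i)) (Bool.rec (motive := fun _ => Nat) (0x200012000084a) (Bool.rec (motive := fun _ => Nat) (0x3000120000045) (0x1210007a8) (Nat.ble 949 i)) (Nat.ble 948 i)) (Nat.ble 947 i)) (Bool.rec (motive := fun _ => Nat) (Bool.rec (motive := fun _ => Nat) (0x5000121000701) (Bool.rec (motive := fun _ => Nat) (0x122000c9d) (0x100012200099a) (Nat.ble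 952 i)) (Nat.ble 951 i)) (Bool.rec (motive := fun _ => Nat) (0x3000122000c6d) (Bool.rec (motive := fun _ => Nat) (0x4000122000141) (0x123000a70) (Nat.ble 955 i)) (Nat.ble 954 i)) (Nat.ble 953 i)) (Nat.ble 950 i)) (Bool.rec (motive := fun _ => Nat) (Bool.rec (motive := fun _ => Nat) (Bool.rec (motive := fun _ => Nat) (0x4000123000ab5) (0x400012400035f) (Nat.ble 957 i)) (Bool.rec (motive := fun _ => Nat) (0x2000125000acf) (Bool.rec (motive := fun _ => Nat) (0x4000125000d4d) (0x50001250000bf) (Nat.ble 960 i)) (Nat.ble 959 i)) (Nat.ble 958 i)) (Bool.rec (motive := fun _ => Nat) (Bool.rec (motive := fun _ => Nat) (0x10001260005fa) (Bool.rec (motive := fun _ => Nat) (0x2000126000278) (0x300012600016f) (Nat.ble 963 i)) (Nat.ble 962 i)) (Bool.rec (motive := fun _ => Nat) (0x4000126000c38) (Bool.rec (motive := fun _ => Nat) (0x1270003cc) (0x1000127000961) (Nat.ble 966 i)) (Nat.ble 965 i)) (Nat.ble 964 i)) (Nat.ble 961 i)) (Nat.ble 956 i)) (Bool.rec (motive := fun _ => Nat) (Bool.rec (motive := fun _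 => Nat) (Bool.rec (motive := fun _ => Nat) (Bool.rec (motive := fun _ => Nat) (0x3000127000a51) (0x4000127000596) (Nat.ble 968 i)) (Bool.rec (motive := fun _ => Nat) (0x1000128000750) (Bool.rec (motive := fun _ => Nat) (0x200012800028a) (0x400012800030f) (Nat.ble 971 i)) (Nat.ble 970 i)) (Nat.ble 969 i)) (Bool.rec (motive := fun _ => Nat) (Bool.rec (motive := fun _ => Nat) (0x5000128000cb6) (Bool.rec (motive := fun _ => Nat) (0x12a0006e4) (0x100012a000ac8) (Nat.ble 974 i)) (Nat.ble 973 i)) (Bool.rec (motive := fun _ => Nat) (0x200012a0006f6) (Bool.rec (motive := fun _ => Nat) (0x400012a000a4f) (0x100012b000ee2) (Nat.ble 977 i)) (Nat.ble 976 i)) (Nat.ble 975 i)) (Nat.ble 972 i)) (Bool.rec (motive := fun _ => Nat) (Bool.rec (motive := fun _ => Nat) (Bool.rec (motive := fun _ => Nat) (0x300012b000b9d) (Bool.rec (motive := fun _ => Nat) (0x500012b000a7c) (0x100012c000e27) (Nat.ble 980 i)) (Nat.ble 979 i)) (Bool.rec (motive := fun _ => Nat) (0x300012c00083c) (Bool.rec (motive := fun _ => Nat) (0x100012d000b95)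 (0x200012d0006a4) (Nat.ble 983 i)) (Nat.ble 982 i)) (Nat.ble 981 i)) (Bool.rec (motive := fun _ => Nat) (Bool.rec (motive := fun _ => Nat) (0x200012e000b7c) (Bool.rec (motive := fun _ => Nat) (0x12f000167) (0x200012f0006c1) (Nat.ble 986 i)) (Nat.ble 985 i)) (Bool.rec (motive := fun _ => Nat) (0x400012f0004b3) (Bool.rec (motive := fun _ => Nat) (0x2000130000128) (0x4000130000687) (Nat.ble 989 i)) (Nat.ble 988 i)) (Nat.ble 987 i)) (Nat.ble 984 i)) (Nat.ble 978 i)) (Nat.ble 967 i))
noncomputable def C40P_22 (i : Nat) : Nat := (Bool.rec (motive := fun _ => Nat) (Bool.rec (motive := fun _ => Nat) (Bool.rec (motive := fun _ => Nat) (Bool.rec (motive := fun _ => Nat) (Bool.rec (motive := fun _ => Nat) (0x1000131000a79) (0x1330006bd) (Nat.ble 991 i)) (Bool.rec (motive := fun _ => Nat) (0x100013300047b) (Bool.rec (motive := fun _ => Nat) (0x5000133000864) (0x5000134000c34) (Nat.ble 994 i)) (Nat.ble 993 i)) (Nat.ble 992 i)) (Bool.rec (motive := fun _ => Nat) (Bool.rec (motive := fun _ => Nat) (0x40001350001ca)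 (Bool.rec (motive := fun _ => Nat) (0x136000be8) (0x10001360006cf) (Nat.ble 997 i)) (Nat.ble 996 i)) (Bool.rec (motive := fun _ => Nat) (0x20001360005fb) (Bool.rec (motive := fun _ => Nat) (0x200013700027d) (0x50001370009e0) (Nat.ble 1000 i)) (Nat.ble 999 i)) (Nat.ble 998 i)) (Nat.ble 995 i)) (Bool.rec (motive := fun _ => Nat) (Bool.rec (motive := fun _ => Nat) (Bool.rec (motive := fun _ => Nat) (0x138000355) (0x100013800095c) (Nat.ble 1002 i)) (Bool.rec (motive := fun _ => Nat) (0x100013900008c) (Bool.rec (motive := fun _ => Nat) (0x2000139000095) (0x30001390004f9) (Nat.ble 1005 i)) (Nat.ble 1004 i)) (Nat.ble 1003 i)) (Bool.rec (motive := fun _ => Nat) (Bool.rec (motive := fun _ => Nat) (0x300013a00013a) (Bool.rec (motive := fun _ => Nat) (0x300013b000e0d) (0x500013c000775) (Nat.ble 1008 i)) (Nat.ble 1007 i)) (Bool.rec (motive := fun _ => Nat) (0x400013d000695) (Bool.rec (motive := fun _ => Nat) (0x300013e00017d) (0x400013e000baf) (Nat.ble 1011 i)) (Nat.ble 1010 i)) (Nat.ble 1009 i)) (Nat.ble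 1006 i)) (Nat.ble 1001 i)) (Bool.rec (motive := fun _ => Nat) (Bool.rec (motive := fun _ => Nat) (Bool.rec (motive := fun _ => Nat) (Bool.rec (motive := fun _ => Nat) (0x100013f00023c) (0x300013f000d60) (Nat.ble 1013 i)) (Bool.rec (motive := fun _ => Nat) (0x400013f0003f0) (Bool.rec (motive := fun _ => Nat) (0x300014000080f) (0x50001410004de) (Nat.ble 1016 i)) (Nat.ble 1015 i)) (Nat.ble 1014 i)) (Bool.rec (motive := fun _ => Nat) (Bool.rec (motive := fun _ => Nat) (0x142000886) (Bool.rec (motive := fun _ => Nat) (0x1000142000368) (0x3000142000295) (Nat.ble 1019 i)) (Nat.ble 1018 i)) (Bool.rec (motive := fun _ => Nat) (0x143000c77) (Bool.rec (motive := fun _ => Nat) (0x2000143000bcc) (0x3000143000641) (Nat.ble 1022 i)) (Nat.ble 1021 i)) (Nat.ble 1020 i)) (Nat.ble 1017 i)) (Bool.rec (motive := fun _ => Nat) (Bool.rec (motive := fun _ => Nat) (Bool.rec (motive := fun _ => Nat) (0x400014300058e) (Bool.rec (motive := fun _ => Nat) (0x4000144000e8d) (0x147000e2d) (Nat.ble 1025 i)) (Nat.ble 1024 i))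 (Bool.rec (motive := fun _ => Nat) (0x3000147000762) (Bool.rec (motive := fun _ => Nat) (0x148000ae0) (0x2000148000435) (Nat.ble 1028 i)) (Nat.ble 1027 i)) (Nat.ble 1026 i)) (Bool.rec (motive := fun _ => Nat) (Bool.rec (motive := fun _ => Nat) (0x3000149000404) (Bool.rec (motive := fun _ => Nat) (0x4000149000433) (0x200014a00090c) (Nat.ble 1031 i)) (Nat.ble 1030 i)) (Bool.rec (motive := fun _ => Nat) (0x14b000144) (Bool.rec (motive := fun _ => Nat) (0x100014b0007f3) (0x300014b0007cc) (Nat.ble 1034 i)) (Nat.ble 1033 i)) (Nat.ble 1032 i)) (Nat.ble 1029 i)) (Nat.ble 1023 i)) (Nat.ble 1012 i))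
noncomputable def C40P_23 (i : Nat) : Nat := (Bool.rec (motive := fun _ => Nat) (Bool.rec (motive := fun _ => Nat) (Bool.rec (motive := fun _ => Nat) (Bool.rec (motive := fun _ => Nat) (Bool.rec (motive := fun _ => Nat) (0x500014b0004c7) (0x14d000e2c) (Nat.ble 1036 i)) (Bool.rec (motive := fun _ => Nat) (0x400014d000663) (Bool.rec (motive := fun _ => Nat) (0x100014e000e88) (0x100014f00054a) (Nat.ble 1039 i)) (Nat.ble 1038 i)) (Nat.ble 1037 i)) (Bool.rec (motive := fun _ => Nat) (Bool.rec (motive := fun _ => Nat) (0x400014f000e1d) (Bool.rec (motive := fun _ => Nat) (0x152000094) (0x10001520004c4) (Nat.ble 1042 i)) (Nat.ble 1041 i)) (Bool.rec (motive := fun _ => Nat) (0x3000152000ce3) (Bool.rec (motive := fun _ => Nat) (0x50001520006a5) (0x10001530007e4) (Nat.ble 1045 i)) (Nat.ble 1044 i)) (Nat.ble 1043 i)) (Nat.ble 1040 i)) (Bool.rec (motive := fun _ => Nat) (Bool.rec (motive := fun _ => Nat) (Bool.rec (motive := fun _ => Nat) (0x3000153000ddd) (0x400015300010d) (Nat.ble 1047 i)) (Bool.rec (motive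 := fun _ => Nat) (0x4000155000a06) (Bool.rec (motive := fun _ => Nat) (0x500015500060f) (0x4000156000926) (Nat.ble 1050 i)) (Nat.ble 1049 i)) (Nat.ble 1048 i)) (Bool.rec (motive := fun _ => Nat) (Bool.rec (motive := fun _ => Nat) (0x4000157000032) (Bool.rec (motive := fun _ => Nat) (0x159000b8b) (0x4000159000abb) (Nat.ble 1053 i)) (Nat.ble 1052 i)) (Bool.rec (motive := fun _ => Nat) (0x200015a000e2e) (Bool.rec (motive := fun _ => Nat) (0x300015a000d67) (0x400015b000d77) (Nat.ble 1056 i)) (Nat.ble 1055 i)) (Nat.ble 1054 i)) (Nat.ble 1051 i)) (Nat.ble 1046 i)) (Bool.rec (motive := fun _ => Nat) (Bool.rec (motive := fun _ => Nat) (Bool.rec (motive := fun _ => Nat) (Bool.rec (motive := fun _ => Nat) (0x400015c00066e) (0x100015d000481) (Nat.ble 1058 i)) (Bool.rec (motive := fun _ => Nat) (0x500015d000282) (Bool.rec (motive := fun _ => Nat) (0x15e000c82) (0x100015e000ab6) (Nat.ble 1061 i)) (Nat.ble 1060 i)) (Nat.ble 1059 i)) (Bool.rec (motive := fun _ => Nat) (Bool.rec (motive := fun _ => Nat) (0x200015e000cb5)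 (Bool.rec (motive := fun _ => Nat) (0x400015f00038a) (0x1000160000e37) (Nat.ble 1064 i)) (Nat.ble 1063 i)) (Bool.rec (motive := fun _ => Nat) (0x3000161000cdf) (Bool.rec (motive := fun _ => Nat) (0x400016100017b) (0x5000161000631) (Nat.ble 1067 i)) (Nat.ble 1066 i)) (Nat.ble 1065 i)) (Nat.ble 1062 i)) (Bool.rec (motive := fun _ => Nat) (Bool.rec (motive := fun _ => Nat) (Bool.rec (motive := fun _ => Nat) (0x400016200053d) (Bool.rec (motive := fun _ => Nat) (0x163000f34) (0x1000163000132) (Nat.ble 1070 i)) (Nat.ble 1069 i)) (Bool.rec (motive := fun _ => Nat) (0x4000164000c9a) (Bool.rec (motive := fun _ => Nat) (0x50001640007b6) (0x40001650000d6) (Nat.ble 1073 i)) (Nat.ble 1072 i)) (Nat.ble 1071 i)) (Bool.rec (motive := fun _ => Nat) (Bool.rec (motive := fun _ => Nat) (0x3000166000626) (Bool.rec (motive := fun _ => Nat) (0x2000167000a2c) (0x4000168000803) (Nat.ble 1076 i)) (Nat.ble 1075 i)) (Bool.rec (motive := fun _ => Nat) (0x400016900070c) (Bool.rec (motive := fun _ => Nat) (0x16a000e13) (0x400016a000a03)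 (Nat.ble 1079 i)) (Nat.ble 1078 i)) (Nat.ble 1077 i)) (Nat.ble 1074 i)) (Nat.ble 1068 i)) (Nat.ble 1057 i))
noncomputable def C40P_24 (i : Nat) : Nat := (Bool.rec (motive := fun _ => Nat) (Bool.rec (motive := fun _ => Nat) (Bool.rec (motive := fun _ => Nat) (Bool.rec (motive := fun _ => Nat) (Bool.rec (motive := fun _ => Nat) (0x200016b000bd8) (0x400016d000d75) (Nat.ble 1081 i)) (Bool.rec (motive := fun _ => Nat) (0x400016e000d08) (Bool.rec (motive := fun _ => Nat) (0x100016f000c48) (0x400016f00090e) (Nat.ble 1084 i)) (Nat.ble 1083 i)) (Nat.ble 1082 i)) (Bool.rec (motive := fun _ => Nat) (Bool.rec (motive := fun _ => Nat) (0x10001700002b7) (Bool.rec (motive := fun _ => Nat) (0x3000170000aed) (0x5000170000d68) (Nat.ble 1087 i)) (Nat.ble 1086 i)) (Bool.rec (motive := fun _ => Nat) (0x171000689) (Bool.rec (motive := fun _ => Nat) (0x1000171000a85) (0x30001710001a8) (Nat.ble 1090 i)) (Nat.ble 1089 i)) (Nat.ble 1088 i)) (Nat.ble 1085 i)) (Bool.rec (motive := fun _ => Nat) (Bool.rec (motive := fun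 _ => Nat) (Bool.rec (motive := fun _ => Nat) (0x3000172000ed3) (0x17300075a) (Nat.ble 1092 i)) (Bool.rec (motive := fun _ => Nat) (0x2000173000395) (Bool.rec (motive := fun _ => Nat) (0x1740006ca) (0x300017400052f) (Nat.ble 1095 i)) (Nat.ble 1094 i)) (Nat.ble 1093 i)) (Bool.rec (motive := fun _ => Nat) (Bool.rec (motive := fun _ => Nat) (0x400017400014f) (Bool.rec (motive := fun _ => Nat) (0x5000174000518) (0x5000175000d1e) (Nat.ble 1098 i)) (Nat.ble 1097 i)) (Bool.rec (motive := fun _ => Nat) (0x300017600034c) (Bool.rec (motive := fun _ => Nat) (0x40001760006fe) (0x40001770008d9) (Nat.ble 1101 i)) (Nat.ble 1100 i)) (Nat.ble 1099 i)) (Nat.ble 1096 i)) (Nat.ble 1091 i)) (Bool.rec (motive := fun _ => Nat) (Bool.rec (motive := fun _ => Nat) (Bool.rec (motive := fun _ => Nat) (Bool.rec (motive := fun _ => Nat) (0x500017a000818) (0x17b000b5b) (Nat.ble 1103 i)) (Bool.rec (motive := fun _ => Nat) (0x500017b000710) (Bool.rec (motive := fun _ => Nat) (0x300017c0001fb) (0x200017d0009c5) (Nat.ble 1106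 i)) (Nat.ble 1105 i)) (Nat.ble 1104 i)) (Bool.rec (motive := fun _ => Nat) (Bool.rec (motive := fun _ => Nat) (0x300017d000bb7) (Bool.rec (motive := fun _ => Nat) (0x17e000257) (0x17f000ed5) (Nat.ble 1109 i)) (Nat.ble 1108 i)) (Bool.rec (motive := fun _ => Nat) (0x200017f0000f7) (Bool.rec (motive := fun _ => Nat) (0x300017f000293) (0x3000180000d27) (Nat.ble 1112 i)) (Nat.ble 1111 i)) (Nat.ble 1110 i)) (Nat.ble 1107 i)) (Bool.rec (motive := fun _ => Nat) (Bool.rec (motive := fun _ => Nat) (Bool.rec (motive := fun _ => Nat) (0x2000181000653) (Bool.rec (motive := fun _ => Nat) (0x400018100023a) (0x1820001c7) (Nat.ble 1115 i)) (Nat.ble 1114 i)) (Bool.rec (motive := fun _ => Nat) (0x10001820009cc) (Bool.rec (motive := fun _ => Nat) (0x20001820001dc) (0x4000182000d5a) (Nat.ble 1118 i)) (Nat.ble 1117 i)) (Nat.ble 1116 i)) (Bool.rec (motive := fun _ => Nat) (Bool.rec (motive := fun _ => Nat) (0x3000183000a34) (Bool.rec (motive := fun _ => Nat) (0x4000183000f21) (0x184000d7c) (Nat.ble 1121 i)) (Nat.ble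 1120 i)) (Bool.rec (motive := fun _ => Nat) (0x100018400048d) (Bool.rec (motive := fun _ => Nat) (0x1000186000889) (0x1000187000d96) (Nat.ble 1124 i)) (Nat.ble 1123 i)) (Nat.ble 1122 i)) (Nat.ble 1119 i)) (Nat.ble 1113 i)) (Nat.ble 1102 i))
noncomputable def C40P_25 (i : Nat) : Nat := (Bool.rec (motive := fun _ => Nat) (Bool.rec (motive := fun _ => Nat) (Bool.rec (motive := fun _ => Nat) (Bool.rec (motive := fun _ => Nat) (Bool.rec (motive := fun _ => Nat) (0x100018800000c) (0x3000188000093) (Nat.ble 1126 i)) (Bool.rec (motive := fun _ => Nat) (0x500018b000b82) (Bool.rec (motive := fun _ => Nat) (0x100018c000850) (0x200018d000cc1) (Nat.ble 1129 i)) (Nat.ble 1128 i)) (Nat.ble 1127 i)) (Bool.rec (motive := fun _ => Nat) (Bool.rec (motive := fun _ => Nat) (0x500018d000d8e) (Bool.rec (motive := fun _ => Nat) (0x18e000180) (0x200018e000bb6) (Nat.ble 1132 i)) (Nat.ble 1131 i)) (Bool.rec (motive := fun _ => Nat) (0x18f0000b3) (Bool.rec (motive := fun _ => Nat) (0x200018f000dcc) (0x300018f000ebf) (Nat.ble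 1135 i)) (Nat.ble 1134 i)) (Nat.ble 1133 i)) (Nat.ble 1130 i)) (Bool.rec (motive := fun _ => Nat) (Bool.rec (motive := fun _ => Nat) (Bool.rec (motive := fun _ => Nat) (0x1000192000672) (0x5000192000893) (Nat.ble 1137 i)) (Bool.rec (motive := fun _ => Nat) (0x2000195000c17) (Bool.rec (motive := fun _ => Nat) (0x4000195000b0a) (0x19700067a) (Nat.ble 1140 i)) (Nat.ble 1139 i)) (Nat.ble 1138 i)) (Bool.rec (motive := fun _ => Nat) (Bool.rec (motive := fun _ => Nat) (0x2000198000138) (Bool.rec (motive := fun _ => Nat) (0x1000199000839) (0x400019900072c) (Nat.ble 1143 i)) (Nat.ble 1142 i)) (Bool.rec (motive := fun _ => Nat) (0x400019a000c7f) (Bool.rec (motive := fun _ => Nat) (0x19c0004a9) (0x100019c0004bd) (Nat.ble 1146 i)) (Nat.ble 1145 i)) (Nat.ble 1144 i)) (Nat.ble 1141 i)) (Nat.ble 1136 i)) (Bool.rec (motive := fun _ => Nat) (Bool.rec (motive := fun _ => Nat) (Bool.rec (motive := fun _ => Nat) (Bool.rec (motive := fun _ => Nat) (0x300019c00012e) (0x400019e000b6b) (Nat.ble 1148 i)) (Bool.rec (motive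 := fun _ => Nat) (0x500019e000721) (Bool.rec (motive := fun _ => Nat) (0x40001a0000434) (0x1a200042f) (Nat.ble 1151 i)) (Nat.ble 1150 i)) (Nat.ble 1149 i)) (Bool.rec (motive := fun _ => Nat) (Bool.rec (motive := fun _ => Nat) (0x50001a20005da) (Bool.rec (motive := fun _ => Nat) (0x30001a3000e3e) (0x40001a30005bd) (Nat.ble 1154 i)) (Nat.ble 1153 i)) (Bool.rec (motive := fun _ => Nat) (0x50001a4000220) (Bool.rec (motive := fun _ => Nat) (0x1a70002ad) (0x40001a800016b) (Nat.ble 1157 i)) (Nat.ble 1156 i)) (Nat.ble 1155 i)) (Nat.ble 1152 i)) (Bool.rec (motive := fun _ => Nat) (Bool.rec (motive := fun _ => Nat) (Bool.rec (motive := fun _ => Nat) (0x30001aa000b3e) (Bool.rec (motive := fun _ => Nat) (0x40001ab000084) (0x30001ac0007cb) (Nat.ble 1160 i)) (Nat.ble 1159 i)) (Bool.rec (motive := fun _ => Nat) (0x1ad000cc5) (Bool.rec (motive := fun _ => Nat) (0x30001ae000381) (0x50001ae000f1a) (Nat.ble 1163 i)) (Nat.ble 1162 i)) (Nat.ble 1161 i)) (Bool.rec (motive := fun _ => Nat) (Bool.rec (motive := fun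 _ => Nat) (0x20001af000cfd) (Bool.rec (motive := fun _ => Nat) (0x30001af000954) (0x50001b00009a4) (Nat.ble 1166 i)) (Nat.ble 1165 i)) (Bool.rec (motive := fun _ => Nat) (0x30001b100074a) (Bool.rec (motive := fun _ => Nat) (0x40001b200025b) (0x1b30009fa) (Nat.ble 1169 i)) (Nat.ble 1168 i)) (Nat.ble 1167 i)) (Nat.ble 1164 i)) (Nat.ble 1158 i)) (Nat.ble 1147 i))
noncomputable def C40P_26 (i : Nat) : Nat := (Bool.rec (motive := fun _ => Nat) (Bool.rec (motive := fun _ => Nat) (Bool.rec (motive := fun _ => Nat) (Bool.rec (motive := fun _ => Nat) (Bool.rec (motive := fun _ => Nat) (0x20001b30001ed) (0x30001b300061a) (Nat.ble 1171 i)) (Bool.rec (motive := fun _ => Nat) (0x10001b4000a19) (Bool.rec (motive := fun _ => Nat) (0x20001b4000234) (0x50001b400085c) (Nat.ble 1174 i)) (Nat.ble 1173 i)) (Nat.ble 1172 i)) (Bool.rec (motive := fun _ => Nat) (Bool.rec (motive := fun _ => Nat) (0x1b50009dd) (Bool.rec (motive := fun _ => Nat) (0x20001b5000427) (0x30001b5000a9c) (Nat.ble 1177 i)) (Nat.ble 1176 i))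 (Bool.rec (motive := fun _ => Nat) (0x40001b5000375) (Bool.rec (motive := fun _ => Nat) (0x40001b6000918) (0x30001ba000e14) (Nat.ble 1180 i)) (Nat.ble 1179 i)) (Nat.ble 1178 i)) (Nat.ble 1175 i)) (Bool.rec (motive := fun _ => Nat) (Bool.rec (motive := fun _ => Nat) (Bool.rec (motive := fun _ => Nat) (0x30001bc0006f8) (0x30001bd000237) (Nat.ble 1182 i)) (Bool.rec (motive := fun _ => Nat) (0x50001bd000cec) (Bool.rec (motive := fun _ => Nat) (0x40001be000204) (0x1bf00092e) (Nat.ble 1185 i)) (Nat.ble 1184 i)) (Nat.ble 1183 i)) (Bool.rec (motive := fun _ => Nat) (Bool.rec (motive := fun _ => Nat) (0x20001bf000ef4) (Bool.rec (motive := fun _ => Nat) (0x10001c000098f) (0x40001c00001e8) (Nat.ble 1188 i)) (Nat.ble 1187 i)) (Bool.rec (motive := fun _ => Nat) (0x10001c1000dc5) (Bool.rec (motive := fun _ => Nat) (0x20001c100085e) (0x1c200064f) (Nat.ble 1191 i)) (Nat.ble 1190 i)) (Nat.ble 1189 i)) (Nat.ble 1186 i)) (Nat.ble 1181 i)) (Bool.rec (motive := fun _ => Nat) (Bool.rec (motive := fun _ => Nat) (Bool.rec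 (motive := fun _ => Nat) (Bool.rec (motive := fun _ => Nat) (0x30001c20003a0) (0x40001c20000cf) (Nat.ble 1193 i)) (Bool.rec (motive := fun _ => Nat) (0x40001c3000b63) (Bool.rec (motive := fun _ => Nat) (0x1c4000469) (0x10001c4000786) (Nat.ble 1196 i)) (Nat.ble 1195 i)) (Nat.ble 1194 i)) (Bool.rec (motive := fun _ => Nat) (Bool.rec (motive := fun _ => Nat) (0x40001c50004e9) (Bool.rec (motive := fun _ => Nat) (0x30001c6000bfd) (0x40001c800078d) (Nat.ble 1199 i)) (Nat.ble 1198 i)) (Bool.rec (motive := fun _ => Nat) (0x1c9000e1a) (Bool.rec (motive := fun _ => Nat) (0x10001c90004c8) (0x40001ca00078c) (Nat.ble 1202 i)) (Nat.ble 1201 i)) (Nat.ble 1200 i)) (Nat.ble 1197 i)) (Bool.rec (motive := fun _ => Nat) (Bool.rec (motive := fun _ => Nat) (Bool.rec (motive := fun _ => Nat) (0x1cb000eeb) (Bool.rec (motive := fun _ => Nat) (0x30001cb000280) (0x50001cb00034b) (Nat.ble 1205 i)) (Nat.ble 1204 i)) (Bool.rec (motive := fun _ => Nat) (0x20001cc000a43) (Bool.rec (motive := fun _ => Nat) (0x40001cd0007c1)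 (0x50001cf000a96) (Nat.ble 1208 i)) (Nat.ble 1207 i)) (Nat.ble 1206 i)) (Bool.rec (motive := fun _ => Nat) (Bool.rec (motive := fun _ => Nat) (0x1d00002c7) (Bool.rec (motive := fun _ => Nat) (0x10001d0000c25) (0x30001d0000e03) (Nat.ble 1211 i)) (Nat.ble 1210 i)) (Bool.rec (motive := fun _ => Nat) (0x30001d10004e3) (Bool.rec (motive := fun _ => Nat) (0x40001d1000b60) (0x1d3000027) (Nat.ble 1214 i)) (Nat.ble 1213 i)) (Nat.ble 1212 i)) (Nat.ble 1209 i)) (Nat.ble 1203 i)) (Nat.ble 1192 i))
noncomputable def C40P_27 (i : Nat) : Nat := (Bool.rec (motive := fun _ => Nat) (Bool.rec (motive := fun _ => Nat) (Bool.rec (motive := fun _ => Nat) (Bool.rec (motive := fun _ => Nat) (Bool.rec (motive := fun _ => Nat) (0x10001d3000ce1) (0x50001d300059a) (Nat.ble 1216 i)) (Bool.rec (motive := fun _ => Nat) (0x40001d40003c4) (Bool.rec (motive := fun _ => Nat) (0x1da000855) (0x40001db000d59) (Nat.ble 1219 i)) (Nat.ble 1218 i)) (Nat.ble 1217 i)) (Bool.rec (motive := fun _ => Nat) (Bool.rec (motive := fun _ => Nat)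 (0x50001dc000efa) (Bool.rec (motive := fun _ => Nat) (0x1de000675) (0x50001de000a3b) (Nat.ble 1222 i)) (Nat.ble 1221 i)) (Bool.rec (motive := fun _ => Nat) (0x10001df000787) (Bool.rec (motive := fun _ => Nat) (0x1e0000dfb) (0x10001e00006fd) (Nat.ble 1225 i)) (Nat.ble 1224 i)) (Nat.ble 1223 i)) (Nat.ble 1220 i)) (Bool.rec (motive := fun _ => Nat) (Bool.rec (motive := fun _ => Nat) (Bool.rec (motive := fun _ => Nat) (0x20001e0000645) (0x40001e0000a5e) (Nat.ble 1227 i)) (Bool.rec (motive := fun _ => Nat) (0x1e1000eaf) (Bool.rec (motive := fun _ => Nat) (0x40001e1000e60) (0x1e3000317) (Nat.ble 1230 i)) (Nat.ble 1229 i)) (Nat.ble 1228 i)) (Bool.rec (motive := fun _ => Nat) (Bool.rec (motive := fun _ => Nat) (0x10001e3000a6a) (Bool.rec (motive := fun _ => Nat) (0x20001e3000a89) (0x40001e3000525) (Nat.ble 1233 i)) (Nat.ble 1232 i)) (Bool.rec (motive := fun _ => Nat) (0x30001e400050e) (Bool.rec (motive := fun _ => Nat) (0x40001e40009ed) (0x1e5000153) (Nat.ble 1236 i)) (Nat.ble 1235 i)) (Nat.ble 1234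 i)) (Nat.ble 1231 i)) (Nat.ble 1226 i)) (Bool.rec (motive := fun _ => Nat) (Bool.rec (motive := fun _ => Nat) (Bool.rec (motive := fun _ => Nat) (Bool.rec (motive := fun _ => Nat) (0x50001e50004f2) (0x10001e6000788) (Nat.ble 1238 i)) (Bool.rec (motive := fun _ => Nat) (0x50001e700020f) (Bool.rec (motive := fun _ => Nat) (0x10001e8000407) (0x20001e80004b5) (Nat.ble 1241 i)) (Nat.ble 1240 i)) (Nat.ble 1239 i)) (Bool.rec (motive := fun _ => Nat) (Bool.rec (motive := fun _ => Nat) (0x1ea000e9d) (Bool.rec (motive := fun _ => Nat) (0x30001ea00001d) (0x50001ec00083f) (Nat.ble 1244 i)) (Nat.ble 1243 i)) (Bool.rec (motive := fun _ => Nat) (0x30001ed000e29) (Bool.rec (motive := fun _ => Nat) (0x1f00009e1) (0x10001f0000272) (Nat.ble 1247 i)) (Nat.ble 1246 i)) (Nat.ble 1245 i)) (Nat.ble 1242 i)) (Bool.rec (motive := fun _ => Nat) (Bool.rec (motive := fun _ => Nat) (Bool.rec (motive := fun _ => Nat) (0x10001f1000c08) (Bool.rec (motive := fun _ => Nat) (0x20001f1000736) (0x10001f200003b) (Nat.ble 1250 i))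 (Nat.ble 1249 i)) (Bool.rec (motive := fun _ => Nat) (0x20001f30002c3) (Bool.rec (motive := fun _ => Nat) (0x20001f4000e2b) (0x1f5000be0) (Nat.ble 1253 i)) (Nat.ble 1252 i)) (Nat.ble 1251 i)) (Bool.rec (motive := fun _ => Nat) (Bool.rec (motive := fun _ => Nat) (0x10001f50008e5) (Bool.rec (motive := fun _ => Nat) (0x10001f6000e0f) (0x30001f6000857) (Nat.ble 1256 i)) (Nat.ble 1255 i)) (Bool.rec (motive := fun _ => Nat) (0x40001f6000849) (Bool.rec (motive := fun _ => Nat) (0x20001f9000273) (0x50001f90007c8) (Nat.ble 1259 i)) (Nat.ble 1258 i)) (Nat.ble 1257 i)) (Nat.ble 1254 i)) (Nat.ble 1248 i)) (Nat.ble 1237 i))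
noncomputable def C40P_28 (i : Nat) : Nat := (Bool.rec (motive := fun _ => Nat) (Bool.rec (motive := fun _ => Nat) (Bool.rec (motive := fun _ => Nat) (Bool.rec (motive := fun _ => Nat) (Bool.rec (motive := fun _ => Nat) (0x10001fa0005fe) (0x1fb000035) (Nat.ble 1261 i)) (Bool.rec (motive := fun _ => Nat) (0x30001fc0000ac) (Bool.rec (motive := fun _ => Nat) (0x1fd000a86) (0x10001fd0003b1) (Nat.ble 1264 i)) (Nat.ble 1263 i)) (Nat.ble 1262 i)) (Bool.rec (motive := fun _ => Nat) (Bool.rec (motive := fun _ => Nat) (0x30001fd000e16) (Bool.rec (motive := fun _ => Nat) (0x1fe0008ab) (0x10001fe000211) (Nat.ble 1267 i)) (Nat.ble 1266 i)) (Bool.rec (motive := fun _ => Nat) (0x1ff00070e) (Bool.rec (motive := fun _ => Nat) (0x10001ff00066f) (0x30001ff000286) (Nat.ble 1270 i)) (Nat.ble 1269 i)) (Nat.ble 1268 i)) (Nat.ble 1265 i)) (Bool.rec (motive := fun _ => Nat) (Bool.rec (motive := fun _ => Nat) (Bool.rec (motive := fun _ => Nat) (0x20002000006e0) (0x2000201000178) (Nat.ble 1272 i)) (Bool.rec (motive :=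 fun _ => Nat) (0x4000201000694) (Bool.rec (motive := fun _ => Nat) (0x2000203000a39) (0x300020400003c) (Nat.ble 1275 i)) (Nat.ble 1274 i)) (Nat.ble 1273 i)) (Bool.rec (motive := fun _ => Nat) (Bool.rec (motive := fun _ => Nat) (0x2050005db) (Bool.rec (motive := fun _ => Nat) (0x4000205000614) (0x3000207000033) (Nat.ble 1278 i)) (Nat.ble 1277 i)) (Bool.rec (motive := fun _ => Nat) (0x2080009d4) (Bool.rec (motive := fun _ => Nat) (0x500020800049d) (0x2090006d4) (Nat.ble 1281 i)) (Nat.ble 1280 i)) (Nat.ble 1279 i)) (Nat.ble 1276 i)) (Nat.ble 1271 i)) (Bool.rec (motive := fun _ => Nat) (Bool.rec (motive := fun _ => Nat) (Bool.rec (motive := fun _ => Nat) (Bool.rec (motive := fun _ => Nat) (0x3000209000a3d) (0x4000209000b85) (Nat.ble 1283 i)) (Bool.rec (motive := fun _ => Nat) (0x200020a00027b) (Bool.rec (motive := fun _ => Nat) (0x20b000a46) (0x200020b000483) (Nat.ble 1286 i)) (Nat.ble 1285 i)) (Nat.ble 1284 i)) (Bool.rec (motive := fun _ => Nat) (Bool.rec (motive := fun _ => Nat) (0x300020c000b43)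 (Bool.rec (motive := fun _ => Nat) (0x400020c000e11) (0x20f000e0a) (Nat.ble 1289 i)) (Nat.ble 1288 i)) (Bool.rec (motive := fun _ => Nat) (0x4000210000b9b) (Bool.rec (motive := fun _ => Nat) (0x3000211000c33) (0x3000216000127) (Nat.ble 1292 i)) (Nat.ble 1291 i)) (Nat.ble 1290 i)) (Nat.ble 1287 i)) (Bool.rec (motive := fun _ => Nat) (Bool.rec (motive := fun _ => Nat) (Bool.rec (motive := fun _ => Nat) (0x5000216000b44) (Bool.rec (motive := fun _ => Nat) (0x2180005b1) (0x40002180006ac) (Nat.ble 1295 i)) (Nat.ble 1294 i)) (Bool.rec (motive := fun _ => Nat) (0x3000219000b06) (Bool.rec (motive := fun _ => Nat) (0x400021b000150) (0x500021b000709) (Nat.ble 1298 i)) (Nat.ble 1297 i)) (Nat.ble 1296 i)) (Bool.rec (motive := fun _ => Nat) (Bool.rec (motive := fun _ => Nat) (0x400021c0008e6) (Bool.rec (motive := fun _ => Nat) (0x500021c00039e) (0x100021d0008d8) (Nat.ble 1301 i)) (Nat.ble 1300 i)) (Bool.rec (motive := fun _ => Nat) (0x500021f000cce) (Bool.rec (motive := fun _ => Nat) (0x200022000026a) (0x30002200002af)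 (Nat.ble 1304 i)) (Nat.ble 1303 i)) (Nat.ble 1302 i)) (Nat.ble 1299 i)) (Nat.ble 1293 i)) (Nat.ble 1282 i))
noncomputable def C40P_29 (i : Nat) : Nat := (Bool.rec (motive := fun _ => Nat) (Bool.rec (motive := fun _ => Nat) (Bool.rec (motive := fun _ => Nat) (Bool.rec (motive := fun _ => Nat) (Bool.rec (motive := fun _ => Nat) (0x30002210004e4) (0x4000222000e49) (Nat.ble 1306 i)) (Bool.rec (motive := fun _ => Nat) (0x50002270002c9) (Bool.rec (motive := fun _ => Nat) (0x30002280005d0) (0x5000228000eb7) (Nat.ble 1309 i)) (Nat.ble 1308 i)) (Nat.ble 1307 i)) (Bool.rec (motive := fun _ => Nat) (Bool.rec (motive := fun _ => Nat) (0x400022a0001b9) (Bool.rec (motive := fun _ => Nat) (0x400022b0000a4) (0x400022d00062a) (Nat.ble 1312 i)) (Nat.ble 1311 i)) (Bool.rec (motive := fun _ => Nat) (0x22f000b2b) (Bool.rec (motive := fun _ => Nat) (0x40002300004c5) (0x5000231000cff) (Nat.ble 1315 i)) (Nat.ble 1314 i)) (Nat.ble 1313 i)) (Nat.ble 1310 i)) (Bool.rec (motive := fun _ => Nat) (Bool.rec (motive := fun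 _ => Nat) (Bool.rec (motive := fun _ => Nat) (0x5000232000073) (0x2330003dd) (Nat.ble 1317 i)) (Bool.rec (motive := fun _ => Nat) (0x1000235000f0b) (Bool.rec (motive := fun _ => Nat) (0x2000235000b93) (0x3000236000485) (Nat.ble 1320 i)) (Nat.ble 1319 i)) (Nat.ble 1318 i)) (Bool.rec (motive := fun _ => Nat) (Bool.rec (motive := fun _ => Nat) (0x40002370001a2) (Bool.rec (motive := fun _ => Nat) (0x40002380002db) (0x10002390000ee) (Nat.ble 1323 i)) (Nat.ble 1322 i)) (Bool.rec (motive := fun _ => Nat) (0x300023e000139) (Bool.rec (motive := fun _ => Nat) (0x23f000e1e) (0x200023f000564) (Nat.ble 1326 i)) (Nat.ble 1325 i)) (Nat.ble 1324 i)) (Nat.ble 1321 i)) (Nat.ble 1316 i)) (Bool.rec (motive := fun _ => Nat) (Bool.rec (motive := fun _ => Nat) (Bool.rec (motive := fun _ => Nat) (Bool.rec (motive := fun _ => Nat) (0x10002400005cb) (0x5000242000462) (Nat.ble 1328 i)) (Bool.rec (motive := fun _ => Nat) (0x1000243000029) (Bool.rec (motive := fun _ => Nat) (0x2000243000143) (0x5000246000a8e) (Nat.ble 1331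 i)) (Nat.ble 1330 i)) (Nat.ble 1329 i)) (Bool.rec (motive := fun _ => Nat) (Bool.rec (motive := fun _ => Nat) (0x247000e1f) (Bool.rec (motive := fun _ => Nat) (0x2000247000091) (0x5000248000252) (Nat.ble 1334 i)) (Nat.ble 1333 i)) (Bool.rec (motive := fun _ => Nat) (0x24c000a8b) (Bool.rec (motive := fun _ => Nat) (0x100024d000d46) (0x100024e0004f4) (Nat.ble 1337 i)) (Nat.ble 1336 i)) (Nat.ble 1335 i)) (Nat.ble 1332 i)) (Bool.rec (motive := fun _ => Nat) (Bool.rec (motive := fun _ => Nat) (Bool.rec (motive := fun _ => Nat) (0x200024f0007db) (Bool.rec (motive := fun _ => Nat) (0x2000251000b27) (0x254000549) (Nat.ble 1340 i)) (Nat.ble 1339 i)) (Bool.rec (motive := fun _ => Nat) (0x30002540002a9) (Bool.rec (motive := fun _ => Nat) (0x3000255000d5f) (0x4000256000430) (Nat.ble 1343 i)) (Nat.ble 1342 i)) (Nat.ble 1341 i)) (Bool.rec (motive := fun _ => Nat) (Bool.rec (motive := fun _ => Nat) (0x1000257000656) (Bool.rec (motive := fun _ => Nat) (0x3000259000dd9) (0x4000259000713) (Nat.ble 1346 i)) (Nat.ble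 1345 i)) (Bool.rec (motive := fun _ => Nat) (0x500025b00073d) (Bool.rec (motive := fun _ => Nat) (0x25c0006d0) (0x300025d0008e1) (Nat.ble 1349 i)) (Nat.ble 1348 i)) (Nat.ble 1347 i)) (Nat.ble 1344 i)) (Nat.ble 1338 i)) (Nat.ble 1327 i))
noncomputable def C40P_30 (i : Nat) : Nat := (Bool.rec (motive := fun _ => Nat) (Bool.rec (motive := fun _ => Nat) (Bool.rec (motive := fun _ => Nat) (Bool.rec (motive := fun _ => Nat) (Bool.rec (motive := fun _ => Nat) (0x400025d000a4e) (0x5000263000217) (Nat.ble 1351 i)) (Bool.rec (motive := fun _ => Nat) (0x40002650004cb) (Bool.rec (motive := fun _ => Nat) (0x500026700085d) (0x300026a000cf7) (Nat.ble 1354 i)) (Nat.ble 1353 i)) (Nat.ble 1352 i)) (Bool.rec (motive := fun _ => Nat) (Bool.rec (motive := fun _ => Nat) (0x5000270000b91) (Bool.rec (motive := fun _ => Nat) (0x40002720003c0) (0x1000273000191) (Nat.ble 1357 i)) (Nat.ble 1356 i)) (Bool.rec (motive := fun _ => Nat) (0x4000273000a64) (Bool.rec (motive := fun _ => Nat) (0x4000279000af0) (0x100027b000227)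 (Nat.ble 1360 i)) (Nat.ble 1359 i)) (Nat.ble 1358 i)) (Nat.ble 1355 i)) (Bool.rec (motive := fun _ => Nat) (Bool.rec (motive := fun _ => Nat) (Bool.rec (motive := fun _ => Nat) (0x500027b000226) (0x400027e0001ab) (Nat.ble 1362 i)) (Bool.rec (motive := fun _ => Nat) (0x5000283000e19) (Bool.rec (motive := fun _ => Nat) (0x40002840006e5) (0x40002850002bb) (Nat.ble 1365 i)) (Nat.ble 1364 i)) (Nat.ble 1363 i)) (Bool.rec (motive := fun _ => Nat) (Bool.rec (motive := fun _ => Nat) (0x50002860007f6) (Bool.rec (motive := fun _ => Nat) (0x288000d51) (0x2000288000e17) (Nat.ble 1368 i)) (Nat.ble 1367 i)) (Bool.rec (motive := fun _ => Nat) (0x40002880004da) (Bool.rec (motive := fun _ => Nat) (0x289000b5f) (0x1000289000ad0) (Nat.ble 1371 i)) (Nat.ble 1370 i)) (Nat.ble 1369 i)) (Nat.ble 1366 i)) (Nat.ble 1361 i)) (Bool.rec (motive := fun _ => Nat) (Bool.rec (motive := fun _ => Nat) (Bool.rec (motive := fun _ => Nat) (Bool.rec (motive := fun _ => Nat) (0x100028a0000f1) (0x300028c0008bf) (Nat.ble 1373 i)) (Bool.rec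 (motive := fun _ => Nat) (0x400028c00002d) (Bool.rec (motive := fun _ => Nat) (0x200028e000a04) (0x50002940006c3) (Nat.ble 1376 i)) (Nat.ble 1375 i)) (Nat.ble 1374 i)) (Bool.rec (motive := fun _ => Nat) (Bool.rec (motive := fun _ => Nat) (0x300029a000391) (Bool.rec (motive := fun _ => Nat) (0x400029c000092) (0x29d000600) (Nat.ble 1379 i)) (Nat.ble 1378 i)) (Bool.rec (motive := fun _ => Nat) (0x20002a6000e22) (Bool.rec (motive := fun _ => Nat) (0x50002a9000b48) (0x30002aa000d16) (Nat.ble 1382 i)) (Nat.ble 1381 i)) (Nat.ble 1380 i)) (Nat.ble 1377 i)) (Bool.rec (motive := fun _ => Nat) (Bool.rec (motive := fun _ => Nat) (Bool.rec (motive := fun _ => Nat) (0x30002ad000e5c) (Bool.rec (motive := fun _ => Nat) (0x30002b200079b) (0x2b30006cc) (Nat.ble 1385 i)) (Nat.ble 1384 i)) (Bool.rec (motive := fun _ => Nat) (0x30002b800096a) (Bool.rec (motive := fun _ => Nat) (0x40002b90005f5) (0x30002c90009de) (Nat.ble 1388 i)) (Nat.ble 1387 i)) (Nat.ble 1386 i)) (Bool.rec (motive := fun _ => Nat) (Bool.rec (motive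 := fun _ => Nat) (0x2d0000e48) (Bool.rec (motive := fun _ => Nat) (0x10002d00004f3) (0x10002dc000534) (Nat.ble 1391 i)) (Nat.ble 1390 i)) (Bool.rec (motive := fun _ => Nat) (0x50002e60000e0) (Bool.rec (motive := fun _ => Nat) (0x50002ea00069b) (0x10002ec0008ba) (Nat.ble 1394 i)) (Nat.ble 1393 i)) (Nat.ble 1392 i)) (Nat.ble 1389 i)) (Nat.ble 1383 i)) (Nat.ble 1372 i))
noncomputable def C40P_31 (i : Nat) : Nat := (Bool.rec (motive := fun _ => Nat) (Bool.rec (motive := fun _ => Nat) (Bool.rec (motive := fun _ => Nat) (Bool.rec (motive := fun _ => Nat) (Bool.rec (motive := fun _ => Nat) (0x50002ed0008cc) (0x40002f1000f08) (Nat.ble 1396 i)) (Bool.rec (motive := fun _ => Nat) (0x10002f200072b) (Bool.rec (motive := fun _ => Nat) (0x10002ff000b25) (0x2000304000036) (Nat.ble 1399 i)) (Nat.ble 1398 i)) (Nat.ble 1397 i)) (Bool.rec (motive := fun _ => Nat) (Bool.rec (motive := fun _ => Nat) (0x300030b000a44) (Bool.rec (motive := fun _ => Nat) (0x4000313000c0d) (0x3000315000bc6) (Nat.ble 1402 i)) (Nat.ble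 1401 i)) (Bool.rec (motive := fun _ => Nat) (0x500031d0008b3) (Bool.rec (motive := fun _ => Nat) (0x400031f000582) (0x3000321000830) (Nat.ble 1405 i)) (Nat.ble 1404 i)) (Nat.ble 1403 i)) (Nat.ble 1400 i)) (Bool.rec (motive := fun _ => Nat) (Bool.rec (motive := fun _ => Nat) (Bool.rec (motive := fun _ => Nat) (0x400032200061b) (0x100032300084e) (Nat.ble 1407 i)) (Bool.rec (motive := fun _ => Nat) (0x400032c000c7e) (Bool.rec (motive := fun _ => Nat) (0x400032d0002c6) (0x400032e0007ae) (Nat.ble 1410 i)) (Nat.ble 1409 i)) (Nat.ble 1408 i)) (Bool.rec (motive := fun _ => Nat) (Bool.rec (motive := fun _ => Nat) (0x4000331000b4c) (Bool.rec (motive := fun _ => Nat) (0x40003370009f9) (0x1000342000831) (Nat.ble 1413 i)) (Nat.ble 1412 i)) (Bool.rec (motive := fun _ => Nat) (0x30003420004a5) (Bool.rec (motive := fun _ => Nat) (0x3000343000531) (0x200035000005c) (Nat.ble 1416 i)) (Nat.ble 1415 i)) (Nat.ble 1414 i)) (Nat.ble 1411 i)) (Nat.ble 1406 i)) (Bool.rec (motive := fun _ => Nat) (Bool.rec (motive :=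 fun _ => Nat) (Bool.rec (motive := fun _ => Nat) (Bool.rec (motive := fun _ => Nat) (0x400035300012a) (0x40003570003db) (Nat.ble 1418 i)) (Bool.rec (motive := fun _ => Nat) (0x400035c000f33) (Bool.rec (motive := fun _ => Nat) (0x400035f000919) (0x3000365000017) (Nat.ble 1421 i)) (Nat.ble 1420 i)) (Nat.ble 1419 i)) (Bool.rec (motive := fun _ => Nat) (Bool.rec (motive := fun _ => Nat) (0x4000366000ba4) (Bool.rec (motive := fun _ => Nat) (0x37d0001c6) (0x386000581) (Nat.ble 1424 i)) (Nat.ble 1423 i)) (Bool.rec (motive := fun _ => Nat) (0x4000388000cfa) (Bool.rec (motive := fun _ => Nat) (0x100039300050f) (0x3000394000185) (Nat.ble 1427 i)) (Nat.ble 1426 i)) (Nat.ble 1425 i)) (Nat.ble 1422 i)) (Bool.rec (motive := fun _ => Nat) (Bool.rec (motive := fun _ => Nat) (Bool.rec (motive := fun _ => Nat) (0x200039800005b) (Bool.rec (motive := fun _ => Nat) (0x40003a1000840) (0x40003aa0004cd) (Nat.ble 1430 i)) (Nat.ble 1429 i)) (Bool.rec (motive := fun _ => Nat) (0x30003ab000b9f) (Bool.rec (motive := fun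 _ => Nat) (0x40003af000847) (0x30003c5000bae) (Nat.ble 1433 i)) (Nat.ble 1432 i)) (Nat.ble 1431 i)) (Bool.rec (motive := fun _ => Nat) (Bool.rec (motive := fun _ => Nat) (0x50003d20004cf) (Bool.rec (motive := fun _ => Nat) (0x40003d7000832) (0x40003f800069c) (Nat.ble 1436 i)) (Nat.ble 1435 i)) (Bool.rec (motive := fun _ => Nat) (0x400040f0004aa) (Bool.rec (motive := fun _ => Nat) (0x2000450000700) (0x30004610003e0) (Nat.ble 1439 i)) (Nat.ble 1438 i)) (Nat.ble 1437 i)) (Nat.ble 1434 i)) (Nat.ble 1428 i)) (Nat.ble 1417 i))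
noncomputable def C40P (i : Nat) : Nat := (Bool.rec (motive := fun _ => Nat) (Bool.rec (motive := fun _ => Nat) (Bool.rec (motive := fun _ => Nat) (Bool.rec (motive := fun _ => Nat) (Bool.rec (motive := fun _ => Nat) (C40P_0 i) (C40P_1 i) (Nat.ble 45 i)) (Bool.rec (motive := fun _ => Nat) (C40P_2 i) (C40P_3 i) (Nat.ble 135 i)) (Nat.ble 90 i)) (Bool.rec (motive := fun _ => Nat) (Bool.rec (motive := fun _ => Nat) (C40P_4 i) (C40P_5 i) (Nat.ble 225 i)) (Bool.rec (motive := fun _ => Nat) (C40P_6 i) (C40P_7 i) (Nat.ble 315 i)) (Nat.ble 270 i)) (Nat.ble 180 i)) (Bool.rec (motive := fun _ => Nat) (Bool.rec (motive := fun _ => Nat) (Bool.rec (motive := fun _ => Nat) (C40P_8 i) (C40P_9 i) (Nat.ble 405 i)) (Bool.rec (motive := fun _ => Nat) (C40P_10 i) (C40P_11 i) (Nat.ble 495 i)) (Nat.ble 450 i)) (Bool.rec (motive := fun _ => Nat) (Bool.rec (motive := fun _ => Nat) (C40P_12 i) (C40P_13 i) (Nat.ble 585 i)) (Bool.rec (motive := fun _ => Nat) (C40P_14 i) (C40P_15 i) (Nat.ble 675 i)) (Nat.ble 630 i)) (Nat.ble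 540 i)) (Nat.ble 360 i)) (Bool.rec (motive := fun _ => Nat) (Bool.rec (motive := fun _ => Nat) (Bool.rec (motive := fun _ => Nat) (Bool.rec (motive := fun _ => Nat) (C40P_16 i) (C40P_17 i) (Nat.ble 765 i)) (Bool.rec (motive := fun _ => Nat) (C40P_18 i) (C40P_19 i) (Nat.ble 855 i)) (Nat.ble 810 i)) (Bool.rec (motive := fun _ => Nat) (Bool.rec (motive := fun _ => Nat) (C40P_20 i) (C40P_21 i) (Nat.ble 945 i)) (Bool.rec (motive := fun _ => Nat) (C40P_22 i) (C40P_23 i) (Nat.ble 1035 i)) (Nat.ble 990 i)) (Nat.ble 900 i)) (Bool.rec (motive := fun _ => Nat) (Bool.rec (motive := fun _ => Nat) (Bool.rec (motive := fun _ => Nat) (C40P_24 i) (C40P_25 i) (Nat.ble 1125 i)) (Bool.rec (motive := fun _ => Nat) (C40P_26 i) (C40P_27 i) (Nat.ble 1215 i)) (Nat.ble 1170 i)) (Bool.rec (motive := fun _ => Nat) (Bool.rec (motive := fun _ => Nat) (C40P_28 i) (C40P_29 i) (Nat.ble 1305 i)) (Bool.rec (motive := fun _ => Nat) (C40P_30 i) (C40P_31 i) (Nat.ble 1395 i)) (Nat.ble 1350 i)) (Nat.ble 1260 i)) (Nat.ble 1080 i))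 (Nat.ble 720 i))
noncomputable def C40InvB_0 (i : Nat) : Nat := (Bool.rec (motive := fun _ => Nat) (Bool.rec (motive := fun _ => Nat) (Bool.rec (motive := fun _ => Nat) (Bool.rec (motive := fun _ => Nat) (Bool.rec (motive := fun _ => Nat) (0x1660004fb0004e20000000000000000000000000005770004ed0000cd0004fe00041b00000000000000000000000000055e0000000000000000000005310002330004be0000000000000000000000000000000000000000000000000002c90004db0000000000000000000000b500000000058d00000000000000000000000000000000000000000000000000000000015d00046500000000000000000000000000013c000353000000000000000000000000000000000000) (Bool.rec (motive := fun _ => Nat) (0x2590002090000000000000000000000000000000000000000000000450000000000000005240001bc0000000003040000000000000000000000000000000002830000000002210000000000000000000003730000000000000000000000000000000000000000000005880005940000000000000000a10000000000000000000000000000000003380000000000000000000000000000000000000000000000bf0000ba0000000000000000000003b40002cd000056000000000000000255)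 (0x3c00000000000000000000000000000000000000000000000000000000000000001d000046d00000000000000012a0000000000000001340004ee00000000000000000000000000000000017d00000000051f0000000000000000000000000000000000000000000000000000000000000002a700036600000000022d0003ec00041100046600056200053500012c0000000000000000000003eb0001fe000000000000000000000000000222000000000487000324000000000000000000) (Nat.ble 2 i)) (Nat.ble 1 i)) (Bool.rec (motive := fun _ => Nat) (Bool.rec (motive := fun _ => Nat) (0x3300000000000000000000000000011100045600000000000000000000000000000000055c0000e200000000052b0002690000000002b500000000000000031900000000001100000000000000000000000000000000057000026300000000036c0002cc0001f50000a70002420000000001fb0004310000000003a90002150000000000780000000004a900000000030b000000000000000000000000000291000000000000000000000000000000000000000000000000) (0x3ee00052c00047500000000000000018300000000000000042e0000000001300000f900047b00014b00029e0000000005890000000003dc00050c0000000000440000b40000000000000001120001bf00000000000000000000000000000000003f0000000000000001780000000001aa0001230001720000000000000000000000000000000004170001e4000000000000000000000173000000000026000334000206000000000000000000000000)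 (Nat.ble 4 i)) (Bool.rec (motive := fun _ => Nat) (0x3f200039300042a0001ff0000000004f80000000000000000000002800000000000000000000000be0003c30002b000000000012500048500022c0000000000000003d90000650001650000000000000000000000000001240003700001dd0000000000000000000000060000000001eb0000000000170003410000000004d400000000012900051100044800000000000000000000000000000000000000002a00028f0002fa0003750004080005320000000003ba000000) (0x26500051e00000000028d00000000000000000000000000000000000000008e00000000000000009f00000000055200000000017c00044200000000000000000000000000008d00052900000000000000000000030d00000000038a0000000000740000000001a200000000000000000000000000000000032000054d0000000000000000a90000e10000000000000000000000000000000002c500000000059300000000000000000000000000046b) (Nat.ble 6 i)) (Nat.ble 5 i)) (Nat.ble 3 i)) (Bool.rec (motive := fun _ => Nat) (Bool.rec (motive := fun _ => Nat) (Bool.rec (motive := fun _ => Nat) (0x31e00000000000000000000045100000000007e0000000000000000000000000000000000400000000000000000000000000000000004920000000000000000000000f30004a40000000000ee00000000006400000000000000000000000000000000000000029000045d0000000000000000000000000000000000000000000002bf0000000000000000000000000000000002fd0000000001da0000000003e300000000036800045b00058f0000000000000002640001f9000021000000)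 (0x120000000003f400000000045a00000000000800049e0002b10000000004950001cc0000000001220000000000000000000000000000000000000000000000000000000005500005510000000000000000000000000000000004830000000000000000000000000000000000000000000000000005470001800000000000000000000000000004f30003640004d70000000000000003a30000000000000000000002cb0000000000000001e80004a0000000000000000000000000) (Nat.ble 8 i)) (Bool.rec (motive := fun _ => Nat) (0x3e70000200005040000000000000003c20000000000000000000000000004ea0004df0000000001b40000000003a800000000000000034800051700038c00021200000000034b00000000018e0000000002840000000000000000000000000000000000000004900001fd0000000001bb00045400025f0002240001920000000005360002940001e500000000003500000000000000001e0003510000000000000000000000000002f600000000000000000000009c000015) (0x20000000a00055500015600000000000000043d00000000037400000000015100000000023e00000000051800006800048400012e00000000000000053d0000000000620000000000700002a200035500000000000000007c00026200000000003a0000000000000002270000000000000000000000000003fb00009800045700026e0000490003950000000000430000000000000000000003ca0003ae0000000000000004f60000000000b70000000004230003900004b4)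 (Nat.ble 10 i)) (Nat.ble 9 i)) (Bool.rec (motive := fun _ => Nat) (Bool.rec (motive := fun _ => Nat) (0x1b20000000000bc00000000000000000000000000000000000000000000000000000000000000000000000000009500000000000000000000000000000000000000000000000000033600000000052a00000000000000000000000000033a00000000000000000000000000000000000000000000000000031000000000000000000000051b0000000004b90005810000000000000004e3000075000000000000) (0x16700014f0000000000000000000000000000ff00000000000000000000000000000000000000000000000000000000024e00000000000000000000000000034700000000000000000000034a0000000001a00002320000000000000000000001870000000000000002180002ac0001a70001910004ce0000000000000001960002080000000003420000000003cb00000000000000000000000000000000000000000000000000007f000000000000000000000000000000000000) (Nat.ble 12 i)) (Bool.rec (motive := fun _ => Nat) (0x2f700000000000000000000005400000000000000049a0000000000000000000000000000000000000000000000000000000000000000000000000003fa00030500003200000000000000007a0000000000000000000003bd0000000000000000000001d80000000000000000000000000002bd0003e900028500014000001b00007700000000000000019d00031800044b0004b5000000000000000000000000000000000000000000000000000340000349000000)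 (0x2ab0000000000fa0000000000000000000002070000000001370000cf0001e600007d0004f000036700000000000000000000000000000000000000000000024f0000000000000000000000000000000000000000000004a80000000005140000000000000000000002260000e600000000000000000000044500000000000000000000056100000000000000005e0000000000000000000004270000000000000001c10000dc00000000000000000000008b00048a000000) (Nat.ble 14 i)) (Nat.ble 13 i)) (Nat.ble 11 i)) (Nat.ble 7 i)) (Bool.rec (motive := fun _ => Nat) (Bool.rec (motive := fun _ => Nat) (Bool.rec (motive := fun _ => Nat) (Bool.rec (motive := fun _ => Nat) (0x3f60000000000000000000000000000000002cf00000000000000000000000000023a00000000000000000000000000059f0000cb00025800052500000000058a0000000000000003090000000000000000000000000000000000000000000000000000000000000000000003c50001bd0000000000000000000002e20000000002d70004c100000000012000000000054c) (0x3590000000000000000000000d800000000000000040400047e00040600000000000000053f00047f00025a00035f00000000000000000000000000000000049800000000024000000000038f0000000000000000000000000000000000000001440000000000000000000000000000000000000001f70000000000000000000000000000630002300000000000000002fc0002ce0000000000000000000004d80000000003970004050000000000000002df000000)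 (Nat.ble 16 i)) (Bool.rec (motive := fun _ => Nat) (0x30600000000035c0000000003e000000000000000000000000000000000000000000000000000000000000000000000001f00000000000000025d00030e0000000004ab0000000000000000000000000000000000000005300000000000000000000000000000910000000000000000000000000000000000000000000000000001b700000000000000019f00000000000000000000031a0001350000000000000000000001700000000000000002ef0000000000f1000000000000000000) (0x47a0000000000940000000000000000000000000000000004d90002880003db00016a00000000000000000000000000000000000000000000059d00047900000000000000000000058600019c00000000032a00000000000000000000000000050000013600000000000000000000020f000000000000000000000000000000000000000000000000000000000000000462000000000000000000000000000000000000000363000528000000000506000000000422000000) (Nat.ble 18 i)) (Nat.ble 17 i)) (Bool.rec (motive := fun _ => Nat) (Bool.rec (motive := fun _ => Nat) (0x2870003ed00035a00000000000000000000053900056e0004d500000000000000000000039a0002dd0000000000000000000004ad00000000035e00008c0000530005190004bc00018c0000000000000000000003f800031100007300014600055900000000000000000000000000000000037700000000000000032800000000059a00033e0005960000000005480001c90000000004b100040b00037600052200041200000000036d000000000000)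 (0x42c00000000000000000000030800000000000000000000021000056f0000da00021900058700000000044700000000000000000000000000000000000000033f0000000000000004d100000000000000000000000000000000000000000000000000000000000000033c0000000004490001a400000000000000000000000000000000028b0000000005920004d20000000001e30000000001c20000000000000000000000000000000000000000000001cb000000000000) (Nat.ble 20 i)) (Bool.rec (motive := fun _ => Nat) (0x2b60000000000000000000000000002d00000000000000000000000000000000000000001e70000000001450001850000000001840000000002be0000000000000000000000000000000000000001ee00052e0000000000000000000000000000000000000000000000000000000000000000000003a000012700000000003700000000000000000000000000000000000000000000000000000000000000040f00053c0003b1000000000000000000000000000000000000000000000000) (0x3160004820000000000000000000002790000000000000000000001ad00000000000000000000050e00011d0000000000000002ba0000000000000000000000000000000000000000000000000000000001ed00013a0000000000a00000000000000000160000000002bb0004c00000000000000000000003c80000000000000001e100000000000000001d0000000003ff00023900000000000000000000000000033b00000000000000000000019500000000057c000590000000)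 (Nat.ble 22 i)) (Nat.ble 21 i)) (Nat.ble 19 i)) (Bool.rec (motive := fun _ => Nat) (Bool.rec (motive := fun _ => Nat) (Bool.rec (motive := fun _ => Nat) (0x4ec00000000019e0003e60003c10000000000000000000001dc00056b0000000000000000000000000000000000000000000000000000000000000000000000000000000000000000000000000000000000000000000000000000000000000000000000000000000004fc0004800001c000000000000000000000000000000000000000000000000000051c00000000000000000000000000052f000000000000000000000000000000000000000141000000000000000000000000) (0x22f0000ed0000000000000000dd00000000034300000000000000011800000000017b00021d00000000042b00000000002b0002d40000fe0000000000000005200000000000000000000004320003a200000000000000039b00000000000000000000000000005a00000000057e0004930002510000000000000002e300012b0004fd00000000000000000000000000041900000000000000000000000000000000020b000030000000000000000000000000000000000000000000000563) (Nat.ble 24 i)) (Bool.rec (motive := fun _ => Nat) (0xaa00000000000000000000047400016900033d00029b0002a50004c50001d700037a0004700000000003450004f50004210000000000000000760001c70000000001c800000000000000000000000000040d00000000000000000000000000000000000000014c00000000000000000000000000000000054000004a0000000004590000000000000000000004a70001ec00009d00000000000c0000000000000002660002ff0000000004ca00035d0000000000000003fe000000)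 (0x3df00000000002500000000000000000000000000000000000000000000000000011700000000030700000000000000024600050f0000000000000000000000000000000000000004140003d700000000000000000000000000000000000000000000059c0005710000000000000000000000000001150003f10004f900000d0002360002e60000000000000000000000000000000000000000000004400000eb0003dd00013b00014900000000000000000000035200010c) (Nat.ble 26 i)) (Nat.ble 25 i)) (Bool.rec (motive := fun _ => Nat) (Bool.rec (motive := fun _ => Nat) (0x44c0004c90000710000000000d100015c00049d0000000003cf0002530000000000000000000000000000000000310003600000000000000000000000000002ed0000000000000000000005540003cd0000000000000002f40004f70000000002d300000000016c00002900000000027f00000000000000019b0000000005010003320000000000000005440003e50000000000000005690002a30004460000000000000000000000000000000000000005600000570003da000000) (0x17100054300000000016e00024400000000015f0000bd0004e100000000000000000000037f00036b0000000000000000000000000004770005750000000000000001fc00000000000000000000000000000000035600047d0000000000000000000000c200000000000000000900000000000000000000000000027b0000000005420000000000000004500000000004f40000000004350000b10000000005120003620000000000000000000000000000020000000003b600059e)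 (Nat.ble 28 i)) (Bool.rec (motive := fun _ => Nat) (0x2170001b000030f0000000000000000000000000000000000000000000003f00000000002db0000000000000002540000000000000000df0000000002ad00014d0000000000000000000000000000000000600002f10004020000420000860000000000000000000000000003260004440000000000000000000000000000fb00011a0000000000000000000003c900000000000000000000000000031400048f0000000000000000000000000003af000000000000000211000000000000) (0x2e40000000000000001ce00000000043000000000023700000000000000000000017f00012f0005820000000000000000000001310000000003b50000000000000000b60000000000000000000000000000000001580000000002ea0001790005680001860000000000e50000000000000000000000000000c70000000000000000d60002b400027a0004af0004b200031200038e0000000004d60004c70004ac0000000000000000000001f8000000000119) (Nat.ble 30 i)) (Nat.ble 29 i)) (Nat.ble 27 i)) (Nat.ble 23 i)) (Nat.ble 15 i)) (Bool.rec (motive := fun _ => Nat) (Bool.rec (motive := fun _ => Nat) (Bool.rec (motive := fun _ => Nat) (Bool.rec (motive := fun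 _ => Nat) (0x1970000e30000000001cf0000000000000000000000000005560000000000000004090000000000000000000000000000000000000002430000000000000000000000000000000002410000670004150000000000000000000002e900000000000000000000000000053a0000390000d20000b20000000001b90001260000000000a200036a00000000000000000000000000000000040a0004880000000000000004eb00000000000000000000011c0000000000000004b7000000) (Bool.rec (motive := fun _ => Nat) (0x4dc0000000000000003d500000000000000047600000000000000000000000000000000000000059b00058500057d00023b00000000003b00000000032900037e0000500000000000000000000000000001ae0003a100000000026a00000000000000000000005800014200000000000000000000044e0000000000000000000000000000000002f50002490002720003f70000000000000000000002030000000000000000000000000000000000000000000004340000000003830002fe) (0x5b0001990000000000000000000000000000000000000002a80000000002770003300003990000000000000000000002a600000000000000000000000000004d0000000000000000000000690000000003e10000830000000000000000000000000004a60005490004960000000000000000000000000004e80001880004c200026f00000000039100000000046800000000057f0003ab0000000001b10003b30004e900000000059800002d0000000002ee000000000000000000000595)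 (Nat.ble 33 i)) (Nat.ble 32 i)) (Bool.rec (motive := fun _ => Nat) (Bool.rec (motive := fun _ => Nat) (0x55d00000000000000000000000000057200000000022900000000000000011400000000057b0000000001b500000000000000000000028e0000000004f20000b800000000000000005500000000000000033500000000020100000000029a0000000000000002c10001d90000000000000000000003a40003a50001df0000930000000004710000000002aa0000000000000000000000000000000001d300028a0004630000a30001890003f9000000000358000000000000000000000000) (0x1be0000000000ac00000000019400000000000000000000006e0000000000000000000000000000000003980000000001af0001a10000000000000000000000000002200003000000000005130004e60000000002780000100005450000000000000000000000000000000003860000ec00044d00051500000000000000000000000000020d000000000000000104000000000000000000000573000000000000000271000000000000000000000000000000000379000038000331000202) (Nat.ble 35 i)) (Bool.rec (motive := fun _ => Nat) (0x22a0000c00000000000360000000000000003010003330000a400000000000000000000006f0000000000000004a10003ad00000000000000000000000000000000000000041a00032e0000000003aa00000000000000000000000000000000000000000000000000000000058c00049b0000000000000002a400000000000000000000000000000000037800043c00018b0004070000000002700000000000000001c50002d500000000002200024d000000000000000000)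 (0x2e700010500000000000000000000000000000000000000013300000000000000000000000000013d0000000000000000e900000000000000000000056a0000000000d700000000005f0000000000000000000000000003c600000000011b0000000000000003ea0000000000000000000000c800000000000000000000048d00000000000000031500000000000000000000008200000000010e00004c00000000000000000000001300000e000000000000000000000000000000) (Nat.ble 37 i)) (Nat.ble 36 i)) (Nat.ble 34 i)) (Bool.rec (motive := fun _ => Nat) (Bool.rec (motive := fun _ => Nat) (Bool.rec (motive := fun _ => Nat) (0x1c0000c300008800000000000000000000000000000000000000000000018a00000000000000006d0000000000000002a900000000000000000000000000000000048e0000000000000003390000000000000000000000000000000000000003b800030c0000000001000002e10000000000000000000000000001d20000000004a300000000000000000000000000000000000000000700000000000000000000000000000000000000032f000000) (0x32d0003690004910005840000000000000002930001ef0001b30000000000d00000000000000000000000000004d30000000000000000000000000000000002b200002700021a0002fb0000000000000004de0003e800000000056c00049700000000000000000000000000000000006b0000000000000004ff00000000000000000000000000000000000000000000045c00000000000000000000000000000000000000045200037b00000000020a000000000000)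 (Nat.ble 39 i)) (Bool.rec (motive := fun _ => Nat) (0x5020000000004c60002c00004fa00000000000000000000000000045f00023800000000023f00000000000000000000000000043300000000000000002800011f00000000000000000000000000000000000000000000000000000000000000000000028c0000000000000004940000000000000000000000000000000000000000000000ca00026100023c00022300000000016300031b00000000000000000000000000041800018200055f000437000000000000000000) (0x1f10000000000000003d30003ac00010b0003de0000000000c90000000001f400000000000000000000004b0003bb0000000000a80000000003610000000004cf00001800000000000000000000000000054e00000000000000027c0000000000000004cb0000000000590000000000000000000001db0000000000000000000000000000000000000003c70001f00003d00005460000000000000000000001810000000001020000000005050000000005780004b6000000000289000000) (Nat.ble 41 i)) (Nat.ble 40 i)) (Bool.rec (motive := fun _ => Nat) (Bool.rec (motive := fun _ => Nat) (0x41d0000000000000000000000000004250003bc00000000000000000000007b00025c0000000003220000000000000001a600000000025e0000000000000000000000000000000000000000000000000000000000000000000000000004990000000000000000720000890000000004b80000000002dc0000000002c60000000000000003030005330000000000000005370000000004d00000000003440004ef0004410000000000fd00000000036e000000)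 (0x1740000000000f400024c0000000000000000000000b90003250000ae00023d00000000003e00000000000000054f00000000026000043e00000000000000000000000000000000000000039c00000000000000001a00000000000000040300000000008100000000000000000000000000000000000000000000000000000000000000037c00021400000000055b0003be0000e400039e0000000002810000000000000003ce0000000000000000000000000000000000000000000000ab) (Nat.ble 43 i)) (Bool.rec (motive := fun _ => Nat) (0x4860000000000000000000000000000000000000000000001550000000000000000000000000000000002130000000000db0000960001de00052100000000000000000000053b0000000005760000fc00010a0000000000000002c700000000029500029f00000000024b0000000000000001ab0000e80000000000000000000000000002350000000003b20000000000000000000003810000000004730000000000000000000005100001750000000000000001ea000000000000) (0x3d800000000016b00000000000000000000000000008400000000000000011300029600000000000000013800000000012800047c0001c600000000021e00031d0002f80000000000000004aa0001e20000000004bd00055a00000000030200000000044f00000000000000019a00000000000000021b0002e80000000000000000000002560000000002280000520005830000000000000001090005650002670000b000000000050d000507000000000000000000)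 (Nat.ble 45 i)) (Nat.ble 44 i)) (Nat.ble 42 i)) (Nat.ble 38 i)) (Bool.rec (motive := fun _ => Nat) (Bool.rec (motive := fun _ => Nat) (Bool.rec (motive := fun _ => Nat) (Bool.rec (motive := fun _ => Nat) (0x3a600026d00014e00000500045300046c00003d0001e000006100031c0000000000000003f300059900009e00035700000000000000000000000000015a00000000000000058e00000000000000000000000000059700021c0003d200000000050a0002d80000000000000000000002570003d600000000052700000000054b00000000000000000000039d00000000041c0000790001d4000041000000000159000503000000000000000467000000000000) (0x34e0004ae00000000016100000000016800017e0000000000000000000002920000000000900000bb0000000000000000000000d90002860000000000510000800003e40000000000000000000003850000000001060001160004e500000000000000036f0000000000000002750002de00043800000000000000020e00005d0000000002450000000000ce0001480000000000000003fd0003890000000000000000000001cd00057a000000000000000000000274000000000000) (Nat.ble 47 i)) (Bool.rec (motive := fun _ => Nat) (0x2c80002d20000000000000000000002520000000003c40000000001540000000003e200050b00000000009b0001f200027600013e0000000000000000000000000000000000000000000000000004ba0001b800000000000000000000000000031300010d0000a600000000000000000000000000000000047200004f00016d00000000000b00000000000000000000002f00010f0005790000000000000000040003170004e0000000000000000019000000000000000000000000000000)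 (0x4780005800000000000000000000000000000000000000003fc00000000000000000000000000014a00000000027d00027e0000000003b90000000001770000000000000000000000000000000000000000000000000000000000000002250000000000000000000001030000000000000001530002bc0000000001fa0000000000000001470000ad00000000032300000000000000000000000000000000000000000000043b00000000000000000000037200009a000000000000000000) (Nat.ble 49 i)) (Nat.ble 48 i)) (Bool.rec (motive := fun _ => Nat) (Bool.rec (motive := fun _ => Nat) (0x470000000003960000000000000001010003cc0004260000000001a300000000000000026b0000000000000000000000000000000000000003940000f20000000000000003b00000000000000000c40003840000000000000000000003b700000000000000042f00000000000000000000000000000000000000000000000000000000024800002c0000000000000000000002eb00000000000000015000005c0000870000000002af0000f8000424000000000014) (0x52300000000048c00000000000000059100000000000000054a0000000000000000000000b300000000008500000000000000000000016000049f0000a50000000000000000000000000000000000000000000004130002040004bf00029d0004290000000000000000000000000000000000000000000000000000000000c500000000032b0000000000000000000000000005160000000000000000000000000002970000000000000000000004890001a80000000000000004690002ec)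 (Nat.ble 51 i)) (Bool.rec (motive := fun _ => Nat) (0x1ac0000000000000000000002f30000000001d500000000000000000000000000000000013f0000c10000000000000000000000000000000000000000000004580000000002b900000000000000000000000000000000000000044a00000000021600000000000000029900016400009900056600000000000000025000000000000000028200003c00000000000000000000038800000000000000043a000000000000000000000000000000000000000000000000) (0xcc00046100000000022b00000000000000042000020c0004390002d900000000000000000000000000000000000000000000004e0000000000000002a000043f00041f0000000000000000e70000000000ea0000000003f500053e00006600000000029800000000045e0004c30000000000000000000000000000000000000002310005570000ef00000000034d0003bf0000000001760000000000000002c2000000000538000000000000000000000000000000000000) (Nat.ble 53 i)) (Nat.ble 52 i)) (Nat.ble 50 i)) (Bool.rec (motive := fun _ => Nat) (Bool.rec (motive := fun _ => Nat) (Bool.rec (motive := fun _ => Nat) (0x1d10003460000000000000000920000000000000000000000000000d400023400013200000000000000035b0000000000000000000000000000000000000000000001ba0000000000000000000000000001900000000000000000000002c30000000000000000000000000003500003370000000000000004640000000000000000000000000001a500000000000000046a0000000000000000000000000000000000000002d100000000000000000000012d000000000382000000)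 (0x4c80001a90000000000000000000000000000f000000000026c00000000011e00000000009700006a00000000015b0000000000000000000000000000000000000001c300000000000000000000000000000000000000000000041600000000003400000000054100000000000000000000000000000000018d00002e00004800000000000000000000000000046e00000000000000038b0000000000000000000004a5000000000000000000000000000139) (Nat.ble 55 i)) (Bool.rec (motive := fun _ => Nat) (0x4810000000000de00000000000000000000000000042800000000000000000000000000000000000000029c0002e000041e00040100040c0004e400021f0004dd0001070003d400015200000000000000000000056400039200034f00053400052d0004100002a10000000004b00005530000000005580004f100000000049c0004360000000005080000000004e700008f0003ef00000000000000050900000000030a0000000000000000000002da0004bb000268000000000162) (0x2f000000000000000000000000000006c0000000000000000000000000000000000000000000000000000000000000000000000000000000000000003870000000000000000000000000001d600000000031f0000000004cd00000000000000000000056700000000032c0000000000000000000000000000000003a70000000000000000f70000000002f900035400000000008a00000f00000000051a00056d0000d50000000001430000000000000000000000000000e0)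 (Nat.ble 57 i)) (Nat.ble 56 i)) (Bool.rec (motive := fun _ => Nat) (Bool.rec (motive := fun _ => Nat) (0x46f0000000000000002e500000000000000000000000000051d0002d600000000000000032700020500018f00022e0004cc0003710000000000000000000000000000000000000000000000000000000000000000000000460002c400000000000000024a0004da0002b300000000000000000000000000039f0000000000000000000001f300000000000000000000000000000000040000016f0000000000000002b800040e0000000000000002ca000001000000000000000000000000) (0x25b0000000000000000000004c40000000000000000240000000000000004a20000000000000000000000000002b70000000000000000000004b30000f50002f200000000019800017a0000000000000000000003d10000000000000000000000000000000000000002470001ca0000000000000000000000000004550000000004430001570000000000000003800003650000000000000000000001930000000000000000000000000001080001e90000000000d3000000000000) (Nat.ble 59 i)) (Bool.rec (motive := fun _ => Nat) (0x38d00000000000000000000000000000000000000000000042d00058b0000000000000000000001f600000000000000000000000000000000000000000000000000034c0000000000000000000000c600046000000000002300000000000000000000000000048b0002ae0000000001100000000000030001b60000000000000000000000f60000000000000001c400012100052600000000037d00057400000000015e0000000002730000000000af000321000000)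 (0) (Nat.ble 61 i)) (Nat.ble 60 i)) (Nat.ble 58 i)) (Nat.ble 54 i)) (Nat.ble 46 i)) (Nat.ble 31 i))
noncomputable def C40InvB (i : Nat) : Nat := (C40InvB_0 i)
noncomputable def C40Inv (i : Nat) : Nat := Nat.land (Nat.shiftRight (C40InvB (Nat.shiftRight i 6)) (Nat.mul 24 (Nat.land i 63))) 16777215
/-- Generators of a level. -/
def C41G : List (List Nat) := [[0, 5, 7, 5, 8, 4, 6, 4, 1]]
noncomputable def C41P_0 (i : Nat) : Nat := (Bool.rec (motive := fun _ => Nat) (0x2f5) (0xa4a) (Nat.ble 1 i))
noncomputable def C41P (i : Nat) : Nat := (C41P_0 i)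
noncomputable def C41InvB_0 (i : Nat) : Nat := (Bool.rec (motive := fun _ => Nat) (Bool.rec (motive := fun _ => Nat) (Bool.rec (motive := fun _ => Nat) (Bool.rec (motive := fun _ => Nat) (Bool.rec (motive := fun _ => Nat) (0) (Bool.rec (motive := fun _ => Nat) (0) (0) (Nat.ble 2 i)) (Nat.ble 1 i)) (Bool.rec (motive := fun _ => Nat) (Bool.rec (motive := fun _ => Nat) (0) (0) (Nat.ble 4 i)) (Bool.rec (motive := fun _ => Nat) (0) (0) (Nat.ble 6 i)) (Nat.ble 5 i)) (Nat.ble 3 i)) (Bool.rec (motive := fun _ => Nat) (Bool.rec (motive := fun _ => Nat) (Bool.rec (motive := fun _ => Nat) (0) (0) (Nat.ble 8 i)) (Bool.rec (motive := fun _ => Nat) (0) (0) (Nat.ble 10 i)) (Nat.ble 9 i)) (Bool.rec (motive := fun _ => Nat) (Bool.rec (motive := fun _ => Nat) (0) (0) (Nat.ble 12 i)) (Bool.rec (motive := fun _ => Nat) (0) (0) (Nat.ble 14 i)) (Nat.ble 13 i)) (Nat.ble 11 i)) (Nat.ble 7 i)) (Bool.rec (motive := fun _ => Nat) (Bool.rec (motive := fun _ => Nat) (Bool.rec (motive := fun _ => Nat) (Bool.rec (motive :=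 fun _ => Nat) (0) (0) (Nat.ble 16 i)) (Bool.rec (motive := fun _ => Nat) (0) (0) (Nat.ble 18 i)) (Nat.ble 17 i)) (Bool.rec (motive := fun _ => Nat) (Bool.rec (motive := fun _ => Nat) (0) (0) (Nat.ble 20 i)) (Bool.rec (motive := fun _ => Nat) (0) (0) (Nat.ble 22 i)) (Nat.ble 21 i)) (Nat.ble 19 i)) (Bool.rec (motive := fun _ => Nat) (Bool.rec (motive := fun _ => Nat) (Bool.rec (motive := fun _ => Nat) (0) (0) (Nat.ble 24 i)) (Bool.rec (motive := fun _ => Nat) (0) (0) (Nat.ble 26 i)) (Nat.ble 25 i)) (Bool.rec (motive := fun _ => Nat) (Bool.rec (motive := fun _ => Nat) (0) (0) (Nat.ble 28 i)) (Bool.rec (motive := fun _ => Nat) (0) (0) (Nat.ble 30 i)) (Nat.ble 29 i)) (Nat.ble 27 i)) (Nat.ble 23 i)) (Nat.ble 15 i)) (Bool.rec (motive := fun _ => Nat) (Bool.rec (motive := fun _ => Nat) (Bool.rec (motive := fun _ => Nat) (Bool.rec (motive := fun _ => Nat) (0) (Bool.rec (motive := fun _ => Nat) (0) (0) (Nat.ble 33 i)) (Nat.ble 32 i)) (Bool.rec (motive := fun _ => Nat) (Bool.rec (motive := fun _ => Nat)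 (0) (0) (Nat.ble 35 i)) (Bool.rec (motive := fun _ => Nat) (0) (0) (Nat.ble 37 i)) (Nat.ble 36 i)) (Nat.ble 34 i)) (Bool.rec (motive := fun _ => Nat) (Bool.rec (motive := fun _ => Nat) (Bool.rec (motive := fun _ => Nat) (0) (0) (Nat.ble 39 i)) (Bool.rec (motive := fun _ => Nat) (0) (0x1000000000000000000000000000000000000000000000000000000000000) (Nat.ble 41 i)) (Nat.ble 40 i)) (Bool.rec (motive := fun _ => Nat) (Bool.rec (motive := fun _ => Nat) (0) (0) (Nat.ble 43 i)) (Bool.rec (motive := fun _ => Nat) (0) (0) (Nat.ble 45 i)) (Nat.ble 44 i)) (Nat.ble 42 i)) (Nat.ble 38 i)) (Bool.rec (motive := fun _ => Nat) (Bool.rec (motive := fun _ => Nat) (Bool.rec (motive := fun _ => Nat) (Bool.rec (motive := fun _ => Nat) (0) (0) (Nat.ble 47 i)) (Bool.rec (motive := fun _ => Nat) (0) (0) (Nat.ble 49 i)) (Nat.ble 48 i)) (Bool.rec (motive := fun _ => Nat) (Bool.rec (motive := fun _ => Nat) (0) (0) (Nat.ble 51 i)) (Bool.rec (motive := fun _ => Nat) (0) (0) (Nat.ble 53 i)) (Nat.ble 52 i)) (Nat.ble 50 i))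 (Bool.rec (motive := fun _ => Nat) (Bool.rec (motive := fun _ => Nat) (Bool.rec (motive := fun _ => Nat) (0) (0) (Nat.ble 55 i)) (Bool.rec (motive := fun _ => Nat) (0) (0) (Nat.ble 57 i)) (Nat.ble 56 i)) (Bool.rec (motive := fun _ => Nat) (Bool.rec (motive := fun _ => Nat) (0) (0) (Nat.ble 59 i)) (Bool.rec (motive := fun _ => Nat) (0) (0) (Nat.ble 61 i)) (Nat.ble 60 i)) (Nat.ble 58 i)) (Nat.ble 54 i)) (Nat.ble 46 i)) (Nat.ble 31 i))
noncomputable def C41InvB (i : Nat) : Nat := (C41InvB_0 i)
noncomputable def C41Inv (i : Nat) : Nat := Nat.land (Nat.shiftRight (C41InvB (Nat.shiftRight i 6)) (Nat.mul 24 (Nat.land i 63))) 16777215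

end CfsgLib.Coset.Ly
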