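import Cfsg.Agent.Coset.Table

set_option autoImplicit false

namespace CfsgLib.Coset.Ly

/-- The map pairing each of the `k` letters with its inverse. -/
noncomputable def iv (k l : Nat) : Nat := cond (Nat.ble k l) l (Nat.xor l 1)

end CfsgLib.Coset.Ly
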