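import Cfsg.Agent.Coset.Ly.TQData
import Cfsg.Agent.Coset.Ly.T1Data
import Cfsg.Agent.Coset.Ly.T2Data
import Cfsg.Agent.Coset.Ly.T3Data
import Cfsg.Agent.Coset.Ly.T4Data
import Cfsg.Agent.Coset.Ly.T5Data
import Cfsg.Agent.Coset.Ly.Iv

set_option autoImplicit false
set_option maxRecDepth 100000
set_option Elab.async false

/-! The tables below the parabolic subgroup. -/

namespace CfsgLib.Coset.Ly

namespace TQ

theorem hR : checkRules rels subs R = true := by decide +kernel
theorem hdefs : checkDefs E 14 10 552 = true := by decide +kernel
theorem hsteps : checkChunks E (iv 14) R 14 6 552 49 C = true := by decide +kernel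
theorem htable : checkTable E (iv 14) (552 + chunk * 49) 480 14 9 4 Rep Ref Tb = true := by decide +kernel

end TQ

namespace T1

theorem hR : checkRules rels subs R = true := by decide +kernel
theorem hdefs : checkDefs E 10 3 5 = true := by decide +kernel
theorem hsteps : checkChunks E (iv 10) R 10 0 5 1 C = true := by decide +kernel
theorem htable : checkTable E (iv 10) (5 + chunk * 1) 5 10 3 4 Rep Ref Tb = true := by decide +kernel

end T1

namespace T2

theorem hR : checkRules rels subs R = true := by decide +kernel
theorem hdefs : checkDefs E 8 3 5 = true := by decide +kernel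
theorem hsteps : checkChunks E (iv 8) R 8 0 5 1 C = true := by decide +kernel
theorem htable : checkTable E (iv 8) (5 + chunk * 1) 5 8 3 3 Rep Ref Tb = true := by decide +kernel

end T2

namespace T3

theorem hR : checkRules rels subs R = true := by decide +kernel
theorem hdefs : checkDefs E 6 3 5 = true := by decide +kernel
theorem hsteps : checkChunks E (iv 6) R 6 0 5 1 C = true := by decide +kernel
theorem htable : checkTable E (iv 6) (5 + chunk * 1) 5 6 3 3 Rep Ref Tb = true := by decide +kernel

end T3

namespace T4

theorem hR : checkRules rels subs R = true := by decide +kernel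
theorem hdefs : checkDefs E 4 3 5 = true := by decide +kernel
theorem hsteps : checkChunks E (iv 4) R 4 0 5 1 C = true := by decide +kernel
theorem htable : checkTable E (iv 4) (5 + chunk * 1) 5 4 3 2 Rep Ref Tb = true := by decide +kernel

end T4

namespace T5

theorem hR : checkRules rels subs R = true := by decide +kernel
theorem hdefs : checkDefs E 2 3 5 = true := by decide +kernel
theorem hsteps : checkChunks E (iv 2) R 2 0 5 1 C = true := by decide +kernel
theorem htable : checkTable E (iv 2) (5 + chunk * 1) 5 2 3 1 Rep Ref Tb = true := by decide +kernel

end T5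

end CfsgLib.Coset.Ly
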