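import Cfsg.Agent.Coset.Chain

/-!
Following a word through a table with the intermediate points evaluated eagerly.
-/

set_option autoImplicit false

namespace CfsgLib.Coset.Ly

section Kernel

/-- Follow a word, evaluating each point before it is used. -/
noncomputable def ff (t : Nat → Nat → Nat) (i : Nat) (w : List Nat) : Nat :=
  List.rec (fun i => i)
    (fun l _ ih i => Nat.rec (ih 0) (fun n _ => ih (Nat.add n 1)) (t i l)) w i

/-- Every relator fixes every point. -/
noncomputable def checkRelsF (n dn : Nat) (Tb : Nat → Nat) (rels : List (List Nat)) : Bool :=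
  allBelow dn n fun i => allList (fun w => Nat.beq (ff (tget Tb) i w) i) rels

/-- Two words agree at the base points and use valid letters. -/
noncomputable def agree (Tb : Nat → Nat) (base : List Nat) (k : Nat) (v w : List Nat) : Bool :=
  cond (allList (fun x => Nat.ble (Nat.add x 1) k) v)
    (cond (allList (fun x => Nat.ble (Nat.add x 1) k) w)
      (allList (fun b => Nat.beq (ff (tget Tb) b v) (ff (tget Tb) b w)) base) false) false

end Kernel

theorem ff_eq (t : Nat → Nat → Nat) : ∀ (w : List Nat) (i : Nat), ff t i w = follow t i w := by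
  intro w
  induction w with
  | nil => intro i; rfl
  | cons l w ih =>
    intro i
    show Nat.rec (ff t 0 w) (fun n _ => ff t (Nat.add n 1) w) (t i l) = follow t (t i l) w
    cases t i l with
    | zero => exact ih 0
    | succ n => exact ih (n + 1)

theorem checkRels_of_checkRelsF {n dn : Nat} {Tb : Nat → Nat} {rels : List (List Nat)}
    (h : checkRelsF n dn Tb rels = true) : ∀ i < n, ∀ w ∈ rels, follow (tget Tb) i w = i := by
  intro i hi w hw
  have := allList_iff.mp (of_allBelow h i hi) w hw
  rw [← ff_eq]; exact Nat.eq_of_beq_eq_true this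

theorem agree_sound {G : Type*} [Group G] {L : List G} {n : Nat} {Tb : Nat → Nat}
    {ρ : G →* Equiv.Perm (Fin n)} (hm : Matches L ρ Tb) {base : List (Fin n)}
    (hb : baseStab ρ base = ⊥) {k : Nat} (hk : L.length = k) {v w : List Nat}
    (h : agree Tb (base.map Fin.val) k v w = true) : ev L v = ev L w := by
  unfold agree at h
  simp only [cond_false_eq_true] at h
  obtain ⟨hv, hw, h⟩ := h
  refine hm.ev_eq_of_base hb ?_ ?_ ?_
  · rw [hk]; exact allList_iff.mpr (by simpa using hv)
  · rw [hk]; exact allList_iff.mpr (by simpa using hw)
  · refine allList_iff.mpr fun b hb' => ?_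
    have := allList_iff.mp h b hb'
    rwa [ff_eq, ff_eq] at this

end CfsgLib.Coset.Ly
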