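import Cfsg.Agent.Coset.Ly.TPData
import Cfsg.Agent.Coset.Ly.Iv
import Cfsg.Agent.Coset.Ly.Fast

set_option autoImplicit false
set_option maxRecDepth 100000
set_option Elab.async false

/-! The action on 3906 cosets. -/

namespace CfsgLib.Coset.Ly

namespace TP

theorem hR : checkRules rels subs R = true := by decide +kernel
theorem hdefs : checkDefs E 18 13 4446 = true := by decide +kernel
theorem hsteps : checkChunks E (iv 18) R 18 10 4446 517 C = true := by decide +kernel
theorem htable : checkTable E (iv 18) (4446 + chunk * 517) 3906 18 12 5 Rep Ref Tb = true := by decide +kernel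
theorem hperm : checkPerm (iv 18) 3906 18 12 5 Tb = true := by decide +kernel
theorem hrels : checkRelsF 3906 12 Tb rels = true := by decide +kernel
theorem htrans : checkTrans 3906 18 12 Tb Par = true := by decide +kernel

end TP

end CfsgLib.Coset.Ly
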