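import Mathlib.Data.List.Basic

/-!
The relators of the Lyons presentation in twenty letters: `a b c d e c₂ c₃ c₄ c₅ z`, each followed
by its inverse.
-/

set_option autoImplicit false
set_option maxRecDepth 100000

namespace CfsgLib.Coset.Ly

/-- The relators of the subgroup `G₂(5)`, in its eighteen letters. -/
def relsA : List (List Nat) := [[0, 1], [1, 0], [2, 3], [3, 2], [4, 5], [5, 4], [6, 7], [7, 6], [8, 9], [9, 8], [10, 11], [11, 10], [12, 13], [13, 12], [14, 15], [15, 14], [16, 17], [17, 16], [0, 0, 0, 0, 0, 0, 0, 0], [2, 2, 2, 2, 2], [0, 2, 0, 2, 0, 2, 0, 2], [1, 1, 3, 0, 0, 2], [1, 3, 0, 2, 1, 3, 0, 2, 1, 3, 0, 2], [10, 1, 5, 0], [12, 3, 5, 2], [14, 2, 5, 3], [16, 11, 5, 10, 4], [4, 4, 4,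 4, 4], [16, 16, 16, 16, 16], [5, 17, 4, 16], [11, 17, 10, 16], [13, 17, 12, 16], [15, 17, 14, 16], [5, 13, 4, 12, 16, 16], [5, 15, 4, 14, 17, 17], [11, 13, 10, 12, 16], [11, 15, 10, 14], [13, 15, 12, 14, 16], [1, 10, 0, 4, 4], [1, 12, 0, 15, 5, 12, 12], [1, 14, 0, 15, 5, 15, 12, 10, 5], [1, 16, 0, 17, 17], [3, 10, 2, 14, 4, 14, 13, 11], [3, 12, 2, 12, 12, 15, 5, 5], [3, 16, 2, 17], [8, 7, 5, 7, 2, 1, 3, 5, 7, 1, 5, 0, 5, 1, 4, 0, 2, 2], [8, 8], [9, 4, 8, 4, 3, 13, 3], [9, 12, 8, 0, 14, 4, 11, 1, 3, 3], [9, 14, 8, 15, 12, 3, 3], [9, 16, 8, 14, 5, 12, 5], [8, 0, 0, 8, 14, 17, 5, 1, 2, 1, 3, 3, 1], [9, 2, 8, 14, 14, 12, 5], [8, 0, 2, 2, 0, 3, 0, 8, 14, 17, 5, 1, 1], [8, 10, 8, 11, 8, 10, 15, 0, 12, 0,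 0, 0], [6, 9, 3, 10, 1, 9, 1, 9, 1, 16, 14, 4, 2, 0, 3, 3, 1], [6, 6, 1, 1, 1, 1], [3, 7, 2, 6], [7, 0, 6, 1, 1, 1], [6, 16, 6, 16, 6, 16, 6, 16, 6, 16], [6, 16, 6, 17, 6, 16, 1, 1], [10, 10, 10, 10, 10], [12, 12, 12, 12, 12], [14, 14, 14, 14, 14]]

/-- The 86 printed relators with the redundant generators replaced by words. -/
def relW : List (List Nat) := [[0, 0, 0, 0, 0, 0, 0, 0], [2, 2, 2, 2, 2], [0, 2, 0, 2, 0, 2, 0, 2], [1, 1, 3, 0, 0, 2], [1, 3, 0, 2, 1, 3, 0, 2, 1, 3, 0, 2], [4, 5], [10, 1, 5, 0], [12, 3, 5, 2], [14, 2, 5, 3], [16, 11, 5, 10, 4], [4, 4, 4, 4, 4], [16, 16, 16, 16, 16], [5, 17, 4, 16], [11, 17, 10, 16], [13, 17, 12, 16], [15, 17, 14, 16], [5, 13, 4, 12, 16, 16], [5, 15, 4, 14,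 17, 17], [11, 13, 10, 12, 16], [11, 15, 10, 14], [13, 15, 12, 14, 16], [1, 10, 0, 4, 4], [1, 12, 0, 15, 5, 12, 12], [1, 14, 0, 15, 5, 15, 12, 10, 5], [1, 16, 0, 17, 17], [3, 10, 2, 14, 4, 14, 13, 11], [3, 12, 2, 12, 12, 15, 5, 5], [3, 16, 2, 17], [8, 7, 5, 7, 2, 1, 3, 5, 7, 1, 5, 0, 5, 1, 4, 0, 2, 2], [8, 8], [9, 4, 8, 4, 3, 13, 3], [9, 12, 8, 0, 14, 4, 11, 1, 3, 3], [9, 14, 8, 15, 12, 3, 3], [9, 16, 8, 14, 5, 12, 5], [8, 0, 0, 8, 14, 17, 5, 1, 2, 1, 3, 3, 1], [9, 2, 8, 14, 14, 12, 5], [8, 0, 2, 2, 0, 3, 0, 8, 14, 17, 5, 1, 1], [8, 10, 8, 11, 8, 10, 15, 0, 12, 0, 0, 0], [6, 9, 3, 10, 1, 9, 1, 9, 1, 16, 14, 4, 2, 0, 3, 3, 1], [6, 6, 1, 1, 1, 1], [3, 7, 2, 6], [7, 0, 6, 1, 1, 1], [6, 16, 6, 16, 6, 16,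 6, 16, 6, 16], [6, 16, 6, 17, 6, 16, 1, 1], [0, 1], [2, 0, 3, 2, 1, 3], [2, 2, 0, 3, 3, 2, 2, 1, 3, 3], [3, 3, 0, 2, 2, 3, 3, 1, 2, 2], [0, 0, 1, 1], [6, 7], [7, 6], [2, 2, 1, 3, 1, 2, 2, 5, 0, 4, 1, 5, 6, 5, 2, 2, 1, 4, 2, 3, 5, 0, 3, 3, 4, 7, 4, 0, 5, 1, 4, 3, 3, 0, 2, 0, 3, 3], [0, 2, 1, 2, 2, 1, 2, 2, 5, 0, 4, 2, 4, 3, 6, 4, 3, 3, 6, 4, 2, 4, 5, 3, 5, 7, 2, 2, 5, 7, 2, 5, 3, 5, 1, 4, 3, 3, 0, 3, 3, 0, 3, 1], [5, 7, 1, 5, 1, 2, 5, 7, 6, 4, 3, 0, 4, 0, 6, 4], [2, 6, 7, 3], [7, 3, 2, 6], [1, 3, 1, 2, 5, 3, 0, 5, 2, 0, 1, 3, 4, 1, 2, 4, 3, 0, 2, 0], [3, 3, 0, 4, 1, 2, 4, 2, 3, 5, 3, 0, 5, 1, 2, 2], [1, 3, 1, 4, 0, 2, 0, 1, 3, 1, 5, 0, 2, 0], [3, 1, 2, 4, 3, 0, 2, 3, 1, 2, 5, 3, 0, 2], [2, 2, 1, 3,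 4, 2, 0, 4, 3, 3, 5, 4, 2, 2, 5, 1, 3, 5, 2, 0, 3, 3], [1, 1, 1, 0, 0, 0], [2, 1, 3, 1, 1, 0, 0, 2, 0, 3], [0, 2, 2, 0, 3, 3, 1, 0, 2, 2, 1, 3, 3, 1], [1, 6, 3, 5, 1, 2, 5, 7, 2, 5, 3, 1, 5, 0, 3, 0, 2, 0, 3, 2, 1, 3, 1, 2, 1, 4, 0, 2, 4, 3, 6, 4, 3, 0, 4, 2, 7, 0], [0, 3, 3, 1, 4, 2, 5, 2, 1, 5, 5, 6, 4, 0, 4, 1, 4, 3, 7, 6, 2, 5, 0, 5, 1, 5, 7, 4, 4, 0, 3, 4, 3, 5, 0, 2, 2, 1], [2, 0, 3, 1, 3, 3, 1, 3, 4, 2, 2, 4, 2, 6, 4, 3, 3, 6, 4, 2, 4, 5, 3, 5, 7, 2, 2, 5, 7, 3, 5, 3, 3, 5, 2, 0, 2, 2, 0, 2, 1, 3], [5, 3, 5, 7, 2, 2, 5, 7, 3, 5, 3, 3, 5, 2, 0, 2, 2, 0, 2, 1, 3, 2, 0, 3, 1, 3, 3, 1, 3, 4, 2, 2, 4, 2, 6, 4, 3, 3, 6, 4, 2, 4], [1, 5, 7, 0, 5, 3, 0, 5, 7, 1, 5, 0, 4, 3, 3, 5, 3, 1, 3, 3, 2, 2, 0,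 2, 4, 2, 2, 5, 1, 4, 0, 6, 4, 1, 2, 4, 1, 6, 4, 0], [1, 5, 7, 2, 1, 3, 5, 7, 2, 1, 3, 5, 3, 0, 3, 3, 0, 3, 2, 1, 2, 2, 1, 2, 4, 2, 0, 3, 6, 4, 2, 0, 3, 6, 4, 0], [7, 0, 4, 2, 4, 1, 5, 7, 0, 3, 1, 4, 1, 3, 3, 1, 2, 1, 0, 3, 0, 2, 2, 0, 5, 0, 2, 1, 6, 4, 0, 5, 3, 5, 1, 6], [5, 1, 4, 2, 5, 7, 4, 1, 4, 0, 4, 3, 1, 3, 1, 2, 3, 0, 2, 0, 2, 5, 1, 5, 0, 5, 6, 4, 3, 5, 0, 4], [19, 4, 18, 1, 3, 4, 1, 2, 4, 3, 0, 2, 0], [19, 10, 18, 3, 5, 3, 0, 5, 1, 2, 2], [19, 12, 18, 1, 3, 1, 5, 0, 2, 0], [19, 14, 18, 3, 1, 2, 5, 3, 0, 2], [19, 16, 18, 4, 2, 2, 5, 1, 3, 5, 2, 0, 3, 3], [19, 0, 18, 0, 0, 0], [19, 2, 0, 3, 18, 0, 0, 2, 0, 3], [19, 2, 2, 0, 3, 3, 18, 0, 2, 2, 1, 3, 3, 1], [18, 18, 1, 1], [3, 3, 0, 2, 2, 18, 3,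 3, 0, 2, 2, 18, 3, 3, 0, 2, 2, 18, 0, 0], [5, 7, 1, 5, 1, 2, 5, 7, 18, 1, 6, 3, 5, 1, 2, 5, 7, 2, 5, 3, 1, 5, 0, 3, 0, 2, 0, 3, 18, 1, 5, 7, 0, 5, 3, 0, 5, 7, 1, 5, 0, 4, 3, 3, 5, 3, 1, 3, 3, 18], [19, 7, 19, 1, 5, 7, 2, 1, 3, 5, 7, 2, 1, 3, 5, 3, 0, 3, 3, 0, 3, 18, 6, 18, 0, 2, 1, 2, 2, 1, 2, 2, 5, 0, 4, 2, 4, 3, 6, 4, 3, 3, 6, 4, 2, 4], [18, 2, 0, 3, 1, 3, 3, 1, 3, 4, 2, 2, 4, 2, 6, 4, 3, 3, 6, 4, 2, 4, 18, 0, 3, 3, 1, 4, 2, 5, 2, 1, 5, 5, 6, 4, 0, 4, 1, 4, 3, 7, 19, 5, 3, 5, 7, 2, 2, 5, 7, 3, 5, 3, 3, 5, 2, 0, 2, 2, 0, 2, 1, 3, 19, 7, 0, 4, 2, 4, 1, 5, 7, 0, 3, 1, 4, 1, 3, 3, 1, 2, 1], [18, 2, 6, 18, 2, 2, 1, 3, 1, 2, 2, 5, 0, 4, 1, 5, 6, 5, 2, 2, 1, 4, 2, 19, 7, 3, 19, 5, 1, 4, 2, 5, 7, 4, 1, 4,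 0, 4, 3, 1, 3, 1, 2]]

/-- The words replacing the 39 printed generators. -/
def defW : List (List Nat) := [[0], [2], [4], [6], [18], [8], [0], [2, 0, 3], [2, 2, 0, 3, 3], [3, 3, 0, 2, 2], [4], [10], [12], [14], [16], [0, 0], [6], [7], [2, 2, 1, 3, 1, 2, 2, 5, 0, 4, 1, 5, 6, 5, 2, 2, 1, 4, 2], [0, 2, 1, 2, 2, 1, 2, 2, 5, 0, 4, 2, 4, 3, 6, 4, 3, 3, 6, 4, 2, 4], [5, 7, 1, 5, 1, 2, 5, 7], [2, 6], [7, 3], [1, 3, 1, 2, 5, 3, 0, 5, 2, 0], [3, 3, 0, 4, 1, 2, 4, 2], [1, 3, 1, 4, 0, 2, 0], [3, 1, 2, 4, 3, 0, 2], [2, 2, 1, 3, 4, 2, 0, 4, 3, 3, 5], [1, 1, 1], [2, 1, 3, 1, 1], [0, 2, 2, 0, 3, 3, 1], [1, 6, 3, 5, 1, 2, 5, 7, 2, 5, 3, 1, 5, 0, 3, 0, 2, 0, 3], [0, 3, 3, 1, 4, 2, 5, 2, 1, 5, 5, 6, 4, 0, 4, 1, 4, 3,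 7], [2, 0, 3, 1, 3, 3, 1, 3, 4, 2, 2, 4, 2, 6, 4, 3, 3, 6, 4, 2, 4], [5, 3, 5, 7, 2, 2, 5, 7, 3, 5, 3, 3, 5, 2, 0, 2, 2, 0, 2, 1, 3], [1, 5, 7, 0, 5, 3, 0, 5, 7, 1, 5, 0, 4, 3, 3, 5, 3, 1, 3, 3], [1, 5, 7, 2, 1, 3, 5, 7, 2, 1, 3, 5, 3, 0, 3, 3, 0, 3], [7, 0, 4, 2, 4, 1, 5, 7, 0, 3, 1, 4, 1, 3, 3, 1, 2, 1], [5, 1, 4, 2, 5, 7, 4, 1, 4, 0, 4, 3, 1, 3, 1, 2]]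

/-- Generators of the subgroup normalised by `z`. -/
def kgW : List (List Nat) := [[4], [10], [12], [14], [16], [0], [2, 0, 3], [2, 2, 0, 3, 3]]

/-- Their conjugates by `z`. -/
def kmW : List (List Nat) := [[1, 3, 1, 2, 5, 3, 0, 5, 2, 0], [3, 3, 0, 4, 1, 2, 4, 2], [1, 3, 1, 4, 0, 2, 0], [3, 1, 2, 4, 3, 0, 2], [2, 2, 1, 3, 4, 2, 0, 4, 3, 3, 5], [1, 1, 1], [2, 1, 3, 1, 1], [0, 2, 2, 0, 3, 3, 1]]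

end CfsgLib.Coset.Ly
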