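import Cfsg.Agent.Coset.Presented
import Cfsg.Agent.Coset.Ly.Words
import Cfsg.Agent.Coset.Ly.TP
import Cfsg.Agent.Coset.Ly.TLow
import Cfsg.Agent.Coset.Ly.ChainData

/-!
The group presented by the relations 1–44 of the Lyons presentation: order and a faithful action
on 3906 points.
-/

set_option autoImplicit false
set_option maxRecDepth 100000
set_option Elab.async false

namespace CfsgLib.Coset.Ly

theorem fl_iv {G : Type*} [Group G] {L : List G} {k : Nat} (hk : L.length = k)
    (h : ∀ l, l < k → Nat.xor l 1 < k ∧ fl L l * fl L (Nat.xor l 1) = 1) (x : Nat) :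
    fl L (iv k x) = (fl L x)⁻¹ := by
  unfold iv
  cases hx : Nat.ble k x
  · have hlt : x < k := by
      by_contra hge
      rw [Nat.ble_eq.mpr (by omega)] at hx
      exact Bool.noConfusion hx
    exact (inv_eq_of_mul_eq_one_right (h x hlt).2).symm
  · have hge : k ≤ x := Nat.ble_eq.mp hx
    rw [cond_true, fl_of_le _ (hk ▸ hge), inv_one]

/-- The presented group. -/
abbrev A : Type := NumGr 18 relsA

/-- Its generators. -/
noncomputable abbrev LA : List A := numGens 18 relsA

theorem len_LA : LA.length = 18 := length_numGens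

theorem pairsA : ∀ l, l < 18 → Nat.xor l 1 < 18 ∧ fl LA l * fl LA (Nat.xor l 1) = 1 := by
  intro l hl
  have h : ∀ l < 18, Nat.xor l 1 < 18 ∧ [l, Nat.xor l 1] ∈ relsA := by decide +kernel
  refine ⟨(h l hl).1, ?_⟩
  simpa using ev_numGens (k := 18) _ (h l hl).2

theorem inv_LA (x : Nat) : fl LA (iv 18 x) = (fl LA x)⁻¹ := fl_iv len_LA pairsA x

theorem closure_LA : Subgroup.closure {x | x ∈ LA} = ⊤ := closure_numGens

/-- Local inverse letters at a level. -/
theorem inv_level {k : Nat} (S : List Nat) (hk : S.length = k)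
    (hS : ∀ l < k, Nat.xor l 1 < k ∧ S.getD (Nat.xor l 1) 18 = Nat.xor (S.getD l 18) 1 ∧
      S.getD l 18 < 18) (x : Nat) : fl (lv LA S) (iv k x) = (fl (lv LA S) x)⁻¹ := by
  refine fl_iv (by simp [lv, hk]) (fun l hl => ⟨(hS l hl).1, ?_⟩) x
  rw [fl_lv, fl_lv, len_LA, (hS l hl).2.1]
  exact (pairsA _ (hS l hl).2.2).2

/-- The letters of the parabolic subgroup. -/
def SP : List Nat := [0, 1, 2, 3, 4, 5, 10, 11, 12, 13, 14, 15, 16, 17]
/-- The letters of its radical. -/
def SQ : List Nat := [4, 5, 10, 11, 12, 13, 14, 15, 16, 17]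

/-- The parabolic subgroup. -/
noncomputable abbrev P : Subgroup A := genW LA TP.subs

theorem top_table : TableOK LA P TP.E (iv 18) 3906 TP.Rep TP.Tb :=
  tableOK_of_check inv_LA TP.hR (len_LA.symm ▸ TP.hdefs) (len_LA.symm ▸ TP.hsteps)
    (len_LA.symm ▸ TP.htable)
    (fun w hw => ev_numGens (k := 18) w (by
      have : ∀ w ∈ TP.rels, w ∈ relsA := by decide +kernel
      exact this w hw))
    (fun _ hw => ev_mem_genW hw)

theorem level_step {E Rep Tb : Nat → Nat} {n m d d' N nC dn dk k : Nat}
    {C Ref : Nat → Nat} {R : Tr (List Nat × Nat)} {relsS subs : List (List Nat)}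
    (S S' : List Nat) (hk : S.length = k)
    (hS : ∀ l < k, Nat.xor l 1 < k ∧ S.getD (Nat.xor l 1) 18 = Nat.xor (S.getD l 18) 1 ∧
      S.getD l 18 < 18)
    (hc : checkLevel relsA 18 S S' relsS subs = true)
    (hR : checkRules relsS subs R = true) (hd : checkDefs E k d' N = true)
    (hs : checkChunks E (iv k) R k d N nC C = true)
    (ht : checkTable E (iv k) (N + chunk * nC) n k dn dk Rep Ref Tb = true) (hn : 0 < n)
    (hm : Finite (genBy LA S') ∧ Nat.card (genBy LA S') ≤ m) :
    Finite (genBy LA S) ∧ Nat.card (genBy LA S) ≤ n * m := by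
  obtain rfl : k = (lv LA S).length := by simp [lv, hk]
  have h : TableOK (lv LA S) (genBy LA S') E (iv (lv LA S).length) n Rep Tb :=
    tableOK_of_check (inv_level S hk hS) hR hd hs ht
      (level_rels len_LA hc ev_numGens) (level_subs len_LA hc)
  simp only [checkLevel, Bool.and_eq_true, List.all_eq_true, List.contains_iff_mem] at hc
  exact h.finite_card_le hn (genBy_mono fun l hl => hc.1.2 l hl) hm.1 hm.2

theorem card_genBy_SQ : Finite (genBy LA SQ) ∧ Nat.card (genBy LA SQ) ≤ 3125 := by
  have h5 := level_step [16, 17] [] rfl (by decide +kernel) (by decide +kernel)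
    T5.hR T5.hdefs T5.hsteps T5.htable (by decide) (card_genBy_nil (L := LA))
  have h4 := level_step [14, 15, 16, 17] [16, 17] rfl (by decide +kernel) (by decide +kernel)
    T4.hR T4.hdefs T4.hsteps T4.htable (by decide) h5
  have h3 := level_step [12, 13, 14, 15, 16, 17] [14, 15, 16, 17] rfl (by decide +kernel)
    (by decide +kernel) T3.hR T3.hdefs T3.hsteps T3.htable (by decide) h4
  have h2 := level_step [10, 11, 12, 13, 14, 15, 16, 17] [12, 13, 14, 15, 16, 17] rfl
    (by decide +kernel) (by decide +kernel) T2.hR T2.hdefs T2.hsteps T2.htable (by decide) h3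
  exact level_step SQ [10, 11, 12, 13, 14, 15, 16, 17] rfl (by decide +kernel)
    (by decide +kernel) T1.hR T1.hdefs T1.hsteps T1.htable (by decide) h2

theorem card_P : Finite P ∧ Nat.card P ≤ 1500000 := by
  obtain ⟨hf, hc⟩ := level_step SP SQ rfl (by decide +kernel) (by decide +kernel)
    TQ.hR TQ.hdefs TQ.hsteps TQ.htable (by decide) card_genBy_SQ
  have hle : P ≤ genBy LA SP := by
    refine (Subgroup.closure_le _).mpr ?_
    rintro _ ⟨w, hw, rfl⟩
    exact ev_mem_genBy SP ((by decide +kernel : ∀ w ∈ TP.subs, ∀ l ∈ w, l ∈ SP) w hw)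
  exact ⟨Finite.of_injective _ (Subgroup.inclusion_injective hle),
    (Subgroup.card_le_of_le hle).trans hc⟩

theorem card_le : Finite A ∧ Nat.card A ≤ 5859000000 := by
  obtain ⟨hf, hc⟩ := top_table.finite_card_le (by decide) (closure_LA ▸ le_top) card_P.1 card_P.2
  rw [closure_LA] at hf hc
  rw [Subgroup.card_top] at hc
  exact ⟨Finite.of_equiv _ Subgroup.topEquiv.toEquiv, hc.trans (by norm_num)⟩

instance : Finite A := card_le.1

theorem sig_rels : ∀ w ∈ relsA, ev (sigList TP.hperm) w = 1 := by
  intro w hw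
  have hl : ∀ l ∈ w, l < 18 := (by decide +kernel : ∀ w ∈ relsA, ∀ l ∈ w, l < 18) w hw
  have hmem : w ∈ TP.rels := (by decide +kernel : ∀ w ∈ relsA, w ∈ TP.rels) w hw
  rw [← inv_eq_one]
  refine Equiv.ext fun i => Fin.ext ?_
  rw [ev_sigList_inv_apply TP.hperm w i hl, checkRels_of_checkRelsF TP.hrels i i.2 w hmem]
  rfl

/-- The action on 3906 points. -/
noncomputable def ρ : A →* Equiv.Perm (Fin 3906) := numHom (by simp [sigList]) sig_rels

theorem matches_ρ : Matches LA ρ TP.Tb := by
  intro l hl i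
  rw [ρ, numHom_fl, fl_sigList, sig_symm_apply TP.hperm (len_LA ▸ hl)]

theorem transitive (i : Fin 3906) : ∃ g, ρ g ⟨0, by decide⟩ = i :=
  (matches_ρ.transitive (by decide) (len_LA.symm ▸ TP.htrans) i).imp fun _ h => h.2

/-- The base of the action. -/
def baseF : List (Fin 3906) := [0, 2455, 1980]

theorem orbit_A (M : Nat) (hM : M ≤ Nat.card (baseStab ρ baseF)) :
    5859000000 * M ≤ Nat.card (baseStab ρ ([] : List (Fin 3906))) := by
  have h2 := orbit_step matches_ρ (base := [(0 : Fin 3906), 2455]) (β := 1980) (m := 480) (dm := 9)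
    (gens := CA2G) (P := CA2P) (Inv := CA2Inv)
    (by decide +kernel) (by rw [len_LA]; decide +kernel) (by decide +kernel) hM
  have h1 := orbit_step matches_ρ (base := [(0 : Fin 3906)]) (β := 2455) (m := 3125) (dm := 12)
    (gens := CA1G) (P := CA1P) (Inv := CA1Inv)
    (by decide +kernel) (by rw [len_LA]; decide +kernel) (by decide +kernel) h2
  have h0 := orbit_step matches_ρ (base := []) (β := 0) (m := 3906) (dm := 12)
    (gens := CA0G) (P := CA0P) (Inv := CA0Inv)
    (by decide +kernel) (by rw [len_LA]; decide +kernel) (by decide +kernel) h1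
  have : 5859000000 * M = 3906 * (3125 * (480 * M)) := by ring
  omega

theorem card_and_injective : Nat.card A = 5859000000 ∧ Function.Injective ρ :=
  card_eq_and_injective (by decide) card_le.2 (orbit_A _ (card_ker_le (ρ := ρ) baseF))

theorem baseF_eq_bot : baseStab ρ baseF = ⊥ := by
  refine baseStab_eq_bot (N := 5859000000) (by decide) card_le.2 baseF ?_
  refine (orbit_A _ le_rfl).trans (le_of_eq ?_)
  simp [baseStab]

/-- Equality of two words in `A`, decided at the base. -/
noncomputable def eqA (v w : List Nat) : Bool := agree TP.Tb [0, 2455, 1980] 18 v w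

theorem eqA_sound {v w : List Nat} (h : eqA v w = true) : ev LA v = ev LA w :=
  agree_sound matches_ρ baseF_eq_bot len_LA h

end CfsgLib.Coset.Ly
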