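import Cfsg.Agent.BPres.Carmichael
import Cfsg.Prelude.Def_SporadicB
import Mathlib.GroupTheory.SpecificGroups.Alternating.Simple
import Mathlib.GroupTheory.QuotientGroup.Basic

/-!
An involution with nine commuting elements of order three satisfying Carmichael's relations modulo
it, and with centralizer of order at most that of a double cover of the alternating group of degree
eleven, has such a cover as centralizer.
-/

set_option autoImplicit false

namespace CfsgLib.Coset.Ly

open CfsgLib.BPres

/-- Nine elements indexed by the points other than the last two. -/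
def extend11 {M : Type*} [One M] (x : Fin 9 → M) (i : Fin 11) : M :=
  if h : (i : ℕ) < 9 then x ⟨i, h⟩ else 1

theorem isNonsplit_of_carmichael {G : Type*} [Group G] [Finite G] {t : G} {x : Fin 9 → G}
    (ht : t ≠ 1) (ht2 : t * t = 1) (h3 : ∀ i, x i ^ 3 = 1) (hc : ∀ i, x i * t = t * x i)
    (hp : ∀ i j, i < j → (x i * x j) ^ 2 = t) (hx : x 0 ≠ 1)
    (hcard : Nat.card (Subgroup.centralizer {t}) ≤ 39916800) :
    Cfsg.IsNonsplitDoubleCover (Subgroup.centralizer {t}) (alternatingGroup (Fin 11)) := by
  classical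
  let t' : Subgroup.centralizer {t} := ⟨t, Subgroup.mem_centralizer_singleton_iff.mpr rfl⟩
  have hord : orderOf t' = 2 := by
    refine orderOf_eq_prime (Subtype.ext ?_) fun h => ht (congrArg Subtype.val h)
    rw [pow_two]
    exact ht2
  set Z := Subgroup.zpowers t' with hZdef
  have hZ : Nat.card Z = 2 := by rw [hZdef, Nat.card_zpowers, hord]
  have htZ : t' ∈ Z := Subgroup.mem_zpowers t'
  have hZc : Z ≤ Subgroup.center (Subgroup.centralizer {t}) := by
    rw [hZdef, Subgroup.zpowers_le, Subgroup.mem_center_iff]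
    exact fun g => Subtype.ext (Subgroup.mem_centralizer_singleton_iff.mp g.2)
  haveI : Z.Normal :=
    ⟨fun n hn g => by
      rw [Subgroup.mem_center_iff.mp (hZc hn) g, mul_inv_cancel_right]; exact hn⟩
  let y : Fin 9 → Subgroup.centralizer {t} := fun i =>
    ⟨x i, Subgroup.mem_centralizer_singleton_iff.mpr (hc i)⟩
  have hy3 : ∀ i, y i ^ 3 = 1 := fun i => Subtype.ext (by simpa [y] using h3 i)
  have hyp : ∀ i j, i < j → (y i * y j) ^ 2 = t' := fun i j h => Subtype.ext (by
    simpa [y, t'] using hp i j h)
  have hyp' : ∀ i j, i ≠ j → (y i * y j) ^ 2 ∈ Z := by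
    intro i j hij
    rcases lt_or_gt_of_ne hij with h | h
    · rw [hyp i j h]; exact htZ
    · have e : (y i * y j) ^ 2 = y i * (y j * y i) ^ 2 * (y i)⁻¹ := by
        simp only [pow_two, mul_assoc, mul_inv_cancel, mul_one]
      rw [e, hyp j i h, Subgroup.mem_center_iff.mp (hZc htZ) (y i), mul_inv_cancel_right]
      exact htZ
  let z : Fin 11 → Subgroup.centralizer {t} ⧸ Z := extend11 fun i => QuotientGroup.mk' Z (y i)
  have hzi : ∀ i : Fin 11, i ≠ 9 → i ≠ 10 → ∃ k : Fin 9, (k : ℕ) = i ∧ z i = QuotientGroup.mk' Z (y k) := by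
    intro i h1 h2
    have hi : (i : ℕ) < 9 := by
      rcases Nat.lt_or_ge (i : ℕ) 9 with h | h
      · exact h
      · have := i.2
        rcases (show (i : ℕ) = 9 ∨ (i : ℕ) = 10 by omega) with h' | h'
        · exact absurd (Fin.ext h') h1
        · exact absurd (Fin.ext h') h2
    exact ⟨⟨i, hi⟩, rfl, by simp [z, extend11, hi]⟩
  obtain ⟨φ, hφ⟩ := carmichael (a := (9 : Fin 11)) (b := 10) (by decide) z
    (fun i h1 h2 => by
      obtain ⟨k, -, hk⟩ := hzi i h1 h2
      rw [hk, ← map_pow, hy3, map_one])
    (fun i j h1 h2 h3' h4 hij => by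
      obtain ⟨k, hk', hk⟩ := hzi i h1 h2
      obtain ⟨l, hl', hl⟩ := hzi j h3' h4
      rw [hk, hl, ← map_mul, ← map_pow]
      refine (QuotientGroup.eq_one_iff _).mpr (hyp' k l fun e => hij (Fin.ext ?_))
      rw [← hk', ← hl', e])
  haveI := alternatingGroup.isSimpleGroup (α := Fin 11) (by simp)
  have hinj : Function.Injective φ := by
    rw [← MonoidHom.ker_eq_bot_iff]
    rcases (inferInstance : IsSimpleGroup (alternatingGroup (Fin 11))).eq_bot_or_eq_top_of_normal
      φ.ker inferInstance with h | h
    · exact h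
    exfalso
    have h0 := hφ 0 (by decide) (by decide)
    rw [MonoidHom.mem_ker.mp (h ▸ Subgroup.mem_top (cyc (9 : Fin 11) 10 0) :
      cyc (9 : Fin 11) 10 0 ∈ φ.ker)] at h0
    obtain ⟨k, hk', hk⟩ := hzi 0 (by decide) (by decide)
    obtain rfl : k = 0 := Fin.ext (by simpa using hk')
    rw [hk] at h0
    have hmem : y 0 ∈ Z := (QuotientGroup.eq_one_iff _).mp h0.symm
    have h2 : y 0 ^ 2 = 1 := by
      have := pow_card_eq_one' (x := (⟨y 0, hmem⟩ : Z))
      rw [hZ] at this
      simpa using congrArg Subtype.val this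
    refine hx ?_
    have h := hy3 0
    rw [pow_succ, h2, one_mul] at h
    exact congrArg Subtype.val h
  have hA : 2 * Nat.card (alternatingGroup (Fin 11)) = 39916800 := by
    have h4 := two_mul_nat_card_alternatingGroup (α := Fin 11)
    rw [Nat.card_perm, Nat.card_fin] at h4
    rw [h4]
    rfl
  have hbij : Function.Bijective φ := by
    refine hinj.bijective_of_nat_card_le ?_
    have e := Subgroup.card_mul_index Z
    rw [hZ, Subgroup.index_eq_card] at e
    omega
  have hcenter : Subgroup.center (Subgroup.centralizer {t}) = Z := by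
    refine le_antisymm (fun g hg => ?_) hZc
    let e := (MulEquiv.ofBijective φ hbij).symm
    have hg' : e (QuotientGroup.mk' Z g) ∈ Subgroup.center (alternatingGroup (Fin 11)) := by
      rw [Subgroup.mem_center_iff]
      intro σ
      obtain ⟨u, rfl⟩ := e.surjective σ
      obtain ⟨w, rfl⟩ := QuotientGroup.mk'_surjective Z u
      rw [← map_mul, ← map_mul, ← map_mul, ← map_mul, Subgroup.mem_center_iff.mp hg w]
    rcases (inferInstance : IsSimpleGroup (alternatingGroup (Fin 11))).eq_bot_or_eq_top_of_normal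
      (Subgroup.center (alternatingGroup (Fin 11))) inferInstance with h | h
    · rw [h, Subgroup.mem_bot] at hg'
      exact (QuotientGroup.eq_one_iff g).mp (e.map_eq_one_iff.mp hg')
    · exfalso
      have hcomm := Subgroup.mem_center_iff.mp
        (h ▸ Subgroup.mem_top (cyc (9 : Fin 11) 10 0) :
          cyc (9 : Fin 11) 10 0 ∈ Subgroup.center (alternatingGroup (Fin 11)))
        (cyc (9 : Fin 11) 10 1)
      have := congrArg (fun s : alternatingGroup (Fin 11) => (s : Equiv.Perm (Fin 11)) 9) hcomm
      simp only [Subgroup.coe_mul, Equiv.Perm.mul_apply] at this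
      rw [cyc_apply_a (by decide) (by decide) (by decide),
        cyc_apply_a (by decide) (by decide) (by decide),
        cyc_apply_b (by decide) (by decide), cyc_apply_b (by decide) (by decide)] at this
      exact absurd this (by decide)
  refine ⟨hcenter ▸ hZ, ⟨(QuotientGroup.quotientMulEquivOfEq hcenter).trans
    (MulEquiv.ofBijective φ hbij).symm⟩, fun L hL => ?_⟩
  rw [hcenter] at hL
  have hsplit : ∀ g, g ∈ L ∨ t' * g ∈ L := by
    intro g
    obtain ⟨⟨a, b⟩, hab, -⟩ := Subgroup.IsComplement.existsUnique hL g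
    have hb : (b : Subgroup.centralizer {t}) ∈ L := b.2
    have ha2 : (a : Subgroup.centralizer {t}) = 1 ∨ (a : Subgroup.centralizer {t}) = t' := by
      obtain ⟨k, hk⟩ := Subgroup.mem_zpowers_iff.mp (a.2 : (a : Subgroup.centralizer {t}) ∈ Z)
      rw [← hk, ← zpow_mod_orderOf, hord]
      rcases Int.emod_two_eq_zero_or_one k with h | h <;> simp [h]
    rcases ha2 with ha | ha
    · left; rw [← hab]; simpa [ha] using hb
    · right
      rw [← hab]
      have : t' * t' = 1 := Subtype.ext ht2
      simpa [ha, ← mul_assoc, this] using hb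
  have hnt : t' ∉ L := fun h => by
    have hd := Subgroup.IsComplement'.disjoint hL
    have h1 : t' = 1 := Subgroup.disjoint_def.mp hd htZ h
    exact ht (congrArg Subtype.val h1)
  have hyL : ∀ i, y i ∈ L := by
    intro i
    rcases hsplit (y i) with h | h
    · exact h
    exfalso
    have h' := pow_mem h 3
    rw [(show Commute t' (y i) from (Subgroup.mem_center_iff.mp (hZc htZ) (y i)).symm).mul_pow,
      hy3, mul_one, pow_succ, show t' ^ 2 = 1 from hord ▸ pow_orderOf_eq_one t', one_mul] at h'
    exact hnt h'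
  exact hnt (hyp 0 1 (by decide) ▸ pow_mem (mul_mem (hyL 0) (hyL 1)) 2)

end CfsgLib.Coset.Ly
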