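import Mathlib.Data.List.Basic

/-! Certificates for the centralizer of an involution of the Lyons group. -/

set_option autoImplicit false
set_option maxRecDepth 100000

namespace CfsgLib.Coset.Ly

/-- The involution, as a word. -/
def tWord : List Nat := [0, 0, 4, 11, 0, 0, 15]

/-- Nine elements of order three in its centralizer. -/
def carmW : List (List Nat) := [[14,4,4,3,2,0,2,10,2,13,1,15,2,2,5,5,15], [0,4,3,1,13,5,0,3,2,0,2,10,2,13,1,15,2,2,1,4,12,0,2,5,1], [12,3,0,3,0,15,2,1,0,15,2,1,2,0,2,10,2,13,1,15,2,0,3,14,1,0,3,14,1,2,1,2,13], [8,19,3,0,0,4,11,0,0,15,2,18,9,0,0,4,11,0,0,15,8,19,3,2,0,2,10,2,13,1,15,2,2,18,9,14,1,1,10,5,1,1,8,19,3,14,1,1,10,5,1,1,2,18,9], [10,7,19,0,0,4,11,0,0,15,18,6,11,0,0,4,11,0,0,15,10,7,19,0,0,4,11,0,0,15,18,6,11,0,0,4,11,0,0,15,10,7,19,0,4,3,1,2,0,2,10,2,13,1,15,2,0,2,5,1,18,6,11,14,1,1,10,5,1,1,10,7,19,14,1,1,10,5,1,1,18,6,11,14,1,1,10,5,1,1,10,7,19,14,1,1,10,5,1,1,18,6,11],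 [17,10,7,19,0,0,4,11,0,0,15,18,6,11,0,0,4,11,0,0,15,10,7,19,0,0,4,11,0,0,15,18,6,11,0,0,4,11,0,0,15,10,7,19,0,4,3,1,2,0,2,10,2,13,1,15,2,0,2,5,1,18,6,11,14,1,1,10,5,1,1,10,7,19,14,1,1,10,5,1,1,18,6,11,14,1,1,10,5,1,1,10,7,19,14,1,1,10,5,1,1,18,6,11,16], [16,10,7,19,0,0,4,11,0,0,15,18,6,11,0,0,4,11,0,0,15,10,7,19,0,0,4,11,0,0,15,18,6,11,0,0,4,11,0,0,15,10,7,19,0,4,3,1,2,0,2,10,2,13,1,15,2,0,2,5,1,18,6,11,14,1,1,10,5,1,1,10,7,19,14,1,1,10,5,1,1,18,6,11,14,1,1,10,5,1,1,10,7,19,14,1,1,10,5,1,1,18,6,11,17], [17,17,10,7,19,0,0,4,11,0,0,15,18,6,11,0,0,4,11,0,0,15,10,7,19,0,0,4,11,0,0,15,18,6,11,0,0,4,11,0,0,15,10,7,19,0,4,3,1,2,0,2,10,2,13,1,15,2,0,2,5,1,18,6,11,14,1,1,10,5,1,1,10,7,19,14,1,1,10,5,1,1,18,6,11,14,1,1,10,5,1,1,10,7,19,14,1,1,10,5,1,1,18,6,11,16,16],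 [16,16,10,7,19,0,0,4,11,0,0,15,18,6,11,0,0,4,11,0,0,15,10,7,19,0,0,4,11,0,0,15,18,6,11,0,0,4,11,0,0,15,10,7,19,0,4,3,1,2,0,2,10,2,13,1,15,2,0,2,5,1,18,6,11,14,1,1,10,5,1,1,10,7,19,14,1,1,10,5,1,1,18,6,11,14,1,1,10,5,1,1,10,7,19,14,1,1,10,5,1,1,18,6,11,17,17]]

/-- The fixed points of the involution. -/
def fixL : List Nat := [0, 16, 135, 155, 413, 416, 429, 478, 521, 534, 1031, 1121, 1125, 1197, 1208, 1214, 1215, 1241, 1313, 1388, 1508, 1515, 1521, 1865, 2068, 2192, 2255, 2311, 2340, 2410, 2455, 2497, 2498, 2521, 2641, 2649, 2686, 2821, 2974, 3504, 3590, 3600]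

/-- Words leading to the fixed points. -/
def fixW : List (List Nat) := [[], [8,10], [8,0,2], [8,11,0], [6,8,0,0], [6,8,0,5], [6,8,1,3], [6,8,5,14], [6,8,11,12], [6,8,12,11], [6,14,6,12], [6,15,8,2], [6,15,8,12], [8,6,4,10], [8,6,10,4], [8,6,10,12], [8,6,10,14], [8,10,0,3], [6,4,1,7,12], [6,4,4,8,14], [6,4,7,11,13], [6,4,7,13,11], [6,4,7,15,3], [6,4,12,12,8], [6,4,15,13,8], [6,5,5,8,5], [6,5,8,17,7], [6,5,10,14,14], [6,5,11,8,7], [6,5,12,14,8], [6,5,14,1,8], [6,5,15,8,6], [6,5,15,8,11], [6,5,17,17,8], [6,8,4,14,0], [6,8,5,1,2], [6,8,7,4,8], [6,8,15,6,13], [6,10,5,14,14], [6,14,4,8,15], [8,0,2,0,5], [8,0,8,13,10]]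

/-- The three blocks on thirty points. -/
def blkL : List (List Nat) := [[2,16,17,136,154,156,1177,1178,1237,1241], [14,137,138,151,155,1174,1196,1235,1355,2340], [135,1171,1172,1173,1239,1240,2608,3589,3590,3591]]

/-- The cosets of the first suborbit which may be fixed. -/
def cosL : List (Nat × Nat) := [(0,0), (0,1), (0,2), (0,3), (0,4), (1,1), (2,3), (3,3), (4,3), (5,1), (6,1), (7,0), (8,1), (9,1), (10,3), (11,2), (12,0), (13,2), (14,2), (15,3), (16,0), (17,0), (18,4), (19,1), (20,0), (21,0), (22,3), (23,1), (24,4), (25,2), (26,0), (26,1), (26,2), (26,3), (26,4), (27,0), (27,1), (27,2), (27,3), (27,4), (28,1), (29,3), (30,0), (30,1), (30,2), (30,3), (30,4), (31,4), (32,1), (33,4), (34,3), (35,4), (36,2), (37,0),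 (37,1), (37,2), (37,3), (37,4), (38,0), (38,1), (38,2), (38,3), (38,4), (39,3), (40,1), (41,1)]

/-- The fixed points in the large orbit of the point stabiliser. -/
def oppL : List Nat := [2255, 2311, 2455, 2821, 2974]

/-- Words in the generators, piece 0. -/
def wd2_0 : List (List Nat) := [[3,2,1,3,2,0,3], [2,3,1,2,1,3], [0,1,3,0,1,3], [2,0,3,3,1,3], [2,3,2,2,3,3], [1,3,1,3,0,2,3], [1,3,1,0,3], [2,2,3,1,2], [0,1,3,2,3], [0,0,2,3,1,2,3], [0,0,2,3,2,3], [2,3,1,0,3,2], [2,2,3,1,3,3], [1,3,0,1,2,3], [1,3,1,2,0], [0,3,1,2,3,2,0], [0,3,1,2,3,3,1], [3,3,1,3,0,2], [2,0,3,1], [0,1,3,2,3,3,2,2], [2,3,1,3,2,2,1], [0,2,3,3,2,3,2,0], [1,2,0,3,3,1,3], [1,1,1,3,2,3,3,2], [1,3,2,2,0,3,1], [1,2,3,2,3,2,3,2], [0,1,0,3,2,2,0],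 [0,3,1,3,2,3,1,3], [0,0,1,2,3,2,3], [0,2,0,3,1,3,2,2], [1,3,0,2,3,3,2], [0,3,1,2,3,2,2,3], [2,1,3,2], [1,3,3,2,3], [0,2,3,0,1,3,1], [2,3,3,0,1,3], [0,2,0,3,2,3], [3,2,2,0], [0,2,3,2,3,1], [2,3,3,2,3], [2,1,3], [0,1,2,3,1,3,0], [1,3,2,3,1,0,1], [1,3,1,3,2,3,1], [0,2,0,3,2,3,2], [1,3,3,2,0,3,3], [0,3,3,0], [2,2,3,2,3,2], [1,3,1,3,1,3,2], [1,3,3,2,3,2], [1,1,1,3,2], [2,3,1,3,2,0,1], [2,3,2,3,0,2,2], [0,1,0,3,1,3,3,1], [0,0,1,3,2,3,2], [1,3,1,3,1,3,1], [2,3,2,0,3], [1,2,3,0,2], [0,2,3,2,3], [1,3,1,3,2,3], [0,3,2,3,0,1,0], [0,0,1,3,2,2], [0,3,2,3,0,2,0], [3,3,1,3,2,0,1], [0,3,2,3,3,2,3,2], [0,2,3,2,2], [3,3,1,3,0,1,0], [3,3,1,3,0,2,0], [0,3,2,3,2,0,1], [0,3,2,3,0,1,2], [1,2,3,2,3,1,0], [3,3,1,0,3,2,3], [2,3,2,2,3,0,1],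 [3,3,1,0,3,2], [0,3,2,1,2,2,3], [0,3,1,1,2,3], [0,2,3,2,2,3,1], [2,3,1,3,1,2,1], [2,2,1], [3,3,2,2,3,2], [3,3,0,2,3,1], [0,2,2,3,3,2], [0,3,1,3,1,3], [2,3,1,2,1,3,2], [2,3,2,3,2,2,1], [2,3,0,1,0,3,3], [0,0,3,3,2,3,1,3], [2,3,0,2,2,3], [2,3,2,3,0,0], [1,3,0,2,0,3,3], [2,3,2,3,3,0], [3,0,0,0], [1,3,1,1,3,2], [2,0,3,3,1,3,0], [0,1,3,1,3,3], [1,2,3,1,3,0,1,0], [3,3,2,2], [0,3,1,2,3,3,1,3], [0,3,1,2,0,3,2,3], [0,3,2,3,3,2,2], [1,2,3,0,2,3,0], [2,3,0], [0,1,3,1,2,1], [1,2,3,2,3,3,2,3], [0,1,3,3,1,3,2], [3,2,2,3], [0,3,1,0,3,3,2], [0,0,1,3,2,2,3], [0,2,3,1,3,3], [1,2,1,0], [2,3,1,3,3,1,1], [2,3,0,1,2,3,0], [2,3,3,1,3,0,2,0], [3,1,2,3,1,0], [0,3,2,3,1,2,3,2], [2,3,1,2,3,1,3], [0,1,1,1,3], [0,1,3,0,1,2], [0,1,3,3,1,3],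 [0,2,0,3,2,3,1,3,3], [1,2,2,0,3], [3,1,3,1,3,1], [2,2,3,2,3,1,2], [1], [0,2,3,2,3,1,2], [0,2,3,2,3,2,0], [3,3,0], [0,3,1,1], [0,1,1,3,1,3,2,0], [1,3,1,3,3,2], [1,3,1,3,3,1,0], [0,2,3,2,3,0,1,0], [3,1,1,3], [0,2,1,3,0], [1,2,1,3,2,3,2], [0,1,3,2,3,1,0,1], [2,3,1,0,3,3,1,0], [0,0,0,0], [1,2,3,2,3,3,2], [0,3,1,2,3,1,3], [0,0,1,3,2,3,0,1], [2,3,3,1], [0,1,3,0,1,0,3], [0,2,3,0,1,3], [0,2,3,2,0,3,3], [2,2,0,3,3], [1,0,3,3], [2,3,3,1,2,3], [0,2,2,0], [0,1,0,2,1], [3,1,3,0,1,3,0], [2,2,3,2,2], [0,3,1,3,3,2,3], [2,3,2,0,3,3], [0,1,3,3,1,3,3,2], [0,2,3,2,3,2,2,3], [1,1,2,3,1,3], [3,0,1,1], [1,3,3,0,0,1], [1,3,2,3,1,3,2,3], [0,1,1,2,2], [2,3,3,0,0,1], [0,1,3,1,3,1], [2,2,3,3,2,3,1], [3,0,0,3], [0,3,1,3,0,1], [0,0,3,3,2,3,3],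 [0,3,2,3,2,3,1], [2,1,0,1], [0,0,2,3,2,3,0], [0,0,2,3,2,3,1], [3,1,3,1,2], [0,3,2,3,1,3,3,2], [1,2,3,1,0,3,3], [2,3,1,2,1], [0,1,3,0], [1,0,3,1,3,2,0,3], [0,1,0,3,2,3,2], [2,1,0,3], [0,1,1,3,2,3,1], [2,2,3,1], [0,0,0,0,1], [1,2,3,3,2,3,0], [2,3,1,3,3], [0,3,1,0,1], [1,2,3,1,3,2,2,1], [3,2,1,3,2,3], [2,3,0,1,2], [1,1,2,3], [0,1,0,3,2,3], [0,3,1,2,3,1,2,3], [0,2,3,0,1,3,1,2], [0,3,2,0,3,2,3], [1,1,1,3,1,0], [1,1,1,3,2,3,3,1], [0,2,3,2,3,1,0,1], [3,1,3,2,3,1,3], [1,3,2,0], [0,2,3,2,3,2,1,2], [0,2,0,3,2,3,1,3]]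

/-- Words in the generators, piece 1. -/
def wd2_1 : List (List Nat) := [[1,3,0,1,1,1], [2,2,0,3,3,1], [1,3,1,2,3,3], [3,3,1,3,3], [0,3,2,3,2], [2,2,3,0,1], [1,2,1,2,3,1,3], [0,1,1,3,1,3,1,0], [0,0,3,3,2,3,1], [1,3,0,2,1,2], [3,1,1,3,2,3,0], [1,0,3,1,3], [2,1,2,3,1,3,1], [0,3,2,3,3,2,0], [1,3,0,1,3,0], [0,2,3,2], [0,3,2,3,0,2], [1,0,3,3,1], [3,1,3,2,3,3,1], [1,0,3,1,3,0,1], [1,3,2,3,0], [2,2,3,2], [3,1,3,0,1,3], [0,1,1,2,3,1], [0,1,2,3,0,2,3,1], [0,3,3], [3,3,1,3,1,0,1], [2,1,3,3,2], [3,3,1,2], [3,2,1,0], [3,1,1,3,1], [0,0,3,3,2,2], [0,3,2,3,0], [0,1,2,3,1,0,1], [0,3,1,2,3,1,2], [1,2,3,2,3,1], [1,3,2,3,0,0,0], [3,3,1,3,0,1], [3,3,1,3,3,0,0], [0,1,3,3,2,3,1], [0,3,1,2,3,2], [0,3,1,0,1,3,2], [0,0,1,3,3,2,0], [0,1,3,2,3,3,1,3],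 [1,0,1,3,2,3,1], [1,3,2,3,2,2], [0,0,1,3,2], [3,1,3,2,3,3,2], [2,2,3,2,3], [0,3,1,2,3], [3,3,2,3,1,0,3], [0,1,1,3,1,3,0], [0,1,0,3,1,3,1], [0,3,2,3,2,1,2], [0,3,1,2,0,3,1], [2,0,3,3,1,3,3], [0,1,3,2,2,3,0], [3,3,2,2,3,0,2], [0,3,1,0,1,3], [0,0,3,3,2,3,2], [0,3,1,1,2,3,1], [1,2,3,2,3,2], [0,3,1,3,1,3,3], [2,3,1,3,1,0], [1,2,3,2,3,0,0,1], [2,3,2,2,3], [2,0,3,2,3,0,1,0], [0,2,3,1,3,3,1], [1,2,2,1,2,3], [2,3,3,2,1,2], [0,1,2,3,0,2,3], [2,2,1,3], [3,3,0,1,3,2], [2,1,2,2], [1,3,2,3,1,3,3], [0,0,3,3,2,0,1], [0,2,3,1,3,0,2], [2,0,3,1,3,3], [2,3,1,0,1,3], [2,0,3,2,3,0,1], [2,2,1,3,3], [2,3,1,3,1,3,2], [2,3,2,1,2], [0,0,2,3,2], [2,3,1,3,1,2], [0,1,0,3,1,3,3,1,3], [1,2,1,3,3,2], [0,1,3,2,3,2,3,0], [1,1,1,3,0], [3,3,1,3],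 [0,2,3,3,2,2,3,0], [0,3,1,2,0,3], [0,3,2,3], [0,1,2,3,3], [0,0,3,3,2,3], [0,1,3,1,3,1,1], [2,3,0,0,0,2,3], [2,3,0,0,3], [3,1,3,1,2,3], [0,1,1,3,1,0,3], [0,3,1,1,2], [2,2,3,3,1,3,2], [0,3,1,3,0,2,3,1], [0,2,2,0,3], [1,0,3,2,3,3], [1,3,3,1,3,1,3], [1,0,3,2,1,2,3], [1,0,3,2,3,3,2,2], [3,3,1,3,1,0,3,3], [2,3,1,0,3,3,2], [0,1,0,3,2,3,0,2], [0,1,3,3,1,3,0], [1,0,3,1,2,3], [0,1,0,3,2,3,0,1], [0,3,2,2,3,2,3], [3,0,0,3,1], [0,3,1,3,1,2,1], [2,0,3,1,3,0,2], [2,3,1,3,3,1], [2,2,3,3,2], [0,2,0,1,0], [2,3,3,1,3,0,2], [3,1,3,0,1], [0,1,1,3,1,0], [3,3,1,2,3,1,0], [2,0,3,1,3,0], [0,0,1,3,2,3,1], [0,1,1,3,1], [0,3,1,2,2,1], [1,3,2,2,3,3,1], [2,1,3,3,1], [3,2,2,3,2], [1,2,3,1,3,0,2,0], [1,3,2,3,3,2], [2,2,1,3,3,1], [0,1,1,2,0,3],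 [2,1,2,3,1,3], [0,1,2,1,3], [0,1,3,3,0,0], [3,3,2,3,2], [0,1,2,1], [0,3,1,0], [2,0,3,1,3,1,3], [1,3,1,1,3,1], [0,3,1,3,3,0,2,2], [0,0,0,1,0,3], [1,2,3,1,3,0,2], [0,3,2,3,1,0,3,3], [0,3,1,2,1,3,2], [0,3,1,3,2,0,1], [0,2,2,3,3,2,3,0], [1,2,3,0,2,3], [0,2,2,0,3,1,3], [2,3,2], [2,3,2,3,2,3,2], [0,1,3,1,3,1,0], [1,2,3,1,3,3], [0,1,0,3,2,3,0], [1,2,3,2,2,3,3], [1,0,3,1,0,1,3], [3,3,2,3,1,0,1], [0,3,2,0,3,1,0,3], [0,1,3,2,2,3,3], [0,0,1,3,3,2,3,3], [2,2,3,3,2,3,0], [1,0,3,1,3,3,0], [3,3,2,0,1], [2,3,1,3,0,1], [0,3,1,3,1,0], [0,3,1,0,3,1,0], [0,2,0,3,2,3,0,1], [1,3,3,2,1,2], [2,0,3,2,3,0,2], [1,2,1,2,3,1], [1,0,3,3,1,3,1], [0,2,3,2,3,0,2], [1,3,1,0,1,3], [3,1,0,2], [1,2,3,2,0,3], [0,0,2,3,2,2], [0,3,2,3,1,3,0], [0,3,1,0,2],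 [0,3,1,3,0,2,3,0], [3,2,1], [3,1,3,2,2], [0,1,1,2,1], [2,0,2,3], [1,0,3,1,2,3,1], [1,1,1,3,2,3], [1,3,1,3,0,2], [2,3,1,3,0,1,0], [0,3,1,3,0,1,1,1], [2,0,3,1,3], [0,1,2,3,2,2,3,0], [0,0,1,3,3,1,3,3], [0,3,1,0,3,1,2,3], [0,0,3,3,1], [0,3,1,1,2,3,0], [0,3,2,0,3,1,3], [2,0,3,1,0,3]]

/-- Words in the generators, piece 2. -/
def wd2_2 : List (List Nat) := [[1,3,1,3,3,1,3], [1,0,1,3,2,3,0], [1,3,3,1,0,3], [1,1,2,3,1], [0,1,3,1,3,1,3], [3,3,2,3,3,2,2], [0,1,3,3,0], [1,2,3,3,2], [1,2,3,3,0,0], [2,3,2,1,2,3], [1,0,1,3,1,0], [1,2,2,3], [1,0,3,2,0,3,2], [1,0,3,1,3,0,2], [0,0,3,3,1,3,3], [0,2,2,3,2], [0,2,3,0,1,3,0,1], [1,3,1,3,3,1], [0,1,3,1,0], [0,1,0,3,1,3,2], [3,3,0,1,3], [1,3,0,2,3,3], [0,1,2,3,1,3,2], [0,1,0,3,1,0,3],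 [0,1,3,3,1,2,3], [3,1,3,2,3,1,0], [2,0,3,1,3,1,1], [0,0,0,0,3], [2,3,2,1,2,2], [2,2,1,2,3], [0,2,0,3,1,3,0,2], [0,0,3], [1,2,2,0], [0,3,1,2,1], [1,2,3,2,3,3,0], [2,3,3,1,3,1,2,1], [3,2,0,3,1], [3,2,2], [0,3,2,3,2,2,3,0], [1,2,3,2,3,0,2], [0,1,3,1,3,2,2,1], [1,3,2,3,1,3], [3,3,1,3,2,2,1], [1,3,0,1,0,3,3], [0,1,1,3,1,3], [0,2,3,2,0], [0,3,1,0,1,3,0], [2,0,3,3,1], [0,2,1,2,3,3], [1,2,3,1,0], [1,2,3,3,2,3], [0,3,1,3,0,1,3,2], [3,1,2], [0,1,2,3,2,0,3], [3,3,1,2,3,1,2,1], [0,2,1,2,3], [1,2,3,1,2,3], [0,2,3,2,3,0,1], [2,2,3,1,3,3,2], [2,3,1,0], [3,3,2,3], [1,1,1,3,2,3,3], [0,3,2,1,2,3,3], [0,0,2,3,1], [0,0,3,3,2,0,3], [0,2,3,1,0,3,2,3], [1,0,2,3], [1,0,1,3,2,0,3], [3,3,2,3,1,0], [0,1,0,2,3], [0,1,2,3,2,0,3,1], [2,3,0,0],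 [0,3,1,2,1,3,0], [3], [1,0,3,1,0], [3,3,0,1], [3,0,0], [0,1,2,3,2,3,3,1], [1,3,1,3,0], [1,3,0,2,3,1,0], [0,3,2,3,3,1], [1,1,2,3,3,1,3], [3,1,3,2,2,3,1], [2,3,3,2,3,2,1], [1,3,3,0,2,2,3], [0,2,3,3,2,2,3], [2,2,3,3,1], [0,2,3,0,1,3,1,3], [0,3,1], [2,3,3,0,1,3,3], [1,3,2,3], [1,3,0,2,2,3], [0,1,0,3,1,0], [1,2,3,1,2], [1,3,1,0,3,2,3], [1,2,3,2,0,3,3], [1,2,0,3,1,3], [0,2,2,1,3], [3,3,0,2,2,3], [1,1,2,3,0,2], [0,2,3,2,3,2], [1,3,0,1,2,3,2], [0,0,2,3,1,2], [0,1,1,3,2], [1,3,2,2,0], [3,3,2,0,3,3], [0,0,1,3,2,3,0,0], [3,3,2,2,3,1,3], [1,0,1,3,2,3,3], [2,0,3,1,3,2,2], [2,3,3,2,3,1,2], [1,2,3,2,3,3], [1,0,1,3,0,1,3,3], [0,1,3,3,2,0,3], [0,3,1,3,1,2], [0,3], [1,2,0,3,2,3,3], [2,3,1,3,1,3], [0,2,2,3], [0,3,2,2,0,3,3], [0,2,0,3,2,3,0,2],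 [0,1,2,3,1,0], [1,3,3,2,3,1,2], [1,3,3,1,1,2], [1,3,1,3,3,2,3], [0,1,0,2,3,1], [3,1,1], [1,3,3,1,3,3,1], [2,0,3,1,3,3,1], [1,0,3,1,3,1], [3,0,0,3,1,3,2], [3,3,2,2,3,0], [0,1,1,2,3,0], [3,3,1,3,1,2,1], [0,3,1,3,2,0,3], [2,2,3,1,0], [1,2,3,2,3,2,0], [0,2,3,0,1,3,2], [1,3,1,0,3,2], [0,2,2,3,2,2], [3,3,0,1,0,3,3], [1,0,3,3,2,2,3], [1,2,3,3,2,3,1], [0,3,1,2,1,3], [1,2,3,3,1], [3,3,1,3,0,2,3], [1,3,0,1,1,1,3], [0,1,2,3,1,3,1], [2,3,3,2,3,2,0], [3,3,1,0,3,1,3], [0,3,1,2,3,0], [1,0,3,3,2], [0,3,2,3,0,0,0,2], [1,3,2,3,2,1], [0,2,3,1], [0,1,3,3,2,3], [3,1,3,1,2,3,0,2], [3,3,2,2,3,0,1], [0,3,1,3,2,3,3], [0,1,1,3,1,3,3,1], [3,3,1,3,0], [0,3,2,3,2,1,3], [1,3,2,2,1], [3,3,1,3,2,0], [0,3,2,3,2,0], [0,2,3,2,0,1], [3,3,0,2,3,2,2],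 [1,3,2,3,0,0,1], [1,0,3,3,2,2], [1,3,1,2,0,3], [1,3,0,1,0], [3,1,3,1,3,1,3], [3,3,1,3,2,2], [0,0,3,3,2,3,2,0], [0,2,3,1,3,2], [1,0,3,3,2,3], [1,3,0,1,2], [1,0,3,3,2,0], [2,0,3,1,3,3,1,2], [0,3,2,3,2,2], [2,2,3,3,1,3,2,3], [0,1,1,3,1,3,1,3,1], [1,3,3,1,2], [0,2,3,3,2,2], [2,3,3,2,3,1,2,3], [0,3,1,2,3,2,0,3], [0,0,1,3,3,2,2], [0,1,2,3,1,2,1], [2,3,3,1,3], [2,3,2,1,3], [1,0,3,2,3,0,2], [2,1,2,3,2,2,3], [3,3,2,2,1], [1,0,3,2,3,1,3], [0,2,2,0,3,1,3,2], [3,1,3,1,3,0], [1,1,2,2], [3,3,0,1,0], [2,3,0,2,3], [1,1,2,0,3,2]]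

/-- Words in the generators, piece 3. -/
def wd2_3 : List (List Nat) := [[0,3,2,0,3,3,1], [0,3,1,2,3,3,2], [3,1,3,1,3,0,2], [0,0,3,3,1,3,0], [0,0,0,1,2], [1,3,2,3,3,1,3,1], [0,2,3,3,2,3,0], [0,1,3,2,3,0,0], [1,3,0,1,3,3,2], [1,3,3,1,2,3,2], [1,0,3,1,0,3,2], [0,1,0,3,2,0], [1,3,3,1,3,2,3], [0,3,2,3,0,1,0,3], [1,0,3,2,3,3,2], [0,0,0,3,2,3,0], [1,0,3,1,3,1,3], [1,2,3,2,3,0], [0,3,2,3,2,1], [0,2,3,1,3,1], [1,3,2,3,1,2], [3,3,0,2,3], [1,2,0,3,2,3,3,2], [2,1,2,3,2], [1,1,2,3,3,1], [1,0,1,3,1], [0,2,3,1,2,3,0], [1,0,3,2,2,3], [1,2,2,1], [1,0,3,2,3,0,1], [1,3,3,2,3,2,2], [0,1,2,3,1,3,2,0], [2,3,3,0], [0,3,1,3,1,3,0], [0,3,1,3,2,0,3,3], [3,1,3,0], [2,3,1,3,2,0], [1,2,1,2,3], [1,0,1,3,1,0,3], [1,2,3,1], [2,2,3,3], [0,2,2,1,3,3],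 [2,0,3,2,3], [0,1,1,1,3,1,3], [3,2,1,3,2], [3,1,3,2], [0,3,2,1,2,2], [0,3,1,3,3,1], [2,3,1,0,1], [0,2,3,1,3,0,1], [1,3,2,0,3,3], [1,3,1,2,0,3,1], [0,1,1,2,3,1,0], [0,2,3,1,2], [1,3,2,3,0,2], [2,0,3,2,3,3,0], [1,3,1,0], [1,0,3,3,2,3,1], [0,3,1,2,3,2,2], [0,0,1,2,1,3], [0,1,0,3,2,2,3], [2,3,1,3,2,0,3], [1,3,0,1,3,0,1], [0,3,2,3,0,0,0], [0,2,3,2,3,0,2,0], [0,1,2,2], [0,1,3,0,2,3,1], [0,1,2], [0,2,1,3,2,3,0], [1,2,3,1,3,2,2], [1,0,3,1,3,3,0,0], [0,1,3,2,3,2,0,3], [0,2,3,2,3,0], [0,1,3,1,0,3], [1,2,3,1,0,1], [3,3,2,2,3], [2,3,1,2], [0,2,3,3,2,0], [2,3,0,2,3,3], [2,3,3,1,2], [2,2,1,3,2,3,3], [2,2,3,0], [2,2,1,3,2,2], [1,3,3,1,0], [3,2,0,3], [0,0,3,3], [0,0,3,3,2,3,3,2], [3,3,1,0,3,1], [0,1,3,2,3,1,3,1], [1,0,3,1,3,1,1],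 [0,3,2,3,0,0], [0,3,2,0,3], [0,1,3,1,2,1,3,0], [0,1,3,3,2,3,1,0], [1,3,1,2,1,2], [0,0,2], [1,1,2], [3,1,1,3,2,3], [0,0,0,2,3], [0,3,1,3,1,0,3], [2,3,1,3,1], [2,3,3,1,3,3], [3,3,1,3,0,2,2], [1,3,0,1,3,2], [1,3,0,1,3], [3,3,1,2,1,3], [0,1,3,1,3,0,2], [2,3,1,0,3,3,1], [3,1,3,2,3,2], [0,3,2,3,3,2], [2,3,3,2,3,2,3,3], [1,0,3,1,3,2,3,3], [0,3,2,3,3,2,3], [0,3,2,3,0,0,3,1,3], [3,2,1,2], [1,3,0,2,1], [0,0,1,3,2,2,3,0], [1,3,2,2], [0,3,2,3,3,0], [1,3,2,3,2], [3,3,1,3,0,1,2], [1,1,1,3,2,0], [0,2,3,2,1], [0,3,2,3,0,2,2], [0,3,2,2,1,3], [0,3,2,3,1,0,1], [0,1,3,3,1,2,3,3], [0,3,2,3,2,2,1], [2,3,2,2,3,1], [0,2,2,3,1,3,2], [0,1,1,3,1,3,0,2], [0,1,2,0,3], [0,0,1,2,3,2], [0,1,0,3,2], [1,0,1,3,2,0,1], [0,1,2,3,3,2], [0,3,1,2,0,3,3],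 [3,3,1,3,2], [0,2,3,1,3], [0,3,1,2,0,3,2], [0,2,3,3,2,3], [1,3,0], [1,3,1,3,3], [0,1,0,3,2,2], [0,0,3,3,2,3,3,2,3], [3,3,2,3,2,0,1], [0,0,1,2,3,1,2,3], [3,3,1,3,1,3,1], [1,3,0,1,2,3,0], [0,1,1,3,1,3,1,3], [0,3,1,3,2,2,1], [1,2,3,1,2,1,3], [0,2,3,2,3,2,3], [0,3,1,1,2,0,3], [0,3,2,3,3,0,0], [3,3,0,1,2,3,2], [0,1,3,0,2,3,0], [1,3,1,2,0,3,2], [2,3,3,1,1,2], [2,3,0,0,3,1], [2,3,0,0,1,3], [2,2], [0,0,1,2,3,1,2], [0,3,1,3,0,2,3,2], [2,3,0,2,3,1,2], [1,0,3,2,3,3,2,0], [1,3,1,3,2], [0,3,2], [0,3,1,3,1,2,0], [2,2,0,1], [1,0,2], [1,3,2], [2,3,2,3,0,1,3,2], [0,2,0,3,1,1], [2,3], [0,3,1,3,3,1,0], [1,2,1,3,0,1], [3,3,0,2,3,2], [1,0,3,3,1,3,1,0], [1,2,3,3,1,3], [0,1,3,1,3,2], [2,0,3,2,3,1], [0,2,1,3], [1,0,3,2,3,2,3,2], [3,3,1,3,1,3,0],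 [1,0,3,2,1,2], [0,0,3,3,1,0,3], [1,0,1,3,2,3,3,2], [0,1,3,1,0,3,3,2], [0,1,3,2,2,3,0,1], [1,1,2,0,3], [3,3,0,2,3,1,2], [3,3,2,2,3,2,2], [2,3,2,1,2,2,3], [0,1,3,3,0,2,2], [3,3,2,3,1,2], [2,3,2,3,0,1,0], [1,0,3,2,3,3,2,3], [0,0,3,3,1,3,2,3], [0,1,3,0,2,2,3]]

/-- Words in the generators, piece 4. -/
def wd2_4 : List (List Nat) := [[0,1,3,2,3,2,2,1], [1,1], [2,1,2,3,1,3,3], [3,3,2,3,2,1,3], [2,3,2,3,2,0], [2,3,0,1,3,1,2], [0,3,2,1], [0,1,2,0,3,3], [1,2,3,3,1,3,3], [2,3,2,3,0,2,1], [0,2,2,3,0,1], [0,1,1], [0,2,0,3,2,0,3], [1,3,0,1,2,3,3], [0,3,1,0,3,3], [1,2,3,1,0,3,1], [0,3,1,1,2,3,1,3], [1,0,1,3,1,3,2], [3,2,2,3,1,3,3], [1,3,2,3,1,3,2], [0,3,1,3,0,2,0], [1,3,3,1,3,3], [0,2,3,1,2,3], [0,3,1,3,2,0], [2,3,0,1,3,2,3,2],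 [2,3,0,1,3,0], [0,2,2,3,1,3], [0,2,2,0,3,1], [0,3,1,3,3,2,3,3], [1,3,1,0,1,3,2], [0,1,3,2,3,1,2,3], [0,3,2,2,3,1,2], [1,3,2,3,1,3,3,2], [2,0,3,2], [0,1,3,0,2,3], [1,3,3,0,2], [0,1,2,3,1,0,3,2,3], [1,3,1,2,3,2], [1,3,0,2,3,1], [1,3,2,2,3], [0,1,0,3,1,3,2,3], [2,1,3,3,2,3], [0,3,1,3,1,0,1], [2,3,2,3,0,1,3,0], [1,3,2,3,0,2,3,3], [2,3,0,2,1,2], [0,1,3,0,2,1,2], [1,3,3,1,3,0,1], [0,0,3,1], [3,2], [2,3,1,3,0,2], [1,3,3,2,3,1,3,3], [2,2,3,1,3], [1,3,0,2,3], [2,3,2,2,3,1,2], [1,3,3,1,3,3,2,2], [0,2,3,2,3,0,2,2], [0,1,2,3,3,2,3], [2,3,2,3,0,1], [0,1,2,3], [0,3,1,3,0,2,2,3], [1,0,3,1,3,1,2,0], [3,1,3,1,3], [2,3,2,2,3,2,3], [0,0,1,0,3], [0,3,1,3,3,1,2], [1,0,3,1], [2,1,2,3,1], [0,1,2,3,2], [2,3,3,1,2,3,3], [0,2,3,3,2], [1,1,1,3,3,2],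 [0,3,2,3,2,3,3,2], [0,1,3,0,1,2,3], [2,2,0], [3,3,1,3,2,0,3,2], [2,3,1,2,3,0,2,3], [1,2,3,2,2,3], [0,3,2,3,1,0,3,1], [0,2,3,1,3,3,1,3], [0,1,3,0,1,0], [0,1,1,3,1,3,2], [2,0,3,2,0,3], [0,1,3,2,2,1], [1,2,3,1,3], [0,3,1,3], [3,2,2,3,1,3], [0,1,3,2,2,3], [0,0,1,3,2,3,2,0], [0,3,1,2,3,1,3,0], [2,3,1,0,2], [0,1,3,2,3,1,0], [0,2,3,2,3,1,2,1], [0,2,2,3,0,2,3], [0,3,1,3,0,1,3], [2,1,2,3,2,3], [0,0,1,3,3,1,3,0], [1,2,0,3], [0,1,3,0,2], [2,3,1,3], [0,3,1,3,2,3], [3,3,1,0,3], [3,2,2,3,2,3], [0,3,2,3,3,1,2], [3,3,0,1,2,3], [3,3,1,0,3,2,0], [0,3,2,0,3,3], [1,2,3,1,3,2,0], [0,3,1,3,0], [1,3,2,3,1,3,0], [0,2,3,2,2,1,3], [0,2,1,2], [3,3,1,0,2], [2,3,1], [0,1,0,3,1,2], [2,3,3,0,0], [1,2,3,2,2,3,2], [2,3,3,2,2], [2,3,0,0,1,0], [0,1,3,1,2],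 [0,2,3,2,1,2,3], [3,1,1,3,2,3,1], [2,3,2,1], [0,1,3,0,1,0,3,2], [2,3,2,0,3,2], [3,3,1,3,3,2,0,3], [0,1,3,1,3,2,3], [2,3,3,0,1,2,3], [0,1,3,3,0,2,3], [1,2,3,2,3,1,3], [0,3,1,3,2,3,0], [0,3,1,2,3,1,2,1], [2,0,2], [0,0,3,3,2,3,2,3], [0,1,1,3,2,3,2], [0,2,0,3], [0,1,3,1,2,3], [2,3,3,2,1,2,3], [3,3,1,2,1], [1,3,1,3,3,2,2], [3,1,1,3,1,3], [1,3,1,3,3,2,1], [2,1,2,3,1,3,1,3], [0,1,1,2,2,3], [3,1,3,2,2,3,2], [0,1,3,3,1,2], [1,2,3,1,3,0], [2,3,3,1,0,3,3], [0,3,2,2,1], [0,3,3,2], [3,0,1], [0,2,3,1,3,0,2,2], [1,2,3,2,0,3,3,1], [1,3,0,1,1,2], [1,0,1,3,0], [1,2,3,0], [0,1,2,0,3,1], [0,3,2,3,3], [0,0,0,2,3,2], [1,0,3,1,0,1,3,2], [3,3,1,3,3,1,2,3], [2,3,3,1,3,2,0], [2,2,3,1,2,3,2], [2,3,2,0,3,1,0], [3,3,1,3,2,0,3], [0,1,3,2,3,3,1],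 [0,1,3,3,2,0], [1,2,0], [0,3,2,0,1], [0,2,2,3,1,3,3], [2,3,2,3,3,1,3], [2,3,2,0,3,2,3], [1,3,2,3,1,0], [0,1,0,3,2,0,3], [1,3,2,3,3,0,1,3], [1,3,2,3,3,2,3], [0,1,2,3,0,2,2], [2,3,2,2,1], [1,2,3,2,3,0,0], [2,3,0,1,0], [1,0,1,3,1,3], [3,3,2,3,0], [1,3,0,2], [1,0,3,1,3,1,0], [2,3,2,3,1,0], [0,1,1,1,3,0], [3,3,2,0,3,3,1], [2,3,0,2,3,0], [1,0,3,2,3,0], [3,3,2,3,1,3,1], [1,1,2,3,0], [1,2,1,3,3,2,3], [2,3,1,0,3,3], [1,3,3,1,3,0], [1,2,1,3], [0,3,2,3,0,2,1], [2,3,0,2,0], [1,1,2,3,1,0], [1,1,1,3,1,3,0], [2,3,1,2,3,2]]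

/-- Words in the generators, piece 5. -/
def wd2_5 : List (List Nat) := [[2,0,3,3], [2,1,2,2,3], [1,2,3,3,1,3,0,2], [1,3,2,0,3,1,0], [0,0,0,1], [1,2,0,3,1,3,3,1], [2,3,0,2,0,3], [1,0,1,3,0,1,2], [0,2,1,2,3,2,3], [1,3,2,3,1,0,3,1], [3,3,2,3,1,3], [2,0,3,1,3,1,3,0], [0,3,2,0,3,1,3,2], [0,1,2,3,1,3,2,3], [0,0,2,2,3], [0,3,2,2,0], [0,3,1,3,0,2], [0,0,3,3,2], [0,0,0,3,2], [0,1,0,2,1,3], [1,2,3,2], [3,1,2,3,1], [0,0,1,3,2,3], [2,0,3,2,3,2,1], [0,3,2,3,3,0,1,3], [2,3,0,0,0], [0,2,1,3,2,3,3,1], [1,2,3,0,2,2], [0,1,3,0,1], [0,3,1,2], [0,0,3,3,2,0], [2,3,3,1,0,3], [0,1,3,3,2,2], [0,0,3,3,2,3,0,1], [2,3,3,2,3,2,3], [1,0,3,1,3,0,2,2], [0,1], [0,1,1,1], [2,3,3,1,0], [1,3,1,2], [1,0,3,2,1,2,2,3], [3,3,2,0], [0,1,0,3,2,0,1],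 [1,3,1], [0,3,2,1,2], [2,2,3,3,2,2,3], [3,3,1,0], [2,3,0,0,0,2], [2,2,3,3,1,3], [1,2,1,3,3], [2,3,3,2,3,0], [1,0,3,1,3,0,1,1], [0,2,0,3,1], [0,1,3,1,3,1,0,1], [0,1,3,2,3,1,3], [0,2,2,3,3,2,3], [2,3,1,3,0,2,2], [3,1,3,2,3,0], [0,2,3,1,3,2,0,1], [0,2,1,3,2], [0,3,2,0], [3,3,0,1,2], [0,3,1,1,2,0], [1,3,3,0,0], [2,0,3,1,3,1,2], [0,2,2,3,0,2], [0,1,3,1,3,0,2,2], [2,3,1,3,1,0,1], [0,3,1,2,3,1,0], [0,2,3,0], [3,3,2], [3,1,3,1], [1,1,2,3,3], [0,3,2,2], [2,3,2,3,1,2], [1,2,3,0,2,3,2], [0,1,1,3,2,3,0], [0,0,2,2], [0,1,1,3,2,0], [1,3,1,0,1,3,0,1], [0,3,2,2,3,0,2,3], [2,3,3,0,1], [0,1,1,2,0,3,2,3], [0,2,0], [0,3,1,3,3,2,3,0], [1,0,1,1,1], [0,0,0,1,0], [2,0,3,1,1], [2,3,1,0,3], [1,2,1,3,2], [1,0,3,1,3,3], [1,2,3,0,2,3,1], [0,2,3,0,1,3,2,2],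 [0,0,1,2,3,2,3,2], [1,3,3,1,1,2,3], [0,1,2,1,0], [1,3,2,3,3,1], [2,3,0,2], [1,3,3,2,1], [1,3,1,1,3], [0,2,3,0,1], [1,0,3,3,2,3,0], [0,1,3,2,2,3,2], [0,1,1,2,0], [2,3,2,3,1,2,1], [3,3,1,3,1,0,3], [2,3,2,3,2,2,1,3], [0,3,1,3,2,3,2], [0,3,3,2,3], [1,3,1,3,3,1,2], [0,1,1,1,3,1], [1,0,3,2,2,1], [0,3,1,2,3,1], [0,2,3,0,1,3,0], [3,1,3,2,3,3], [0,2,0,3,3,1], [1,1,1,3,1,3,3], [0,2,3,1,0], [0,1,0,3,1,3,0], [1,0,2,1], [0,3,2,0,3,2,0], [0,0,1,0,3,3], [2,1,2], [1,1,2,2,0], [0,3,2,3,3,1,0], [1,1,1,3,1,0,3], [2,0,3,1,0], [0,1,2,3,3,0], [0,3,1,2,3,0,2], [1,2,3,2,3], [0,3,2,3,2,3,3,1], [3,1,0], [2,3,2,0,3,2,3,2], [1,3,2,3,3,1,3], [3,3,0,1,3,2,3], [3,1,3,1,3,1,2], [0,3,1,2,0,3,3,1], [0,2,0,3,3], [0,3,2,3,1,2,1], [1,2,1,0,3,3], [0,0,0],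 [2,3,3,1,3,1], [0,0], [1,3,1,0,3,2,2], [1,3,3,2,3,3], [2,3,0,1,3,2,0], [0,0,1,3,3], [0,0,0,3], [2,2,1,3,0,2], [1,0,1,3,1,3,0], [0,1,3,2,3,2,2], [1,0,1,3,1,3,3], [0,3,2,3,2,3,3,0], [0,1,2,3,2,3,3], [0,2,3,1,0,1,3], [2,3,3,2,2,3,0], [2,3,3,1,3,0], [2,3,2,3,1], [0,1,2,3,1,0,3,2], [1,2,0,3,1,3,3], [0,2,3,1,3,2,3,3], [1,0,1,1,3,1], [2,3,0,1,3,0,1], [0,3,1,3,2,3,0,0], [1,0,3], [3,1,2,0], [0,2,3,1,2,3,1], [3,3,1,3,1,3], [2,3,0,2,3,1,3], [0,1,2,3,1], [0,2,0,3,2], [1,0,3,2], [3,3,1,3,1,2,3], [1,0,3,1,3,2], [0,1,1,3,2,3], [1,0,3,2,1], [0,0,1,3,2,3,1,2], [2,3,2,3,2,3,3,0], [2,3,3,2,1], [0,2,2,1], [0,1,3,0,2,2,3,2], [2,1,2,3,2,3,3], [0,3,1,3,2], [0,3,1,2,0], [0,1,0,2,0], [2,1,2,1], [2,2,0,3], [0,1,3], [1,2,1,3,2,3,2,3], [2,2,3,1,2,3],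 [0,2,3,3], [0,1,3,1,3,1,2,0], [0,0,3,3,0], [0,1,3,1,3,0,1], [0,3,2,0,3,2,3,3], [2,2,0,3,3,1,3], [0,1,3,2,2,1,3], [2,2,3,3,2,3,0,1], [1,0,3,2,3,3,1], [3,3,2,2,1,3]]

/-- Words in the generators, piece 6. -/
def wd2_6 : List (List Nat) := [[0,1,2,3,1,3,1,2], [2,3,1,3,0,1,2], [2,3,0,1,3,0,1,3], [0,3,2,2,3,2,2], [2,3,2,0,3,2,3,0], [0,0,1,2,2], [2,3,1,0,2,3], [0,3,2,2,3,1], [1,0,1,1,3], [0,1,3,1,0,1,3], [1,3,2,3,3,1,0], [1,0,2,2,3], [2,3,0,2,3,2,2,3], [0,3,2,2,0,3], [3,3,0,2], [1,3,2,2,3,3], [0,1,3,1], [3,2,1,3,2,0], [0,3,1,3,1], [0,2,3,2,3,2,3,2], [0,3,2,0,3,1,0], [3,2,2,3,2,3,2], [1,2,0,3,2,3], [0,1,3,1,2,3,0], [0,2,3,2,3,3,2], [0,2,0,3,1,3,1], [2,0,3,2,3,2,0], [2,3,0,1,3,3,1], [2,0,3,2,0,1], [2], [0,1,3,3,1,0], [0,2,3,0,1,3,2,3],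 [0,0,3,3,1,0], [0,1,3,3,1,0,3], [1,2,3,1,3,1,2], [1,2,0,3,3,1,3,3], [1,2,3,0,2,0,3], [2,3,3,1,1], [2,3,3,1,3,2,2], [3,1,3,1,0,3,3], [2,2,3,1,0,3], [1,2,1,2,2], [1,0,2,3,3], [1,2,3,1,2,1], [0,0,2,3], [0,2,2,3,1,0], [0,1,1,3,2,3,0,1], [3,3,1], [0,2,0,1,0,3], [1,0,1,3,2], [3,1,1,3,2], [1,0,3,3,1,3], [0,2,2,3,0], [0,3,2,2,3,0,2], [2,3,0,1], [1,3,0,1], [3,1,3,2,3], [2,2,1,2,1], [1,2,3,0,2,0], [0,2,3,3,2,0,3], [3,1,3,1,0], [1,2,3,1,2,3,2], [1,2,1,3,0], [2,3,3,2,0], [1,0,1,3,1,3,1,1], [1,3,3,2,2], [3,3,1,3,3,1,2], [2,0,3,1,3,0,1], [3,3,1,2,1,3,0], [0,3,1,2,3,0,2,2], [2,3,1,3,2,0,3,2], [3,1,3,2,3,0,2], [1,1,1,3,0,1], [0,3,2,3,0,0,1], [0,1,3,2,2,3,0,2], [0,1,3,0,2,0], [1,3,1,1], [0,1,0,3,3], [2,3,1,0,3,1], [0,3,2,3,1],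 [0,1,2,3,2,2,3], [0,2,1,2,3,2], [0,1,2,3,1,3], [1,3,2,3,2,3], [2,0,3,1,0,3,3], [0,2,3,3,2,1], [1,3,3,1,1], [1,2,1,3,2,2], [3,1,3,2,3,0,1], [0,3,2,2,1,3,3,2], [3,1,2,3,1,0,3], [1,3,2,3,1,2,1], [0,2,0,1], [2,2,0,2], [1,3,2,3,2,0,1], [2,2,3,0,2], [0,3,1,3,3,0,0], [0,3,1,3,3,1,1], [0,1,3,0,2,2], [1,2,1,2], [0,3,2,0,3,2,0,1], [0,2,3,2,2,3], [0,3,2,3,0,1], [3,3,1,0,3,2,2], [1,3,3,2,3,1,3], [0,1,3,1,3,2,3,0], [3,2,0], [2,2,0,3,1], [1,1,2,3,1,3,3], [3,1], [0,1,1,2,0,3,2], [2,3,1,2,1,3,0], [2,1,2,3,2,3,0], [2,3,2,0,1], [3,3,1,3,3,2,0], [3,3,2,2,3,1], [0,3,2,3,0,0,3,1], [0,2,3,1,3,2,0], [0,1,0], [0,2,3,1,3,1,1], [0,3,2,3,1,3,2], [0,2,0,3,2,3,0], [0,1,3,1,0,3,3], [0,0,3,3,2,3,1,2], [0,3,1,2,3,3], [0,2,3,1,3,1,0], [3,1,3,1,2,3,0],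 [3,1,3,2,3,2,2], [3,1,3,2,3,1], [1,2,3,1,2,3,1], [2,0,3,1,3,2], [1,0,3,2,0,3], [1,3,1,1,3,1,3], [1,3], [0,3,2,0,3,2], [0,2,3], [0,1,3,1,3,0,1,3], [0,3,2,0,3,1], [1,0,3,1,3,2,3], [2,1,2,3,3,1], [0,1,1,3,1,3,3], [2,2,3,3,2,2], [1,1,1,3,1], [0,2,2], [0,0,2,2,1], [0,2,1], [0,2,3,2,1,2], [0,3,2,3,3,2,3,1], [0,1,3,2,2], [1,3,2,3,2,0], [1,3,2,3,0,0], [1,2,3,2,2,3,0], [0,3,2,3,1,3,3], [0,2,3,2,3,1,3,1], [0,1,3,1,3], [0,0,3,2], [0,1,3,2,0,1], [0,1,1,3], [0,2,3,2,3,2,2], [0,1,0,3,1,3,1,1], [2,0,3,1,3,0,2,3], [2,3,2,2], [3,3,1,3,3,1], [0,1,3,3,1,3,3], [2,2,3,1,2,3,1], [0,2,1,2,3,2,3,3,1], [3,2,1,3,2,3,3], [0,1,2,3,2,3,2], [1,2,3,1,3,0,1,2], [1,2,3,2,3,3,2,0], [2,2,0,3,1,3], [0,3,1,2,2], [1,3,0,1,1], [0,0,3,3,2,3,2,2], [0,3,2,3,1,0],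 [3,3,1,0,3,3], [0,1,0,3,1,3], [3,3,0,2,2], [3,1,3,1,0,3], [0,3,1,3,3], [1,0,3,1,0,1,3,0], [0,2,1,3,2,0], [0,1,0,3,1,2,3,0], [3,3,1,2,3,0], [1,0,3,1,2,3,0], [0,0,3,3,1,3,3,1], [1,3,3,0], [2,3,0,2,2], [1,2,3,2,2], [3,2,1,3], [0,0,1,2,3], [0,1,0,3], [3,3,1,3,1], [1,0,3,1,0,1], [0,1,1,2,3], [2,1,2,3], [0,1,2,3,0,2,0], [0,1,3,1,3,0], [2,3,0,2,0,3,3], [1,2,3,1,0,3,3,2]]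

/-- Words in the generators, piece 7. -/
def wd2_7 : List (List Nat) := [[1,3,3,1], [2,3,2,3,2], [0,0,1,3,3,2], [2,3,0,1,3,2], [1,3,0,1,2,3,1], [0,1,3,1,2,1,3], [0,2,2,3,2,2,3], [0,1,3,3,2,1], [0,2,2,3,3], [0,3,2,3,1,0,3], [1,0,2,0], [1,3,1,3,0,2,3,1], [0,3,2,3,0,1,2,3], [0,1,0,2], [2,2,3,1,3,3,1], [1,0,1,3,0,1,3], [2,3,0,2,3,2,0], [2,3,1,3,2,2], [2,3,1,3,1,2,3], [0,3,1,3,3,0], [1,0,1,3,0,1], [0,1,3,3,2], [2,3,2,2,3,1,0], [0,1,3,1,3,2,2], [1,2,3,3,2,3,3], [2,3,2,2,3,0], [2,3,1,3,0], [0,1,3,0,2,0,3,3], [1,3,3,2,0], [2,1], [1,2,3,1,0,3,3,1], [1,2,0,1], [0,3,1,3,1,3,1], [0,2,3,3,2,3,1,3], [0,1,3,2,3,2,1], [0,2,2,3,2,3], [2,3,0,1,3,2,3], [0,3,2,3,2,1,2,3], [1,0,3,2,0,1], [1,3,1,0,3,3], [0,1,3,2,3,0,1], [1,2,3,2,0,3,1],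 [1,3,0,2,3,0], [0,1,3,0,1,3,0,1], [1,0,3,1,3,1,2], [0,3,1,2,3,3,2,3], [1,2,1], [0,2,2,3,2,3,1], [1,0,3,2,2,0], [1,1,1,3,3], [1,3,0,1,0,3,1], [0,1,3,2,3,2,2,3], [3,3,2,0,3], [2,3,2,3,2,3], [1,0,3,2,0], [1,2,0,3,2], [0,1,3,2,3,1], [1,3,1,2,3,0], [0,1,0,3,1,2,3], [0,2,3,1,0,3,1], [0,1,1,2,3,3], [1,3,3,0,2,2], [0,0,1,2,3,1], [0,2,3,1,3,2,3], [3,3,1,2,3,0,2], [1,0,3,1,3,0,2,0], [2,1,3,3], [2,3,3,0,1,3,2], [0,1,1,2,3,1,3], [1,3,0,1,3,3], [1,3,1,2,0,3,3], [1,3,2,3,3,0], [3,3,2,3,3,2], [2,2,1,3,0], [1,0,1,3,1,3,1], [3,1,2,3], [2,0,1,0,3], [3,1,1,3,1,3,3], [2,3,0,2,1], [0,1,3,2,0,3,2], [2,3,2,2,1,3], [1,2,3,2,3,0,2,3], [2,2,3,2,3,2,3], [0,2,3,1,3,2,0,3], [1,0,3,2,3], [3,1,0,2,3], [0,3,2,0,3,2,3,1], [0,2,3,2,3,2,0,1], [0,3,1,2,3,0,2,0],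 [0,1,2,0,3,1,3], [0,3,1,3,1,1,3], [1,2,3,1,3,1,3], [0,3,1,3,0,1,2], [0,3,1,0,3,3,2,2], [0,3,1,0,3,2,2], [2,0,3,1,3,1], [1,0,1,3,2,0], [1,2,3,3,0], [3,3,2,3,1,3,0], [1,3,2,3,0,2,3], [2,3,2,2,3,1,3], [2,3,1,3,0,2,3], [2,3,3], [3,3,1,2,3,2,2], [2,0,3,2,3,0], [1,3,1,3,1,0], [0,3,1,0,3,1,0,3], [0,0,0,3,2,3,1], [0,0,3,3,1,3,1], [2,1,2,3,3], [0,1,3,0,2,3,1,0], [0,1,3,1,3,1,2], [1,0,3,1,3,2,0], [3,1,3], [0,1,3,3,2,2,3,2], [0,1,3,1,0,1], [1,3,3,2,3,0], [2,3,1,2,3], [0,0,1,2], [0], [1,3,0,1,0,3], [1,0,3,2,2,0,3], [0,3,2,1,2,3,1,0,3], [0,2,3,0,1,3,1,0], [0,1,3,1,3,0,1,0], [1,2,3,1,3,1,2,3], [0,3,1,3,3,2,1], [0,3,2,2,3,2], [0,1,3,3,2,2,3], [2,3,2,3,3,0,0], [1,0,3,2,3,2,3], [3,3,0,1,0,3], [0,3,2,3,1,3,1], [0,3,2,2,3,2,2,3],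 [0,1,3,3,1,3,3,1], [1,1,2,3,1,3,2], [0,2,0,3,1,3], [1,3,3,2,1,2,3], [0,0,2,3,1,3,1], [2,3,1,2,3,0], [0,1,3,3,0,2], [3,1,1,3,1,3,1], [0,0,3,3,1,3,2,0], [0,3,2,2,3,1,3], [0,3,2,0,3,1,0,3,3], [2,2,3,2,3,2,3,2], [3,3,2,3,1,2,3], [1,0,3,2,3,0,1,3], [0,1,0,3,2,3,1], [0,1,3,3,2,3,1,3], [1,3,3,1,3], [3,3,1,3,1,3,3], [2,3,0,1,3,1], [2,3,0,0,1,3,3], [0,2,3,3,2,3,1], [0,3,1,0,3,1,2], [1,1,2,3,1,3,2,3], [1,3,2,0,3,1,3,2], [1,0,2,1,3,2], [1,0,3,1,3,0], [0,3,1,0,3], [0,0,1,3,3,2,3,0], [2,1,3,3,2,3,2,3], [0,0,0,2], [0,2], [0,0,1,3,3,2,3], [2,3,0,1,3,3], [3,2,2,3,1], [0,3,2,2,3], [1,3,1,3], [2,3,0,2,2,3,2], [2,3,2,3,2,3,0], [0,0,3,3,1,3], [2,3,1,3,2], [2,3,2,3], [1,0,3,2,0,3,3], [0,3,2,2,3,3,1], [2,3,2,3,2,3,3], [0,2,3,1,0,3,2],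 [1,3,3,2,3,1], [2,3,2,3,2,3,2,1], [2,3,2,3,0,2], [2,3,0,2,2,3,3], [0,2,3,2,0,3,2], [2,3,0,1,3,0,2], [0,0,2,3,1,3,1,3], [0,0,1,2,3,2,2], [0,1,3,2,0,3], [2,3,0,2,2,3,0], [2,3,3,2,2,3], [0,1,2,3,1,2,3], [2,1,2,2,3,1], [0,0,1,3,3,1,3], [1,3,1,0,1,3,0], [1,2,3,3,1,3,0], [0,2,3,2,1,3], [0,1,0,3,1], [0,3,1,3,3,2], [0,3,1,3,0,2,2], [2,1,2,3,2,2]]

/-- Words in the generators, piece 8. -/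
def wd2_8 : List (List Nat) := [[1,2,3,1,2,3,0], [1,1,2,3,1,3,0,1], [2,3,1,3,1,1], [1,2,2,3,3], [2,3,3,2,3,2], [0,3,2,1,2,3], [2,2,3,0,2,3], [1,2,3,2,0], [0,0,2,2,1,3], [0,1,2,1,3,0], [0,1,1,3,2,3,3,2], [1,0,3,3,1,0,3], [3,3,1,1], [1,0,2,1,3], [1,2,3,3,1,3,1], [0,0,2,3,2,2,3], [0,2,1,3,2,3,3], [0,1,3,0,2,1], [3,3], [3,3,2,3,3,2,0], [2,3,1,0,1,3,0], [1,3,2,2,0,3,3], [0,0,1,0,3,2], [0,2,3,2,2,3,0], [0,1,2,3,3,2,3,3], [0,1,1,2,3,1,3,3], [0,1,0,3,2,3,3], [0,2,0,3,1,3,1,2], [3,1,3,1,3,1,0], [1,1,1,3,1,3], [0,3,1,3,3,1,0,3], [0,1,3,2,3,1,2], [0,3,2,0,3,3,1,3], [2,1,3,3,2,3,2], [2,3,0,1,3], [0,0,2,3,1,3,1,3,2], [2,3,0,2,2,3,2,3], [2,2,1,3,0,1], [0,1,3,2,3,0,0,3], [0,3,2,3,2,3,3], [0,0,3,3,2,3,1,3,3], [2,2,3,2,2,3], [2,0],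 [2,0,3,2,3,1,0], [1,3,3,1,0,3,3], [2,2,0,3,1,3,1], [2,3,0,1,0,3], [0,1,2,3,2,3], [0,1,1,3,2,0,3], [2,3,1,3,1,3,0], [1,2,3,1,3,1], [0,3,1,3,0,2,3], [0,3,2,3,3,2,3,0], [0,1,3,2], [0,1,3,3,1,3,1], [0,1,3,0,1,3,3], [0,1,3,0,2,3,3], [3,3,1,2,3,1,2], [0,3,2,2,0,3,1], [3,3,2,0,3,1,0], [2,3,1,3,1,2,0], [1,0,1,1,1,3], [0,2,1,3,2,3,0,2], [1,2,3,0,2,3,2,2], [0,3,1,3,1,1], [0,0,0,3,2,3], [0,3,1,3,0,1,1], [0,0,2,3,1,3,2], [2,0,3,2,3,2], [2,3,3,1,3,2], [1,3,2,3,3,0,1], [0,2,0,3,2,3,1], [0,1,3,0,1,3,2], [3,3,1,2,3], [0,0,0,3,2,3,0,2,3], [2,2,1,3,2,3], [0,1,2,3,2,3,0], [0,1,3,2,3,3], [0,2,2,3,2,3,2], [2,3,1,2,3,1], [0,0,3,3,2,3,0], [2,3,1,2,3,0,2], [0,1,2,3,1,3,3], [0,0,0,3,2,3,0,1], [0,0,0,3,2,3,0,0], [1,2,3,1,0,3], [2,2,1,3,0,1,3],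 [1,3,3,1,3,3,2], [1,3,3,0,2,3], [0,1,1,1,3,1,3,0], [0,0,1], [0,1,2,3,1,2], [1,3,2,2,3,0], [1,3,0,2,3,2], [0,0,1,3,2,3,2,2], [1,3,1,0,3,1,0], [2,3,0,0,1,0,3], [3,3,2,3,2,0], [2,3,2,3,2,3,1], [0,1,2,3,2,3,3,2], [1,2,1,3,2,3], [0,3,2,3,2,3,2], [1,1,2,3,1,3,0], [3,3,2,0,3,2], [1,3,1,0,3,1], [1,1,1,3], [0,3,1,1,2,3,1,0], [0,3,2,0,3,1,3,0], [2,0,3,1,3,2,2,3], [1,1,2,2,3], [0,0,1,3], [2,2,3,2,2,1,3], [0,3,1,0,3,1,0,1], [0,2,3,2,3,1,3], [2,3,2,3,1,2,3,2], [0,3,1,1,2,3,3], [1,3,3,1,3,3,1,0], [0,3,1,3,1,1,3,2], [0,2,1,3,2,3], [3,3,0,1,3,3,1], [2,3,2,3,1,2,3], [1,3,1,2,3], [1,0,3,1,2], [0,1,3,0,1,0,3,3], [2,2,1,3,2], [0,1,0,3,1,3,3], [0,3,1,3,2,3,1], [1,0,3,2,1,2,2], [0,3,1,3,0,1,3,1], [1,3,3,1,2,1], [0,3,1,3,2,2], [0,1,2,1,3,0,1],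 [0,1,3,2,0,3,3], [1,1,2,2,0,3], [0,1,3,1,2,3,1], [0,1,1,1,3,1,3,2], [0,1,0,3,2,3,3,1], [2,2,1,2], [0,3,1,3,3,0,2,3], [0,3,2,2,1,3,3], [0,0,3,3,2,2,3], [1,0,3,2,3,2,1], [1,3,0,2,3,1,3], [1,1,1], [1,3,2,2,0,3], [0,1,3,1,3,1,0,3], [0,2,3,2,3,2,1], [0,3,2,1,2,3,1], [0,1,3,0,2,0,3], [2,3,0,1,3,2,3,0], [0,3,1,2,1,3,0,1], [1,0,3,2,3,1,0], [0,3,2,3,0,1,3], [0,0,3,3,1,3,3,2], [2,3,2,3,3,1], [0,1,2,3,2,2], [1,3,3,1,3,1,0], [0,3,2,3,2,3], [1,0,3,1,0,3,1,2], [3,3,2,3,2,2,3], [0,1,3,3,1], [2,3,2,3,0,0,1], [0,0,1,3,3,1,3,2], [0,1,2,3,0], [0,3,2,3,1,3], [1,2,1,0,3], [1,2,0,3,1], [0,1,3,2,3,0], [0,1,2,0], [1,0,1,2], [1,3,2,3,3], [1,3,2,3,3,2,1], [1,0,1,1,3,1,3], [2,1,0], [3,3,2,0,3,2,0], [0,2,3,3,2,3,2], [3,3,2,0,3,1], [1,3,3],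 [1,0,3,2,2], [0,1,3,2,0], [2,2,0,3,1,3,2], [0,3,2,3,3,0,1], [2,3,2,0], [1,2,0,3,3], [0,1,3,3], [2,3,2,3,0,0,0], [1,3,0,2,0,3], [1,1,1,3,2,0,3], [3,3,1,2,3,2], [0,3,2,3,2,0,3], [3,3,1,3,0,1,0,3], [0,1,2,3,2,0], [2,2,3,2,3,2,3,0], [1,3,0,2,2], [1,3,0,2,2,3,2], [1,2,3,3], [0,3,1,3,3,2,0,3], [], [1,2,3,1,3,2], [1,2,3,1,3,1,2,0]]

/-- Words in the generators, piece 9. -/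
def wd2_9 : List (List Nat) := [[1,0,1,1,3,1,0], [0,1,3,1,3,2,0], [0,2,3,1,0,3], [1,2,2], [1,0,2,2,1], [1,0,1,3], [0,2,2,0,1], [3,3,2,3,2,2], [0,3,2,3,0,1,3,3], [3,3,1,2,3,1,0,3], [1,2,0,1,0], [0,1,3,2,0,3,1], [3,3,2,3,2,1], [0,2,0,3,1,3,0], [0,0,3,3,1,3,2], [2,3,2,3,3], [2,0,3], [3,3,2,2,3,1,0], [1,2,3], [2,3,1,0,2,0], [0,3,1,0,3,2], [0,2,0,3,1,0], [1,0], [2,3,0,2,3,2,2], [2,3,2,3,3,2], [1,3,3,1,2,3,0], [2,2,3], [1,0,3,3,2,0,3,3], [0,2,3,1,0,1], [3,3,1,3,1,0], [1,3,1,0,1], [1,3,1,2,1], [1,3,0,1,3,1], [0,2,3,1,3,0], [1,3,2,3,1], [0,1,1,3,1,3,1], [1,0,1,3,2,3], [0,0,2,1], [1,1,2,1], [1,2,3,2,2,3,0,1], [0,3,1,0,3,2,2,1], [0,3,1,0,1,3,0,1], [0,3,2,3,3,2,1], [0,3,2,3,0,0,3], [1,3,1,2,3,3,2], [1,0,2,2], [2,2,3,2,3,1],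 [2,3,0,0,1,3,2], [2,3,0,2,3,2], [2,2,3,2,2,1], [1,3,2,0,1], [1,3,2,0,3,3,1], [1,3,0,1,3,3,2,0], [3,3,1,3,0,1,3,3], [1,3,2,3,1,0,3], [0,3,1,3,3,2,2], [0,2,3,2,3,3], [1,3,1,3,1,3], [0,1,3,2,3,3,2], [2,3,2,0,3,1], [2,1,2,3,1,0], [0,0,1,2,1], [1,3,3,2,0,3], [1,1,2,0], [2,3,2,3,0], [2,3,2,3,2,3,0,2], [1,0,3,2,3,0,2,1], [0,2,3,3,2,3,3], [0,0,0,3,2,3,1,2], [1,3,1,3,3,2,0], [1,0,1,1,3,1,3,3], [0,3,2,3,1,3,0,2], [1,1,1,3,3,2,3], [2,0,3,2,0], [0,3,1,3,3,0,2], [1,0,3,3,2,0,3], [3,3,0,1,3,2,2], [2,3,2,2,3,0,2], [2,3,2,3,2,1], [1,3,3,1,3,1], [2,2,3,3,2,3], [3,0,0,3,1,3], [0,3,1,3,2,2,0], [1,0,3,2,3,1], [0,3,2,2,3,3,2], [1,3,0,2,1,2,3], [2,3,0,1,2,3], [3,3,1,3,0,1,3], [3,3,1,3,2,2,3], [0,3,1,3,3,2,0], [1,3,2,0,3,1], [2,3,3,1,3,1,2],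 [1,2,3,3,2,3,3,2], [0,3,2,3,1,2,3], [0,2,0,3,1,3,2], [0,1,2,3,1,2,3,1], [2,3,3,2], [3,1,3,2,2,3], [0,3,2,3,1,0,1,3], [3,3,1,2,3,1], [3,0], [2,1,2,2,3,1,3], [0,1,1,2], [0,3,2,2,3,1,0], [0,2,2,3,1], [0,3,1,3,2,2,1,3], [0,0,1,0], [0,1,2,0,3,3,1], [0,2,2,3,3,1], [0,1,3,2,3,2,3,3], [1,2,3,2,0,3,2], [2,3,3,2,3,1], [0,0,2,3,1,3,1,3,1], [0,2,3,0,1,2], [1,0,3,2,3,3,1,0], [1,2,3,0,2,3,3], [0,3,1,3,2,3,1,2], [1,3,2,0,3], [0,1,2,3,0,2], [0,3,1,0,3,2,0], [2,2,1,3,3,2], [1,2,3,2,3,2,3], [0,0,1,3,2,3,0], [0,2,0,3,3,1,3], [0,2,0,3,2,0], [0,3,1,3,1,3,2], [0,0,2,3,1,3], [0,1,3,2,3,2], [0,3,1,0,3,1], [0,3,2,3,1,2], [1,2], [2,3,2,2,3,2], [1,3,2,3,0,0,3], [0,3,1,0,3,3,1], [3,3,2,3,0,1], [2,1,2,3,1,0,3], [0,2,0,3,1,3,3], [0,2,3,2,3,1,0],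 [0,1,3,0,1,3,0], [0,1,1,3,2,3,2,3], [0,3,1,3,0,1,0], [0,3,1,0,3,3,2,0], [0,1,3,1,3,1,3,3], [0,0,0,3,2,3,0,2], [1,0,1,2,2], [2,0,1,0], [3,3,2,3,2,0,3], [3,3,1,2,3,2,0], [2,3,0,2,3,1], [2,3,3,2,2,3,2], [3,3,2,3,3], [0,1,1,3,2,3,3], [1,3,0,2,0], [2,0,1], [1,2,3,1,3,0,1], [3,3,2,3,1], [1,0,1], [2,3,2,3,2,0,3], [1,3,1,2,0,3,1,3], [0,0,3,3,1,3,1,2], [3,3,0,2,3,2,3], [1,3,1,3,1], [0,3,2,2,3,3,2,2], [1,3,3,1,2,3], [3,3,0,1,3,3], [1,0,3,1,0,3,1], [1,0,3,3,1,3,3], [0,3,1,0,3,2,0,1], [1,0,3,2,3,2,0], [2,3,2,3,2,2], [0,1,3,2,3,2,3], [0,3,2,2,3,3], [1,3,0,2,2,3,3], [0,2,3,2,2,1], [3,3,1,3,3,2], [1,0,1,1], [0,1,2,3,1,0,3], [0,2,1,3,2,0,3], [0,1,3,2,3,2,0], [1,0,3,1,0,3], [0,0,1,3,3,1], [0,3,2,3,2,2,3], [0,1,2,3,2,3,0,2], [1,2,3,1,2,1,3,0],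 [1,3,2,0,3,1,3], [2,3,0,2,3,2,2,1], [0,3,2,1,2,3,1,0], [2,3,2,3,2,3,0,0], [1,2,3,2,2,3,2,3], [1,0,3,2,3,2], [2,3,1,3,0,2,0], [2,3,2,3,0,2,2,3], [2,3,2,3,0,1,3], [0,0,3,3,1,3,0,2], [0,3,2,1,2,3,2], [3,1,3,1,3,3], [0,2,1,2,3,2,3,3], [0,3,3,1], [0,2,3,2,0,3], [0,2,2,0,2]]

/-- Words in the generators, piece 10. -/
def wd2_10 : List (List Nat) := [[1,3,3,2], [0,3,2,2,3,0], [3,3,0,1,3,3,2], [1,2,2,1,2], [1,0,3,3,1,0], [2,3,0,2,3,1,0], [0,1,1,3,2,3,2,0], [3,3,1,3,3,0], [1,2,3,1,3,1,0], [2,3,3,0,1,2], [3,3,1,3,1,2], [0,3,1,3,3,1,2,3], [1,2,0,3,3,1], [2,3,0,0,1], [2,0,3,2,3,3], [1,3,3,1,3,2]]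

/-- Words reaching the orbit, by increasing point. -/
def wd2 : List (List Nat) := wd2_0 ++ wd2_1 ++ wd2_2 ++ wd2_3 ++ wd2_4 ++ wd2_5 ++ wd2_6 ++ wd2_7 ++ wd2_8 ++ wd2_9 ++ wd2_10

/-- A generator of the point stabiliser. -/
def cw2 : List Nat := [6, 10, 7, 14, 4, 12, 11]

/-- Words in the generators, piece 0. -/
def wd3_0 : List (List Nat) := [[1,3,2,0,1], [1,3,0,1,2,0], [1,3,1,0,3], [1,1,1,1,3,1], [3,0,1,0,2,3], [2,3,1,0,2], [3,2,1,3,1], [0,2,3,3,2,0,2], [3,0,0,2], [0,3,1,1,3], [1,2,3,3,1,1], [0,1,3,1], [3,3,2,1,2], [2,3,2,1,0], [3,3,1,1,1], [3,3,3,3,2], [2,3,0,2,1], [0,0,0,3,1,2,3], [2,3,2], [0,3,3,3,1], [0,1,2,3,1,0], [3,0,3,2], [3,1,3,2], [3,1,0,3,3], [2,3,3,0,1], [1,3,1,2,0], [1,3,0,1,2], [3,1,2,3], [1,3,1,0],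 [1,3,0,1,0,0], [1,3,1,0,2], [1,3,2,1,0], [3,1,2,3,0], [1,3], [2,3,0,1,2], [3,1,2,0], [0,0,1,0,3,0], [1,2,3,0,2], [0,0,3,1,0], [0,1,2,0,3,3], [0,0,0,3,0,2], [1,0,3,3,2,0], [1,2,3,3,0,0], [0,2,3,1,1], [0,1,3,3,0,2], [0,3,0,3], [2,0,0,3], [1,3,1,3,0], [1,3,1,3,2,0], [0,2,3,0,2], [0,2,3,2,3,2], [3,1,3,3,0,2], [1,3,1,1,3], [1,2,3,3,2], [0,1,0,0,3], [1,2,3,3,1,3], [0,1,2,3,1], [3,3,0,1,0,0], [1,0,2,3,0,2], [0,3,0,3,2], [1,3,2,0,3], [1,2,3,3,0,3], [0,0,1,3,3], [1,3,1,3], [2,3,0,1,3], [2,3,1,0,3,0], [3,1,3,0,1], [1,2,3,0,3], [0,0,3,1], [0,1,2,3,0,2], [0,1,0,3,0], [2,3,0,1,2,0], [0,3,0,1,3,2,1], [0,1,3,1,3,2,0], [0,1,3,2,0,3], [0,0,3,3,2,1], [0,3,1,0,3,0], [0,0,0,3,1,1], [1,3,1,1], [0,1,2,0,3], [2,3,3,0,1,3], [0,1,0,0,3,0],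 [0,2,3,2], [0,1,3,0,3,1], [3,3,1,0], [1,0,0,3], [1,2,3,1,3,2], [1,1,3,3,3,2], [0,0,3,1,3,2], [3,0,1,3,2], [2,3,3,0,3], [3,3,2,3,1], [2,0,3,3,3], [2,0], [0,3,3,0,3], [3,1,2], [1], [1,2,3,3,1,0,0], [3,1,2,0,3], [2,3,3,0], [2,3,1,1], [3,2,0,0,3,3], [1,1,1,2], [0,1,1], [0,0,3,0,2], [3,3,2,3], [2,3,2,3], [3,3,0,1,3], [0,3,3,1,1,3], [1,0,3,1,3,2], [0,1,3,3,2], [1,0], [0,3,0,3,0], [0,3,2,1,3], [1,3,1,3,1,1], [3,2,1], [3,0,1,0,2], [3,3,0,3,3], [0,1,0,2], [0,2,3,3,0,1], [1,3,1,3,2], [0,3,1,0,3], [0,0,1,3,3,2,3], [0,3,2,3], [0], [1,2,3,3], [1,2], [1,3,0,0,1], [3,1,0,0,3], [0,3,1,1,2], [3,0,0,3,3], [1,0,2,3,1,2], [2,3,1,0,0], [1,2,0,3], [3,3,2,0,0,3], [0,0,1,3,0], [0,2,1,3,0], [0,0,0,3,2,0], [0,0,3,2], [2,0,2], [0,3,0,0,3,1,2],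 [0,2,3,2,0,2], [0,3,3,2,0,0], [0,1,3,3,2,0], [0,0,0,0,0], [0,3,0,3,3,2], [3,0,2,1,2], [1,0,3,3,2], [3,3,0,3,3,0], [2,3], [0,3,3,2,1,2], [2,1,3], [2,0,0,3,2], [0,3,3,0,1], [0,3,3,1,0,0], [0,3,2,0,2], [3,3,1,1], [3,2,3,0,3], [0,1,3,0,1,1], [0,1,2,3,3,2], [0,3,1,3,2,1], [0,0,0,3,1], [3,3,3,0,0,1], [3,2,3,1], [1,3,0,0,0], [2,3,1,0], [1,1,3,1], [0,3,3,3,2], [2,0,3,0], [0,3,2,3,3,3], [0,3,0,0,3,1], [0,0,3,2,1], [2,1,3,0,0], [3,3,3,2,0,0], [0,1,3,1,0,3], [1,3,0,3,2,0], [1,0,0,3,0,2], [0,3,3,3,0,0], [3,3,2,3,1,2], [2,3,1,3], [3,3,0,0,0], [3,3], [3,3,1,0,0], [1,0,3], [0,1,2,3,1,3], [3,3,1,3,1], [1,3,0,0,3], [1,1,3,0], [3,3,0,3,1], [3,0,3,1,0], [0,3,1,3,0,1], [3,1,3,1], [2,1,3,0,3,1], [1,1,1,3,3], [0,1,3,1,0], [1,0,3,0,3],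 [0,0,3,3,0], [0,1,3,3,1,3], [0,1,3,0,0,1], [3,3,0,3,3,3]]

/-- Words in the generators, piece 1. -/
def wd3_1 : List (List Nat) := [[0,1,2,3,0,1], [2,3,3,1,0,0], [0,0,1,3,3,2], [2,0,3,3,3,0], [0,3,0,3,3], [3,3,2,0,3,3], [3,0,2], [0,1,2], [0,3,3,0], [2,1,3,1], [3,3,3,3,0], [3,2,0,1,3], [1,0,2,3,1,1], [1,2,0,3,1,2], [0,0,3,1,3,1], [1,2,3,1,3,1], [1,1,3,3,1,3], [0,0,3,3], [3,3,1,0,3], [0,3,1,2,3], [0,1,3,2,3,3], [3,0,3], [0,0,3,2,3,1], [2,3,3,0,0,1], [1,0,3,3,0,0], [1,0,2,3], [0,3,3,1,3], [0,1,0,3,3,0], [1,1,1,3,1], [0,0,3,3,1], [0,1,0,0,3,1,2], [2,3,1,3,0,2], [0,0,3,1,0,3], [2,0,3,1,3], [0,1,3,3,0,0], [1,0,3,3], [2,1,2,3,0,2], [3,3,1,3], [1,1,3,3,3,1], [0,0,1,3,3,3], [3,1,3,0,2], [3,1,3,2,1,1], [0,2,3,2,3,3], [2,3,2,3,0],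 [2,3,3,1,1,3], [0,1,3,2,1,0], [0,0,3,0,3], [1,3,0], [2,3,0,0], [0,1,3,2,1], [0,3,3,0,1,0,0], [0,3,2,1], [3,2,3,2,3,1], [3,2,0,1,3,3], [0,0,1,3,3,0], [0,0,1,3,1,2], [1,3,3,3,1,3], [3,0,3,3,2], [2,3,2,0,2], [1,2,0], [2,3,1,3,3,0], [3,1,3,0], [1,3,1,2,0,3], [1,2,3,1], [2,3,3,1,1], [2,3,2,3,0,3], [1,1,2,0,3,1], [2,3,0,0,1], [1,2,3,0,3,0], [1,1,2,0,3], [0,3,3,1,0], [1,0,3,1,0,2], [3,3,3,2,3], [0,1,3,3,0,1], [2,1,3,3,2,0], [0,3,2,3,2,3], [0,0,3,2,0], [3,1,0,2,1], [0,3,3,3,3], [2,3,3,1,0], [2,3,2,3,0,0], [0,3,3,0,3,0], [0,3,2,3,1], [0,0,1,0,3,3,3], [3,2], [3,0,1,3,2,1], [2,1,3,3,3], [3,0,2,1,2,3], [1,3,0,3,1], [1,2,3,1,0,3], [2,3,3,0,0,0], [2,3,3], [3,1,1,2,0], [0,3,0,1,3,3], [3,3,3,0,3,0], [0,0,0,0], [2,1,2,3,1,3], [1,0,3,3,0,2],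 [2,0,3,1,3,0], [0,2,3,0], [1,3,2,0], [1,3,1,0,2,1], [1,0,0,3,0,3], [1,3,2], [1,3,0,1,0], [1,3,1], [2,0,3,3], [0,1,0,2,1], [0,1,0,2,3,0], [2,0,3,3,0], [2,3,3,1,3], [0,2,3,1,0,0], [0,1,3,3,1], [3,3,1,3,2,3], [0,2,1,2], [0,0,0,3,0,1,3], [0,0,0,3,2,1], [3,0,2,1,0], [1,0,0], [1,2,3,0,1,3], [3,1,0,2], [1,3,2,0,0], [1,3,1,1,2], [1,3,0,0,2], [0,1,0,2,3], [1,3,2,1,1], [1,3,2,1,2], [1,3,1,1,1], [0,2,1,2,3], [3,0,1], [0,2,1,2,3,3], [0,0,3,1,2], [1,2,3,0,0], [0,0,0,3,1,3], [0,2,3,0,3,0], [0,2,3,1,2], [2,1,3,1,2], [0,1,3,0,1], [2,1,3,0,2], [3,3,3,1,1], [2,3,3,3,1,1], [0,2,1,3,3], [0,3,0,1,3,2], [0,1,0,3,3,0,3], [3], [3,1,3,1,2], [3,0,1,0,0], [1,1,2,0,3,3], [0,2,3,2,1,0], [2,3,3,0,1,0], [2,3,3,1], [1,0,3,1,0], [0,1,0,3,1,3,1],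 [0,3,1,0,3,3], [0,3,0,2], [3,3,1], [3,1,0], [1,3,0,1,1], [1,3,0,1], [1,3,0,2], [0,1,3,0,2], [1,0,3,1,3,0], [2,3,3,3,0], [3,3,2,0,2], [0,2,3,1,3,0], [0,1,3,3,3], [3,0,1,2], [0,3,2,3,0], [0,3,2,3,3], [0,0,3,0,1], [0,2,3,1,0,2], [0,3,3,3,3,2], [0,1,3,1,0,2], [1,2,0,3,1], [1,1,2,3], [1,0,3,3,0,3], [0,3,3,3,1,0], [0,0,1,3,1], [2,3,3,1,0,3], [0,2,1,0], [3,3,3,3,3], [2,3,3,0,1,1], [0,2,3,0,0], [0,2,3,3,1], [1,0,2,3,3,2], [1,1,1,1], [1,2,3,3,0], [3,1,0,3,0,3], [1,0,2], [2,3,1,3,2], [0,3,2,0,0,3], [0,0,3,2,3,3], [0,2,3], [], [3,1,3,3,1,2], [3,3,3,0,3], [1,3,3,3,2], [0,1,3,1,3,2], [0,2,3,3,0], [3,2,1,1]]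

/-- Words in the generators, piece 2. -/
def wd3_2 : List (List Nat) := [[0,1,2,0], [0,3,0,0,3], [0,3,3,2,0,3], [0,3,0,1,3,0], [1,2,3,3,1,0], [1,3,1,3,1,0], [0,2,3,3], [0,1,3,3,3,1], [2,3,3,3,0,2], [3,0,1,0], [1,0,2,3,1], [2,3,1,2,3], [1,0,3,0,3,1], [3,2,3,2,3], [0,1,3,3,0], [3,2,0,0], [2,3,3,3], [0,1,0,0,1], [0,2,3,3,0,1,1], [0,2,3,3,3,0], [3,0,0,0], [3,1,1], [0,3,0,3,2,1], [1,3,1,2,3], [2,0,3,0,1], [0,1,3,1,0,0], [0,0,3,2,1,3], [2,3,1,3,0], [3,1,2,0,1], [0,1,2,0,3,1], [3,3,3,0,1], [2,1,3,1,0], [2,3,3,2,3], [0,0,1,0,3,3], [0,2,3,2,3,0], [0,3,0,2,1,0], [1,3,2,3,3], [2,3,2,3,3], [3,2,3,0,0], [2,3,3,0,3,1], [0,1,0], [0,3,2,3,1,1], [0,2,1,3,1,3], [2,3,3,2,0,1], [1,0,0,3,3], [1,0,2,3,3], [0,3,3,2,1,0], [0,3,3,0,0,0],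 [0,3,3], [2,3,3,1,1,1], [0,1,3,1,3,1], [1,3,3,3,1], [3,1,1,1], [1,0,3,1,0,3], [3,1,3,2,1], [2,1,3,3,2], [1,1,1,3,3,3], [0,2,3,1,3], [0,0,0,3,2,3], [3,1,3,3,3], [1,3,3,2,3,2], [0,3,2,0,0], [2,3,3,0,0,2], [0,1,3,2,3], [0,1,2,0,3,0], [3,2,1,2,0], [0,0,3,3,3], [1,0,0,3,1], [3,0,0,1], [0,3,1,3,1,2], [3,1,3,1,3], [0,0,3,3,2], [3,3,0,3,0], [0,3,2,0,1], [1,0,3,0], [0,2,3,2,1,3], [3,0,3,3,2,3], [3,3,3,2,1], [3,2,0,3], [3,3,3,1], [2,3,3,2], [1,3,1,0,0], [0,2,3,3,2,0,0], [1,0,2,3,0], [0,0,3,3,0,1], [1,0,3,1,3,1], [0,1,3,0,3], [0,0,3,3,0,2], [0,3,3,1,3,2], [0,2,1,1], [2,0,0,3,2,3], [0,0,3,1,1], [2,3,0,2], [1,3,3,0,0], [0,0,0], [3,0,2,1], [2,3,0,1,3,0], [3,2,3,3,3], [1,1,1], [0,1,2,3,0], [3,2,3,0,3,0], [0,0,0,0,3,3], [3,1,3,2,0],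 [0,0,0,3,0,0], [0,3,0,2,1], [0,1,2,3,3,0], [3,3,0,1,1], [2,1,3,3,3,0], [1,1,3,3,3], [2,3,2,3,1,1], [3,1,0,3,0], [3,3,1,2,3], [1,3,0,0,3,3], [0,3,3,0,0,1], [0,3,3,2,1], [2,1,3,0], [0,1,3,1,1,2], [1,2,0,3,3], [1,0,3,0,2,1], [0,0,1,0,3], [0,3,2,1,0], [0,1,3,1,1,3], [0,1,0,3,3], [1,3,2,0,1,3], [0,1,3,0,3,0], [0,3,1,3], [0,2,3,2,3,1], [3,1,3,3,2], [1,1,2,3,3,1], [2,1,2,3,0], [2,1,3,0,3,0], [0,1,0,0,3,3], [0,1,0,3,1,0], [1,2,3,1,2], [3,0,0], [3,3,2,3,2], [0,3,1,3,3], [3,0,3,2,3,0], [2,3,3,2,0,0], [3,0,1,3,0], [0,3,3,3], [1,2,3,1,3], [3,3,0], [0,0,0,0,3], [0,0,0,3,2], [2,3,1,1,1], [1,3,1,3,3], [3,3,1,2,0,3], [3,2,0,2], [3,0,0,3,1], [2,3,3,2,1], [3,3,3,0,3,3], [0,3,1,0,2], [0,0,3,3,2,0,3], [2,3,3,0,0], [0,3,0,3,3,3], [0,3,1,3,2,3],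 [0,3,0,1,3], [3,1,3,3,1], [3,0,3,3,1], [0,3,2,3,2,3,1], [3,0,3,2,3], [2,3,0,1], [1,3,3,3], [0,3,3,3,0], [0,0,3,1,3], [3,0,0,1,0], [0,0,3,3,3,0], [0,3,0], [0,0,0,3,0,1], [0,1,3,1,1], [3,3,3,0,0,0], [1,0,3,0,0,0], [3,3,0,1,0], [0,2,3,3,1,3], [0,2,3,0,2,1], [0,0,0,0,0,3], [1,3,3,3,0,0], [0,3,2,1,2,3], [0,3,1,3,2], [1,0,0,1,3,1], [2,3,1,2], [2,1,3,3], [2,0,0], [0,3,2,0,3,3], [0,0], [1,3,3,0,0,3], [0,2,3,3,0,2], [0,2,1], [3,2,1,2], [0,0,3,3,3,3], [2,1,2,3,1,2], [3,2,3,1,3], [1,1,2,3,3], [1,1], [0,3,3,0,3,1], [2,3,3,2,3,1], [2,0,3], [0,1,3,3,0,3], [0,0,1,3,0,2]]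

/-- Words in the generators, piece 3. -/
def wd3_3 : List (List Nat) := [[2,1,3,1,3], [3,3,3,1,2], [2,0,3,0,1,3], [0,1,3,2,0,2], [0,2,3,1,0,3], [3,0,0,1,3], [0,0,3], [3,1,0,0], [0,2,3,2,1], [0,3,1,2], [2,3,1,3,3,3], [1,0,3,1], [0,1,3,1,3], [0,3,1,3,1], [0,2,3,3,2,1], [3,3,2,1,3], [2,3,2,3,1,3], [2,3,2,3,1], [1,3,3,1,2], [2,0,1,3], [2,0,1,3,3], [0,3,3,1,1], [0,3,2,3,0,3], [3,0,1,3,3], [1,3,3,1,2,3], [3,2,3,3,0], [2,3,1,3,0,1], [3,3,3,2,0], [0,0,3,3,1,0,0], [1,0,0,1,3], [3,3,1,0,2], [0,3,1,3,1,3], [3,0,1,1], [1,3,2,1,3], [0,0,2], [1,1,2,0], [3,3,2,0,1], [3,0,3,3,1,0], [1,1,3,3,1], [0,0,3,3,2,3], [1,0,3,0,3,2], [1,0,3,0,3,0], [3,1,3,2,3], [0,1,2,3], [3,3,0,0], [3,1,0,2,3], [1,3,2,1,3,1], [2,3,3,0,2], [3,2,0,3,3],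 [2,3,3,2,3,2], [2,1], [3,0,3,2,3,3], [2,0,0,3,2,0], [1,3,3,2,0,2], [2,3,2,1,2], [0,3,0,0,3,3], [1,1,1,2,3], [2,3,3,2,0,3], [3,3,3,0], [3,1,1,3], [0,3,0,3,1], [3,3,3,0,3,2], [0,2,3,2,1,2], [0,0,3,2,3], [2,3,3,2,0], [0,1,3,3,1,0], [0,3,2,3,0,2], [2,3,3,3,0,1], [2,3,1,3,3], [0,3,2,3,0,0,1], [1,0,2,1], [3,2,3,2,0], [1,3,3,2,3], [2,1,2], [0,2,3,1], [2,0,1], [0,1,3,3,3,2], [3,0,3,0], [1,0,0,1], [3,1,3,3], [0,0,3,3,1,3], [1,3,0,1,0,2], [0,0,0,3,1,2], [0,1,0,0], [0,2,3,1,0], [0,2,3,0,0,1], [1,2,0,1], [0,2,1,3,1], [0,2], [0,0,3,0,1,3], [1,1,2,3,1], [3,2,0], [1,3,3,3,0], [0,0,0,3], [0,3,2,0,3], [0,2,3,3,3,2], [1,2,3,3,3], [3,3,3], [1,3,2,3,0], [0,3,0,0,0], [0,3,3,0,2], [0,3,1,1], [3,0,3,3,3], [1,2,3,3,0,1], [1,3,3,2,1,2],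 [3,3,1,3,2], [3,1,1,1,2], [0,3,3,3,1,3], [1,2,3,3,1], [2,1,2,0], [3,2,1,0], [3,3,1,1,3], [3,3,3,1,0], [1,1,3,1,3], [1,1,3,1,3,1], [0,2,3,1,1,1], [0,0,1,0], [3,1,1,2], [1,3,3,1,3], [1,0,3,3,0], [3,3,3,2,0,3], [3,3,0,0,3], [2,3,1,1,2], [0,1,3,3], [3,0,3,3,1,3], [0,2,3,3,3], [0,1,3,1,3,0], [2,3,3,3,1], [1,3,1,3,3,2], [1,0,3,0,3,3], [2,1,3,3,2,3], [0,1,3,2,0], [1,0,3,0,2], [1,0,0,3,3,3], [3,2,1,3], [0,3,3,3,3,0], [0,0,1,0,3,3,0], [0,3,0,1,1], [2,0,3,1,1], [0,3,3,2,0], [0,3,1,3,1,1], [3,2,3,3], [0,1,3,3,2,3], [2,0,3,1,3,3], [1,2,0,1,3], [2,3,1], [3,3,0,1,2], [3,3,1,2,0], [3,3,1,2,0,1], [2,0,3,1,2], [1,2,3,0,2,1], [1,3,3,0,1,3], [3,2,3,1,1,2], [2,1,0], [1,3,0,3], [0,1,0,2,3,3], [1,2,3,1,0,2], [0,1,0,3,1], [3,3,3,3,1],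 [1,0,0,3,1,2], [1,2,3,0,1], [0,2,3,0,1,3], [0,0,1], [3,3,0,0,1], [2,3,0], [0,2,3,3,1,1], [2,3,1,3,3,2], [0,2,3,3,2], [3,1,3], [3,0,3,2,1], [1,3,3,2,0], [2,3,2,3,1,1,2], [2,0,0,3,3], [0,3,3,0,0], [1,1,3,3], [1,0,3,1,3], [1,0,0,3,0], [3,3,1,3,1,1], [0,3,3,0,1,1], [0,3,1,3,3,2], [0,3,1,3,2,0], [0,3,2,1,2,0], [0,3,0,0,1], [0,3,3,2], [0,0,3,1,3,3], [0,3], [1,3,3,0,1], [1,3,0,0], [0,3,0,1], [3,2,3,1,2], [0,3,3,1,0,2], [2,1,2,3,1,0], [1,3,3,1,3,1], [3,0,0,3], [3,2,3], [3,3,0,3], [3,3,1,2], [3,3,0,0,2], [3,1], [0,3,0,1,0]]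

/-- Words in the generators, piece 4. -/
def wd3_4 : List (List Nat) := [[1,1,3], [0,3,1,3,0,2], [0,0,3,1,3,3,2], [3,3,3,0,1,1], [1,0,3,3,3], [3,2,3,1,1], [2,3,3,2,0,2], [0,3,0,0,2], [3,0,3,1], [0,2,1,3,1,2], [3,3,2], [1,1,3,3,2,1], [2,3,2,1,3], [3,3,2,0], [0,1,2,3,1,3,2], [3,0,3,2,0], [1,2,3], [0,3,3,2,0,1], [0,1,3,2], [3,3,0,2], [0,0,3,0,3,3], [0,3,0,0], [0,2,3,3,2,0], [3,3,2,0,3], [0,2,1,3,0,2], [0,3,3,2,0,2], [2,0,3,3,3,2], [2,1,2,0,3], [0,3,1,0,0], [3,3,3,2], [1,3,3,0,3,1], [0,3,2,3,2,0], [0,0,3,3,1,0,2], [0,3,2], [3,3,0,1,0,2], [0,3,3,2,1,3], [3,0,0,1,0,3], [0,3,0,3,1,0], [3,3,2,3,2,0], [1,3,3,0,0,0], [0,1,0,0,3,1], [0,3,3,3,2,1], [3,1,3,1,1], [0,0,3,3,2,0], [2,3,1,0,3], [0,0,3,0], [0,2,3,0,1], [1,0,3,3,2,3],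 [3,3,3,0,0], [1,3,3,2,1], [0,3,1,3,0], [2], [3,2,3,0], [2,1,2,3,1], [0,2,3,0,3], [0,1,0,3], [3,3,2,1,1], [3,3,1,1,2], [1,0,0,3,0,0], [3,3,2,1,3,1], [1,3,3,1,1], [2,3,2,0], [1,2,3,1,0,0], [3,1,3,1,0], [1,3,3,1,0], [0,1,2,3,1,0,2], [3,2,3,0,2], [0,0,1,0,3,1], [0,3,3,1,1,1], [0,1,3,1,2], [0,0,0,3,2,1,3], [2,1,3,0,3], [1,2,3,1,0], [3,1,0,3], [1,1,2,3,1,2], [3,2,3,1,1,1], [0,3,1,1,1], [3,0,3,3,0], [3,3,3,0,2], [0,3,0,1,2], [1,2,3,0], [1,1,3,3,2], [0,1,3,2,0,0], [1,3,0,3,0], [0,1,0,3,3,3], [1,3,3,1,1,2], [3,3,3,1,3], [0,3,3,0,0,2], [3,3,3,3], [2,3,3,2,1,1], [0,2,3,2,0], [0,3,0,3,2,0], [2,3,0,3,0], [0,0,1,3], [0,0,1,3,1,3], [0,2,3,3,3,1], [0,0,0,3,1,0], [0,3,2,1,2], [0,2,1,3], [2,0,3,1], [2,3,1,3,1], [0,3,0,3,3,0], [3,0],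 [3,2,3,1,0], [0,0,1,3,1,0], [1,3,1,3,2,3], [1,3,0,3,2], [1,3,2,1], [1,3,1,1,1,2], [1,3,1,2], [0,2,3,3,2,0,3], [0,0,0,3,3], [3,3,0,0,3,1], [3,1,2,0,3,0], [0,2,3,3,1,0], [0,2,3,1,3,2], [3,0,1,2,0], [3,1,3,3,3,1], [1,1,2], [2,1,1], [0,3,2,1,3,1], [0,2,3,0,1,2], [3,2,0,1], [1,3,1,3,1], [1,3,2,0,2], [0,2,1,2,3,0], [2,3,3,0,3,2], [0,0,3,0,0], [3,3,2,1,0], [2,0,3,3,3,3], [2,1,2,3,3], [3,1,3,3,3,2], [0,2,1,3,3,2], [1,3,3,1], [1,3,3,0,1,0], [2,3,2,1], [1,3,3,0], [0,1,3,0], [0,3,2,0], [1,3,3,2], [0,3,1], [3,2,0,0,3], [0,1,0,3,1,3], [0,3,3,0,3,2], [0,3,3,2,1,1], [1,3,2,3,0,3], [0,0,3,1,2,3], [1,3,3], [3,3,2,1], [0,1,3,0,0], [1,3,2,3], [0,3,3,2,3], [0,1,3,3,3,0], [3,3,3,0,0,2], [2,3,0,3], [0,0,3,3,1,0], [3,3,3,2,1,2], [2,1,3,3,0],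 [0,3,0,1,0,0], [0,3,1,0], [0,3,3,1,1,2], [1,1,1,3], [2,3,1,0,3,3], [3,3,2,0,0], [0,2,3,2,3], [1,3,3,0,3], [2,3,2,3,2], [1,2,0,3,0], [0,1,2,3,3], [1,1,1,1,3], [3,2,1,2,3], [0,0,3,1,3,0], [0,3,3,0,1,0], [0,3,2,3,2], [0,3,2,3,3,0], [0,3,2,3,0,0], [0,3,0,3,2,3], [2,1,2,3], [0,3,3,3,1,2], [0,1,3], [3,1,3,3,0], [2,3,3,3,2], [3,1,0,3,0,0], [3,0,1,3], [3,3,3,1,1,1], [0,0,0,3,0], [0,2,3,1,1,2], [1,0,3,0,0], [0,1], [0,0,3,3,2,0,0], [3,0,3,3], [2,0,0,3,3,1], [0,3,3,0,1,3], [0,2,3,1,3,1], [3,3,0,1,3,2], [1,1,3,0,2], [3,0,0,3,1,2], [0,3,3,1], [0,2,3,3,2,3], [1,3,3,0,2]]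

/-- Words in the generators, piece 5. -/
def wd3_5 : List (List Nat) := [[3,2,3,2], [3,2,3,0,0,1], [3,2,0,3,3,3], [2,1,3,3,0,2], [0,1,3,3,1,2], [0,0,0,3,0,3], [3,3,0,1], [3,3,0,3,2]]

/-- Words reaching the orbit, by increasing point. -/
def wd3 : List (List Nat) := wd3_0 ++ wd3_1 ++ wd3_2 ++ wd3_3 ++ wd3_4 ++ wd3_5

/-- Words in the generators, piece 0. -/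
def wd4_0 : List (List Nat) := [[0,1,3,5,2], [0,4,5,2], [1,4,0,5,1], [1,1,3,4], [0,1,5,4,5,3], [5,0,2], [2,4,0,5,3], [5,1,3,5], [2,2,5,4,0], [3,3,4,3], [3,4,1,5,1], [4,3,5,4,4], [1,1,1,5,4], [2,5,2,2,3], [5,4,5], [2,4,5,4,0], [0,0,0,3,5,2], [2,4,3,5,1], [2,5,1,4,3], [1,2,1,4], [3,5,2,0], [1,4,0], [5,1,5,2], [0,3,4,1,3], [5,1,2], [5,2,1], [0,0,5,3,4], [4,1,1], [0,2,5,1,1,2], [0,1,3,4,5,2], [0,2,1,5,0], [3,1,5,3], [4,3,2,1], [0,0,0,3,5], [2,1,4,3], [3,3,4,1,5], [0,5,3], [2,5,2,5], [3,5,2,5], [0,0,3,1,4], [2,0,3,0,4], [3,1,5,4], [2,5,0,3], [0,4,4,5,1], [0,4,0,5], [3,4,4,5,2], [4,5,0,3,4], [1,4,0,5,3], [0,5,4,4,0], [0,4,4,5,2], [3,3,1,4], [0,2,0,2,0], [4,5,4,1], [3,2,5,2,4], [1,3,4,1], [2,5,0,1,3], [0,4,3,3], [0,4,0,3],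 [1,4,4,5,0], [2,2,4,4], [0,3,5,2,5], [4,4,1,2], [0,0,1,2,5], [2,1,5,3,4], [2,4,3], [3,0,4,3], [0,3,0,4,3], [1,2,1,2,4], [2,4,5,4], [3,4,1,3], [4,3,2], [2,4,4,3], [5,1,5,0], [0,2,1,1,4], [4,0,0,2], [5,3,2,0,5], [1,5], [0,0,2,2,5], [5,0,3,0], [4,0,1,5], [3,3,5,4,1], [0,0,5,2], [4,3,5,1,1], [1,3,4,5,2], [0,2,5,1], [0,2,1], [2,5,2,1], [0,0,5,2,0], [5,3], [1,2,5,2], [2,3,5,3], [0,5,4,5,4], [1,2,5,1], [0,3,5,0], [2,0,2,5], [1,3,2,4], [0,4,3], [2,1,5,0], [0,2,5,2], [5,0,1], [0,5,2], [3,0,4,4,3], [0,4,1,5,2], [0,1,3,5,2,4], [4,5,1,3], [0,5,2,4], [1,5,2,4,3], [0,1,5,4], [0,4,1,5], [1,1,5,4,1], [1,3,5,3], [1,5,1,5,2], [3,4,0,4,3], [0,4,5,0,3], [0,3,4,5,4], [3,4,1,5,2], [0,5,2,4,0], [0,2,1,5,3], [5,4,4,5], [4,4,0,2], [0,0,2],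 [1,2,5,3,4], [3,1,3,0,4], [0,4,0,2], [2,4,0,0,0], [0,1,1,4,0], [2,5], [2,4,1,1], [5], [2,3,4,1], [0,2,1,4,3], [0,3,5,1], [1,2,1,2], [2,1,1], [0,4,1,3,0], [3,2,5,4], [2,0,2,0,4], [0,3,5,2], [5,0,1,4], [0,3,5,3,3], [5,2,0], [4,1,5,4], [2,5,1,1,2], [2,5,0,4], [1,1,5,0,4], [0,2,4,4,5], [0,5,0,0,3], [1,4,4,3,0], [0,2,5,0,1,3], [5,1,3,0], [0,0,5,1], [4,3,5], [4,0,5,2,1], [0,0,2,5,1], [1,5,4,4], [2,3,4], [0,2,4,0,4], [0,0,1,3,4], [3,3,5,2,4], [3,3,2], [1,2,4,5,3], [1,3,3,5], [4,1,5,2,4], [4,0,4], [3,3,3], [4,4,0,0], [3,2,5,0,4], [4,0,0,5], [4,4], [2,4,5,2], [4,0,0,4], [0,2,2,4,0,0], [1,3,5,2,0], [0,2,0,2,5], [0,4,3,5,4], [2,3,2,4], [5,4,5,2], [5,0,5,2], [1,3,5,2,2], [4,4,1,1], [2,0,5], [0,1,3,2], [2,1,5,1,4], [0,1,4,4],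 [2,0,5,0,2], [0,4,4], [2,5,3], [1,3,3,5,3], [0,0,2,4,4], [2,1,4,5,4], [2,4,0,3], [5,1,4,3], [0,2,5,4,1], [2,4,0,2,5], [0,1,5,4,1], [2,5,0,3,1], [1,3,5,0], [4,0,0,2,5], [2,0,0,0,5], [4,1,3,4,5]]

/-- Words in the generators, piece 1. -/
def wd4_1 : List (List Nat) := [[4,1,3,4,1], [0,3,4,5], [2,2,3,5], [2,0,5,1,2], [5,0,2,0], [2,1,4,4,3], [0,1], [1,3,5,1,4], [0,5,0,1,1], [2,0], [2,3], [4,0,1], [5,4,1,5], [0,1,3,5,0], [4,0], [0,2,3], [2,4,0,0], [4,4,3,2], [3,4,5,0,5], [1,4,5,3], [3,2,0,5], [3,5,4,3], [1,3,4,3,0], [2,1,3,5], [2,5,0,2], [2,0,4,5,4], [4,3,2,5], [1,4,4,3], [0,1,2,5,1], [3,0,1,5], [0,2,4,1,1], [3,1,4,5,2], [0,1,2,4,0], [0,3,0,4,1], [2,0,5,1], [2,4,3,2,1], [2,4,5,2,2], [0,3,5,3,2], [2,5,3,0,2], [4,3],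 [0,4,4,1,2], [2,2,3,4,3], [0,2,4,3,3], [1,1,3,4,5], [5,0,4], [2,5,0,4,3], [0,3,1,5,3], [0,4,0,1,2], [0,5,1], [0,2,5,0,2], [1,1,3], [4,0,3,4], [1,3,4,5,3], [3,5,2], [0,5,0,4,3], [3,2,4,1], [0,3,2], [4,0,0,1], [2,5,1], [0,1,4,0,0], [4,5,2,2], [2,3,0], [2,0,3], [3,5,1,4,3], [0,4,1,2], [2,0,1,4,0], [2,1,4], [3,1,4,5,3], [3,4,0,4], [0,5,4,3], [0,2,1,5,1], [1,2,4,4,1], [1,1,1,4], [4,3,3,1,4], [0,3], [2,5,0,5], [2,3,5], [2,4,4,0,2], [0,0,3,5,4,4], [2,2,4,4,0], [3,2,4,1,5], [0,0,2,0,1], [0,0,5,4,1], [3,3,5,3,4], [0,0,5,3,0], [3,4,5], [5,1,4], [2,0,4,5], [2,5,4], [0,4,0,1,4], [0,1,1,4,4], [2,5,2,4], [1,5,1,1], [2,3,5,2,0], [1,4,5,1], [2,0,1,4], [5,0,0,4], [3,0,5,4], [1,4,0,4], [3,3,4,1], [1,5,4,0], [0,1,2,4,5], [0,1,2,3,5],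 [3,5,0,1], [0,2,1,2], [0,5,4,0], [1,2,1,5], [0,1,2,4,4], [0,1,1,3,4], [2,2,3,4,5], [1,3,0,4,3], [0,0,2,2,4], [1,5,3,0], [2,4,1], [3,3], [0,5,0,2], [4,3,3,1], [0,4,4,3,0], [5,0,4,4], [2,3,1,4], [0,3,5,1,4], [2,4,5], [0,2,0], [0,0,0,4,3], [0,5,0,4,1], [2,0,5,3,4], [1,3,4], [5,4,4,0], [2,0,4,0,3], [3,2,5], [0,0,3,1], [2,1,5,2], [1,1,4,0,4], [1,5,4], [4,4,5,4,3], [1,2,5,2,2], [0,1,1,2], [3,2,4,0], [3,1,3,3,5], [2,1,5,3,3], [3,5,0,3], [0,2,0,2,4], [2,5,0,2,1], [2,5,2], [2,4,0,1], [0,0,0,3], [0,4,4,1], [2,5,2,2], [0,2,0,1], [5,0,0,2], [4,0,5,0,4], [0,3,4,1], [2,3,0,1,4], [5,2,1,3], [5,3,0,2], [2,1,4,4], [0,3,5,4,0], [0,0,1,2,1], [0,1,4,3,3,4], [3,3,4,3,0], [3,5,2,4], [5,4,3], [1,3,5,4,0,3], [3,4,0,0], [5,1,5,4], [0,5,0,1,4],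 [5,2,4,5], [0,5,2,1,3], [0,2,5,0,4], [2,4,0,3,1], [5,1,5,3], [5,4,5,1], [3,3,3,4], [2,0,4], [2,4,5,0], [0,5,1,1], [0,2,4,3,2], [3,4,1,1], [2,0,5,3,2], [0,1,5,2,0], [3,5,3,1], [1,5,4,4,0], [3,5,2,1,4], [0,5,2,1,4], [1,5,4,0,4], [0,5,1,5,2], [0,0,2,3], [0,1,4,4,3], [0,1,4,0], [5,3,4,3], [1,2,4,4], [0,4,3,5], [0,0,2,3,4], [1,5,3,5], [2,1,1,4], [3,4,0], [3,4,1,3,5], [2,2,0,4,0], [0,0,1,3,5], [3,5,4,0]]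

/-- Words in the generators, piece 2. -/
def wd4_2 : List (List Nat) := [[4,1], [0,4,3,2,1], [0,1,5,0,5], [0,0,0,4,4], [1,1,3,4,1], [2,5,3,5,2], [3,3,5,0,3], [0,1,5,4,0], [1,3,5,4,1], [2,5,4,4], [0,4,4,0], [2,5,2,4,5], [0,0,3,4,5], [1,5,2,4], [0,1,1,4,4,3], [1,5,2,4,0], [0,5,4,0,1,4], [1,2,2,4], [0,4,1,3,4], [4,3,3,5], [2,4,0,3,2], [3,4,4], [1,5,2,4,1], [0,2,1,3,4], [0,5,4,4,1], [3,3,3,4,4], [0,2,2,0,4], [0,5,2,4,5], [2,2,2,4,1], [2,2,2,4], [4,0,0,5,4], [0,3,0,5,4,4], [0,1,1,2,4], [0,4,0,4,3,5], [0,0,3,2,5], [0,2,2,1,4], [4,3,3,5,4], [0,5,1,3], [2,3,3], [0,0,2,0,2], [0,5,0,3,5], [1,4,3,5], [2,2,5,0,3], [3,1,5,3,3], [1,3,3], [3,3,1], [0,1,5,1,5], [2,2,1,3,4], [5,2,4,3], [0,2,5,1,3], [2,4,0,0,5], [5,2,0,0,1], [3,5,0,1,1],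 [0,1,4,5,4], [0,4,4,5,3], [4,3,3,4], [2,2,3,4], [2,1,5,3], [2,3,5,2], [2,3,5,3,3], [0,2,4,4,5,1], [4,3,5,3], [2,0,0,0], [1,2,5,3,5], [0,1,1,1,2], [2,3,5,2,4], [0,1,1,3,0], [1,2,5,3,3], [0,1,2,1,4,3], [3,1,1,4], [0,0,2,5], [5,2,4,1,1], [2,5,4,5], [0,0,1,1,5], [1,1,5,2,4], [0,3,4,0,2], [3,5,1,4,0], [0,5,4,0,1], [0,2,5], [0,3,5,4], [0,2,5,3,4], [3,4,0,5,2], [2,4,3,0], [5,0,5,0], [1,3,5,4], [1,4,0,0], [0,5,1,2], [2,4,0,2], [5,2,0,0], [5,0,3,1], [0,2,3,4,3,0], [0,0,2,4,5,4], [1,5,0,5], [0,0,5,4,4], [3,3,5,4], [0,5,0,5,4], [3,5], [2,3,5,0], [0,3,5,4,4], [2,2,5,4,5], [5,0,4,1], [2,4], [4,0,5], [0,4,5,0], [2,4,1,5], [5,0,4,0], [0,3,2,0], [3,0,5,4,0], [2,0,3,5], [4,1,3,0], [1,5,4,5,4], [0,0,2,2,2], [0,5,0,3], [3,4,1,1,1],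 [3,2,4,3,3], [2,1,5,1], [1,5,4,4,5], [2,5,2,0,0], [5,0,3,5,4], [2,3,4,0], [0,3,5,3,1], [0,4,4,0,2], [1,5,3,3], [2,4,5,3,1], [4,5,0,5,0], [0,1,4], [2,5,3,5], [1,1,1,3,5], [2,5,2,0,4], [0,4,0,4], [5,3,0,4], [3,5,1,1], [2,0,5,0,3], [0,0,2,5,4,4], [1,5,0], [0,2,5,1,4], [0,2,5,4,0], [1,2,1,4,3], [3,3,1,4,4], [0,2,1,1], [5,2,0,4], [0,0,3], [1,1,5,0,5], [3,1,3,4], [1,3,3,4], [0,3,0,5], [0,1,2,1,4], [0,0,3,2], [0,1,3,0], [3,3,2,5], [0,5,0,5,3], [0,1,5,1,4], [2,3,4,5,2], [5,4,5,4], [4,0,1,1], [0,5], [4,0,2], [2,4,1,2], [2,1,5,3,0], [1,3,5,1,2], [1,1,4], [3,5,2,2,1], [0,5,3,1], [0,5,3,2,4], [2,2,2,3], [2,2,1,5], [2,4,0], [1,1,3,3,4], [2,5,0,4,1], [0,1,2,3,2], [1,4,5,3,1], [0,2,2,2,4], [2,3,0,5], [2,3,4,3,0], [4,5,3,4], [4,5,0,1],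 [0,1,1,1,3], [1,2,2,3], [1,5,1,4,0], [4,4,0], [0,2,4,0], [0,1,3,5,1], [0,5,2,1], [0,4,5,1], [0,4,1,5,4], [0,1,2,4], [1,2,4,5,0], [5,3,2,0], [3,3,5,0], [1,1], [2,5,1,1,4], [0,4,5,3,4], [0,3,0,1], [5,3,3,2,5], [0,5,0,3,5,4], [0,4,1,1,2], [0,5,4,4,5], [3,0,5,4,4], [3,4,4,1], [0,0,0,4,5]]

/-- Words in the generators, piece 3. -/
def wd4_3 : List (List Nat) := [[0,3,0,4], [5,2], [0,4,3,2,0], [0,4,1,3,2], [1,4,3], [4,4,3,2,5], [1,2,5,3,0], [4,5,2,5], [5,0,2,2,0], [0,4,4,0,1], [3,5,3,4,0], [0,0,5,1,4], [2,5,2,5,0], [1,5,2,2], [4,1,5,3], [0,0,1], [1,2,3,0], [5,2,0,3], [2,5,0,5,2], [5,4,0,3], [0,4,0,3,0], [4,3,2,5,4], [5,3,4,0], [0,1,5,2,1], [0,1,5], [3,5,1,3], [0,4,0,3,2], [2,1,4,3,3], [1,1,3,3], [0,0,1,1], [2,3,1], [2,3,4,5,1],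 [1,3,0,4,4], [1,3,3,4,5,2], [0,3,4,3,5], [1], [0,1,5,3,4], [3,1,3,0,5], [4,5,3], [1,2,2,3,4], [2,5,0,4,0], [1,3,3,4,5], [3,5,2,5,4], [4,1,3,4], [0,2], [5,2,5], [1,5,3,3,5], [0,1,4,0,4], [2,5,0,1], [5,3,5,4,1], [1,5,2,0,4], [0,2,0,5,0], [0,2,2,4,4], [2,4,3,3,2], [5,1,5], [1,1,4,0], [3,4,3,0], [1,2,3,3], [3,5,3,3,5], [1,2,4,5], [3,0,1,4], [0,3,1,5,4], [2,0,4,4,3], [0,0,2,1,2], [0,4,0,1,1], [0,3,1,3], [0,2,0,2], [1,2,5,2,0], [0,0,3,2,1], [3,1,4], [0,5,0], [0,5,1,4,3], [5,3,5,0], [2,0,1], [0,5,3,2], [5,0,1,1], [0,0,3,5], [3,5,1,4], [5,2,4,0], [0,4,5,2,5], [0,0,1,5,4], [2,0,4,3], [3,0,5,1], [0,3,1,1], [2,4,5,1], [2,2,0,4,1], [2,3,4,4,1], [2,4,0,1,1], [0,2,4,1,3], [0,0,2,0,3], [2,2,2,5,4], [2,2,2,3,4], [4,1,3,2], [5,0,2,3],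 [0,0,2,1], [5,3,4], [0,1,1,1], [1,4,0,3], [5,0,2,1,3], [1,3,3,1], [5,3,3,2], [1,1,2,3], [5,0,3], [0,3,4,3,0], [0,4,3,0], [0,0,5,0,1,4], [0,4,1,3], [1,3,4,5], [3,3,5,2], [1,2,1,1,5], [2,2,4,1], [5,3,1,1], [2,2,4,0,4], [0,3,1,5], [2,4,5,2,5], [2,0,3,4,3], [0,5,2,4,3], [0,2,0,3,5], [4,1,2], [0,3,5,3], [2,1,2,5], [4,5,4], [0,0,1,2], [0,3,1], [3,5,0,3,2], [5,3,3,1], [0,5,4,5,1], [2,1,3], [3,4,1,2], [3,4,1,5], [0,5,2,4,1], [4,3,3,3,5], [2,2,4,3], [0,0,5,3], [1,5,1,4], [5,4,5,3], [0,2,3,2,4], [1,2,2,2,4], [2,5,1,3], [0,5,0,2,3], [4,0,5,0], [3,4,5,1], [5,4,0,4], [1,3,3,3,5], [0,5,0,4], [1,4,4], [4,0,2,0], [0,2,5,3,5], [2,0,4,0], [1,2,5], [0,2,2,4,3], [0,0,3,4,0], [0,3,4], [3,4,0,1], [0,0,2,5,3,3], [0,1,1,4,4,1], [0,4,1,1,2,4],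 [1,5,2,0,1], [0,4,0,5,3], [2,4,1,2,5], [0,2,5,3,5,4], [5,3,4,1], [0,1,1], [0,3,1,5,4,4], [2,4,4,5,4], [0,3,4,1,2], [2,0,4,4], [0,3,1,1,4], [0,0,3,0,4,1], [1,4,3,5,1], [0,2,4,4,0], [4,0,4,1], [2,3,2,4,0], [1,4,0,5], [2,4,4,5,3], [2,0,5,1,5], [4,0,1,2,5], [2,1,5,2,2], [3,0,5], [0,4,3,2,5], [2,1,5], [1,2,2], [4,5,3,5], [0,2,5,1,2], [0,0,5,0,4], [4,1,1,5], [4,5,4,3], [1,5,2,0], [1,5,1], [0,1,4,4,1], [0,5,0,4,0], [1,4,3,1], [4,1,3], [1,4,0,3,1], [4,3,5,1], [2,2,5,4], [5,0,0,1], [1,4,5,3,5], [3,4,3], [2,3,4,4]]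

/-- Words in the generators, piece 4. -/
def wd4_4 : List (List Nat) := [[0,2,5,4,5], [0,2,5,4,4], [2,3,1,5], [5,1,1,1], [4,4,5,4], [2,5,1,1], [0,0,5,2,2], [1,3,5], [5,0,5], [2,5,0,3,0], [4,4,0,1], [2,0,5,3], [0,0,2,4,1,5], [0,2,5,4], [3,2,4,5], [5,3,3,4,1], [4,3,5,4,3], [2,5,1,2], [0,0,5,0,5], [0,3,0], [0,2,2,2,3], [4,0,4,5], [5,3,4,0,5], [0,2,2,1], [2,5,4,1], [3,1,3,4,1], [1,3,0,5,4], [0,1,2,5], [0,2,3,4,3], [3,5,4,0,3], [1,4], [4,1,2,2], [2,4,4,3,1], [3,1,3,3,4], [0,0,0,1,4], [3,1,4,5], [1,5,4,1], [2,0,4,1], [0,2,5,1,1], [2,2,4], [1,5,0,4], [4,4,3], [2,1,4,5], [3,5,0,0], [4,5], [5,2,0,5], [2,2,1,3], [4,0,4,3], [0,5,2,2,2], [1,4,3,3], [1,2,3,4,4], [0,2,2,1,5], [4,5,3,1], [2,0,5,4,4], [0,1,5,2,0,4], [0,3,0,5,4],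 [0,0,5,0,1], [1,1,1,4,4], [0,3,1,4,5], [2,1,5,0,0], [2,2,5], [4,1,5], [0,0,5,1,5], [0,0,0,1,5], [0,2,4], [5,2,2], [3,2,5,0], [1,2], [2,1], [1,2,1], [0,2,4,3], [3,0,4], [0,0,2,1,4], [2,0,4,1,3], [5,3,5], [0,4,4,3,1], [], [0,3,1,4], [0,3,5,4,1], [2,0,0], [0,0,2,2], [5,0,3,4,3], [0,1,2,1], [0,4,5,3], [0,4,3,2], [0,2,2,2], [5,3,2,1], [0,0,5,0,3], [0,0], [2,1,5,1,1], [2,2,5,2], [5,2,5,4], [0,2,1,3], [0,0,1,3,0], [0,3,4,5,1], [0,0,5,4,0], [2,0,4,3,5], [5,0,0,0], [2,2,3], [1,4,3,2], [3,2,0], [5,3,0], [3,4], [2,5,3,0], [0,2,2,2,5], [1,3,4,1,2], [1,3,5,2,1], [2,5,2,4,0], [2,2,1], [2,0,5,3,0], [5,1,3,5,3], [0,4,4,1,5], [2,4,3,2,0], [5,4,5,0], [3,1,1,5], [5,4], [5,0,2,1], [2,3,5,3,4], [0,0,0,4], [2,0,5,0], [2,4,3,1], [4,4,3,1],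 [0,0,5,3,2,4], [2,0,5,0,0], [0,2,0,3,4], [0,0,3,5,4], [1,2,2,4,4], [4,4,0,1,2], [1,3,5,2], [1,1,1,3,4], [0,0,2,3,5], [1,1,5,4], [3,2,0,4], [3,4,0,2], [4,0,0,0], [5,4,1], [2,0,5,1,1], [4,3,5,4], [0,3,4,0], [0,0,0], [1,2,1,5,2], [3,4,0,5], [3,3,5,3], [1,3,5,3,3], [2,5,1,3,2], [5,0,5,4], [2,3,4,3,5], [2,5,2,5,3], [4,3,5,0], [2,2,3,5,2], [0,0,1,2,5,3], [2,5,3,5,0], [0,2,1,5], [1,3,5,1], [3,5,4,0,4], [0,4,0,3,4], [2,4,3,2], [0,3,5,4,3], [2,3,3,4], [1,4,5], [2,3,4,5,4], [4,1,5,0], [4,0,5,2,4], [3,0], [2,3,5,2,1], [0,1,5,3,3], [4,3,3], [0,3,5,0,0], [1,1,5], [2,4,4,1], [5,4,0], [0,4,3,0,1], [0,2,3,4], [0,3,1,1,5], [0,4,0,4,5], [2,4,3,3], [0,2,1,3,5], [0,2,0,5], [1,2,4,5,1], [2,5,0,2,0], [0,1,2,3,0], [2,3,5,2,2], [3,4,5,4,0],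 [3,4,4,1,5], [0,0,0,3,2], [5,1,3,2], [5,2,4,1], [2,2,4,3,5], [3,2,1], [2,3,2], [2,0,5,3,3], [3,5,4,1], [2,0,0,4], [0,0,2,5,4], [3,5,3,4], [2,5,0], [0,3,5,0,4], [1,1,3,5,1], [1,1,2,4,4], [4,4,1]]

/-- Words in the generators, piece 5. -/
def wd4_5 : List (List Nat) := [[0,4,0,3,1], [4,3,0,1], [0,2,5,3,1], [0,0,5,4], [0,3,5,2,2], [4,3,5,0,1], [3,0,2,5], [0,2,2,3,5], [3,0,2], [0,5,1,5,0], [3,2], [0,2,5,2,4], [1,2,4,4,3], [3,5,4,4], [4,1,3,0,4], [0,4,1], [3,4,0,3], [4,5,0], [0,0,3,1,5], [5,1,1], [3,4,5,4], [0,1,4,5], [1,2,5,3], [2,4,0,5], [1,3,0,2], [3,1,1,4,3], [1,5,0,5,4], [0,2,3,0,4], [0,3,4,0,5], [3,3,4,5], [0,1,1,4], [2,0,3,0], [3,4,5,3], [4,5,1,5], [4,4,3,5], [5,1,3,3], [0,2,3,2], [0,2,0,3], [5,4,5,4,1], [3,5,1,1,2],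 [3,3,2,5,0], [2,3,4,3], [3,5,0], [0,0,3,0], [3,0,2,4], [1,1,1,3], [2,0,2,5,3], [2,5,4,0,3], [3,0,4,4,5], [4,5,2], [4,0,1,2], [5,0,0,0,5], [0,2,3,0], [0,0,5,0,5,4], [1,3,2], [3,2,4,3], [3,5,2,1], [5,3,2,4], [3,1,3,0], [1,5,2,1], [1,3,3,4,0], [0,0,0,3,0], [4,3,5,0,0], [2,2,5,0,4], [2,3,5,1], [2,1,5,4,4], [5,4,4,1], [0,0,2,4,1], [3,1,4,3], [2,2,1,4], [1,5,3,3,4], [0,4,0,1], [0,4,4,3], [4,4,5,0], [0,2,5,3], [3,1,1], [1,2,2,5], [0,4,1,2,2], [1,4,3,3,5], [2,5,2,5,4], [1,1,2,4], [0,4,5], [2,3,0,1], [2,4,4], [1,1,2,4,0], [0,2,5,3,0], [4,0,4,3,5], [3,3,4,5,2], [0,4,1,1,1], [3,5,2,2], [5,2,2,1], [2,5,4,5,4], [0,4,0,4,3], [3,1,3,3], [0,3,1,1,4,3], [0,2,0,2,0,4], [1,1,2,5], [0,1,4,3,3], [4,0,3], [0,3,5,4,0,3], [0,5,0,0,4],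 [0,0,2,4,0], [2,0,2], [2,3,4,5], [0,4,0], [1,4,4,3,2], [1,3,4,1,3], [4], [0,5,3,5], [4,0,3,2], [0,3,0,1,5], [4,0,5,3], [0,0,2,1,4,3], [2,2,4,0], [0,2,4,0,1], [0,5,0,5,2], [0,5,1,5], [0,0,0,1], [3,4,4,0], [1,5,3], [2,5,4,3], [1,2,2,5,2], [5,2,4,4], [4,1,1,1], [0,2,1,4,0], [2,4,4,3,0], [0,3,0,2], [0,2,2,3], [0,2,3,4,1], [0,4,4,0,0], [3,0,1], [1,3,0], [4,3,3,3], [0,0,2,4], [5,1,3], [3,3,5], [4,4,3,0], [1,3,4,3], [1,2,2,2], [1,1,5,0], [2,2,1,4,3], [0,1,3,4,1], [3,1], [2,4,3,3,1], [0,0,2,2,3], [3], [0,0,2,0,4,4], [0,2,4,4], [0,1,3], [0,4], [1,2,3,2], [1,2,4], [1,5,0,5,2], [4,3,1], [0,2,4,1], [0,0,2,0,4], [2,1,2,4], [2,2,4,4,1], [0,5,0,0], [4,1,1,2], [2,4,3,5], [4,0,0], [3,0,1,4,3], [0,4,3,3,5], [1,1,1,2], [0,3,5,3,4],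 [3,5,1,2], [5,2,0,2], [5,1,3,4], [3,5,4], [0,2,1,4,5], [1,2,3,4,1], [0,0,3,0,4], [4,4,5], [0,5,1,4], [2,4,5,3], [5,0,4,3], [0,5,4,5], [0,2,2,0], [3,2,1,4], [1,3,0,5], [0,3,4,5,3], [4,1,5,2], [4,1,5,1], [0,5,2,2], [0,5,0,5,0], [0,0,3,5,2,4], [1,5,2,1,4], [2,2], [1,1,3,5,0], [0,1,5,3], [5,0,1,3], [3,1,5], [1,5,2], [0,5,4,1], [5,3,3,3], [0,0,5], [3,4,5,0], [1,2,1,1,4], [0,3,4,5,0]]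

/-- Words in the generators, piece 6. -/
def wd4_6 : List (List Nat) := [[0,2,3,4,0], [5,3,1], [0,3,2,0,4], [0,1,4,3], [0,2,5,0,1], [4,0,3,0], [1,5,4,5], [1,1,3,5,2], [0,4,0,1,5], [0,2,1,4], [0,2,5,0,3], [1,1,1], [5,3,3,4], [1,4,4,1,2], [2,0,2,0], [2,0,3,5,0], [4,4,5,1], [3,1,4,4,5], [0,0,3,5,0], [5,3,2], [1,1,5,0,3], [4,5,0,5], [2,2,5,4,1], [2,5,1,4], [0,5,4,4,3], [4,3,0], [2,1,4,4,5], [1,1,4,4], [3,1,3], [5,0,0], [4,0,2,0,3], [0,2,3,4,5,4], [2,0,4,1,2], [3,3,4,0,5], [1,2,3,3,4], [0,2,3,4,5], [0,3,5], [4,3,2,0], [3,5,0,4], [5,0,0,1,3], [3,5,3], [1,2,1,1], [4,4,5,3], [3,0,4,4], [1,3,0,2,5], [5,0,3,5], [1,3,5,0,3], [5,2,4], [0,5,0,1], [2,3,0,2], [5,4,0,1], [2,0,3,4], [3,5,0,0,1], [5,1,1,2], [1,3,0,4], [0,3,5,2,4],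 [0,1,3,0,4], [0,1,3,4], [4,3,3,5,0], [3,3,4,0], [2,3,3,4,4], [1,3,5,2,4], [4,4,5,2], [2,1,2], [3,5,2,0,3], [0,5,0,1,3], [0,1,2,3], [0,1,1,3], [1,1,2,5,3], [1,2,4,4,5], [4,5,2,0], [1,2,3], [5,2,2,2], [1,2,3,2,4], [2,5,4,0], [1,1,3,0,4], [3,2,5,2], [1,3,5,4,0], [5,4,4], [0,2,3,0,5], [0,4,1,1], [5,2,0,1], [1,4,4,1,5], [2,0,0,1], [1,4,0,4,1], [0,0,5,3,2], [0,1,3,4,5], [5,1,1,4], [1,4,5,0], [2,1,3,4], [0,1,5,0,4], [0,4,3,1], [3,3,4,4], [0,0,1,5], [3,4,1], [0,1,2,3,4], [2,2,5,0], [0,4,4,5], [2,1,5,2,1], [0,2,4,0,5], [1,4,4,5,2], [1,1,2], [0,1,2], [1,4,4,1], [3,5,2,5,3], [0,2,2], [0,5,4,5,3], [2,1,5,4], [1,1,3,0], [2,2,0], [3,5,1], [0,3,2,1], [4,0,3,1], [0,1,3,5], [2,0,2,4], [2,3,4,5,0], [1,1,5,2], [4,0,1,4], [2,2,4,4,3],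 [5,2,2,4], [0,0,1,2,4], [2,5,4,4,0], [0,4,5,1,3], [3,3,4], [2,4,4,5,1], [2,5,4,0,4], [1,2,2,4,0], [2,1,3,4,3], [2,5,0,2,3], [4,3,3,5,2], [4,3,2,1,5], [2,2,2,4,0], [4,5,2,1], [0,5,4,0,4], [3,4,0,5,0], [3,4,4,5,0], [0,1,3,4,3], [0,2,4,4,3], [4,5,3,5,2], [0,5,4,4], [0,4,0,5,1], [0,2,2,4], [2,4,1,5,3], [3,1,4,4], [2,4,4,1,2], [0,5,3,2,0], [0,5,1,4,0], [1,1,2,5,2], [5,2,5,0], [4,5,0,3], [1,1,4,4,1], [0,0,3,4], [1,5,4,5,3], [0,0,5,0], [0,5,0,5], [0,0,2,0], [5,2,0,0,0], [3,1,5,4,4], [1,3], [3,2,4], [0,1,3,5,3], [5,4,4,3], [0,1,5,2], [0,3,0,2,5], [0,0,3,5,2], [5,0,1,1,3], [2,3,5,0,4], [0,0,2,4,5], [2,3,0,4], [0,2,3,4,4], [2,2,2], [5,3,4,4], [0], [5,1,4,0], [0,5,3,5,1], [5,0,3,4], [1,2,3,4], [0,5,1,1,4], [2,4,4,0], [0,2,5,3,3],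 [5,0,2,2], [2,4,0,5,0], [3,4,5,2], [5,1,2,2], [0,5,4], [0,2,1,4,4], [2,3,5,0,0], [3,3,1,5], [1,4,4,5], [2,5,2,0], [0,0,3,2,4], [5,2,1,2], [3,2,4,3,5], [5,3,1,4], [1,4,4,5,3], [0,0,1,3], [2,4,0,4], [0,2,2,5], [1,4,5,4], [0,1,5,4,5]]

/-- Words in the generators, piece 7. -/
def wd4_7 : List (List Nat) := [[0,2,2,5,0], [1,1,1,5], [1,2,5,1,3], [1,3,4,5,0], [2,2,2,5], [3,4,4,5], [0,4,0,4,1], [1,3,3,3], [1,5,1,5], [5,3,5,4], [0,1,5,0], [2,2,3,4,0], [5,0,3,2], [2,1,5,0,2], [5,1], [2,3,4,0,5], [3,5,3,3], [0,0,2,5,3], [4,5,1], [4,0,5,2], [1,1,3,5], [5,3,5,0,4], [0,2,2,4,0], [3,3,4,5,1], [0,3,4,3], [2,2,0,4], [0,1,5,1], [2,0,5,4], [2], [0,2,5,0], [5,0,1,2], [2,0,4,0,5], [5,0], [1,3,5,3,4], [5,3,3], [0,1,2,5,3], [2,4,4,5],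 [0,1,5,0,5,4], [1,1,5,4,0], [0,2,4,1,2]]

/-- Words reaching the orbit, by increasing point. -/
def wd4 : List (List Nat) := wd4_0 ++ wd4_1 ++ wd4_2 ++ wd4_3 ++ wd4_4 ++ wd4_5 ++ wd4_6 ++ wd4_7

/-- A generator of the point stabiliser. -/
def cw4 : List Nat := [0, 5, 7, 5, 8, 4, 6, 4, 1]

end CfsgLib.Coset.Ly
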