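import Cfsg.Agent.Coset.Ly.MatCode
import Cfsg.Agent.Coset.Ly.MatData

/-!
The packed matrices have valid rows.
-/

set_option autoImplicit false
set_option maxRecDepth 100000
set_option Elab.async false

namespace CfsgLib.Coset.Ly

theorem ok0 : matOK 111 mat0 = true := by decide +kernel

theorem ok1 : matOK 111 mat1 = true := by decide +kernel

theorem ok2 : matOK 111 mat2 = true := by decide +kernel

theorem ok3 : matOK 111 mat3 = true := by decide +kernel

theorem ok4 : matOK 111 mat4 = true := by decide +kernel

theorem ok5 : matOK 111 mat5 = true := by decide +kernel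

theorem ok6 : matOK 111 mat6 = true := by decide +kernel

theorem ok7 : matOK 111 mat7 = true := by decide +kernel

theorem ok8 : matOK 111 mat8 = true := by decide +kernel

theorem ok9 : matOK 111 mat9 = true := by decide +kernel

theorem ok10 : matOK 111 mat10 = true := by decide +kernel

theorem ok11 : matOK 111 mat11 = true := by decide +kernel

theorem ok12 : matOK 111 mat12 = true := by decide +kernel

theorem ok13 : matOK 111 mat13 = true := by decide +kernel

theorem ok14 : matOK 111 mat14 = true := by decide +kernel

theorem ok15 : matOK 111 mat15 = true := by decide +kernel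

theorem ok16 : matOK 111 mat16 = true := by decide +kernel

theorem ok17 : matOK 111 mat17 = true := by decide +kernel

theorem ok18 : matOK 111 mat18 = true := by decide +kernel

theorem ok19 : matOK 111 mat19 = true := by decide +kernel

theorem matL_ok : allList (matOK 111) matL = true := by
  refine allList_iff.mpr fun m hm => ?_
  simp only [matL, List.mem_cons, List.not_mem_nil, or_false] at hm
  rcases hm with rfl | rfl | rfl | rfl | rfl | rfl | rfl | rfl | rfl | rfl | rfl | rfl | rfl | rfl | rfl | rfl | rfl | rfl | rfl | rfl
  exacts [ok0, ok1, ok2, ok3, ok4, ok5, ok6, ok7, ok8, ok9, ok10, ok11, ok12, ok13, ok14, ok15, ok16, ok17, ok18, ok19]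

theorem mask111_eq : mask111 = encF 111 (fun _ => 1023) := by decide +kernel

end CfsgLib.Coset.Ly
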