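import Cfsg.Agent.Coset.Ly.CentMatCode
import Cfsg.Agent.Coset.Ly.CentMatData
import Cfsg.Agent.Coset.Ly.InvData
import Cfsg.Agent.Coset.Ly.MatOK

/-!
The relations between the listed matrices.
-/

set_option autoImplicit false
set_option maxRecDepth 100000
set_option Elab.async false

namespace CfsgLib.Coset.Ly

theorem cok0 : matOK 111 cmat0 = true := by decide +kernel

theorem cok1 : matOK 111 cmat1 = true := by decide +kernel

theorem cok2 : matOK 111 cmat2 = true := by decide +kernel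

theorem cok3 : matOK 111 cmat3 = true := by decide +kernel

theorem cok4 : matOK 111 cmat4 = true := by decide +kernel

theorem cok5 : matOK 111 cmat5 = true := by decide +kernel

theorem cok6 : matOK 111 cmat6 = true := by decide +kernel

theorem cok7 : matOK 111 cmat7 = true := by decide +kernel

theorem cok8 : matOK 111 cmat8 = true := by decide +kernel

theorem cok9 : matOK 111 cmat9 = true := by decide +kernel

theorem cmatL_ok : allList (matOK 111) cmatL = true := by
  refine allList_iff.mpr fun m hm => ?_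
  simp only [cmatL, List.mem_cons, List.not_mem_nil, or_false] at hm
  rcases hm with rfl | rfl | rfl | rfl | rfl | rfl | rfl | rfl | rfl | rfl
  exacts [cok0, cok1, cok2, cok3, cok4, cok5, cok6, cok7, cok8, cok9]

/-- The relations to check, in ten letters. -/
def crelL : List (List Nat) := [[9,9], [0,0,0], [1,1,1], [2,2,2], [3,3,3], [4,4,4], [5,5,5], [6,6,6], [7,7,7], [8,8,8], [0,9,0,0,9], [1,9,1,1,9], [2,9,2,2,9], [3,9,3,3,9], [4,9,4,4,9], [5,9,5,5,9], [6,9,6,6,9], [7,9,7,7,9], [8,9,8,8,9], [0,1,0,1,9], [0,2,0,2,9], [1,2,1,2,9], [0,3,0,3,9], [1,3,1,3,9], [2,3,2,3,9], [0,4,0,4,9], [1,4,1,4,9], [2,4,2,4,9], [3,4,3,4,9], [0,5,0,5,9], [1,5,1,5,9], [2,5,2,5,9], [3,5,3,5,9], [4,5,4,5,9], [0,6,0,6,9], [1,6,1,6,9], [2,6,2,6,9], [3,6,3,6,9], [4,6,4,6,9], [5,6,5,6,9], [0,7,0,7,9], [1,7,1,7,9], [2,7,2,7,9], [3,7,3,7,9], [4,7,4,7,9], [5,7,5,7,9], [6,7,6,7,9], [0,8,0,8,9], [1,8,1,8,9], [2,8,2,8,9], [3,8,3,8,9], [4,8,4,8,9], [5,8,5,8,9], [6,8,6,8,9], [7,8,7,8,9]]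

theorem crel_low : allList (fun v => allBelow 3 7 (fixI mask111 cmatL 111 v)) crelL = true := by
  decide +kernel

end CfsgLib.Coset.Ly
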