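import Cfsg.Agent.Coset.Ly.CentMatCode
import Cfsg.Agent.Coset.Ly.CentMatData
import Cfsg.Agent.Coset.Ly.InvData
import Cfsg.Agent.Coset.Ly.MatOK

/-!
The listed matrices are the matrices of the listed words.
-/

set_option autoImplicit false
set_option maxRecDepth 100000
set_option Elab.async false

namespace CfsgLib.Coset.Ly

theorem cmat3_blk : ∀ s < 30, allBlock 2 s (rowI mask111 matL 111
    ((carmW ++ [tWord]).getD 3 []) cmat3) = true := by
  intro s hs
  interval_cases s
  all_goals decide +kernel

end CfsgLib.Coset.Ly
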