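import Cfsg.Agent.Coset.Ly.CentMatCode
import Cfsg.Agent.Coset.Ly.CentMatData
import Cfsg.Agent.Coset.Ly.InvData
import Cfsg.Agent.Coset.Ly.MatOK

/-!
The last four matrices, by words in the letters and the fifth matrix.
-/

set_option autoImplicit false
set_option maxRecDepth 100000
set_option Elab.async false

namespace CfsgLib.Coset.Ly

/-- The twenty letters and the fifth element. -/
def matX : List (List Nat) := matL ++ [cmat4]

/-- The last four elements in these letters. -/
def conjW : List (List Nat) := [[17,20,16], [16,20,17], [17,17,20,16,16], [16,16,20,17,17]]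

theorem cmat5_blk : ∀ s < 30, allBlock 2 s (rowI mask111 matX 111
    (conjW.getD 0 []) cmat5) = true := by
  intro s hs
  interval_cases s
  all_goals decide +kernel

theorem cmat6_blk : ∀ s < 30, allBlock 2 s (rowI mask111 matX 111
    (conjW.getD 1 []) cmat6) = true := by
  intro s hs
  interval_cases s
  all_goals decide +kernel

theorem cmat7_blk : ∀ s < 30, allBlock 2 s (rowI mask111 matX 111
    (conjW.getD 2 []) cmat7) = true := by
  intro s hs
  interval_cases s
  all_goals decide +kernel

theorem cmat8_blk : ∀ s < 30, allBlock 2 s (rowI mask111 matX 111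
    (conjW.getD 3 []) cmat8) = true := by
  intro s hs
  interval_cases s
  all_goals decide +kernel

end CfsgLib.Coset.Ly
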