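import Cfsg.Agent.J1Orders.Pack
import Cfsg.Agent.Coset.Sift

/-!
Row vectors of length fourteen over five elements packed in 24-bit fields, multiplied by words of
packed matrices in the kernel.
-/

set_option autoImplicit false
set_option maxRecDepth 100000

namespace CfsgLib.Coset.Ly.MatFive

open CfsgLib.Coset CfsgLib.J1Orders Matrix

section Kernel

/-- A combination of rows with the fields of a vector as coefficients. -/
noncomputable def acc (rows : List Nat) (v : Nat) : Nat :=
  List.rec (motive := fun _ => Nat → Nat) (fun _ => 0)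
    (fun r _ ih v => force (Nat.land v 16777215) fun a => force (Nat.shiftRight v 24) fun v' =>
      force (ih v') fun s => Nat.add (Nat.mul a r) s) rows v

/-- Low eight bits of every field. -/
def mask : Nat := P 14 fun _ => 255

/-- Fieldwise reduction modulo five, for fields at most 224. -/
noncomputable def red (X : Nat) : Nat :=
  force X fun X => Nat.sub X (Nat.mul (Nat.land (Nat.shiftRight (Nat.mul X 3277) 14) mask) 5)

/-- A vector through a word of matrices. -/
noncomputable def runW (T : List (List Nat)) (w : List Nat) (v : Nat) : Nat :=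
  List.rec (motive := fun _ => Nat → Nat) (fun v => v)
    (fun l _ ih v => force (red (acc (T.getD l []) v)) ih) w v

/-- A unit vector. -/
noncomputable def unitV (i : Nat) : Nat := 2 ^ (24 * i)

/-- The rows of the identity. -/
noncomputable def oneRows : List Nat := (List.range 14).map unitV

/-- A word gives the matrix with the listed rows. -/
noncomputable def wordOK (T : List (List Nat)) (w : List Nat) (target : List Nat) : Bool :=
  (List.range 14).all fun i => Nat.beq (runW T w (unitV i)) (target.getD i 0)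

end Kernel

/-- A vector as fields. -/
def fld (x : Fin 14 → ZMod 5) (t : Nat) : Nat := if h : t < 14 then (x ⟨t, h⟩).val else 0

/-- A vector as a number. -/
def enc (x : Fin 14 → ZMod 5) : Nat := P 14 (fld x)

/-- The matrix with the packed rows. -/
def dec (rows : List Nat) : Matrix (Fin 14) (Fin 14) (ZMod 5) := fun i j =>
  ((rows.getD i.val 0 / 2 ^ (24 * j.val) % 2 ^ 24 : Nat) : ZMod 5)

/-- The packed rows of a matrix. -/
def rowsOf (M : Matrix (Fin 14) (Fin 14) (ZMod 5)) : List Nat := List.ofFn fun i => enc (M i)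

theorem fld_lt (x : Fin 14 → ZMod 5) (t : Nat) : fld x t < 5 := by
  rw [fld]; split
  · exact ZMod.val_lt _
  · norm_num

theorem acc_ofFn : ∀ (n : ℕ) (f : ℕ → ℕ) (g : Fin n → ℕ), (∀ t, f t < 2 ^ 24) →
    acc (List.ofFn g) (P n f) = ∑ i : Fin n, f i.val * g i
  | 0, f, g, _ => by simp [acc]
  | n + 1, f, g, h => by
    rw [List.ofFn_succ]
    show force (Nat.land (P (n + 1) f) 16777215) (fun a => force (Nat.shiftRight (P (n + 1) f) 24)
      fun v' => force (acc _ v') fun s => Nat.add (Nat.mul a (g 0)) s) = _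
    rw [force_eq, force_eq, force_eq, Fin.sum_univ_succ]
    have h0 := h 0
    have e1 : Nat.land (P (n + 1) f) 16777215 = f 0 := by
      show P (n + 1) f &&& (2 ^ 24 - 1) = f 0
      rw [Nat.and_two_pow_sub_one_eq_mod, P]
      omega
    have e2 : Nat.shiftRight (P (n + 1) f) 24 = P n fun t => f (t + 1) := by
      show P (n + 1) f >>> 24 = _
      rw [Nat.shiftRight_eq_div_pow, P, P_zero_div h0]
    rw [e1, e2, acc_ofFn n _ _ fun t => h _]
    rfl

theorem P_zero : ∀ N : ℕ, P N (fun _ => 0) = 0
  | 0 => rfl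
  | n + 1 => by simp [P, P_zero n]

theorem P_sum {ι : Type} (N : ℕ) (c : ι → ℕ) (g : ι → ℕ → ℕ) (s : Finset ι) :
    ∑ i ∈ s, c i * P N (g i) = P N fun t => ∑ i ∈ s, c i * g i t := by
  classical
  induction s using Finset.induction with
  | empty => simp [P_zero]
  | insert a s ha ih =>
    rw [Finset.sum_insert ha, ih, mul_comm, P_smul, P_add]
    exact P_congr fun t _ => by rw [Finset.sum_insert ha, mul_comm]

theorem P_shift14 : ∀ (N : ℕ) (f : ℕ → ℕ), (∀ t, f t < 2 ^ 22) →
    (P N f >>> 14) &&& P N (fun _ => 255) = P N (fun t => f t / 2 ^ 14)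
  | 0, _, _ => by simp [P]
  | n + 1, f, h => by
    simp only [P]
    set R := P n (fun t => f (t + 1)) with hR
    have h0 := h 0
    rw [Nat.shiftRight_eq_div_pow]
    have e : (2 ^ 24 * R + f 0) / 2 ^ 14
        = 2 ^ 24 * (R / 2 ^ 14) + (2 ^ 10 * (R % 2 ^ 14) + f 0 / 2 ^ 14) := by
      omega
    rw [e, land_split _ _ _ _ (by omega) (by norm_num), ← Nat.shiftRight_eq_div_pow, hR,
      P_shift14 n _ (fun t => h _)]
    congr 1
    have h255 := Nat.and_two_pow_sub_one_eq_mod (2 ^ 10 * (R % 2 ^ 14) + f 0 / 2 ^ 14) 8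
    norm_num at h255 ⊢
    rw [h255]
    omega

theorem mod5_magic : ∀ s : Fin 225, (s : ℕ) - (s * 3277 / 2 ^ 14) * 5 = s % 5 ∧
    (s * 3277 / 2 ^ 14) * 5 ≤ (s : ℕ) ∧ (s : ℕ) * 3277 < 2 ^ 22 := by
  decide +kernel

theorem red_P (s : ℕ → ℕ) (hs : ∀ t, s t ≤ 224) :
    red (P 14 s) = P 14 fun t => s t % 5 := by
  rw [red, force_eq]
  change P 14 s - ((P 14 s * 3277) >>> 14 &&& mask) * 5 = _
  have key : ∀ t, s t - (s t * 3277 / 2 ^ 14) * 5 = s t % 5 ∧ (s t * 3277 / 2 ^ 14) * 5 ≤ s t ∧
      s t * 3277 < 2 ^ 22 := fun t => mod5_magic ⟨s t, by have := hs t; omega⟩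
  rw [P_smul, mask, P_shift14 _ _ (fun t => (key t).2.2), P_smul]
  rw [Nat.sub_eq_iff_eq_add]
  · rw [P_add]
    exact P_congr fun t _ => by have := key t; omega
  · have : P 14 (fun t => s t * 3277 / 2 ^ 14 * 5) + P 14 (fun t => s t % 5) = P 14 s := by
      rw [P_add]
      exact P_congr fun t _ => by have := key t; omega
    omega

theorem step_eq (M : Matrix (Fin 14) (Fin 14) (ZMod 5)) (x : Fin 14 → ZMod 5) :
    red (acc (rowsOf M) (enc x)) = enc (x ᵥ* M) := by
  rw [rowsOf, enc, acc_ofFn 14 _ _ fun t => by have := fld_lt x t; omega]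
  simp only [enc]
  rw [P_sum]
  have hb : ∀ t, ∑ i : Fin 14, fld x i.val * fld (M i) t ≤ 224 := by
    intro t
    have h16 : ∀ i : Fin 14, fld x i.val * fld (M i) t ≤ 16 := fun i => by
      have h1 := fld_lt x i.val
      have h2 := fld_lt (M i) t
      calc _ ≤ 4 * 4 := Nat.mul_le_mul (by omega) (by omega)
        _ = 16 := rfl
    calc _ ≤ ∑ _i : Fin 14, 16 := Finset.sum_le_sum fun i _ => h16 i
      _ ≤ 224 := by simp
  rw [red_P _ hb]
  refine P_congr fun t ht => ?_
  have e : ((∑ i : Fin 14, fld x i.val * fld (M i) t : ℕ) : ZMod 5) = (x ᵥ* M) ⟨t, ht⟩ := by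
    push_cast
    simp only [Matrix.vecMul, dotProduct]
    refine Finset.sum_congr rfl fun i _ => ?_
    simp [fld, ht, i.isLt]
  rw [← ZMod.val_natCast (n := 5), e]
  simp [fld, ht]

theorem enc_injective : Function.Injective enc := by
  intro x y h
  funext i
  have hb : ∀ (z : Fin 14 → ZMod 5) (t : Nat), fld z t < 2 ^ 24 := fun z t => by
    have := fld_lt z t; omega
  have h2 : fld x i.val = fld y i.val := by
    rw [← P_field 14 i.val _ (hb x) i.isLt, ← P_field 14 i.val _ (hb y) i.isLt]
    rw [show P 14 (fld x) = P 14 (fld y) from h]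
  simp only [fld, i.isLt, dite_true, Fin.eta] at h2
  exact ZMod.val_injective 5 h2

theorem unitV_eq : ∀ i : Fin 14, unitV i.val = enc (Pi.single i 1) := by
  decide +kernel

theorem rowsOf_getD (M : Matrix (Fin 14) (Fin 14) (ZMod 5)) (i : Fin 14) :
    (rowsOf M).getD i.val 0 = enc (M i) := by
  rw [rowsOf, List.getD_eq_getElem _ _ (by simp only [List.length_ofFn]; exact i.isLt),
    List.getElem_ofFn]

theorem oneRows_eq : oneRows = rowsOf 1 := by decide +kernel

variable {ι : Type} [Fintype ι] [DecidableEq ι] (e : ι ≃ Fin 14)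
  {L : List (GL ι (ZMod 5))} {T : List (List Nat)}

/-- A matrix of an invertible element in the numbering `e`. -/
def num (g : GL ι (ZMod 5)) : Matrix (Fin 14) (Fin 14) (ZMod 5) := g.val.submatrix e.symm e.symm

theorem num_one : num e 1 = 1 := by simp [num]

theorem num_mul (g h : GL ι (ZMod 5)) : num e (g * h) = num e g * num e h := by
  simp [num, Matrix.submatrix_mul_equiv]

theorem num_injective : Function.Injective (num e) := by
  intro g h hgh
  apply Units.ext
  ext i j
  have := congrFun (congrFun hgh (e i)) (e j)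
  simpa [num] using this

theorem runW_eq (hT : ∀ l, l < L.length → T.getD l [] = rowsOf (num e (fl L l))) :
    ∀ (w : List Nat), (∀ l ∈ w, l < L.length) → ∀ x : Fin 14 → ZMod 5,
      runW T w (enc x) = enc (x ᵥ* num e (ev L w))
  | [], _, x => by simp [runW, num_one]
  | l :: w, h, x => by
    show force (red (acc (T.getD l []) (enc x))) (runW T w) = _
    rw [force_eq, hT l (h l (by simp)), step_eq, runW_eq hT w (fun a ha => h a (by simp [ha])),
      ev_cons, num_mul, Matrix.vecMul_vecMul]

/-- A checked word gives the matrix with the listed rows. -/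
theorem rows_of_wordOK (hT : ∀ l, l < L.length → T.getD l [] = rowsOf (num e (fl L l)))
    {w : List Nat} (hl : ∀ l ∈ w, l < L.length) {target : List Nat} (hlen : target.length = 14)
    (h : wordOK T w target = true) : rowsOf (num e (ev L w)) = target := by
  apply List.ext_getElem
  · simp [rowsOf, hlen]
  · intro i h1 h2
    have hi : i < 14 := by simpa [rowsOf] using h1
    have h3 := Nat.eq_of_beq_eq_true (List.all_eq_true.mp h i (List.mem_range.mpr hi))
    rw [show unitV i = enc (Pi.single (⟨i, hi⟩ : Fin 14) 1) from unitV_eq ⟨i, hi⟩,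
      runW_eq e hT w hl, Matrix.single_one_vecMul, List.getD_eq_getElem _ _ h2] at h3
    rw [← h3]
    simp only [rowsOf, List.getElem_ofFn]
    rfl

theorem eq_of_rows {g h : GL ι (ZMod 5)} (hr : rowsOf (num e g) = rowsOf (num e h)) : g = h := by
  apply num_injective e
  funext i
  exact enc_injective (congrFun (List.ofFn_injective hr) i)

end CfsgLib.Coset.Ly.MatFive
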