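import Cfsg.Agent.Coset.Checker
import Cfsg.Agent.Coset.Ly.MatFive
import Cfsg.Agent.Coset.Ly.G2Data
import Cfsg.Agent.Chev.GoodAll
import Cfsg.Prelude.Def_ChevWords
import Mathlib.Tactic.IntervalCases

/-!
The root elements of G₂ over five elements as packed matrices.
-/

set_option autoImplicit false
set_option maxRecDepth 100000

namespace CfsgLib.Coset.Ly.G2

open Cfsg.Lie Matrix MatFive

local instance : Fact (Nat.Prime 5) := ⟨Nat.prime_five⟩

/-- The coordinate numbering. -/
abbrev e : chevG2.Idx ≃ Fin 14 := finSumFinEquiv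

/-- The parameter of a root element. -/
def par (a : Nat) : ZMod 5 := ((a % 4 + 1 : Nat) : ZMod 5)

/-- The root elements used. -/
noncomputable def Lx : List (GL chevG2.Idx (ZMod 5)) :=
  (List.range 48).map fun a => CfsgLib.Chev.good_G2.full.x (a / 4) (par a)

theorem len_Lx : Lx.length = 48 := by simp [Lx]

theorem fl_Lx {a : Nat} (ha : a < 48) :
    fl Lx a = CfsgLib.Chev.good_G2.full.x (a / 4) (par a) := by
  rw [fl, Lx, List.getD_eq_getElem _ _ (by simpa using ha), List.getElem_map, List.getElem_range]

theorem root_rows : ∀ a < 48,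
    rootT.getD a [] = rowsOf ((chevG2.x (ZMod 5) (a / 4) (par a)).submatrix e.symm e.symm) := by
  intro a ha
  interval_cases a <;> decide +kernel

end CfsgLib.Coset.Ly.G2
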