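import Cfsg.Agent.Coset.Ly.A
import Cfsg.Agent.Coset.Ly.G2Rows
import Cfsg.Agent.Chev.GoodAll
import Cfsg.Agent.S1055
import Cfsg.Agent.S1059
import Cfsg.Agent.S2100
import Cfsg.Agent.S2121
import Cfsg.Agent.OutConway.Out
import Cfsg.Prelude.Def_ChevWords

/-!
The group presented by the relations 1–44 of the Lyons presentation is the Chevalley group of type
G₂ over five elements; in particular it is simple, with trivial multiplier and trivial outer
automorphism group.
-/

set_option autoImplicit false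
set_option maxRecDepth 100000
set_option Elab.async false

namespace CfsgLib.Coset.Ly

open Cfsg.Lie Matrix

local instance : Fact (Nat.Prime 5) := ⟨Nat.prime_five⟩

namespace G2

open MatFive

theorem rows_Lx (a : Nat) (ha : a < Lx.length) :
    rootT.getD a [] = rowsOf (num e (fl Lx a)) := by
  rw [len_Lx] at ha
  rw [root_rows a ha, num, fl_Lx ha, CfsgLib.Chev.Tab.Full.coe_x']

theorem fl_Lx_mem (a : Nat) : fl Lx a ∈ chevG2.group (ZMod 5) := by
  by_cases ha : a < 48
  · rw [fl_Lx ha]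
    have ha' : a / 4 < chevG2.nroots := by
      show a / 4 < 12
      omega
    refine Subgroup.subset_closure ⟨⟨a / 4, ha'⟩, par a, ?_⟩
    rw [CfsgLib.Chev.Tab.Full.coe_x', ChevalleyDatum.x, dif_pos ha']
  · rw [fl_of_le _ (by rw [len_Lx]; omega)]
    exact one_mem _

theorem ev_Lx_mem : ∀ w, ev Lx w ∈ chevG2.group (ZMod 5)
  | [] => by rw [ev_nil]; exact one_mem _
  | a :: w => by rw [ev_cons]; exact mul_mem (fl_Lx_mem a) (ev_Lx_mem w)

/-- The images of the generators. -/
noncomputable def Li : List (GL chevG2.Idx (ZMod 5)) := wordsX.map (ev Lx)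

theorem len_Li : Li.length = 18 := by simp [Li, wordsX]

theorem gen_check : ∀ l < 18, (genT.getD l []).length = 14 ∧
    wordOK rootT (wordsX.getD l []) (genT.getD l []) = true ∧
    ∀ a ∈ wordsX.getD l [], a < 48 := by
  decide +kernel

theorem fl_Li {l : Nat} (hl : l < 18) : fl Li l = ev Lx (wordsX.getD l []) := by
  have hl' : l < wordsX.length := by simpa [wordsX] using hl
  simp [fl, Li, List.getD_eq_getElem?_getD, List.getElem?_eq_getElem hl']

theorem rows_Li (l : Nat) (hl : l < Li.length) : genT.getD l [] = rowsOf (num e (fl Li l)) := by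
  rw [len_Li] at hl
  obtain ⟨h1, h2, h3⟩ := gen_check l hl
  rw [fl_Li hl]
  exact (rows_of_wordOK e rows_Lx (fun a ha => len_Lx.symm ▸ h3 a ha) h1 h2).symm

theorem rels_check : relsA.all (fun w => wordOK genT w oneRows) = true := by decide +kernel

theorem img_rels : ∀ w ∈ relsA, ev Li w = 1 := by
  intro w hw
  have hl : ∀ l ∈ w, l < 18 := (by decide +kernel : ∀ w ∈ relsA, ∀ l ∈ w, l < 18) w hw
  refine eq_of_rows e ?_
  rw [rows_of_wordOK e rows_Li (fun l h => len_Li.symm ▸ hl l h) (by simp [oneRows])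
    (List.all_eq_true.mp rels_check w hw), MatFive.num_one, oneRows_eq]

/-- The map to the matrices. -/
noncomputable def φ : A →* GL chevG2.Idx (ZMod 5) := numHom len_Li img_rels

theorem range_le : φ.range ≤ chevG2.group (ZMod 5) := by
  rw [φ, range_numHom, Subgroup.closure_le]
  intro x hx
  obtain ⟨w, -, rfl⟩ := List.mem_map.mp hx
  exact ev_Lx_mem w

theorem back_check : ∀ r < 12, (rootT.getD (4 * r) []).length = 14 ∧
    wordOK genT (wordsA.getD r []) (rootT.getD (4 * r) []) = true ∧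
    ∀ l ∈ wordsA.getD r [], l < 18 := by
  decide +kernel

theorem root_one_mem {r : Nat} (hr : r < 12) :
    CfsgLib.Chev.good_G2.full.x r (1 : ZMod 5) ∈ φ.range := by
  obtain ⟨h1, h2, h3⟩ := back_check r hr
  have e1 : fl Lx (4 * r) = CfsgLib.Chev.good_G2.full.x r (1 : ZMod 5) := by
    rw [fl_Lx (by omega)]
    congr 1
    · omega
    · simp [par]
  refine ⟨ev LA (wordsA.getD r []), ?_⟩
  rw [φ, numHom_ev, ← e1]
  refine eq_of_rows e ?_
  rw [← rows_Lx (4 * r) (by rw [len_Lx]; omega),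
    rows_of_wordOK e rows_Li (fun l h => len_Li.symm ▸ h3 l h) h1 h2]

theorem range_eq : φ.range = chevG2.group (ZMod 5) := by
  refine le_antisymm range_le ?_
  rw [ChevalleyDatum.group, Subgroup.closure_le]
  rintro g ⟨⟨r, hr⟩, t, hg⟩
  have hx : g = CfsgLib.Chev.good_G2.full.x r t :=
    Units.ext (by rw [hg, CfsgLib.Chev.Tab.Full.coe_x', ChevalleyDatum.x, dif_pos hr])
  have hpow : ∀ n : ℕ, CfsgLib.Chev.good_G2.full.x r ((n : ℕ) : ZMod 5) =
      CfsgLib.Chev.good_G2.full.x r (1 : ZMod 5) ^ n := by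
    intro n
    induction n with
    | zero => rw [Nat.cast_zero, pow_zero, CfsgLib.Chev.good_G2.full.x_zero]
    | succ n ih => rw [Nat.cast_succ, pow_succ, ← CfsgLib.Chev.good_G2.full.x_add, ih]
  rw [SetLike.mem_coe, hx, ← ZMod.natCast_zmod_val t, hpow]
  exact pow_mem (root_one_mem hr) _

theorem card_chev : Nat.card (chevG2.group (ZMod 5)) = 5859000000 :=
  (Cfsg.Agent.S1059.result (ZMod.card 5)).trans (by norm_num)

end G2

/-- The presented group is the Chevalley group of type G₂ over five elements. -/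
theorem A_equiv : Nonempty (A ≃* Cfsg.Lie.chevG2.group (ZMod 5)) := by
  let f : A →* chevG2.group (ZMod 5) :=
    G2.φ.codRestrict _ fun x => G2.range_le ⟨x, rfl⟩
  have hsurj : Function.Surjective f := by
    intro y
    obtain ⟨x, hx⟩ : (y : GL chevG2.Idx (ZMod 5)) ∈ G2.φ.range := G2.range_eq.symm ▸ y.2
    exact ⟨x, Subtype.ext hx⟩
  exact ⟨MulEquiv.ofBijective f (hsurj.bijective_of_nat_card_le
    (le_of_eq (card_and_injective.1.trans G2.card_chev.symm)))⟩

theorem simple_nonabelian_A : IsSimpleGroup A ∧ ¬ IsMulCommutative A := by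
  obtain ⟨ε⟩ := A_equiv
  obtain ⟨h1, h2⟩ := Cfsg.Agent.S1055.result (F := ZMod 5) ⟨2, by decide +kernel, by decide +kernel⟩
  refine ⟨ε.isSimpleGroup_congr.mpr h1, fun h => h2 ⟨⟨fun a b => ?_⟩⟩⟩
  apply ε.symm.injective
  rw [map_mul, map_mul]
  exact h.1.comm _ _

theorem isSimple_A : IsSimpleGroup A := simple_nonabelian_A.1

theorem perfect_A : commutator A = ⊤ := by
  haveI := isSimple_A
  refine ((Subgroup.commutator_normal ⊤ ⊤).eq_bot_or_eq_top).resolve_left fun h => ?_
  exact simple_nonabelian_A.2 ⟨⟨fun a b => commutatorElement_eq_one_iff_mul_comm.mp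
    (Subgroup.mem_bot.mp (h ▸ Subgroup.commutator_mem_commutator (Subgroup.mem_top a)
      (Subgroup.mem_top b)))⟩⟩

theorem multiplier_A : Cfsg.HasCyclicSchurMultiplier A 1 := by
  obtain ⟨ε⟩ := A_equiv
  have h := (Cfsg.Agent.S2100.result (F := ZMod 5) (by simp [ZMod.card])).2
  refine ⟨⟨A, inferInstance, inferInstance, MonoidHom.id A,
    ⟨fun x => ⟨x, rfl⟩, by simp [MonoidHom.ker_id], by simp [MonoidHom.ker_id]⟩, ?_⟩, ?_⟩
  · haveI : Subsingleton ↥(MonoidHom.id A).ker := by
      rw [MonoidHom.ker_id]; infer_instance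
    haveI : Unique ↥(MonoidHom.id A).ker := uniqueOfSubsingleton 1
    exact ⟨MulEquiv.ofUnique⟩
  · intro Γ _ _ σ hσ
    have hk : (ε.toMonoidHom.comp σ).ker = σ.ker :=
      by ext x; simp [MonoidHom.mem_ker]
    obtain ⟨π, hπ⟩ := h Γ (ε.toMonoidHom.comp σ)
      ⟨ε.surjective.comp hσ.1, hk ▸ hσ.2.1, hk ▸ hσ.2.2⟩
    exact ⟨(MulEquiv.subgroupCongr hk).toMonoidHom.comp π,
      (MulEquiv.subgroupCongr hk).surjective.comp hπ⟩

theorem out_A : Nat.card (Cfsg.Out A) = 1 := by
  obtain ⟨ε⟩ := A_equiv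
  rw [CfsgLib.OutConway.card_out_congr ε,
    Cfsg.Agent.S2121.result 5 1 (by rw [pow_one, ZMod.card]) (by norm_num)]
  norm_num

end CfsgLib.Coset.Ly
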