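import Mathlib.Data.List.Basic

/-!
Data for the lower bound of the order of the Lyons group.
-/

set_option autoImplicit false
set_option maxRecDepth 100000

namespace CfsgLib.Coset.Ly

/-- Coordinates showing that conjugates by `z` leave the subgroup. -/
def escL : List (Nat × List Nat) := [(7, [18, 7, 19]),
  (7, [18, 3, 19]),
  (7, [18, 2, 0, 2, 2, 0, 2, 1, 3, 19]),
  (7, [18, 3, 8, 15, 4, 11, 19]),
  (7, [18, 3, 3, 8, 16, 6, 8, 4, 1, 2, 2, 19]),
  (7, [18, 3, 7, 19]),
  (7, [18, 8, 7, 19]),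
  (7, [18, 2, 19]),
  (7, [18, 3, 19]),
  (7, [18, 0, 2, 19]),
  (7, [18, 3, 3, 19]),
  (7, [18, 3, 3, 19]),
  (7, [18, 3, 0, 2, 19]),
  (7, [18, 3, 3, 3, 19]),
  (7, [18, 2, 0, 2, 19]),
  (7, [18, 2, 3, 3, 19]),
  (7, [18, 3, 1, 3, 3, 19])]

/-- Possible sizes of the third suborbit. -/
def cand2 : List Nat := [0, 1, 31, 50, 62, 125, 155, 250, 310, 625, 775, 1250, 1550, 3125, 3875, 6250, 7750, 15625, 19375, 31250, 38750, 96875, 193750, 484375, 968750]

/-- Possible sizes of the fourth suborbit. -/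
def cand3 : List Nat := [0, 1, 31, 50, 60, 62, 75, 93, 100, 124, 125, 150, 155, 186, 250, 300, 310, 372, 375, 465, 500, 620, 625, 750, 775, 930, 1250, 1500, 1550, 1860, 1875, 2325, 2500, 3100, 3125, 3750, 3875, 4650, 6250, 7500, 7750, 9300, 9375, 11625, 12500, 15500, 15625, 18750, 19375, 23250, 31250, 37500, 38750, 46500, 46875, 58125, 62500, 77500, 93750, 96875, 116250, 187500, 193750, 232500, 290625, 387500, 484375, 581250, 968750, 1162500, 1453125, 1937500, 2906250, 5812500]

/-- Possible sizes of the fifth suborbit. -/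
def cand4 : List Nat := [0, 1, 31, 35, 75, 93, 105, 125, 155, 175, 217, 375, 465, 525, 625, 651, 775, 875, 1085, 1875, 2325, 2625, 3125, 3255, 3875, 4375, 5425, 9375, 11625, 13125, 16275, 19375, 21875, 27125, 58125, 65625, 81375, 96875, 135625, 290625, 406875, 678125, 2034375]

end CfsgLib.Coset.Ly
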