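import Cfsg.Agent.Coset.Ly.Rep
import Cfsg.Agent.Coset.Ly.LowerData
import Mathlib.Dynamics.PeriodicPts.Lemmas

/-!
In the matrix model the subgroup on eighteen letters preserves the span of the first seven basis
vectors; this separates cosets of the subgroup.
-/

set_option autoImplicit false
set_option maxRecDepth 100000
set_option Elab.async false

namespace CfsgLib.Coset.Ly

/-- The first unit vector. -/
def e0 : Fin 111 → ZMod 5 := Pi.single 0 1

theorem code_e0 : code e0 = 1 := by
  rw [e0, code_single 111 0]; rfl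

/-- The vectors supported on the first seven coordinates. -/
def Low (v : Fin 111 → ZMod 5) : Prop := ∀ j : Fin 111, 7 ≤ (j : ℕ) → v j = 0

theorem low_e0 : Low e0 := by
  intro j hj
  exact Pi.single_eq_of_ne (fun h => by rw [h] at hj; exact absurd hj (by decide)) _

theorem rows_low : ∀ l < 18, ∀ i < 7, (matL.getD l []).getD i 0 < 16777216 ^ 7 := by decide +kernel

theorem matOf_low {l : Nat} (hl : l < 18) {i j : Fin 111} (hi : (i : ℕ) < 7) (hj : 7 ≤ (j : ℕ)) :
    matOf 111 (matL.getD l []) i j = 0 := by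
  have h := rows_low l hl i hi
  show (((matL.getD l []).getD i 0 / 16777216 ^ (j : ℕ) % 16777216 : ℕ) : ZMod 5) = 0
  rw [Nat.div_eq_of_lt (lt_of_lt_of_le h (Nat.pow_le_pow_right (by norm_num) hj))]
  simp

theorem low_word : ∀ w : List Nat, (∀ l ∈ w, l < 18) → ∀ v : Fin 111 → ZMod 5, Low v →
    Low (Matrix.vecMul v (matWord 111 matL w)) := by
  intro w
  induction w with
  | nil => intro _ v hv; simpa [matWord] using hv
  | cons l w ih =>
    intro hw v hv
    have e : matWord 111 matL (l :: w) = matOf 111 (matL.getD l []) * matWord 111 matL w := by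
      simp [matWord]
    rw [e, ← Matrix.vecMul_vecMul]
    refine ih (fun x hx => hw x (by simp [hx])) _ fun j hj => ?_
    simp only [Matrix.vecMul, dotProduct]
    refine Finset.sum_eq_zero fun i _ => ?_
    rcases lt_or_ge (i : ℕ) 7 with hi | hi
    · rw [matOf_low (hw l (by simp)) hi hj, mul_zero]
    · rw [hv i hi, zero_mul]

/-- Every element of the model is a word. -/
theorem exists_word_A (a : A) : ∃ w : List Nat, (∀ l ∈ w, l < 18) ∧ ev LA w = a := by
  have ha : a ∈ Subgroup.closure {x | x ∈ LA} := closure_LA ▸ Subgroup.mem_top a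
  induction ha using Subgroup.closure_induction with
  | mem x hx =>
    obtain ⟨l, hl, rfl⟩ := List.getElem_of_mem hx
    refine ⟨[l], fun m hm => by rw [List.mem_singleton] at hm; exact hm ▸ (len_LA ▸ hl), ?_⟩
    rw [ev_cons, ev_nil, mul_one, fl, List.getD_eq_getElem _ _ hl]
  | one => exact ⟨[], by simp, rfl⟩
  | mul x y _ _ hx hy =>
    obtain ⟨u, hu, rfl⟩ := hx
    obtain ⟨v, hv, rfl⟩ := hy
    exact ⟨u ++ v, fun l hl => (List.mem_append.mp hl).elim (hu l) (hv l), ev_append LA u v⟩
  | inv x _ hx =>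
    obtain ⟨u, hu, rfl⟩ := hx
    exact ⟨invW u, invW_lt hu, ev_invW_LA u hu⟩

theorem low_Ψ (a : A) :
    Low (Matrix.vecMul e0 (repLy (frame_LG.Ψ a) : Matrix (Fin 111) (Fin 111) (ZMod 5))) := by
  obtain ⟨w, hw, rfl⟩ : ∃ w : List Nat, (∀ l ∈ w, l < 18) ∧ ev LA w = a := exists_word_A a
  rw [frame_LG.Ψ_ev w hw, repLy_ev w fun l hl => by have := hw l hl; omega,
    val_ev_LR w fun l hl => by have := hw l hl; omega]
  exact low_word w hw e0 low_e0

/-- A listed word lies outside the subgroup. -/
theorem esc_not_mem {w : List Nat} (h : w ∈ escL.map Prod.snd) :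
    ev LG w ∉ frame_LG.H := by
  have key : ∀ q ∈ escL, 7 ≤ q.1 ∧ q.1 < 111 ∧ (∀ l ∈ q.2, l < 20) ∧
      lane (vrun mask111 matL 1 q.2) q.1 ≠ 0 := by decide +kernel
  obtain ⟨⟨j, v⟩, hq, rfl⟩ := List.mem_map.mp h
  obtain ⟨h7, h111, hl, hne⟩ := key _ hq
  rintro ⟨a, ha⟩
  have h0 := low_Ψ a ⟨j, h111⟩ h7
  rw [ha] at h0
  rw [← code_e0, vrun_rep v hl, code, encF_lane 111 _ (code_lt _) ⟨j, h111⟩] at hne
  exact hne (by rw [h0, ZMod.val_zero])

/-- A prime moving period of a vector divides the order of the group. -/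
theorem dvd_card_of_period [Finite Cfsg.Spor.Ly] {p : ℕ} (hp : p.Prime) (w : List Nat)
    (hw : ∀ l ∈ w, l < 20) (h1 : vrun mask111 matL 1 w ≠ 1)
    (h2 : vrun mask111 matL 1 (List.replicate p w).flatten = 1) :
    p ∣ Nat.card Cfsg.Spor.Ly := by
  haveI : Fact p.Prime := ⟨hp⟩
  let f : (Fin 111 → ZMod 5) → (Fin 111 → ZMod 5) := fun v =>
    Matrix.vecMul v (repLy (ev LG w) : Matrix (Fin 111) (Fin 111) (ZMod 5))
  have hev : ∀ k, ev LG (List.replicate k w).flatten = ev LG w ^ k := by
    intro k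
    induction k with
    | zero => simp
    | succ k ih => rw [List.replicate_succ, List.flatten_cons, ev_append, ih, pow_succ']
  have hit : ∀ k, f^[k] e0 =
      Matrix.vecMul e0 (repLy (ev LG w ^ k) : Matrix (Fin 111) (Fin 111) (ZMod 5)) := by
    intro k
    induction k with
    | zero => simp
    | succ k ih =>
      rw [Function.iterate_succ_apply', ih, pow_succ, map_mul, Units.val_mul,
        ← Matrix.vecMul_vecMul]
  have hper : Function.IsPeriodicPt f p e0 := by
    refine code_injective ?_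
    rw [hit, ← hev, ← vrun_rep _ (fun l hl => by
      obtain ⟨v, hv, hlv⟩ := List.mem_flatten.mp hl
      exact hw l ((List.eq_of_mem_replicate hv) ▸ hlv)), code_e0, h2]
  have hfix : ¬ Function.IsFixedPt f e0 := by
    intro h
    apply h1
    have := congrArg code h
    rwa [← code_e0, vrun_rep w hw]
  have hN : Function.IsPeriodicPt f (orderOf (ev LG w)) e0 := by
    show f^[_] e0 = e0
    rw [hit, pow_orderOf_eq_one, map_one, Units.val_one, Matrix.vecMul_one]
  have hd := hN.minimalPeriod_dvd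
  rw [Function.minimalPeriod_eq_prime hper hfix] at hd
  exact hd.trans (orderOf_dvd_natCard _)

theorem dvd_27269 [Finite Cfsg.Spor.Ly] :
    11 ∣ Nat.card Cfsg.Spor.Ly ∧ 37 ∣ Nat.card Cfsg.Spor.Ly ∧ 67 ∣ Nat.card Cfsg.Spor.Ly :=
  ⟨dvd_card_of_period (by norm_num) ord11W (by decide +kernel) (by decide +kernel)
      (by decide +kernel),
    dvd_card_of_period (by norm_num) ord37W (by decide +kernel) (by decide +kernel)
      (by decide +kernel),
    dvd_card_of_period (by norm_num) ord67W (by decide +kernel) (by decide +kernel)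
      (by decide +kernel)⟩

theorem Ψ_ne_one : frame_LG.Ψ (ev LA [0]) ≠ 1 := by
  rw [frame_LG.Ψ_ev [0] (by decide)]
  intro h
  have h2 := vrun_rep [0] (by decide) e0
  rw [h, map_one, Units.val_one, Matrix.vecMul_one, code_e0] at h2
  exact absurd h2 (by decide +kernel)

end CfsgLib.Coset.Ly
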