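import Cfsg.Agent.Coset.Ly.Exact
import Cfsg.Agent.Coset.Ly.Escape
import Cfsg.Prelude.Def_Sporadic
import Mathlib.GroupTheory.Index
import Mathlib.GroupTheory.Perm.Basic
import Mathlib.GroupTheory.GroupAction.Quotient

/-!
The index of the subgroup on eighteen letters in the presented Lyons group, and simplicity.
-/

set_option autoImplicit false
set_option maxRecDepth 100000
set_option Elab.async false

namespace CfsgLib.Coset.Ly

open Cfsg.Spor (Ly)

theorem finite_Ly : Finite Ly := card_Ly_le.1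

theorem Ψ_injective (hA : IsSimpleGroup A) : Function.Injective frame_LG.Ψ := by
  rcases hA.eq_bot_or_eq_top_of_normal frame_LG.Ψ.ker inferInstance with h | h
  · exact (MonoidHom.ker_eq_bot_iff _).mp h
  · exact absurd (MonoidHom.mem_ker.mp (h ▸ Subgroup.mem_top _)) Ψ_ne_one

theorem card_H (hA : IsSimpleGroup A) : Nat.card frame_LG.H = 5859000000 := by
  rw [← card_and_injective.1]
  exact (Nat.card_congr (MonoidHom.ofInjective (Ψ_injective hA)).toEquiv).symm

theorem T1_eq : frame_LG.stabN 1 = K0 := by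
  refine le_antisymm (fun a ha => ?_) (frame_LG.St_le (n := 1) (by norm_num))
  obtain ⟨j, hj, hjn, g, hg, q, hq, rfl⟩ := cover 1 le_rfl (by norm_num) a
  have hK : K0 ≤ frame_LG.stabN 1 := frame_LG.St_le (n := 1) (by norm_num)
  have hh : ev LA (factAt j).2.1 ∈ frame_LG.stabN 1 := by
    have := mul_mem (mul_mem (inv_mem (hK hg)) ha) (inv_mem (hK hq))
    simpa [mul_assoc] using this
  have key : ∀ k < factL.length, (factAt k).1 = 1 →
      (factAt k).2.1 = [] ∨ [18] ++ (factAt k).2.1 ++ [19] ∈ escL.map Prod.snd := by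
    decide +kernel
  rcases key j hj hjn with h | h
  · rw [h, ev_nil, mul_one]
    exact mul_mem hg hq
  · refine absurd ?_ (esc_not_mem h)
    have h2 : ev LG (nW 1) * frame_LG.Ψ (ev LA (factAt j).2.1) * (ev LG (nW 1))⁻¹ ∈ frame_LG.H := hh
    rw [show nW 1 = [18] by decide +kernel, frame_LG.Ψ_ev _ (fact_letters j hj).1,
      ← frame_LG.ev_invW, show invW [18] = [19] by decide +kernel] at h2
    simpa [ev_append, mul_assoc] using h2

theorem card_K0 : Nat.card K0 = 300000 := by
  refine le_antisymm ?_ card_K0_ge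
  haveI := card_P.1
  have hgP : ∀ w : List Nat, (∀ l ∈ w, l < 18 ∧ ([l] ∈ TP.subs ∨ [Nat.xor l 1] ∈ TP.subs)) →
      ev LA w ∈ P := by
    intro w
    induction w with
    | nil => intro _; exact one_mem _
    | cons l w ih =>
      intro h
      rw [ev_cons]
      refine mul_mem ?_ (ih fun x hx => h x (by simp [hx]))
      obtain ⟨hl, h' | h'⟩ := h l (by simp)
      · simpa using ev_mem_genW (L := LA) h'
      · rw [← inv_mem_iff, inv_eq_of_mul_eq_one_right (pairsA l hl).2]
        simpa using ev_mem_genW (L := LA) h'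
  have hK : K0 ≤ P := by
    refine (Subgroup.closure_le _).mpr ?_
    rintro _ ⟨w, hw, rfl⟩
    exact hgP w ((by decide +kernel : ∀ w ∈ kgW, ∀ l ∈ w,
      l < 18 ∧ ([l] ∈ TP.subs ∨ [Nat.xor l 1] ∈ TP.subs)) w hw)
  have hr : ∀ i < 5, ev LA (coR.getD i []) ∈ P := fun i hi =>
    hgP _ ((by decide +kernel : ∀ i < 5, ∀ l ∈ coR.getD i [],
      l < 18 ∧ ([l] ∈ TP.subs ∨ [Nat.xor l 1] ∈ TP.subs)) i hi)
  let f : Fin 5 × K0 → P := fun x =>
    ⟨ev LA (coR.getD x.1 []) * x.2, mul_mem (hr _ x.1.2) (hK x.2.2)⟩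
  have hlt : ∀ i k : Fin 5, i < k → ∀ q q' : K0,
      ev LA (coR.getD i []) * q ≠ ev LA (coR.getD k []) * q' := by
    intro i k hik q q' he
    have key : ∀ i : Fin 5, ∀ k : Fin 5, i < k →
        [18] ++ (invW (coR.getD i []) ++ coR.getD k []) ++ [19] ∈ escL.map Prod.snd := by
      decide +kernel
    have hl : ∀ i : Fin 5, ∀ l ∈ coR.getD i [], l < 18 := by decide +kernel
    have hl2 : ∀ l ∈ invW (coR.getD i []) ++ coR.getD k [], l < 18 := fun l hl' =>
      (List.mem_append.mp hl').elim (invW_lt (hl i) l) (hl k l)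
    refine absurd ?_ (esc_not_mem (key i k hik))
    have hm : ev LA (invW (coR.getD i []) ++ coR.getD k []) ∈ frame_LG.stabN 1 := by
      rw [T1_eq, ev_append, ev_invW_LA _ (hl i)]
      have : (ev LA (coR.getD i []))⁻¹ * ev LA (coR.getD k []) = (q : A) * (q' : A)⁻¹ := by
        rw [inv_mul_eq_iff_eq_mul, ← mul_assoc, eq_mul_inv_iff_mul_eq, he]
      rw [this]
      exact mul_mem q.2 (inv_mem q'.2)
    have h2 : ev LG (nW 1) * frame_LG.Ψ (ev LA (invW (coR.getD i []) ++ coR.getD k [])) *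
        (ev LG (nW 1))⁻¹ ∈ frame_LG.H := hm
    rw [show nW 1 = [18] by decide +kernel, frame_LG.Ψ_ev _ hl2,
      ← frame_LG.ev_invW, show invW [18] = [19] by decide +kernel] at h2
    simpa [ev_append, mul_assoc] using h2
  have hf : Function.Injective f := by
    rintro ⟨i, q⟩ ⟨k, q'⟩ h
    have he : ev LA (coR.getD i []) * q = ev LA (coR.getD k []) * q' := congrArg Subtype.val h
    rcases lt_trichotomy i k with hik | hik | hik
    · exact absurd he (hlt i k hik q q')
    · subst hik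
      exact Prod.ext rfl (Subtype.ext (mul_left_cancel he))
    · exact absurd he.symm (hlt k i hik q' q)
  have h5 := (Nat.card_le_card_of_injective f hf).trans card_P.2
  rw [Nat.card_prod, Nat.card_fin] at h5
  omega

theorem index_T1 : (frame_LG.stabN 1).index = 19530 := by
  have h := Subgroup.card_mul_index K0
  rw [card_K0, card_and_injective.1] at h
  rw [T1_eq]
  omega

/-- A proper subgroup of the model has index at least 31. -/
theorem index_ge (hA : IsSimpleGroup A) (S : Subgroup A) : S.index = 1 ∨ 31 ≤ S.index := by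
  rcases lt_or_ge S.index 31 with h | h
  · left
    rw [Subgroup.index_eq_one]
    by_contra hS
    have hinj : Function.Injective (MulAction.toPermHom A (A ⧸ S)) := by
      rw [← MonoidHom.ker_eq_bot_iff]
      rcases hA.eq_bot_or_eq_top_of_normal (MulAction.toPermHom A (A ⧸ S)).ker inferInstance
        with hk | hk
      · exact hk
      · refine absurd ?_ hS
        rw [eq_top_iff]
        intro a _
        have h1 : (MulAction.toPermHom A (A ⧸ S)) a = 1 :=
          MonoidHom.mem_ker.mp (hk ▸ Subgroup.mem_top a)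
        have h2 := DFunLike.congr_fun h1 ((1 : A) : A ⧸ S)
        simp only [MulAction.toPermHom_apply, MulAction.toPerm_apply, MulAction.Quotient.smul_coe,
          smul_eq_mul, mul_one, Equiv.Perm.one_apply] at h2
        simpa using QuotientGroup.eq.mp h2.symm
    have hd := Subgroup.card_dvd_of_injective _ hinj
    haveI := Fintype.ofFinite (A ⧸ S)
    rw [card_and_injective.1, Nat.card_perm, ← Subgroup.index_eq_card] at hd
    have : (31 : ℕ) ∣ Nat.factorial S.index := dvd_trans (by norm_num) hd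
    have := (Nat.Prime.dvd_factorial (by norm_num : Nat.Prime 31)).mp this
    omega
  · exact Or.inr h

/-- The point of a node. -/
noncomputable def pt (n : Fin 5) : Ly ⧸ frame_LG.H := QuotientGroup.mk (ev LG (nW n))⁻¹

/-- The model acts on the cosets. -/
@[reducible] noncomputable def actA : MulAction A (Ly ⧸ frame_LG.H) :=
  MulAction.compHom _ frame_LG.Ψ

attribute [local instance] actA

theorem smul_mk (a : A) (g : Ly) :
    a • (QuotientGroup.mk g : Ly ⧸ frame_LG.H) = QuotientGroup.mk (frame_LG.Ψ a * g) := rfl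

theorem stab_pt (n : Fin 5) : MulAction.stabilizer A (pt n) = frame_LG.stabN n := by
  ext a
  rw [MulAction.mem_stabilizer_iff, pt, smul_mk, QuotientGroup.eq]
  show _ ↔ ev LG (nW n) * frame_LG.Ψ a * (ev LG (nW n))⁻¹ ∈ frame_LG.H
  rw [← inv_mem_iff]
  simp [mul_assoc]

/-- The suborbit of a node. -/
noncomputable def orbN (n : Fin 5) : Set (Ly ⧸ frame_LG.H) := MulAction.orbit A (pt n)

theorem ncard_orbN (n : Fin 5) : (orbN n).ncard = (frame_LG.stabN n).index := by
  rw [← stab_pt, MulAction.index_stabilizer]; rfl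

theorem orbN_cover (x : Ly ⧸ frame_LG.H) : ∃ n, x ∈ orbN n := by
  obtain ⟨⟨n, q⟩, rfl⟩ := frame_LG.blk_surjective x
  induction q using QuotientGroup.induction_on with
  | _ a => exact ⟨n, a, rfl⟩

theorem orbN_zero : orbN 0 = {(QuotientGroup.mk 1 : Ly ⧸ frame_LG.H)} := by
  have h0 : pt 0 = QuotientGroup.mk 1 := by
    rw [pt, show nW (0 : Fin 5).val = [] by decide +kernel, ev_nil, inv_one]
  ext x
  constructor
  · rintro ⟨a, rfl⟩
    show a • pt 0 = _
    rw [h0, smul_mk, mul_one, QuotientGroup.eq]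
    simpa using inv_mem (show frame_LG.Ψ a ∈ frame_LG.H from ⟨a, rfl⟩)
  · rintro rfl
    exact ⟨1, by show (1 : A) • pt 0 = _; rw [one_smul, h0]⟩

/-- The union of the first suborbits. -/
noncomputable def orbU (k : Nat) : Set (Ly ⧸ frame_LG.H) := {x | ∃ n : Fin 5, (n : ℕ) < k ∧ x ∈ orbN n}

theorem ncard_step (T : Set (Ly ⧸ frame_LG.H)) (hT : ∀ (a : A), ∀ x ∈ T, a • x ∈ T) (n : Fin 5) :
    ∃ e, (e = 0 ∨ (e = (frame_LG.stabN n).index ∧ pt n ∈ T)) ∧
      (pt n ∈ T → (∀ m : Fin 5, m < n → pt n ∉ orbN m) → e = (frame_LG.stabN n).index) ∧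
      (T ∩ orbU (n + 1)).ncard = (T ∩ orbU n).ncard + e := by
  haveI := finite_Ly
  have hstep : orbU (n + 1) = orbU n ∪ orbN n := by
    ext x
    constructor
    · rintro ⟨m, hm, hx⟩
      rcases Nat.lt_succ_iff_lt_or_eq.mp hm with h | h
      · exact Or.inl ⟨m, h, hx⟩
      · exact Or.inr (Fin.ext h ▸ hx)
    · rintro (⟨m, hm, hx⟩ | hx)
      · exact ⟨m, Nat.lt_succ_of_lt hm, hx⟩
      · exact ⟨n, Nat.lt_succ_self _, hx⟩
  have hin : pt n ∈ orbN n := MulAction.mem_orbit_self _
  by_cases hp : pt n ∈ T ∧ pt n ∉ orbU n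
  · refine ⟨_, Or.inr ⟨rfl, hp.1⟩, fun _ _ => rfl, ?_⟩
    have hd : Disjoint (T ∩ orbU n) (orbN n) := by
      rw [Set.disjoint_left]
      rintro x ⟨-, m, hm, hxm⟩ hxn
      refine hp.2 ⟨m, hm, ?_⟩
      show pt n ∈ MulAction.orbit A (pt m)
      rw [← MulAction.orbit_eq_iff.mpr hxm, MulAction.orbit_eq_iff.mpr hxn]
      exact hin
    have hsub : orbN n ⊆ T := by
      rintro x ⟨a, rfl⟩
      exact hT a _ hp.1
    rw [hstep, Set.inter_union_distrib_left, Set.inter_eq_right.mpr hsub,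
      Set.ncard_union_eq hd (Set.toFinite _) (Set.toFinite _), ncard_orbN]
  · refine ⟨0, Or.inl rfl, fun h1 h2 => absurd ⟨h1, fun ⟨m, hm, hx⟩ => h2 m hm hx⟩ hp, ?_⟩
    rw [hstep, Nat.add_zero]
    congr 1
    ext x
    refine ⟨?_, fun ⟨h1, h2⟩ => ⟨h1, Or.inl h2⟩⟩
    rintro ⟨h1, h2 | ⟨a, rfl⟩⟩
    · exact ⟨h1, h2⟩
    · refine ⟨h1, ?_⟩
      have hpT : pt n ∈ T := by simpa using hT a⁻¹ _ h1
      obtain ⟨m, hm, hx⟩ : pt n ∈ orbU n := by
        by_contra h
        exact hp ⟨hpT, h⟩
      exact ⟨m, hm, MulAction.mem_orbit_of_mem_orbit a hx⟩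

theorem ncard_invariant (T : Set (Ly ⧸ frame_LG.H)) (hT : ∀ (a : A), ∀ x ∈ T, a • x ∈ T) :
    ∃ e : Fin 5 → ℕ, (∀ n, e n = 0 ∨ (e n = (frame_LG.stabN n).index ∧ pt n ∈ T)) ∧
      (∀ n, pt n ∈ T → (∀ m : Fin 5, m < n → pt n ∉ orbN m) → e n = (frame_LG.stabN n).index) ∧
      T.ncard = e 0 + e 1 + e 2 + e 3 + e 4 := by
  choose e he1 he2 he3 using ncard_step T hT
  refine ⟨e, he1, he2, ?_⟩
  have h5 : T ∩ orbU 5 = T := Set.inter_eq_left.mpr fun x _ => by
    obtain ⟨n, hn⟩ := orbN_cover x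
    exact ⟨n, n.2, hn⟩
  have h0 : (T ∩ orbU 0).ncard = 0 := by
    rw [show orbU 0 = ∅ from Set.eq_empty_of_forall_notMem fun x ⟨m, hm, _⟩ => Nat.not_lt_zero _ hm]
    simp
  have a0 := he3 0
  have a1 := he3 1
  have a2 := he3 2
  have a3 := he3 3
  have a4 := he3 4
  simp only [Fin.val_zero, Fin.val_one, Fin.val_two] at a0 a1 a2
  rw [show ((3 : Fin 5) : ℕ) = 3 from rfl] at a3
  rw [show ((4 : Fin 5) : ℕ) = 4 from rfl] at a4
  simp only [Nat.zero_add, Nat.reduceAdd] at a0 a1 a2 a3 a4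
  rw [h5] at a4
  omega

theorem mem_cand {N a b : ℕ} (hN : N = a * b) {c : List ℕ}
    (hc : ∀ x ∈ Nat.divisors a, ∀ y ∈ Nat.divisors b, x * y < 31 ∨ x * y ∈ c) (ha : a ≠ 0)
    (hb : b ≠ 0) (h01 : 0 ∈ c ∧ 1 ∈ c) {e : ℕ} (he : e = 0 ∨ (e ∣ N ∧ (e = 1 ∨ 31 ≤ e))) :
    e ∈ c := by
  rcases he with rfl | ⟨hd, rfl | h31⟩
  · exact h01.1
  · exact h01.2
  · rw [hN] at hd
    obtain ⟨x, y, hx, hy, rfl⟩ := exists_dvd_and_dvd_of_dvd_mul hd
    rcases hc x (Nat.mem_divisors.mpr ⟨hx, ha⟩) y (Nat.mem_divisors.mpr ⟨hy, hb⟩) with h | h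
    · omega
    · exact h

theorem index_cases (hA : IsSimpleGroup A) {n : Fin 5} (hn : 1 ≤ (n : ℕ)) {e : ℕ}
    (he : e = 0 ∨ e = (frame_LG.stabN n).index) :
    e = 0 ∨ (e ∣ [1, 19530, 968750, 5812500, 2034375].getD n 0 ∧ (e = 1 ∨ 31 ≤ e)) := by
  refine he.imp_right fun h => ?_
  subst h
  exact ⟨(Subgroup.index_dvd_of_le (frame_LG.St_le n.2)).trans (index_St_dvd n hn n.2),
    index_ge hA _⟩

theorem search_ok : allList (fun a => allList (fun b => allList (fun c =>
    cond (Nat.beq (Nat.mod (Nat.add 19531 (Nat.add a (Nat.add b c))) 27269) 0)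
      (cond (Nat.beq a 968750) (cond (Nat.beq b 5812500) (Nat.beq c 2034375) false) false)
      true) cand4) cand3) cand2 = true := by decide +kernel

/-- The suborbit lengths and the index. -/
theorem lengths (hA : IsSimpleGroup A) :
    frame_LG.H.index = 8835156 ∧ ∀ T : Set (Ly ⧸ frame_LG.H),
      (∀ (a : A), ∀ x ∈ T, a • x ∈ T) → (QuotientGroup.mk 1 : Ly ⧸ frame_LG.H) ∈ T →
      ∃ b1 b2 b3 b4 : Bool, T.ncard = 1 + (cond b1 19530 0) + (cond b2 968750 0) +
        (cond b3 5812500 0) + (cond b4 2034375 0) := by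
  haveI := finite_Ly
  have hU : ∀ (a : A), ∀ x ∈ (Set.univ : Set (Ly ⧸ frame_LG.H)), a • x ∈ (Set.univ : Set (Ly ⧸ frame_LG.H)) :=
    fun _ _ _ => trivial
  obtain ⟨e, he, hf, hsum⟩ := ncard_invariant Set.univ hU
  rw [Set.ncard_univ, ← Subgroup.index_eq_card] at hsum
  have hi0 : (frame_LG.stabN ((0 : Fin 5) : ℕ)).index = 1 := by
    rw [← ncard_orbN, orbN_zero, Set.ncard_singleton]
  have hi1 : (frame_LG.stabN ((1 : Fin 5) : ℕ)).index = 19530 := index_T1
  have h0 : e 0 = 1 := by
    rw [hf 0 trivial (fun m hm => absurd hm (Fin.not_lt_zero m)), hi0]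
  have h1 : e 1 = 19530 := by
    rw [hf 1 trivial (fun m hm hmem => ?_), hi1]
    obtain rfl : m = 0 := Fin.ext (by
      have : (m : ℕ) < 1 := hm
      show (m : ℕ) = 0
      omega)
    have h := ncard_orbN 1
    rw [orbN, MulAction.orbit_eq_iff.mpr hmem] at h
    change (orbN 0).ncard = _ at h
    rw [hi1, orbN_zero, Set.ncard_singleton] at h
    omega
  have hc2 : e 2 ∈ cand2 := mem_cand (N := 968750) (a := 1250) (b := 775) (by norm_num)
    (by decide +kernel) (by norm_num) (by norm_num) (by decide +kernel)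
    (index_cases hA (n := 2) (by decide) ((he 2).imp_right And.left))
  have hc3 : e 3 ∈ cand3 := mem_cand (N := 5812500) (a := 2500) (b := 2325) (by norm_num)
    (by decide +kernel) (by norm_num) (by norm_num) (by decide +kernel)
    (index_cases hA (n := 3) (by decide) ((he 3).imp_right And.left))
  have hc4 : e 4 ∈ cand4 := mem_cand (N := 2034375) (a := 1875) (b := 1085) (by norm_num)
    (by decide +kernel) (by norm_num) (by norm_num) (by decide +kernel)
    (index_cases hA (n := 4) (by decide) ((he 4).imp_right And.left))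
  have h27 : 27269 ∣ frame_LG.H.index := by
    obtain ⟨d11, d37, d67⟩ := dvd_27269
    have hp : ∀ p, p.Prime → p ∣ Nat.card Ly → ¬ p ∣ 5859000000 → p ∣ frame_LG.H.index := by
      intro p hp hd hn
      rw [← Subgroup.card_mul_index frame_LG.H, card_H hA] at hd
      exact (hp.dvd_mul.mp hd).resolve_left hn
    have a11 := hp 11 (by norm_num) d11 (by norm_num)
    have a37 := hp 37 (by norm_num) d37 (by norm_num)
    have a67 := hp 67 (by norm_num) d67 (by norm_num)
    have := Nat.Coprime.mul_dvd_of_dvd_of_dvd (by norm_num : Nat.Coprime (11 * 37) 67)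
      (Nat.Coprime.mul_dvd_of_dvd_of_dvd (by norm_num : Nat.Coprime 11 37) a11 a37) a67
    simpa using this
  have hs := allList_iff.mp (allList_iff.mp (allList_iff.mp search_ok _ hc2) _ hc3) _ hc4
  have hmod : (19531 + (e 2 + (e 3 + e 4))) % 27269 = 0 := by
    obtain ⟨k, hk⟩ := h27
    omega
  rw [show Nat.beq (Nat.mod (Nat.add 19531 (Nat.add (e 2) (Nat.add (e 3) (e 4)))) 27269) 0 = true by
    show Nat.beq ((19531 + (e 2 + (e 3 + e 4))) % 27269) 0 = true
    rw [hmod]; rfl, cond_true, cond_false_eq_true, cond_false_eq_true] at hs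
  have h2 := Nat.eq_of_beq_eq_true hs.1
  have h3 := Nat.eq_of_beq_eq_true hs.2.1
  have h4 := Nat.eq_of_beq_eq_true hs.2.2
  have hval : ∀ (n : Fin 5) (v : ℕ), e n = v → v ≠ 0 → (frame_LG.stabN n).index = v := by
    intro n v hv hv0
    rcases he n with h | ⟨h, -⟩ <;> omega
  refine ⟨by omega, fun T hT h1T => ?_⟩
  obtain ⟨e', he', hf', hs'⟩ := ncard_invariant T hT
  have hz : e' 0 = 1 := by
    refine (hf' 0 ?_ fun m hm => absurd hm (Fin.not_lt_zero m)).trans hi0
    have : pt 0 = QuotientGroup.mk 1 := by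
      have := (orbN_zero ▸ MulAction.mem_orbit_self (pt 0) : pt 0 ∈ ({QuotientGroup.mk 1} : Set _))
      exact this
    rwa [this]
  have hb : ∀ (n : Fin 5) (v : ℕ), (frame_LG.stabN n).index = v →
      ∃ b : Bool, e' n = cond b v 0 := by
    intro n v hv
    rcases he' n with h | ⟨h, -⟩
    · exact ⟨false, h⟩
    · exact ⟨true, h.trans hv⟩
  obtain ⟨b1, hb1⟩ := hb 1 _ hi1
  obtain ⟨b2, hb2⟩ := hb 2 _ (hval 2 _ h2 (by norm_num))
  obtain ⟨b3, hb3⟩ := hb 3 _ (hval 3 _ h3 (by norm_num))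
  obtain ⟨b4, hb4⟩ := hb 4 _ (hval 4 _ h4 (by norm_num))
  exact ⟨b1, b2, b3, b4, by rw [hs', hz, hb1, hb2, hb3, hb4]⟩

theorem index_H (hA : IsSimpleGroup A) : frame_LG.H.index = 8835156 := (lengths hA).1

theorem card_Ly (hA : IsSimpleGroup A) : Nat.card Ly = 51765179004000000 := by
  rw [← Subgroup.card_mul_index frame_LG.H, card_H hA, index_H hA]

theorem maximal_H (hA : IsSimpleGroup A) {M : Subgroup Ly} (hM : frame_LG.H ≤ M) :
    M = frame_LG.H ∨ M = ⊤ := by
  haveI := finite_Ly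
  let T : Set (Ly ⧸ frame_LG.H) := MulAction.orbit M (QuotientGroup.mk 1 : Ly ⧸ frame_LG.H)
  have hT : ∀ (a : A), ∀ x ∈ T, a • x ∈ T := by
    rintro a x ⟨m, rfl⟩
    exact ⟨⟨frame_LG.Ψ a, hM ⟨a, rfl⟩⟩ * m, mul_smul _ _ _⟩
  obtain ⟨b1, b2, b3, b4, hc⟩ := (lengths hA).2 T hT (MulAction.mem_orbit_self _)
  have hst : MulAction.stabilizer M (QuotientGroup.mk 1 : Ly ⧸ frame_LG.H) =
      frame_LG.H.subgroupOf M := by
    ext m
    rw [MulAction.mem_stabilizer_iff, Subgroup.mem_subgroupOf]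
    show (QuotientGroup.mk ((m : Ly) * 1) : Ly ⧸ frame_LG.H) = QuotientGroup.mk 1 ↔ _
    rw [QuotientGroup.eq]
    simp
  have hr : T.ncard = frame_LG.H.relIndex M := by
    rw [Subgroup.relIndex, ← hst, MulAction.index_stabilizer]
  have hd : T.ncard ∣ 8835156 := by
    rw [hr, ← index_H hA]
    exact ⟨M.index, (Subgroup.relIndex_mul_index hM).symm⟩
  have key : ∀ c1 c2 c3 c4 : Bool, 1 + (cond c1 19530 0) + (cond c2 968750 0) +
      (cond c3 5812500 0) + (cond c4 2034375 0) ∣ 8835156 →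
      1 + (cond c1 19530 0) + (cond c2 968750 0) + (cond c3 5812500 0) + (cond c4 2034375 0) = 1 ∨
      1 + (cond c1 19530 0) + (cond c2 968750 0) + (cond c3 5812500 0) + (cond c4 2034375 0) =
        8835156 := by decide +kernel
  rw [hc] at hd hr
  rcases key _ _ _ _ hd with h | h
  · left
    refine le_antisymm ?_ hM
    rw [← Subgroup.relIndex_eq_one]
    omega
  · right
    have h2 := Subgroup.relIndex_mul_index hM
    rw [← hr, h, index_H hA] at h2
    exact Subgroup.index_eq_one.mp (by omega)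

theorem not_normal_H : ¬ frame_LG.H.Normal := by
  intro hN
  have h : frame_LG.stabN 1 = ⊤ := by
    rw [eq_top_iff]
    intro a _
    show ev LG (nW 1) * frame_LG.Ψ a * (ev LG (nW 1))⁻¹ ∈ frame_LG.H
    exact hN.conj_mem _ ⟨a, rfl⟩ _
  have := index_T1
  rw [h, Subgroup.index_top] at this
  omega

theorem simple_Ly (hA : IsSimpleGroup A) : IsSimpleGroup Ly := by
  haveI := finite_Ly
  haveI : Nontrivial Ly := by
    rw [← Finite.one_lt_card_iff_nontrivial, card_Ly hA]; norm_num
  refine ⟨fun N hN => ?_⟩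
  by_cases hle : N ≤ frame_LG.H
  · left
    rcases hA.eq_bot_or_eq_top_of_normal (N.comap frame_LG.Ψ) (hN.comap _) with h | h
    · rw [eq_bot_iff]
      intro g hg
      obtain ⟨a, rfl⟩ := hle hg
      have : a ∈ N.comap frame_LG.Ψ := hg
      rw [h, Subgroup.mem_bot] at this
      simp [this]
    · refine absurd ?_ not_normal_H
      have : frame_LG.H = N := le_antisymm (by
        rintro _ ⟨a, rfl⟩
        exact (show a ∈ N.comap frame_LG.Ψ from h ▸ Subgroup.mem_top a)) hle
      exact this ▸ hN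
  · have htop : N ⊔ frame_LG.H = ⊤ := (maximal_H hA le_sup_right).resolve_left fun h =>
      hle (h ▸ le_sup_left)
    rcases hA.eq_bot_or_eq_top_of_normal (N.comap frame_LG.Ψ) (hN.comap _) with h | h
    · exfalso
      have hcap : ∀ n ∈ N, n ∈ frame_LG.H → n = 1 := by
        rintro _ hn ⟨a, rfl⟩
        have : a ∈ N.comap frame_LG.Ψ := hn
        rw [h, Subgroup.mem_bot] at this
        simp [this]
      have hinj : ∀ n ∈ N, ∀ m ∈ N, (QuotientGroup.mk n : Ly ⧸ frame_LG.H) = QuotientGroup.mk m →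
          n = m := fun n hn m hm he =>
        inv_mul_eq_one.mp (hcap _ (mul_mem (inv_mem hn) hm) (QuotientGroup.eq.mp he))
      have hord : ∀ n ∈ N, ∀ m ∈ N, (QuotientGroup.mk n : Ly ⧸ frame_LG.H) ∈
          MulAction.orbit A (QuotientGroup.mk m : Ly ⧸ frame_LG.H) → orderOf n = orderOf m := by
        rintro n hn m hm ⟨a, ha⟩
        have h2 : (QuotientGroup.mk n : Ly ⧸ frame_LG.H) =
            QuotientGroup.mk (frame_LG.Ψ a * m * (frame_LG.Ψ a)⁻¹) := by
          rw [← ha]
          show (QuotientGroup.mk (frame_LG.Ψ a * m) : Ly ⧸ frame_LG.H) = _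
          rw [QuotientGroup.eq]
          simpa [mul_assoc] using inv_mem (show frame_LG.Ψ a ∈ frame_LG.H from ⟨a, rfl⟩)
        rw [hinj n hn _ (hN.conj_mem m hm _) h2]
        exact (MulAut.conj (frame_LG.Ψ a)).orderOf_eq m
      have hsurj : Function.Surjective
          (fun n : N => (QuotientGroup.mk (n : Ly) : Ly ⧸ frame_LG.H)) := by
        intro x
        induction x using QuotientGroup.induction_on with
        | _ g =>
          obtain ⟨n, hn, k, hk, rfl⟩ := Subgroup.mem_sup_of_normal_left.mp (htop ▸ Subgroup.mem_top g)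
          exact ⟨⟨n, hn⟩, QuotientGroup.eq.mpr (by simpa using hk)⟩
      have hcard : Nat.card N = 8835156 := by
        rw [← index_H hA, Subgroup.index_eq_card]
        exact Nat.card_congr (Equiv.ofBijective _
          ⟨fun a b hab => Subtype.ext (hinj _ a.2 _ b.2 hab), hsurj⟩)
      let ords : Fin 6 → ℕ := ![1, 2, 3, 11, 37, 67]
      have hex : ∀ i, ∃ n ∈ N, orderOf n = ords i := by
        intro i
        fin_cases i
        · exact ⟨1, one_mem _, orderOf_one⟩
        all_goals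
          have key : ∀ p, p.Prime → p ∣ 8835156 → ∃ n ∈ N, orderOf n = p := fun p hp hd => by
            haveI : Fact p.Prime := ⟨hp⟩
            obtain ⟨x, hx⟩ := exists_prime_orderOf_dvd_card' (G := N) p (hcard.symm ▸ hd)
            exact ⟨x, x.2, (Subgroup.orderOf_coe x).trans hx⟩
          exact key _ (by norm_num [ords]) (by norm_num [ords])
      choose el hel hord' using hex
      choose node hnode using fun i => orbN_cover (QuotientGroup.mk (el i))
      obtain ⟨i, j, hij, he⟩ := Fintype.exists_ne_map_eq_of_card_lt node (by simp)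
      have hmem : (QuotientGroup.mk (el i) : Ly ⧸ frame_LG.H) ∈
          MulAction.orbit A (QuotientGroup.mk (el j) : Ly ⧸ frame_LG.H) := by
        rw [MulAction.orbit_eq_iff.mpr (hnode j)]
        exact he ▸ hnode i
      have := hord _ (hel i) _ (hel j) hmem
      rw [hord', hord'] at this
      exact hij ((by decide : Function.Injective ords) this)
    · right
      have hH : frame_LG.H ≤ N := by
        rintro _ ⟨a, rfl⟩
        exact (show a ∈ N.comap frame_LG.Ψ from h ▸ Subgroup.mem_top a)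
      rwa [sup_eq_left.mpr hH] at htop

theorem isLy (hA : IsSimpleGroup A) : Cfsg.IsLy Ly := ⟨simple_Ly hA, card_Ly hA⟩

theorem map_eq_H : (Subgroup.closure ({Cfsg.Spor.Ly.a, Cfsg.Spor.Ly.b, Cfsg.Spor.Ly.c,
    Cfsg.Spor.Ly.d} : Set (FreeGroup Cfsg.Spor.Ly.Gen))).map (PresentedGroup.mk
      (Cfsg.Spor.coxRelators Cfsg.Spor.Ly.edges ∪ {r | r ∈ Cfsg.Spor.Ly.extra})) = frame_LG.H := by
  rw [MonoidHom.map_closure]
  set S := Subgroup.closure (mkLy '' ({Cfsg.Spor.Ly.a, Cfsg.Spor.Ly.b, Cfsg.Spor.Ly.c,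
    Cfsg.Spor.Ly.d} : Set (FreeGroup Cfsg.Spor.Ly.Gen)))
  show S = _
  have hS : S = Subgroup.closure {x | ∃ l ∈ [0, 2, 4, 6], fl LG l = x} := by
    refine congrArg Subgroup.closure ?_
    ext x
    simp only [Set.image_insert_eq, Set.image_singleton, Set.mem_insert_iff,
      Set.mem_singleton_iff, List.mem_cons, List.not_mem_nil, or_false, exists_eq_or_imp,
      exists_eq_left, Set.mem_setOf_eq]
    constructor
    · rintro (rfl | rfl | rfl | rfl)
      exacts [Or.inl rfl, Or.inr (Or.inl rfl), Or.inr (Or.inr (Or.inl rfl)),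
        Or.inr (Or.inr (Or.inr rfl))]
    · rintro (rfl | rfl | rfl | rfl)
      exacts [Or.inl rfl, Or.inr (Or.inl rfl), Or.inr (Or.inr (Or.inl rfl)),
        Or.inr (Or.inr (Or.inr rfl))]
  rw [hS]
  refine le_antisymm ((Subgroup.closure_le _).mpr ?_) ?_
  · rintro _ ⟨l, hl, rfl⟩
    have hl18 : l < 18 := (by decide : ∀ m ∈ [0, 2, 4, 6], m < 18) l hl
    have := frame_LG.mem_H (w := [l]) (by simpa using hl18)
    simpa using this
  · rintro _ ⟨a, rfl⟩
    obtain ⟨w, hw, rfl⟩ := exists_word_A a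
    rw [frame_LG.Ψ_ev w hw]
    have key : ∀ l < 18, fl LG l ∈
        Subgroup.closure {x | ∃ l ∈ [0, 2, 4, 6], fl LG l = x} := by
      set S' := Subgroup.closure {x | ∃ l ∈ [0, 2, 4, 6], fl LG l = x}
      have hx : ∀ l, fl LG l ∈ S' → fl LG (Nat.xor l 1) ∈ S' := fun l h => by
        rw [frame_LG.fl_xor]; exact inv_mem h
      have hev : ∀ v : List Nat, (∀ l ∈ v, fl LG l ∈ S') → ev LG v ∈ S' := by
        intro v
        induction v with
        | nil => intro _; exact one_mem _
        | cons l v ih =>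
          intro h
          rw [ev_cons]
          exact mul_mem (h l (by simp)) (ih fun x hx => h x (by simp [hx]))
      have hsolve : ∀ (l : Nat) (i : Nat) (rest : List Nat), i < relW.length →
          relW.getD i [] = l :: rest → (∀ x ∈ rest, fl LG x ∈ S') → fl LG l ∈ S' := by
        intro l i rest hi he hr
        have h := frame_LG.relW (relW.getD i []) (by
          rw [List.getD_eq_getElem _ _ hi]; exact List.getElem_mem hi)
        rw [he, ev_cons] at h
        rw [eq_inv_of_mul_eq_one_left h]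
        exact inv_mem (hev rest hr)
      have m0 : fl LG 0 ∈ S' := Subgroup.subset_closure ⟨0, by simp, rfl⟩
      have m2 : fl LG 2 ∈ S' := Subgroup.subset_closure ⟨2, by simp, rfl⟩
      have m4 : fl LG 4 ∈ S' := Subgroup.subset_closure ⟨4, by simp, rfl⟩
      have m6 : fl LG 6 ∈ S' := Subgroup.subset_closure ⟨6, by simp, rfl⟩
      have m1 : fl LG 1 ∈ S' := hx 0 m0
      have m3 : fl LG 3 ∈ S' := hx 2 m2
      have m5 : fl LG 5 ∈ S' := hx 4 m4
      have m7 : fl LG 7 ∈ S' := hx 6 m6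
      have m10 : fl LG 10 ∈ S' := hsolve 10 6 [1, 5, 0] (by decide) (by decide +kernel) (by
        simp [m1, m5, m0])
      have m12 : fl LG 12 ∈ S' := hsolve 12 7 [3, 5, 2] (by decide) (by decide +kernel) (by
        simp [m3, m5, m2])
      have m14 : fl LG 14 ∈ S' := hsolve 14 8 [2, 5, 3] (by decide) (by decide +kernel) (by
        simp [m2, m5, m3])
      have m11 : fl LG 11 ∈ S' := hx 10 m10
      have m16 : fl LG 16 ∈ S' := hsolve 16 9 [11, 5, 10, 4] (by decide) (by decide +kernel) (by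
        simp [m11, m5, m10, m4])
      obtain ⟨i, rest, hi, he, hr⟩ : ∃ i rest, i < relW.length ∧ relW.getD i [] = 8 :: rest ∧
          ∀ x ∈ rest, x < 8 ∨ (10 ≤ x ∧ x < 18) := by
        refine ⟨28, (relW.getD 28 []).tail, by decide, by decide +kernel, by decide +kernel⟩
      have m8 : fl LG 8 ∈ S' := by
        refine hsolve 8 i rest hi he fun x hx' => ?_
        rcases hr x hx' with h | ⟨h, h'⟩
        · interval_cases x <;> assumption
        · interval_cases x
          exacts [m10, m11, m12, hx 12 m12, m14, hx 14 m14, m16, hx 16 m16]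
      intro l hl
      interval_cases l
      exacts [m0, m1, m2, m3, m4, m5, m6, m7, m8, hx 8 m8, m10, m11, m12, hx 12 m12, m14,
        hx 14 m14, m16, hx 16 m16]
    refine (show ∀ v : List Nat, (∀ l ∈ v, l < 18) → ev LG v ∈ _ from fun v => ?_) w hw
    induction v with
    | nil => intro _; exact one_mem _
    | cons l v ih =>
      intro h
      rw [ev_cons]
      exact mul_mem (key l (h l (by simp))) (ih fun x hx => h x (by simp [hx]))

end CfsgLib.Coset.Ly
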