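import Cfsg.Agent.Coset.Ly.CentMatRows0
import Cfsg.Agent.Coset.Ly.CentMatRows1
import Cfsg.Agent.Coset.Ly.CentMatRows2
import Cfsg.Agent.Coset.Ly.CentMatRows3
import Cfsg.Agent.Coset.Ly.CentMatRels
import Cfsg.Agent.Coset.Ly.Lower
import Cfsg.Agent.Coset.Ly.G2

/-!
An involution of the presented Lyons group and nine elements of order three in its centralizer
satisfying Carmichael's relations modulo it.
-/

set_option autoImplicit false
set_option maxRecDepth 100000

namespace CfsgLib.Coset.Ly

open Cfsg.Spor (Ly)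

/-- The involution. -/
noncomputable def tL : Ly := ev LG tWord

/-- The elements of order three. -/
noncomputable def xL (k : Fin 9) : Ly := ev LG (carmW.getD k [])

theorem carmT_lt : ∀ k < 10, ∀ l ∈ (carmW ++ [tWord]).getD k [], l < 20 := by decide +kernel

theorem len_cw : (carmW ++ [tWord]).length = 10 := by decide +kernel

theorem conjW_spec : ∀ k < 4,
    ((conjW.getD k []).map fun l => (((List.range 20).map fun x => [x]) ++ [carmW.getD 4 []]).getD l
      []).flatten = (carmW ++ [tWord]).getD (k + 5) [] ∧ ∀ l ∈ conjW.getD k [], l < 21 := by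
  decide +kernel

theorem single_spec : ∀ l < 20,
    (((List.range 20).map fun x => [x]) ++ [carmW.getD 4 []]).getD l [] = [l] ∧
      matX.getD l [] = matL.getD l [] := by
  intro l hl
  refine ⟨(by decide +kernel : ∀ l < 20,
    (((List.range 20).map fun x => [x]) ++ [carmW.getD 4 []]).getD l [] = [l]) l hl, ?_⟩
  rw [matX, List.getD_append _ _ _ _ (hl.trans_eq len_matL.symm)]

theorem last_spec :
    (((List.range 20).map fun x => [x]) ++ [carmW.getD 4 []]).getD 20 [] =
      (carmW ++ [tWord]).getD 4 [] := by decide +kernel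

theorem matX_last : matX.getD 20 [] = cmat4 := by
  rw [matX, List.getD_append_right _ _ _ _ (le_of_eq len_matL), len_matL]
  rfl

theorem matX_len : matX.length = 21 := by
  rw [matX, List.length_append, len_matL]; rfl

theorem matX_ok : allList (matOK 111) matX = true := by
  refine allList_iff.mpr fun m hm => ?_
  rcases List.mem_append.mp hm with h | h
  · exact allList_iff.mp matL_ok m h
  · rw [List.mem_singleton.mp h]; exact cok4

attribute [local irreducible] matL matX cmat0 cmat1 cmat2 cmat3 cmat4 cmat5 cmat6 cmat7 cmat8 cmat9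
  matOf

theorem cmat4_word :
    matWord 111 matL ((carmW ++ [tWord]).getD 4 []) = matOf 111 cmat4 :=
  matWord_eq_matOf (by norm_num) matL_ok mask111_eq cok4
    (fun l hl => (carmT_lt 4 (by norm_num) l hl).trans_eq len_matL.symm) cmat4_blk

theorem matX_word : ∀ k < (((List.range 20).map fun x => [x]) ++ [carmW.getD 4 []]).length,
    matWord 111 matL ((((List.range 20).map fun x => [x]) ++ [carmW.getD 4 []]).getD k []) =
      matOf 111 (matX.getD k []) := by
  intro k hk
  have hk' : k < 21 := by simpa using hk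
  rcases Nat.lt_or_ge k 20 with h | h
  · rw [(single_spec k h).1, (single_spec k h).2]
    simp [matWord]
  · obtain rfl : k = 20 := by omega
    rw [last_spec, matX_last]
    exact cmat4_word

theorem cmat_conj {k : Nat} (hk : k < 4) {R : List Nat} (hR : matOK 111 R = true)
    (hc : ∀ s < 30, allBlock 2 s (rowI mask111 matX 111 (conjW.getD k []) R) = true) :
    matWord 111 matL ((carmW ++ [tWord]).getD (k + 5) []) = matOf 111 R := by
  rw [← (conjW_spec k hk).1,
    ← matWord_flatten matX_word _ (fun l hl => by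
      simpa using (conjW_spec k hk).2 l hl)]
  exact matWord_eq_matOf (by norm_num) matX_ok mask111_eq hR
    (fun l hl => ((conjW_spec k hk).2 l hl).trans_eq matX_len.symm) hc

theorem cmat_word : ∀ k < (carmW ++ [tWord]).length,
    matWord 111 matL ((carmW ++ [tWord]).getD k []) = matOf 111 (cmatL.getD k []) := by
  intro k hk
  rw [len_cw] at hk
  have key : ∀ {R : List Nat}, matOK 111 R = true → cmatL.getD k [] = R →
      (∀ s < 30, allBlock 2 s (rowI mask111 matL 111 ((carmW ++ [tWord]).getD k []) R) = true) →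
      matWord 111 matL ((carmW ++ [tWord]).getD k []) = matOf 111 (cmatL.getD k []) := by
    intro R hR e hc
    rw [e]
    exact matWord_eq_matOf (by norm_num) matL_ok mask111_eq hR
      (fun l hl => (carmT_lt k hk l hl).trans_eq len_matL.symm) hc
  interval_cases k
  · exact key cok0 rfl cmat0_blk
  · exact key cok1 rfl cmat1_blk
  · exact key cok2 rfl cmat2_blk
  · exact key cok3 rfl cmat3_blk
  · exact key cok4 rfl cmat4_blk
  · exact cmat_conj (k := 0) (by norm_num) cok5 cmat5_blk
  · exact cmat_conj (k := 1) (by norm_num) cok6 cmat6_blk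
  · exact cmat_conj (k := 2) (by norm_num) cok7 cmat7_blk
  · exact cmat_conj (k := 3) (by norm_num) cok8 cmat8_blk
  · exact key cok9 rfl cmat9_blk

/-- An element fixing the first seven basis vectors is trivial. -/
theorem eq_one_of_fix_low (g : Ly)
    (hg : ∀ i : Fin 111, (i : ℕ) < 7 →
      Matrix.vecMul (Pi.single i (1 : ZMod 5))
        (repLy g : Matrix (Fin 111) (Fin 111) (ZMod 5)) = Pi.single i 1) : g = 1 := by
  have hlin : ∀ (M : Matrix (Fin 111) (Fin 111) (ZMod 5)),
      (∀ i : Fin 111, (i : ℕ) < 7 → Matrix.vecMul (Pi.single i (1 : ZMod 5)) M = Pi.single i 1) →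
      ∀ v, Low v → Matrix.vecMul v M = v := by
    intro M hM v hv
    funext j
    simp only [Matrix.vecMul, dotProduct]
    rw [Finset.sum_eq_single j]
    · rcases Nat.lt_or_ge (j : ℕ) 7 with h | h
      · have := congrFun (hM j h) j
        rw [Matrix.single_one_vecMul, Pi.single_eq_same] at this
        change M j j = 1 at this
        rw [this, mul_one]
      · rw [hv j h, zero_mul]
    · intro i _ hij
      rcases Nat.lt_or_ge (i : ℕ) 7 with h | h
      · have := congrFun (hM i h) j
        rw [Matrix.single_one_vecMul, Pi.single_eq_of_ne (Ne.symm hij)] at this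
        change M i j = 0 at this
        rw [this, mul_zero]
      · rw [hv i h, zero_mul]
    · exact fun h => absurd (Finset.mem_univ j) h
  let act : Ly → (Fin 111 → ZMod 5) → (Fin 111 → ZMod 5) := fun x v =>
    Matrix.vecMul v (repLy x : Matrix (Fin 111) (Fin 111) (ZMod 5))
  have amul : ∀ x y v, act (x * y) v = act y (act x v) := fun x y v => by
    simp only [act, map_mul, Units.val_mul, Matrix.vecMul_vecMul]
  have aone : ∀ v, act 1 v = v := fun v => by simp [act]
  let S : Subgroup Ly :=
    { carrier := {x | ∀ v, Low v → Low (act x v) ∧ Low (act x⁻¹ v)}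
      one_mem' := fun v hv => by rw [inv_one, aone]; exact ⟨hv, hv⟩
      mul_mem' := fun {x y} hx hy v hv => by
        rw [mul_inv_rev, amul, amul]
        exact ⟨(hy _ (hx v hv).1).1, (hx _ (hy v hv).2).2⟩
      inv_mem' := fun {x} hx v hv => by
        rw [inv_inv]
        exact ⟨(hx v hv).2, (hx v hv).1⟩ }
  have hlow : ∀ (a : A) v, Low v → Low (act (frame_LG.Ψ a) v) := by
    intro a v hv
    obtain ⟨w, hw, rfl⟩ := exists_word_A a
    simp only [act]
    rw [frame_LG.Ψ_ev w hw, repLy_ev w fun l hl => (hw l hl).trans (by norm_num),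
      val_ev_LR w fun l hl => (hw l hl).trans (by norm_num)]
    exact low_word w hw v hv
  have hHS : frame_LG.H ≤ S := by
    rintro _ ⟨a, rfl⟩ v hv
    exact ⟨hlow a v hv, by rw [← map_inv]; exact hlow a⁻¹ v hv⟩
  have hS : S = frame_LG.H := by
    refine (maximal_H isSimple_A hHS).resolve_right fun h => ?_
    have hesc : ∀ q ∈ escL.take 1, 7 ≤ q.1 ∧ q.1 < 111 ∧ (∀ l ∈ q.2, l < 20) ∧
        lane (vrun mask111 matL 1 q.2) q.1 ≠ 0 := by decide +kernel
    obtain ⟨q, hq⟩ : ∃ q, q ∈ escL.take 1 :=
      List.exists_mem_of_ne_nil _ (by decide +kernel)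
    obtain ⟨h7, h111, hl, hne⟩ := hesc q hq
    have hm : ev LG q.2 ∈ S := h ▸ Subgroup.mem_top _
    have h0 := (hm e0 low_e0).1 ⟨q.1, h111⟩ h7
    rw [← code_e0, vrun_rep q.2 hl, code, encF_lane 111 _ (code_lt _) ⟨q.1, h111⟩] at hne
    exact hne (by rw [show Matrix.vecMul e0 _ _ = 0 from h0, ZMod.val_zero])
  have hmem : g ∈ S := by
    intro v hv
    have h1 : act g v = v := hlin _ hg v hv
    refine ⟨h1.symm ▸ hv, ?_⟩
    rw [← h1, ← amul, mul_inv_cancel, aone]
    exact hv
  obtain ⟨a, rfl⟩ := hS ▸ hmem
  let N : Subgroup A :=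
    { carrier := {b | ∀ v, Low v → act (frame_LG.Ψ b) v = v}
      one_mem' := fun v _ => by rw [map_one, aone]
      mul_mem' := fun {x y} hx hy v hv => by rw [map_mul, amul, hx v hv, hy v hv]
      inv_mem' := fun {x} hx v hv => by
        conv_lhs => rw [← hx v hv]
        rw [← amul, map_inv, mul_inv_cancel, aone] }
  haveI : N.Normal := ⟨fun b hb c v hv => by
    rw [map_mul, map_mul, amul, amul, hb _ (hlow c v hv), ← amul, ← map_mul, mul_inv_cancel,
      map_one, aone]⟩
  rcases isSimple_A.eq_bot_or_eq_top_of_normal N inferInstance with h | h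
  · have ha : a ∈ N := fun v hv => hlin _ hg v hv
    rw [h, Subgroup.mem_bot] at ha
    rw [ha, map_one]
  · exfalso
    have h0 := (h ▸ Subgroup.mem_top (ev LA [0]) : ev LA [0] ∈ N) e0 low_e0
    simp only [act] at h0
    rw [frame_LG.Ψ_ev [0] (by simp)] at h0
    have h2 := vrun_rep [0] (by simp) e0
    rw [h0, code_e0] at h2
    exact absurd h2 (by decide +kernel)

/-- A relation in the ten matrices holds in the group. -/
theorem crel_sound {v : List Nat} (hv : v ∈ crelL) :
    ev LG (v.map fun k => (carmW ++ [tWord]).getD k []).flatten = 1 := by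
  have hlt : ∀ k ∈ v, k < 10 := (by decide +kernel : ∀ v ∈ crelL, ∀ k ∈ v, k < 10) v hv
  have hl20 : ∀ l ∈ (v.map fun k => (carmW ++ [tWord]).getD k []).flatten, l < 20 := by
    intro l hl
    obtain ⟨u, hu, hlu⟩ := List.mem_flatten.mp hl
    obtain ⟨k, hk, rfl⟩ := List.mem_map.mp hu
    exact carmT_lt k (hlt k hk) l hlu
  refine eq_one_of_fix_low _ fun i hi => ?_
  rw [repLy_ev _ hl20, val_ev_LR _ hl20,
    ← matWord_flatten cmat_word v (fun k hk => (hlt k hk).trans_eq len_cw.symm)]
  have hfi := of_allBelow (allList_iff.mp crel_low v hv) i hi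
  rw [fixI, show Nat.ble 111 i = false from Bool.eq_false_iff.mpr fun h => by
    have := Nat.ble_eq.mp h; omega, cond_false] at hfi
  refine code_injective ?_
  rw [← vrun_code (by norm_num) cmatL_ok v
    (fun l hl => (hlt l hl).trans_eq (by decide +kernel)), ← mask111_eq, code_single]
  exact Nat.eq_of_beq_eq_true hfi

theorem carm_getD : ∀ k < 9, (carmW ++ [tWord]).getD k [] = carmW.getD k [] := by decide +kernel

theorem carm_nine : (carmW ++ [tWord]).getD 9 [] = tWord := by decide +kernel

theorem tL_sq : tL * tL = 1 := by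
  have h := crel_sound (v := [9, 9]) (by decide +kernel)
  simp only [List.map_cons, List.map_nil, List.flatten_cons, List.flatten_nil, carm_nine,
    List.append_nil, ev_append] at h
  exact h

theorem xL_cube (k : Fin 9) : xL k ^ 3 = 1 := by
  have h := crel_sound (v := [(k : Nat), k, k])
    ((by decide +kernel : ∀ k < 9, [k, k, k] ∈ crelL) k k.2)
  simp only [List.map_cons, List.map_nil, List.flatten_cons, List.flatten_nil, carm_getD _ k.2,
    List.append_nil, ev_append] at h
  rw [pow_three]
  exact h

theorem xL_comm (k : Fin 9) : xL k * tL = tL * xL k := by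
  have h := crel_sound (v := [(k : Nat), 9, k, k, 9])
    ((by decide +kernel : ∀ k < 9, [k, 9, k, k, 9] ∈ crelL) k k.2)
  simp only [List.map_cons, List.map_nil, List.flatten_cons, List.flatten_nil, carm_getD _ k.2,
    carm_nine, List.append_nil, ev_append] at h
  change xL k * (tL * (xL k * (xL k * tL))) = 1 at h
  have h3 := xL_cube k
  rw [pow_three] at h3
  have hi : (xL k)⁻¹ = xL k * xL k := inv_eq_of_mul_eq_one_right h3
  calc xL k * tL = xL k * (tL * (xL k * (xL k * tL))) * (tL * xL k) := by
        rw [show xL k * (tL * (xL k * (xL k * tL))) * (tL * xL k) =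
          xL k * tL * (xL k * xL k * (tL * tL) * xL k) by simp only [mul_assoc], tL_sq, mul_one,
          mul_assoc (xL k) (xL k) (xL k), h3, mul_one]
    _ = tL * xL k := by rw [h, one_mul]

theorem xL_pair {i j : Fin 9} (hij : i < j) : (xL i * xL j) ^ 2 = tL := by
  have h := crel_sound (v := [(i : Nat), j, i, j, 9])
    ((by decide +kernel : ∀ j < 9, ∀ i < j, [i, j, i, j, 9] ∈ crelL) j j.2 i hij)
  simp only [List.map_cons, List.map_nil, List.flatten_cons, List.flatten_nil, carm_getD _ i.2,
    carm_getD _ j.2, carm_nine, List.append_nil, ev_append] at h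
  change xL i * (xL j * (xL i * (xL j * tL))) = 1 at h
  rw [pow_two, mul_eq_one_iff_eq_inv.mp ((by simpa only [mul_assoc] using h) :
    xL i * xL j * (xL i * xL j) * tL = 1)]
  exact inv_eq_of_mul_eq_one_right tL_sq

theorem word_ne_one {w : List Nat} (hw : ∀ l ∈ w, l < 20) {i : Fin 111}
    (h : Nat.beq (vrun mask111 matL (2 ^ (24 * (i : ℕ))) w) (2 ^ (24 * (i : ℕ))) = false) :
    ev LG w ≠ 1 := by
  intro h1
  have h2 := vrun_rep w hw (Pi.single i 1)
  rw [h1, map_one, Units.val_one, Matrix.vecMul_one, code_single] at h2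
  rw [h2, Nat.beq_eq.mpr rfl] at h
  exact Bool.noConfusion h

theorem tL_ne_one : tL ≠ 1 := word_ne_one (i := 0) (by decide +kernel) (by decide +kernel)

theorem xL_zero_ne_one : xL 0 ≠ 1 := word_ne_one (i := 0) (by decide +kernel) (by decide +kernel)

end CfsgLib.Coset.Ly
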