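import Cfsg.Agent.Coset.Ly.CentBound
import Cfsg.Agent.Coset.Ly.CentGens
import Cfsg.Agent.Coset.Ly.CarmCover

/-!
The centralizer of an involution of the presented Lyons group is the non-split double cover of the
alternating group of degree eleven.
-/

set_option autoImplicit false
set_option maxRecDepth 100000

namespace CfsgLib.Coset.Ly

open Cfsg.Spor (Ly)

theorem orderOf_tL : orderOf tL = 2 :=
  orderOf_eq_prime (by rw [pow_two]; exact tL_sq) tL_ne_one

theorem card_cent_tL : Nat.card (Subgroup.centralizer {tL}) ≤ 39916800 := card_cent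

/-- An involution of the Lyons group whose centralizer is the double cover of the alternating
group of degree eleven. -/
theorem exists_involution_cent : ∃ t : Ly, orderOf t = 2 ∧
    Cfsg.IsNonsplitDoubleCover (Subgroup.centralizer {t}) (alternatingGroup (Fin 11)) := by
  haveI := finite_Ly
  exact ⟨tL, orderOf_tL, isNonsplit_of_carmichael tL_ne_one tL_sq xL_cube xL_comm
    (fun _ _ h => xL_pair h) xL_zero_ne_one card_cent_tL⟩

/-- The same for every group isomorphic to the presented one. -/
theorem exists_involution_cent_of_equiv {G : Type*} [Group G] (e : Ly ≃* G) :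
    ∃ t : G, orderOf t = 2 ∧
      Cfsg.IsNonsplitDoubleCover (Subgroup.centralizer {t}) (alternatingGroup (Fin 11)) := by
  haveI := finite_Ly
  haveI := Finite.of_equiv Ly e.toEquiv
  have h2 : e tL * e tL = 1 := by rw [← map_mul, tL_sq, map_one]
  have h1 : e tL ≠ 1 := fun h => tL_ne_one (e.map_eq_one_iff.mp h)
  refine ⟨e tL, orderOf_eq_prime (by rw [pow_two]; exact h2) h1, ?_⟩
  refine isNonsplit_of_carmichael (x := fun i => e (xL i)) h1 h2
    (fun i => by rw [← map_pow, xL_cube, map_one])
    (fun i => by rw [← map_mul, xL_comm, map_mul])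
    (fun i j h => by rw [← map_mul, ← map_pow, xL_pair h])
    (fun h => xL_zero_ne_one (e.map_eq_one_iff.mp h)) ?_
  refine le_trans (Nat.card_le_card_of_injective (fun c => (⟨e.symm c.1, ?_⟩ :
    Subgroup.centralizer {tL})) fun c c' h => ?_) card_cent_tL
  · rw [Subgroup.mem_centralizer_singleton_iff]
    apply e.injective
    rw [map_mul, map_mul, e.apply_symm_apply]
    exact Subgroup.mem_centralizer_singleton_iff.mp c.2
  · exact Subtype.ext (e.symm.injective (congrArg Subtype.val h))

end CfsgLib.Coset.Ly
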