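import Cfsg.Agent.Coset.Ly.CentKernel

/-!
The centraliser of an element of order three in the model, and its conjugates in the subgroups
fixing the nodes.
-/

set_option autoImplicit false
set_option maxRecDepth 100000
set_option Elab.async false

namespace CfsgLib.Coset.Ly.Cent

section Kernel

/-- Codes of the two products agree. -/
noncomputable def commC (w : List Nat) : Bool := Nat.beq (codeA (w ++ xW)) (codeA (xW ++ w))

/-- A word is a power of the element or moves one of its fixed points. -/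
noncomputable def powOrMove (w : List Nat) : Bool :=
  cond (eqA w []) true (cond (eqA w xW) true (cond (eqA w (xW ++ xW)) true
    (List.rec false (fun v _ ih => cond (Nat.beq (im v w) v) ih true) fixL)))

/-- The seventh power of a word is a power of the element. -/
noncomputable def sevenOK (w : List Nat) : Bool :=
  cond (eqA (w ++ w ++ w ++ w ++ w ++ w ++ w) []) true
    (cond (eqA (w ++ w ++ w ++ w ++ w ++ w ++ w) xW) true
      (eqA (w ++ w ++ w ++ w ++ w ++ w ++ w) (xW ++ xW)))

/-- The class is closed under conjugation and connected. -/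
noncomputable def classOK (n : Nat) : Bool :=
  cond (allBelow 8 (clsSize n) fun j => allBelow 3 (gensN n).length fun k =>
      cond (Nat.ble (Nat.add (((clsTab n).getD j []).getD k 999) 1) (clsSize n))
        (eqA (cjW ((gensN n).getD k []) ((clsW n).getD j []))
          ((clsW n).getD (((clsTab n).getD j []).getD k 999) [])) false)
    (allBelow 8 (clsSize n) fun j => cond (Nat.beq j 0) true
      (cond (Nat.ble (Nat.add ((clsPar n).getD j (0, 0)).1 1) j)
        (cond (Nat.ble (Nat.add ((clsPar n).getD j (0, 0)).2 1) (gensN n).length)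
          (eqA (cjW ((gensN n).getD ((clsPar n).getD j (0, 0)).2 [])
            ((clsW n).getD ((clsPar n).getD j (0, 0)).1 [])) ((clsW n).getD j [])) false) false))
    false

/-- The listed Sylow elements are closed under the generators. -/
noncomputable def sylOK (n : Nat) : Bool :=
  allBelow 5 (sylSize n) fun j => allBelow 2 (sylW n).length fun k =>
    cond (Nat.ble (Nat.add (((sylTab n).getD j []).getD k 999) 1) (sylSize n))
      (eqA ((sylEW n).getD j [] ++ (sylW n).getD k [])
        ((sylEW n).getD (((sylTab n).getD j []).getD k 999) [])) false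

/-- The kind of each listed Sylow element is as claimed. -/
noncomputable def kindOK (n : Nat) : Bool :=
  allBelow 5 (sylSize n) fun j =>
    cond (Nat.beq ((sylK n).getD j (9, 0, [])).1 0) (eqA ((sylEW n).getD j []) [])
      (cond (Nat.beq ((sylK n).getD j (9, 0, [])).1 1)
        (cond (Nat.ble (Nat.add ((sylK n).getD j (9, 0, [])).2.1 1) (clsSize n))
          (eqA ((sylEW n).getD j []) ((clsW n).getD ((sylK n).getD j (9, 0, [])).2.1 [])) false)
        (cond (lettersA ((sylK n).getD j (9, 0, [])).2.2)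
          (eqA ((sylEW n).getD j []) (cjW ((sylK n).getD j (9, 0, [])).2.2 badW)) false))

end Kernel

theorem genW_le {gens : List (List Nat)} {K : Subgroup A} (h : ∀ w ∈ gens, ev LA w ∈ K) :
    genW LA gens ≤ K := by
  refine (Subgroup.closure_le _).mpr ?_
  rintro _ ⟨w, hw, rfl⟩
  exact h w hw

theorem lettersA_sound {w : List Nat} (h : lettersA w = true) : ∀ l ∈ w, l < 18 := fun l hl =>
  Nat.ble_eq.mp (allList_iff.mp h l hl)

theorem flatW_lt {gens : List (List Nat)} (hg : ∀ w ∈ gens, ∀ l ∈ w, l < 18) (ids : List Nat) :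
    ∀ l ∈ flatW gens ids, l < 18 := by
  intro l hl
  simp only [flatW, List.mem_flatten, List.mem_map] at hl
  obtain ⟨_, ⟨i, _, rfl⟩, hl⟩ := hl
  rcases lt_or_ge i gens.length with hi | hi
  · rw [List.getD_eq_getElem _ _ hi] at hl; exact hg _ (List.getElem_mem hi) l hl
  · rw [List.getD_eq_default _ _ hi] at hl; simp at hl

theorem letters_of {ws : List (List Nat)} (h : allList lettersA ws = true) :
    ∀ w ∈ ws, ∀ l ∈ w, l < 18 := fun w hw => lettersA_sound (allList_iff.mp h w hw)

/-- The element of order three. -/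
noncomputable def xA : A := ev LA xW

/-- Its centraliser. -/
noncomputable abbrev CA : Subgroup A := Subgroup.centralizer {xA}

theorem xW_lt : ∀ l ∈ xW, l < 18 := lettersA_sound (by decide +kernel)

theorem mem_CA {g : A} : g ∈ CA ↔ g * xA = xA * g := Subgroup.mem_centralizer_singleton_iff

theorem xA_mem_CA : xA ∈ CA := mem_CA.mpr rfl

theorem xA_cube : xA ^ 3 = 1 := by
  have h := eqA_sound (v := xW ++ xW ++ xW) (w := []) (by decide +kernel)
  rw [ev_append, ev_append, ev_nil] at h
  rw [pow_succ, pow_succ, pow_one]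
  exact h

theorem xA_ne_one : xA ≠ 1 := fun h => by
  have h0 := im_eq xW_lt (2 : Fin 3906)
  rw [show ev LA xW = xA from rfl, h, map_one, inv_one] at h0
  exact absurd h0 (by decide +kernel)

theorem fix_mem {i : Fin 3906} (h : ρ xA i = i) : (i : Nat) ∈ fixL := by
  have hall : fixIn xW fixL = true := by decide +kernel
  have h1 := of_allBelow hall (i : Nat) i.2
  rw [show Nat.beq (im i xW) i = true by rw [(fix_iff xW_lt i).mp h]; simp, cond_true] at h1
  exact memL_sound h1

theorem fix_fixes {i : Fin 3906} (h : (i : Nat) ∈ fixL) : ρ xA i = i := by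
  have hall : allList (fun v => Nat.beq (im v xW) v) fixL = true := by decide +kernel
  exact (fix_iff xW_lt i).mpr (Nat.eq_of_beq_eq_true (allList_iff.mp hall _ h))

theorem fix_orb {g : A} (hg : g ∈ CA) {i : Fin 3906} (hi : ρ xA i = i) :
    ρ xA (ρ g i) = ρ g i := by
  rw [← Equiv.Perm.mul_apply, ← map_mul, ← mem_CA.mp hg, map_mul, Equiv.Perm.mul_apply, hi]

theorem ncard_le_of_list {s : Set (Fin 3906)} {l : List Nat} (h : ∀ i ∈ s, (i : Nat) ∈ l) :
    s.ncard ≤ l.length := by
  classical
  rw [← Set.ncard_image_of_injective s Fin.val_injective]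
  calc _ ≤ (l.toFinset : Set Nat).ncard := Set.ncard_le_ncard (by
        rintro _ ⟨i, hi, rfl⟩
        exact List.mem_toFinset.mpr (h i hi))
    _ ≤ _ := by rw [Set.ncard_coe_finset]; exact List.toFinset_card_le _

/-- The stabiliser of the first two base points in the model. -/
noncomputable abbrev A01 : Subgroup A := pstab ρ 0 ⊓ pstab ρ 2455

theorem card_A01_le : Nat.card A01 ≤ 480 := by
  have hb : baseStab ρ [(0 : Fin 3906), 2455] = A01 := by simp [baseStab, A01]
  have h1 := orbit_step matches_ρ (base := [(0 : Fin 3906)]) (β := 2455) (m := 3125) (dm := 12)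
    (gens := CA1G) (P := CA1P) (Inv := CA1Inv)
    (by decide +kernel) (by rw [len_LA]; decide +kernel) (by decide +kernel)
    (M := Nat.card A01) (by rw [← hb]; rfl)
  have h0 := orbit_step matches_ρ (base := []) (β := 0) (m := 3906) (dm := 12)
    (gens := CA0G) (P := CA0P) (Inv := CA0Inv)
    (by decide +kernel) (by rw [len_LA]; decide +kernel) (by decide +kernel) h1
  have hN : Nat.card (baseStab ρ ([] : List (Fin 3906))) = 5859000000 := by
    rw [← card_and_injective.1]; simp [baseStab]
  rw [hN] at h0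
  omega

theorem twoW_lt : ∀ w ∈ twoW, ∀ l ∈ w, l < 18 := by
  intro w hw
  obtain ⟨ids, _, rfl⟩ := List.mem_map.mp hw
  exact flatW_lt (letters_of (by decide +kernel)) ids

theorem A01_listed : ∀ g ∈ A01, ∃ w ∈ twoW, ev LA w = g := by
  set S := {a : A | ∃ w ∈ twoW, ev LA w = a}
  have hsub : S ⊆ (A01 : Set A) := by
    rintro _ ⟨w, hw, rfl⟩
    have h : allList (fun w => cond (Nat.beq (im 0 w) 0) (Nat.beq (im 2455 w) 2455) false) twoW =
        true := by decide +kernel
    have h' := allList_iff.mp h w hw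
    rw [cond_false_eq_true] at h'
    exact ⟨(fix_iff (twoW_lt w hw) 0).mpr (Nat.eq_of_beq_eq_true h'.1),
      (fix_iff (twoW_lt w hw) 2455).mpr (Nat.eq_of_beq_eq_true h'.2)⟩
  have h480 : (List.range 480).length ≤ S.ncard :=
    le_ncard_of_codes twoW_lt (by decide +kernel) (by decide +kernel)
  have heq : S = (A01 : Set A) := Set.eq_of_subset_of_ncard_le hsub (by
    rw [← Nat.card_coe_set_eq]
    exact card_A01_le.trans (by simpa using h480))
  intro g hg
  have : g ∈ S := by rw [heq]; exact hg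
  exact this

theorem CA01_listed {g : A} (hg : g ∈ CA) (h0 : ρ g 0 = 0) (h1 : ρ g 2455 = 2455) :
    ∃ w ∈ twoW.filter commC, ev LA w = g := by
  obtain ⟨w, hw, rfl⟩ := A01_listed g ⟨h0, h1⟩
  refine ⟨w, List.mem_filter.mpr ⟨hw, ?_⟩, rfl⟩
  have hl1 : ∀ l ∈ w ++ xW, l < 18 := fun l hl =>
    (List.mem_append.mp hl).elim (twoW_lt w hw l) (xW_lt l)
  have hl2 : ∀ l ∈ xW ++ w, l < 18 := fun l hl =>
    (List.mem_append.mp hl).elim (xW_lt l) (twoW_lt w hw l)
  have he : ev LA (w ++ xW) = ev LA (xW ++ w) := by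
    rw [ev_append, ev_append]; exact mem_CA.mp hg
  have hi : ∀ i : Fin 3906, im i (w ++ xW) = im i (xW ++ w) := fun i => by
    rw [im_eq hl1, im_eq hl2, he]
  have a0 := hi 0
  have a1 := hi 2455
  have a2 := hi 1980
  show Nat.beq ((im 0 (w ++ xW) * 3906 + im 2455 (w ++ xW)) * 3906 + im 1980 (w ++ xW))
    ((im 0 (xW ++ w) * 3906 + im 2455 (xW ++ w)) * 3906 + im 1980 (xW ++ w)) = true
  rw [show im 0 (w ++ xW) = im 0 (xW ++ w) from a0,
    show im 2455 (w ++ xW) = im 2455 (xW ++ w) from a1,
    show im 1980 (w ++ xW) = im 1980 (xW ++ w) from a2]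
  simp

/-- Only powers of the element fix all its fixed points and centralise it. -/
theorem CA_faithful {g : A} (hg : g ∈ CA) (h : ∀ i : Fin 3906, (i : Nat) ∈ fixL → ρ g i = i) :
    g = 1 ∨ g = xA ∨ g = xA * xA := by
  obtain ⟨w, hw, rfl⟩ := CA01_listed hg (h 0 (by decide +kernel)) (h 2455 (by decide +kernel))
  have hall : allList powOrMove (twoW.filter commC) = true := by decide +kernel
  have hp : powOrMove w = true := allList_iff.mp hall w hw
  have hwl := twoW_lt w (List.mem_filter.mp hw).1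
  unfold powOrMove at hp
  cases he1 : eqA w []
  · rw [he1, cond_false] at hp
    cases he2 : eqA w xW
    · rw [he2, cond_false] at hp
      cases he3 : eqA w (xW ++ xW)
      · rw [he3, cond_false] at hp
        exfalso
        have hf : ∀ v ∈ fixL, v < 3906 := by decide +kernel
        have key : ∀ s : List Nat, (∀ v ∈ s, v ∈ fixL) →
            List.rec (motive := fun _ => Bool) false
              (fun v _ ih => cond (Nat.beq (im v w) v) ih true) s = false := by
          intro s
          induction s with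
          | nil => intro _; rfl
          | cons v s ih =>
            intro hs
            have hv := hs v List.mem_cons_self
            have := (fix_iff hwl ⟨v, hf v hv⟩).mp (h ⟨v, hf v hv⟩ hv)
            show cond (Nat.beq (im v w) v) _ true = false
            rw [show im v w = v from this, show Nat.beq v v = true by simp, cond_true]
            exact ih fun u hu => hs u (List.mem_cons_of_mem _ hu)
        rw [key fixL fun v hv => hv] at hp
        exact Bool.noConfusion hp
      · exact Or.inr (Or.inr (by have := eqA_sound he3; rwa [ev_append] at this))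
    · exact Or.inr (Or.inl (eqA_sound he2))
  · exact Or.inl (by have := eqA_sound he1; rwa [ev_nil] at this)

theorem u7W_lt : ∀ w ∈ u7W, ∀ l ∈ w, l < 18 := letters_of (by decide +kernel)

theorem U_le_CA : genW LA u7W ≤ CA := genW_le fun w hw => by
  have hall : allList (fun w => commA w xW) u7W = true := by decide +kernel
  exact mem_CA.mpr (commA_sound (allList_iff.mp hall w hw))

theorem card_CA_le : Nat.card CA ≤ 378000 := by
  have hx0 : ρ xA (0 : Fin 3906) = 0 := fix_fixes (by decide +kernel)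
  have hx1 : ρ xA (2455 : Fin 3906) = 2455 := fix_fixes (by decide +kernel)
  have e0 := card_orb_mul (ρ := ρ) CA 0
  have e1 := card_orb_mul (ρ := ρ) (CA ⊓ pstab ρ 0) 2455
  have b0 : (orb ρ CA 0).ncard ≤ 126 := by
    refine (ncard_le_of_list (l := fixL) ?_).trans_eq (by decide +kernel)
    rintro _ ⟨g, hg, rfl⟩
    exact fix_mem (fix_orb hg hx0)
  have b1 : (orb ρ (CA ⊓ pstab ρ 0) 2455).ncard ≤ 125 := by
    refine (ncard_le_of_list (l := fixL.tail) ?_).trans_eq (by decide +kernel)
    rintro _ ⟨g, ⟨hg, hg0⟩, rfl⟩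
    have hm := fix_mem (fix_orb hg hx1)
    have hne : (ρ g 2455 : Fin 3906) ≠ 0 := fun h => by
      have := (ρ g).injective (h.trans (mem_pstab.mp hg0).symm)
      exact absurd this (by decide)
    obtain ⟨v, l, hvl⟩ : ∃ v l, fixL = v :: l := ⟨_, _, rfl⟩
    have hv0 : v = 0 := by
      have : fixL.head? = some 0 := by decide +kernel
      rw [hvl] at this; simpa using this
    rw [hvl] at hm ⊢
    rcases List.mem_cons.mp hm with h | h
    · exact absurd (Fin.ext (h.trans hv0) : (ρ g 2455 : Fin 3906) = 0) hne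
    · exact h
  have b2 : Nat.card (CA ⊓ pstab ρ 0 ⊓ pstab ρ 2455 : Subgroup A) ≤ 24 := by
    rw [← SetLike.coe_sort_coe, Nat.card_coe_set_eq]
    refine le_trans (Set.ncard_le_ncard (t := {a : A | ∃ w ∈ twoW.filter commC, ev LA w = a})
      fun g hg => CA01_listed hg.1.1 hg.1.2 hg.2) ((ncard_words_le _).trans ?_)
    decide +kernel
  rw [← e0, ← e1]
  calc _ ≤ 126 * (125 * 24) := Nat.mul_le_mul b0 (Nat.mul_le_mul b1 b2)
    _ = _ := by norm_num

theorem imW_lt (ids : List (List Nat)) : ∀ w ∈ ids.map (flatW u7W), ∀ l ∈ w, l < 18 := by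
  intro w hw
  obtain ⟨i, _, rfl⟩ := List.mem_map.mp hw
  exact flatW_lt u7W_lt i

theorem imW_mem (ids : List (List Nat)) : ∀ w ∈ ids.map (flatW u7W), ev LA w ∈ genW LA u7W := by
  intro w hw
  obtain ⟨i, _, rfl⟩ := List.mem_map.mp hw
  exact ev_flatW_mem _ i

theorem card_U_ge : 378000 ≤ Nat.card (genW LA u7W) := by
  have h1fix : ∀ w ∈ im1.map (flatW u7W), ev LA w ∈ genW LA u7W ⊓ pstab ρ 0 := fun w hw => by
    refine ⟨imW_mem _ w hw, (fix_iff (imW_lt _ w hw) 0).mpr ?_⟩
    have h : allList (fun w => Nat.beq (im 0 w) 0) (im1.map (flatW u7W)) = true := by decide +kernel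
    exact Nat.eq_of_beq_eq_true (allList_iff.mp h w hw)
  have h2fix : ∀ w ∈ im2.map (flatW u7W),
      ev LA w ∈ genW LA u7W ⊓ pstab ρ 0 ⊓ pstab ρ 2455 := fun w hw => by
    have h : allList (fun w => cond (Nat.beq (im 0 w) 0) (Nat.beq (im 2455 w) 2455) false)
        (im2.map (flatW u7W)) = true := by decide +kernel
    have h' := allList_iff.mp h w hw
    rw [cond_false_eq_true] at h'
    exact ⟨⟨imW_mem _ w hw, (fix_iff (imW_lt _ w hw) 0).mpr (Nat.eq_of_beq_eq_true h'.1)⟩,
      (fix_iff (imW_lt _ w hw) 2455).mpr (Nat.eq_of_beq_eq_true h'.2)⟩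
  have l2 := level_ge (genW LA u7W ⊓ pstab ρ 0 ⊓ pstab ρ 2455) 1980 (imW_lt im2) h2fix
    (pts := (im2.map (flatW u7W)).map (im 1980)) (by decide +kernel) (by decide +kernel)
    (M := 1) Nat.card_pos
  rw [mul_one, List.length_map, List.length_map, show im2.length = 24 by decide +kernel] at l2
  have l1 := level_ge (genW LA u7W ⊓ pstab ρ 0) 2455 (imW_lt im1) h1fix (pts := fixL.tail)
    (by decide +kernel) (by decide +kernel) l2
  rw [show fixL.tail.length = 125 by decide +kernel] at l1
  have l0 := level_ge (genW LA u7W) 0 (imW_lt im0) (imW_mem im0) (pts := fixL)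
    (by decide +kernel) (by decide +kernel) l1
  rw [show fixL.length = 126 by decide +kernel] at l0
  exact (by norm_num : 378000 ≤ 126 * (125 * 24)).trans l0

theorem card_CA : Nat.card CA = 378000 :=
  le_antisymm card_CA_le (card_U_ge.trans (Subgroup.card_le_of_le U_le_CA))

theorem CA_eq : genW LA u7W = CA :=
  Subgroup.eq_of_le_of_card_ge U_le_CA (card_CA_le.trans card_U_ge)

/-- The centraliser is transitive on the fixed points. -/
theorem CA_trans {i : Fin 3906} (hi : (i : Nat) ∈ fixL) : ∃ g ∈ CA, ρ g 0 = i := by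
  have he : eqL ((im0.map (flatW u7W)).map (im 0)) fixL = true := by decide +kernel
  rw [← eqL_sound he] at hi
  obtain ⟨w, hw, hwi⟩ := List.mem_map.mp hi
  refine ⟨(ev LA w)⁻¹, inv_mem (U_le_CA (imW_mem _ w hw)), Fin.ext ?_⟩
  rw [map_inv, ← im_eq (imW_lt _ w hw) 0]
  exact hwi

/-- The stabiliser of the first point is transitive on the other fixed points. -/
theorem CA_trans_two {i : Fin 3906} (hi : (i : Nat) ∈ fixL) (h0 : i ≠ 0) :
    ∃ g ∈ CA, ρ g 0 = 0 ∧ ρ g 2455 = i := by
  have hi' : (i : Nat) ∈ fixL.tail := by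
    obtain ⟨v, l, hvl⟩ : ∃ v l, fixL = v :: l := ⟨_, _, rfl⟩
    have hv0 : v = 0 := by
      have : fixL.head? = some 0 := by decide +kernel
      rw [hvl] at this; simpa using this
    rw [hvl] at hi ⊢
    rcases List.mem_cons.mp hi with h | h
    · exact absurd (Fin.ext (h.trans hv0)) h0
    · exact h
  have he : eqL ((im1.map (flatW u7W)).map (im 2455)) fixL.tail = true := by decide +kernel
  rw [← eqL_sound he] at hi'
  obtain ⟨w, hw, hwi⟩ := List.mem_map.mp hi'
  have h : allList (fun w => Nat.beq (im 0 w) 0) (im1.map (flatW u7W)) = true := by decide +kernel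
  refine ⟨(ev LA w)⁻¹, inv_mem (U_le_CA (imW_mem _ w hw)), Fin.ext ?_, Fin.ext ?_⟩
  · rw [map_inv, ← im_eq (imW_lt _ w hw) 0]
    exact Nat.eq_of_beq_eq_true (allList_iff.mp h w hw)
  · rw [map_inv, ← im_eq (imW_lt _ w hw) 2455]
    exact hwi

theorem u7_seven {w : List Nat} (hw : w ∈ u7W) :
    ev LA w ^ 7 = 1 ∨ ev LA w ^ 7 = xA ∨ ev LA w ^ 7 = xA * xA := by
  have hall : allList sevenOK u7W = true := by decide +kernel
  have h : sevenOK w = true := allList_iff.mp hall w hw
  have he : ev LA (w ++ w ++ w ++ w ++ w ++ w ++ w) = ev LA w ^ 7 := by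
    simp only [ev_append, pow_succ, pow_zero, one_mul]
  unfold sevenOK at h
  cases h1 : eqA (w ++ w ++ w ++ w ++ w ++ w ++ w) []
  · rw [h1, cond_false] at h
    cases h2 : eqA (w ++ w ++ w ++ w ++ w ++ w ++ w) xW
    · rw [h2, cond_false] at h
      have := eqA_sound h
      rw [he, ev_append] at this
      exact Or.inr (Or.inr this)
    · exact Or.inr (Or.inl (he ▸ eqA_sound h2))
  · have := eqA_sound h1
    rw [he, ev_nil] at this
    exact Or.inl this

theorem CA_not_comm : ∃ g ∈ CA, ∃ h ∈ CA, g * h ≠ h * g := by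
  refine ⟨ev LA (u7W.getD 0 []), U_le_CA (ev_mem_genW (by decide +kernel)),
    ev LA (u7W.getD 1 []), U_le_CA (ev_mem_genW (by decide +kernel)), fun h => ?_⟩
  have h1 := im_eq (w := u7W.getD 0 [] ++ u7W.getD 1 []) (lettersA_sound (by decide +kernel)) 0
  have h2 := im_eq (w := u7W.getD 1 [] ++ u7W.getD 0 []) (lettersA_sound (by decide +kernel)) 0
  rw [ev_append, h, ← ev_append] at h1
  exact absurd (h1.trans h2.symm) (by decide +kernel)

/-- The class in the subgroup of a node. -/
def clsS (n : Nat) : Set A := {a | ∃ w ∈ clsW n, ev LA w = a}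

theorem node_checks (n : Nat) (h1 : 1 ≤ n) (h4 : n < 5) :
    allList lettersA (gensN n) = true ∧ allList lettersA (clsW n) = true ∧
    (clsW n).length = clsSize n ∧ idxOK (clsW n).length (clsOrd n) = true ∧
    (clsOrd n).length = clsSize n ∧
    incr ((clsOrd n).map fun j => codeA ((clsW n).getD j [])) = true ∧
    classOK n = true ∧
    (sylEW n).length = sylSize n ∧ idxOK (sylEW n).length (sylOrd n) = true ∧
    (sylOrd n).length = sylSize n ∧
    incr ((sylOrd n).map fun j => codeA ((sylEW n).getD j [])) = true ∧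
    (sylEW n).getD 0 [] = [] ∧ sylOK n = true ∧ kindOK n = true ∧ lettersA (aW n) = true ∧
    lettersA (hW n) = true ∧ eqA (invW (aW n) ++ xW ++ aW n) ((clsW n).getD 0 []) = true := by
  interval_cases n <;> decide +kernel

section Node

variable {n : Nat} (h1 : 1 ≤ n) (h4 : n < 5)
include h1 h4

theorem gensN_lt : ∀ w ∈ gensN n, ∀ l ∈ w, l < 18 := letters_of (node_checks n h1 h4).1

theorem St_eq_genW : St n = genW LA (gensN n) := by
  interval_cases n <;> rfl

theorem clsS_mem {j : Nat} (hj : j < clsSize n) : ev LA ((clsW n).getD j []) ∈ clsS n := by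
  obtain ⟨-, -, hlen, -⟩ := node_checks n h1 h4
  rw [← hlen] at hj
  rw [List.getD_eq_getElem _ _ hj]
  exact ⟨_, List.getElem_mem hj, rfl⟩

theorem clsS_eq {s : A} (hs : s ∈ clsS n) :
    ∃ j < clsSize n, ev LA ((clsW n).getD j []) = s := by
  obtain ⟨-, -, hlen, -⟩ := node_checks n h1 h4
  obtain ⟨w, hw, rfl⟩ := hs
  obtain ⟨j, hj, rfl⟩ := List.getElem_of_mem hw
  exact ⟨j, hlen ▸ hj, by rw [List.getD_eq_getElem _ _ hj]⟩

theorem clsS_conj {g : A} (hg : g ∈ St n) (s : A) : s ∈ clsS n ↔ g * s * g⁻¹ ∈ clsS n := by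
  rw [St_eq_genW h1 h4] at hg
  refine conj_mem_of_gens (gens := gensN n) ?_ g hg s
  intro w hw s hs
  obtain ⟨-, -, -, -, -, -, hok, -⟩ := node_checks n h1 h4
  unfold classOK at hok
  rw [cond_false_eq_true] at hok
  obtain ⟨j, hj, rfl⟩ := clsS_eq h1 h4 hs
  obtain ⟨k, hk, rfl⟩ := List.getElem_of_mem hw
  have h := of_allBelow (of_allBelow hok.1 j hj) k hk
  rw [cond_false_eq_true] at h
  rw [← List.getD_eq_getElem _ [] hk, ← ev_cjW (by
    rw [List.getD_eq_getElem _ _ hk]; exact gensN_lt h1 h4 _ (List.getElem_mem hk)),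
    eqA_sound h.2]
  exact clsS_mem h1 h4 (Nat.ble_eq.mp h.1)

/-- Every listed element is conjugate in the subgroup to the first one. -/
theorem clsS_conn {j : Nat} (hj : j < clsSize n) :
    ∃ g ∈ St n, g * ev LA ((clsW n).getD 0 []) * g⁻¹ = ev LA ((clsW n).getD j []) := by
  obtain ⟨-, -, -, -, -, -, hok, -⟩ := node_checks n h1 h4
  unfold classOK at hok
  rw [cond_false_eq_true] at hok
  induction j using Nat.strong_induction_on with
  | _ j ih =>
    rcases Nat.eq_zero_or_pos j with rfl | hpos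
    · exact ⟨1, one_mem _, by simp⟩
    have h := of_allBelow hok.2 j hj
    rw [show Nat.beq j 0 = false by
      cases hb : Nat.beq j 0
      · rfl
      · exact absurd (Nat.eq_of_beq_eq_true hb) (by omega), cond_false, cond_false_eq_true,
      cond_false_eq_true] at h
    obtain ⟨hp, hk, he⟩ := h
    have hp' : ((clsPar n).getD j (0, 0)).1 < j := Nat.ble_eq.mp hp
    have hk' : ((clsPar n).getD j (0, 0)).2 < (gensN n).length := Nat.ble_eq.mp hk
    obtain ⟨g, hg, hge⟩ := ih _ hp' (by omega)
    refine ⟨ev LA ((gensN n).getD ((clsPar n).getD j (0, 0)).2 []) * g, mul_mem ?_ hg, ?_⟩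
    · rw [St_eq_genW h1 h4, List.getD_eq_getElem _ _ hk']
      exact ev_mem_genW (List.getElem_mem hk')
    · rw [← eqA_sound he, ev_cjW (by
        rw [List.getD_eq_getElem _ _ hk']; exact gensN_lt h1 h4 _ (List.getElem_mem hk')), ← hge]
      group

theorem ncard_clsS : (clsS n).ncard = clsSize n := by
  obtain ⟨-, hl, hlen, hi, ho, hc, -⟩ := node_checks n h1 h4
  refine le_antisymm ((ncard_words_le _).trans_eq hlen) ?_
  rw [← ho]
  exact le_ncard_of_codes (letters_of hl) hi hc

/-- A Sylow 3-subgroup of the subgroup of a node. -/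
theorem sylow_node : Nat.card (genW LA (sylW n)) = sylSize n ∧ genW LA (sylW n) ≤ St n ∧
    ∀ r ∈ genW LA (sylW n), ∃ j < sylSize n, ev LA ((sylEW n).getD j []) = r := by
  obtain ⟨hg, -, -, -, -, -, -, hlen, hi, ho, hc, h0, hok, -⟩ := node_checks n h1 h4
  have hsw : ∀ w ∈ sylW n, ∀ l ∈ w, l < 18 := fun w hw => by
    obtain ⟨i, _, rfl⟩ := List.mem_map.mp hw
    exact flatW_lt (letters_of hg) i
  have hew : ∀ w ∈ sylEW n, (∀ l ∈ w, l < 18) ∧ ev LA w ∈ genW LA (sylW n) := fun w hw => by
    obtain ⟨i, _, rfl⟩ := List.mem_map.mp hw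
    exact ⟨flatW_lt hsw i, ev_flatW_mem _ i⟩
  set S := {a : A | ∃ w ∈ sylEW n, ev LA w = a} with hS
  have hpos : 0 < sylSize n := by interval_cases n <;> decide
  have hget : ∀ j < sylSize n, ev LA ((sylEW n).getD j []) ∈ S := fun j hj => by
    rw [List.getD_eq_getElem _ _ (hlen ▸ hj)]
    exact ⟨_, List.getElem_mem _, rfl⟩
  have hmul : ∀ w ∈ sylW n, ∀ s ∈ S, s * ev LA w ∈ S := by
    intro w hw s hs
    obtain ⟨v, hv, rfl⟩ := hs
    obtain ⟨j, hj, rfl⟩ := List.getElem_of_mem hv
    obtain ⟨k, hk, rfl⟩ := List.getElem_of_mem hw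
    have h := of_allBelow (of_allBelow hok j (hlen ▸ hj)) k hk
    rw [cond_false_eq_true] at h
    rw [← List.getD_eq_getElem (sylEW n) [] hj, ← List.getD_eq_getElem (sylW n) [] hk,
      ← ev_append, eqA_sound h.2]
    exact hget _ (Nat.ble_eq.mp h.1)
  have h1S : (1 : A) ∈ S := by
    have := hget 0 hpos
    rwa [h0, ev_nil] at this
  have heq : (genW LA (sylW n) : Set A) = S := by
    refine Set.Subset.antisymm (fun r hr => ?_) ?_
    · simpa using mul_mem_of_gens hmul r hr 1 h1S
    · rintro _ ⟨w, hw, rfl⟩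
      exact (hew w hw).2
  refine ⟨?_, ?_, fun r hr => ?_⟩
  · rw [← SetLike.coe_sort_coe, Nat.card_coe_set_eq]
    rw [heq]
    refine le_antisymm ((ncard_words_le _).trans_eq hlen) ?_
    rw [← ho]
    exact le_ncard_of_codes (fun w hw => (hew w hw).1) hi hc
  · rw [St_eq_genW h1 h4]
    refine genW_le fun w hw => ?_
    obtain ⟨i, _, rfl⟩ := List.mem_map.mp hw
    exact ev_flatW_mem _ i
  · have : r ∈ S := heq ▸ hr
    obtain ⟨w, hw, rfl⟩ := this
    obtain ⟨j, hj, rfl⟩ := List.getElem_of_mem hw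
    exact ⟨j, hlen ▸ hj, by rw [List.getD_eq_getElem _ _ hj]⟩

theorem first_eq :
    (ev LA (aW n))⁻¹ * xA * ev LA (aW n) = ev LA ((clsW n).getD 0 []) := by
  obtain ⟨-, -, -, -, -, -, -, -, -, -, -, -, -, -, ha, -, he⟩ := node_checks n h1 h4
  have := eqA_sound he
  rwa [ev_append, ev_append, ev_invW_LA _ (lettersA_sound ha)] at this

/-- An element of order three with a fixed point in the subgroup of a node is in the class. -/
theorem good_mem_cls (hcard : Nat.card (St n) = stSize n) {y : A} (hy : y ∈ St n) (h3 : y ^ 3 = 1)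
    (hne : y ≠ 1) (hfix : ∃ i : Fin 3906, ρ y i = i) : y ∈ clsS n := by
  haveI : Fact (Nat.Prime 3) := ⟨Nat.prime_three⟩
  obtain ⟨hRc, hRle, hRel⟩ := sylow_node h1 h4
  obtain ⟨-, -, -, -, -, -, -, -, -, -, -, -, -, hkind, -⟩ := node_checks n h1 h4
  set R := genW LA (sylW n)
  have hcR : Nat.card (R.subgroupOf (St n)) = sylSize n := by
    rw [Nat.card_congr (Subgroup.subgroupOfEquivOfLe hRle).toEquiv, hRc]
  have hidx : (R.subgroupOf (St n)).index * sylSize n = stSize n := by
    rw [← hcR, ← hcard, mul_comm]; exact Subgroup.card_mul_index _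
  have hp : IsPGroup 3 (R.subgroupOf (St n)) := by
    have : ∃ k ∈ List.range 4, sylSize n = 3 ^ k := by interval_cases n <;> decide +kernel
    obtain ⟨k, -, hk⟩ := this
    exact IsPGroup.of_card (n := k) (by rw [hcR, hk])
  have hnd : ¬ 3 ∣ (R.subgroupOf (St n)).index := by
    intro hd
    obtain ⟨c, hc⟩ := hd
    rw [hc] at hidx
    interval_cases n <;> simp [sylSize, stSize] at hidx <;> omega
  let P0 : Sylow 3 (St n) := hp.toSylow hnd
  have hy' : (⟨y, hy⟩ : St n) ^ 3 = 1 := Subtype.ext (by simpa using h3)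
  obtain ⟨Q, hQ⟩ := IsPGroup.exists_le_sylow (P := Subgroup.zpowers (⟨y, hy⟩ : St n)) (p := 3)
    (IsPGroup.of_card (n := 1) (by
      rw [Nat.card_zpowers, pow_one]
      exact orderOf_eq_prime hy' (fun h => hne (congrArg Subtype.val h))))
  obtain ⟨c, hc⟩ := MulAction.exists_smul_eq (St n) Q P0
  have hmem : c * ⟨y, hy⟩ * c⁻¹ ∈ (P0 : Subgroup (St n)) := by
    rw [← hc, Sylow.coe_subgroup_smul, Subgroup.mem_pointwise_smul_iff_inv_smul_mem]
    simpa [MulAut.smul_def, mul_assoc] using hQ (Subgroup.mem_zpowers _)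
  have hr : (c : A) * y * (c : A)⁻¹ ∈ R := hmem
  obtain ⟨j, hj, hje⟩ := hRel _ hr
  rw [clsS_conj h1 h4 c.2 y, ← hje]
  have hk := of_allBelow hkind j hj
  cases h0 : Nat.beq ((sylK n).getD j (9, 0, [])).1 0
  · rw [h0, cond_false] at hk
    cases h1' : Nat.beq ((sylK n).getD j (9, 0, [])).1 1
    · rw [h1', cond_false, cond_false_eq_true] at hk
      exfalso
      have hh := lettersA_sound hk.1
      have hb := eqA_sound hk.2
      rw [ev_cjW hh, hje] at hb
      obtain ⟨i, hi⟩ := hfix
      set h := ev LA ((sylK n).getD j (9, 0, [])).2.2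
      have hbad : ρ (ev LA badW) (ρ (h⁻¹ * c) i) = ρ (h⁻¹ * c) i := by
        have e : ev LA badW * (h⁻¹ * c) = h⁻¹ * c * y := by
          calc ev LA badW * (h⁻¹ * c) = h⁻¹ * (h * ev LA badW * h⁻¹) * c := by group
            _ = h⁻¹ * ((c : A) * y * (c : A)⁻¹) * c := by rw [hb]
            _ = _ := by group
        rw [← Equiv.Perm.mul_apply, ← map_mul, e, map_mul, Equiv.Perm.mul_apply, hi]
      have hnf : noFix badW = true := by decide +kernel
      have h' := of_allBelow hnf _ (ρ (h⁻¹ * c) i).2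
      rw [show Nat.beq (im (ρ (h⁻¹ * c) i : Fin 3906) badW) (ρ (h⁻¹ * c) i : Fin 3906) = true by
        rw [(fix_iff (lettersA_sound (by decide +kernel)) _).mp hbad]; simp, cond_true] at h'
      exact Bool.noConfusion h'
    · rw [h1', cond_true, cond_false_eq_true] at hk
      rw [eqA_sound hk.2]
      exact clsS_mem h1 h4 (Nat.ble_eq.mp hk.1)
  · rw [h0, cond_true] at hk
    exfalso
    have := eqA_sound hk
    rw [hje, ev_nil] at this
    exact hne (conj_eq_one_iff.mp this)

end Node

end CfsgLib.Coset.Ly.Cent
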