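import Cfsg.Agent.Coset.Ly.CentCode
import Cfsg.Agent.Coset.Ly.Lower
import Cfsg.Agent.Coset.Ly.G2
import Mathlib.GroupTheory.Coset.Card
import Mathlib.GroupTheory.GroupAction.Quotient

/-!
An upper bound for the centralizer of an involution in the presented Lyons group: the involution
has at most 2772 fixed cosets of the subgroup of type G₂ and at most 14400 elements of the latter
commute with it.
-/

set_option autoImplicit false
set_option maxRecDepth 100000
set_option maxHeartbeats 1000000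

namespace CfsgLib.Coset.Ly

open Cfsg.Spor (Ly)
open scoped Classical

attribute [local instance] actA

/-- The involution in the model of the subgroup. -/
noncomputable def tA : A := ev LA tWord

theorem tWord_lt : ∀ l ∈ tWord, l < 18 := by decide +kernel

theorem fw_eq {w : List Nat} (hw : ∀ l ∈ w, l < 18) (x : Fin 3906) :
    (((ρ (ev LA w))⁻¹ x : Fin 3906) : ℕ) = fw w x := by
  rw [fw, ff_eq]
  exact matches_ρ.follow_eq w x fun l hl => (hw l hl).trans_eq len_LA.symm

theorem fw_inv {w : List Nat} (hw : ∀ l ∈ w, l < 18) (x : Fin 3906) :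
    ((ρ (ev LA w) x : Fin 3906) : ℕ) = fw (invW w) x := by
  rw [← fw_eq (invW_lt hw) x, ev_invW_LA w hw, map_inv, inv_inv]

theorem fix_fw {w : List Nat} (hw : ∀ l ∈ w, l < 18) {x : Fin 3906} (h : ρ (ev LA w) x = x) :
    fw w x = x := by
  rw [← fw_eq hw x, Equiv.Perm.inv_def, (Equiv.symm_apply_eq _).mpr h.symm]

theorem memB_iff : ∀ (l : List Nat) (i : Nat), memB l i = true ↔ i ∈ l := by
  intro l i
  induction l with
  | nil => simp [memB]
  | cons b l ih =>
    change cond (Nat.beq i b) true (memB l i) = true ↔ _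
    cases h : Nat.beq i b
    · have : i ≠ b := fun e => by rw [e, Nat.beq_eq.mpr rfl] at h; exact Bool.noConfusion h
      simp [ih, this]
    · simp [Nat.eq_of_beq_eq_true h]

theorem fix_iff_fixL (x : Fin 3906) : ρ tA x = x ↔ (x : ℕ) ∈ fixL := by
  have h : cond (Nat.beq (fw tWord x) x) (memB fixL x) (cond (memB fixL x) false true) = true :=
    of_allBelow fixL_ok x x.2
  have e : ρ tA x = x ↔ fw tWord x = x := by
    rw [fw, ff_eq]
    exact matches_ρ.fix_iff fun l hl => (tWord_lt l hl).trans_eq len_LA.symm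
  rw [e, ← memB_iff]
  cases h1 : Nat.beq (fw tWord x) x
  · rw [h1, cond_false] at h
    have h2 : fw tWord x ≠ x := fun e => by
      rw [e, Nat.beq_eq.mpr rfl] at h1; exact Bool.noConfusion h1
    cases h3 : memB fixL x
    · simp [h2]
    · rw [h3] at h; exact Bool.noConfusion h
  · rw [h1, cond_true] at h
    simp [h, Nat.eq_of_beq_eq_true h1]

/-- The first base point. -/
abbrev x0 : Fin 3906 := ⟨0, by decide⟩

/-- The transversal element of a fixed point. -/
noncomputable def gF (k : Nat) : A := (ev LA (fixW.getD k []))⁻¹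

theorem exists_fix {x : Fin 3906} (hx : (x : ℕ) ∈ fixL) :
    ∃ k < 42, fixL.getD k 0 = x ∧ ρ (gF k) x0 = x := by
  obtain ⟨k, hk, he⟩ := List.getElem_of_mem hx
  have hk' : k < 42 := hk.trans_eq fixL_shape.1
  obtain ⟨h1, h2⟩ := fixW_ok k hk'
  have h3 : fixL.getD k 0 = x := by rw [List.getD_eq_getElem _ _ hk, he]
  refine ⟨k, hk', h3, Fin.ext ?_⟩
  rw [gF, map_inv, fw_eq h2, ← h3, ← h1]

theorem lt_CK : checkLetters LA.length (CK0G ++ TP.subs) = true := by
  rw [len_LA]; decide +kernel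

theorem gens_P : ∀ w ∈ CK0G ++ TP.subs, ev LA w ∈ P := by
  intro w hw
  have h : ∀ v ∈ CK0G ++ TP.subs, (∀ l ∈ v, l < 18) ∧ fw v 0 = 0 := by decide +kernel
  rw [P_eq.2, matches_ρ.mem_pstab_iff _ fun l hl => ((h w hw).1 l hl).trans_eq len_LA.symm,
    ← ff_eq]
  exact (h w hw).2

theorem isO_iff {y : Fin 3906} : isO y = true ↔ y ∈ orb ρ P (2144 : Fin 3906) := by
  constructor
  · intro h
    unfold isO at h
    rw [cond_false_eq_true] at h
    obtain ⟨-, hpts⟩ := matches_ρ.orbit_le (β := (2144 : Fin 3906)) P_orbit lt_CK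
      (S := P) gens_P
    obtain ⟨x, hx, hxe⟩ := hpts _ (Nat.ble_eq.mp h.1)
    rwa [show y = x from Fin.ext (by rw [hxe, Nat.eq_of_beq_eq_true h.2])]
  · intro hy
    have hle : P ≤ Subgroup.closure (ev LA '' {w | w ∈ CK0G ++ TP.subs}) :=
      Subgroup.closure_mono (Set.image_mono fun w hw => List.mem_append_right _ hw)
    obtain ⟨g, hg, hge⟩ := hy
    obtain ⟨j, hj, hjy⟩ := matches_ρ.orbit_subset (β := (2144 : Fin 3906)) P_orbit P_closed
      lt_CK (by norm_num) ⟨g, hle hg, hge⟩
    have h := (cond_false_eq_true.mp (of_allBelow (cond_false_eq_true.mp P_orbit).2 j hj)).1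
    have h' := Nat.eq_of_beq_eq_true h
    unfold isO
    rw [← hjy, h', cond_false_eq_true]
    exact ⟨Nat.ble_eq.mpr hj, Nat.beq_eq.mpr rfl⟩

theorem ncard_fixL (q : Nat → Bool) :
    {y : Fin 3906 | (y : ℕ) ∈ fixL ∧ q y = true}.ncard = (fixL.filter q).length := by
  rw [← Set.ncard_image_of_injective _ (Fin.val_injective (n := 3906)),
    ← List.toFinset_card_of_nodup (fixL_shape.2.1.filter _), ← Set.ncard_coe_finset]
  congr 1
  ext i
  simp only [Set.mem_image, Set.mem_setOf_eq, List.coe_toFinset, List.mem_filter]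
  constructor
  · rintro ⟨y, hy, rfl⟩; exact hy
  · intro hi
    exact ⟨⟨i, fixL_shape.2.2 i hi.1⟩, hi, rfl⟩

/-- The centralizer of the involution in the model. -/
noncomputable abbrev CA : Subgroup A := Subgroup.centralizer {tA}

theorem mem_fixL_image {a : A} (ha : a ∈ CA) (y : Fin 3906) :
    (ρ a y : ℕ) ∈ fixL ↔ (y : ℕ) ∈ fixL := by
  rw [← fix_iff_fixL, ← fix_iff_fixL, ← Equiv.Perm.mul_apply, ← map_mul,
    ← Subgroup.mem_centralizer_singleton_iff.mp ha, map_mul, Equiv.Perm.mul_apply,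
    (ρ a).injective.eq_iff]

theorem card_CA : Nat.card CA ≤ 14400 := by
  have hz : (x0 : ℕ) ∈ fixL := by decide +kernel
  have hgood : ∀ x ∈ orb ρ CA x0, ∃ k ∈ (List.range 42).filter (fun k => Nat.beq (oppN k) 5),
      fixL.getD k 0 = (x : ℕ) := by
    rintro x ⟨a, ha, rfl⟩
    obtain ⟨k, hk, hkx, hg⟩ := exists_fix ((mem_fixL_image ha x0).mpr hz)
    refine ⟨k, List.mem_filter.mpr ⟨List.mem_range.mpr hk, Nat.beq_eq.mpr ?_⟩, hkx⟩
    have hp : (gF k)⁻¹ * a ∈ P := by
      rw [P_eq.2, mem_pstab, map_mul, map_inv, Equiv.Perm.mul_apply, Equiv.Perm.inv_def,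
        Equiv.symm_apply_eq, hg]
    have hw := (fixW_ok k hk).2
    have key : ∀ y : Fin 3906, isO (fw (invW (fixW.getD k [])) (ρ a y)) = isO y := by
      intro y
      rw [Bool.eq_iff_iff, ← fw_inv hw, isO_iff, isO_iff]
      have e : ρ (ev LA (fixW.getD k [])) (ρ a y) = ρ ((gF k)⁻¹ * a) y := by
        rw [gF, inv_inv, map_mul, Equiv.Perm.mul_apply]
      rw [e]
      constructor
      · intro h
        have := orb_mapsTo (ρ := ρ) (S := P) 2144 (inv_mem hp) h
        rwa [map_inv, Equiv.Perm.inv_def, Equiv.symm_apply_apply] at this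
      · exact fun h => orb_mapsTo (ρ := ρ) (S := P) 2144 hp h
    rw [oppN, ← ncard_fixL, ← opp_zero, ← ncard_fixL,
      ← Set.ncard_image_of_injective {y : Fin 3906 | (y : ℕ) ∈ fixL ∧ isO y = true} (ρ a).injective]
    congr 1
    ext z
    obtain ⟨y, rfl⟩ := (ρ a).surjective z
    rw [(ρ a).injective.mem_set_image, Set.mem_setOf_eq, Set.mem_setOf_eq, key, mem_fixL_image ha]
  have h1 : (orb ρ CA x0).ncard ≤ 6 := by
    rw [← Set.ncard_image_of_injective _ (Fin.val_injective (n := 3906))]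
    refine le_trans (Set.ncard_le_ncard (t := ↑(((List.range 42).filter
      fun k => Nat.beq (oppN k) 5).map fun k => fixL.getD k 0).toFinset) ?_ (Set.toFinite _)) ?_
    · rintro _ ⟨x, hx, rfl⟩
      obtain ⟨k, hk, hkx⟩ := hgood x hx
      simp only [List.coe_toFinset, Set.mem_setOf_eq, List.mem_map]
      exact ⟨k, hk, hkx⟩
    · rw [Set.ncard_coe_finset]
      exact (List.toFinset_card_le _).trans (by rw [List.length_map, goodL_ok])
  set b : Fin 3906 := ⟨2255, by decide⟩
  have hb : b ∈ orb ρ P (2144 : Fin 3906) := isO_iff.mp opp_head.1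
  have h2 : (orb ρ (CA ⊓ pstab ρ x0) b).ncard ≤ 5 := by
    rw [← opp_zero, ← ncard_fixL]
    refine Set.ncard_le_ncard ?_ (Set.toFinite _)
    rintro y ⟨a, ha, rfl⟩
    refine ⟨(mem_fixL_image ha.1 b).mpr opp_head.2, isO_iff.mpr ?_⟩
    exact orb_mapsTo (ρ := ρ) (S := P) 2144 (P_eq.2.symm ▸ ha.2) hb
  have hP : Nat.card P = 1500000 := by
    have h := Subgroup.card_mul_index P
    rw [P_eq.1, card_and_injective.1] at h
    omega
  have h3 : Nat.card (P ⊓ pstab ρ b : Subgroup A) = 480 := by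
    have hor : orb ρ P b = orb ρ P (2144 : Fin 3906) := by
      obtain ⟨g, hg, hge⟩ := hb
      ext y
      constructor
      · rintro ⟨h, hh, rfl⟩
        exact orb_mapsTo (ρ := ρ) (S := P) 2144 hh ⟨g, hg, hge⟩
      · rintro ⟨h, hh, rfl⟩
        exact ⟨h * g⁻¹, mul_mem hh (inv_mem hg), by
          rw [← hge, map_mul, map_inv, Equiv.Perm.mul_apply, Equiv.Perm.inv_def,
            Equiv.symm_apply_apply]⟩
    have hm : (orb ρ P (2144 : Fin 3906)).ncard = 3125 := by
      refine le_antisymm ?_ (matches_ρ.orbit_le (β := (2144 : Fin 3906)) P_orbit lt_CK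
        (S := P) gens_P).1
      refine le_trans (Set.ncard_le_ncard ?_ (Set.toFinite _))
        (le_of_eq (matches_ρ.orbit_eq (β := (2144 : Fin 3906)) P_orbit P_closed lt_CK
            (by norm_num)))
      rintro y ⟨g', hg', hge'⟩
      exact ⟨g', Subgroup.closure_mono (Set.image_mono fun w hw => List.mem_append_right _ hw)
          hg', hge'⟩
    have h := card_orb_mul (ρ := ρ) P b
    rw [hor, hm, hP] at h
    omega
  have e1 := card_orb_mul (ρ := ρ) CA x0
  have e2 := card_orb_mul (ρ := ρ) (CA ⊓ pstab ρ x0) b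
  have h4 : Nat.card (CA ⊓ pstab ρ x0 ⊓ pstab ρ b : Subgroup A) ≤ 480 := by
    rw [← h3]
    refine Subgroup.card_le_of_le (inf_le_inf_right _ ?_)
    rw [P_eq.2]
    exact inf_le_right
  have h5 := Nat.mul_le_mul h2 h4
  rw [e2] at h5
  have h6 := Nat.mul_le_mul h1 h5
  rw [e1] at h6
  omega

theorem blkTest_mem {h : List Nat} (hh : blkTest h = true) (hl : ∀ l ∈ h, l < 18)
    (x y : Fin 3906) (hx : blk x < 3) (hxy : blk y = blk x) :
    blk ((ρ (ev LA h))⁻¹ x : Fin 3906) < 3 ∧
      blk ((ρ (ev LA h))⁻¹ y : Fin 3906) = blk ((ρ (ev LA h))⁻¹ x : Fin 3906) := by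
  have hB : ∀ z : Nat, blk z < 3 → z ∈ blkL.getD (blk z) [] ∧ blkL.getD (blk z) [] ∈ blkL := by
    intro z hz
    have e : blk z = cond (memB (blkL.getD 0 []) z) 0 (cond (memB (blkL.getD 1 []) z) 1
      (cond (memB (blkL.getD 2 []) z) 2 3)) := rfl
    have hm : ∀ i < 3, blkL.getD i [] ∈ blkL := by decide +kernel
    refine ⟨?_, hm _ hz⟩
    cases h0 : memB (blkL.getD 0 []) z
    · cases h1 : memB (blkL.getD 1 []) z
      · cases h2 : memB (blkL.getD 2 []) z
        · rw [h0, h1, h2] at e; rw [e] at hz; exact absurd hz (lt_irrefl 3)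
        · rw [h0, h1, h2] at e; rw [e]; exact (memB_iff _ _).mp h2
      · rw [h0, h1] at e; rw [e]; exact (memB_iff _ _).mp h1
    · rw [h0] at e; rw [e]; exact (memB_iff _ _).mp h0
  obtain ⟨hxm, hBm⟩ := hB x hx
  have hym := (hB y (hxy ▸ hx)).1
  rw [hxy] at hym
  have t := allList_iff.mp hh _ hBm
  have tx := cond_false_eq_true.mp (allList_iff.mp t _ hxm)
  have ty := cond_false_eq_true.mp (allList_iff.mp t _ hym)
  rw [fw_eq hl, fw_eq hl, Nat.eq_of_beq_eq_true tx.2, Nat.eq_of_beq_eq_true ty.2]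
  exact ⟨Nat.eq_of_beq_eq_true tx.2 ▸ Nat.ble_eq.mp tx.1, rfl⟩

/-- An element keeps the partition into three blocks. -/
def Good (a : A) : Prop :=
  ∀ x y : Fin 3906, blk x < 3 → blk y = blk x → blk (ρ a x) < 3 ∧ blk (ρ a y) = blk (ρ a x)

theorem good_K0 {q : A} (hq : q ∈ K0) : Good q ∧ Good q⁻¹ := by
  have hone : Good (1 : A) := fun x y hx hxy => by simp [hx, hxy]
  have hmul : ∀ {a b : A}, Good a → Good b → Good (a * b) := fun {a b} ha hb x y hx hxy => by
    rw [map_mul, Equiv.Perm.mul_apply, Equiv.Perm.mul_apply]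
    obtain ⟨h1, h2⟩ := hb x y hx hxy
    exact ha _ _ h1 h2
  refine Subgroup.closure_induction (p := fun a _ => Good a ∧ Good a⁻¹) ?_
    ⟨hone, by simpa using hone⟩ (fun a b _ _ ha hb => ⟨hmul ha.1 hb.1, by
      rw [mul_inv_rev]; exact hmul hb.2 ha.2⟩)
    (fun a _ ha => ⟨ha.2, by simpa using ha.1⟩) hq
  rintro _ ⟨w, hw, rfl⟩
  have hl : ∀ l ∈ w, l < 18 := (by decide +kernel : ∀ v ∈ kgW, ∀ l ∈ v, l < 18) w hw
  obtain ⟨g1, g2⟩ := blk_gens w hw
  refine ⟨fun x y hx hxy => ?_, fun x y hx hxy => ?_⟩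
  · have := blkTest_mem g2 (invW_lt hl) x y hx hxy
    simpa [ev_invW_LA w hl] using this
  · have := blkTest_mem g1 hl x y hx hxy
    simpa using this

theorem blkTest_K0 {h : List Nat} (hl : ∀ l ∈ h, l < 18) (hm : ev LA h ∈ K0) :
    blkTest h = true := by
  have hg := (good_K0 hm).2
  have hB : ∀ B ∈ blkL, ∀ z ∈ B, z < 3906 ∧ blk z < 3 ∧ blk (B.getD 0 0) = blk z ∧
      B.getD 0 0 < 3906 := by
    decide +kernel
  refine allList_iff.mpr fun B hBm => allList_iff.mpr fun x hx => ?_
  obtain ⟨h1, h2, h3, h4⟩ := hB B hBm x hx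
  obtain ⟨r1, r2⟩ := hg ⟨x, h1⟩ ⟨B.getD 0 0, h4⟩ h2 h3
  rw [map_inv] at r1 r2
  rw [fw_eq hl] at r1 r2
  rw [fw_eq hl] at r2
  rw [cond_false_eq_true]
  exact ⟨Nat.ble_eq.mpr r1, Nat.beq_eq.mpr r2.symm⟩

theorem cosets_K0 : {q : A ⧸ K0 | tA • q = q}.ncard ≤ 66 := by
  refine le_trans (Set.ncard_le_ncard (t := ↑((cosL.map fun p : Nat × Nat =>
    (QuotientGroup.mk (gF p.1 * ev LA (coR.getD p.2 [])) : A ⧸ K0))).toFinset) ?_
    (Set.toFinite _)) ?_
  swap
  · rw [Set.ncard_coe_finset]
    exact (List.toFinset_card_le _).trans (by rw [List.length_map, cosL_shape])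
  intro q
  induction q using QuotientGroup.induction_on with
  | _ a =>
    intro hq
    simp only [Set.mem_setOf_eq, MulAction.Quotient.smul_mk, smul_eq_mul, QuotientGroup.eq] at hq
    have hq' : a⁻¹ * tA * a ∈ K0 := by
      rw [← inv_mem_iff]; simpa [mul_assoc] using hq
    have hKP : K0 ≤ P := by
      rw [P_eq.2]
      exact genW_le_pstab matches_ρ _ (by rw [len_LA]; decide +kernel) (by decide +kernel)
    have hfix : ρ tA (ρ a x0) = ρ a x0 := by
      have h := hKP hq'
      rw [P_eq.2, mem_pstab, map_mul, map_mul, map_inv, Equiv.Perm.mul_apply,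
        Equiv.Perm.mul_apply, Equiv.Perm.inv_def, Equiv.symm_apply_eq] at h
      exact h
    obtain ⟨k, hk, -, hg⟩ := exists_fix ((fix_iff_fixL _).mp hfix)
    have hp : (gF k)⁻¹ * a ∈ P := by
      rw [P_eq.2, mem_pstab, map_mul, map_inv, Equiv.Perm.mul_apply, Equiv.Perm.inv_def,
        Equiv.symm_apply_eq, hg]
    obtain ⟨r, hr, q', hq'', he⟩ := P_cover hp
    obtain ⟨i, hi, rfl⟩ := List.getElem_of_mem hr
    have hi5 : i < 5 := hi
    have he' : a = gF k * ev LA (coR.getD i []) * q' := by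
      rw [List.getD_eq_getElem _ _ hi, mul_assoc, ← he, mul_inv_cancel_left]
    simp only [List.coe_toFinset, Set.mem_setOf_eq, List.mem_map]
    refine ⟨(k, i), blk_cos k hk i hi5 (blkTest_K0 ?_ ?_), ?_⟩
    · intro l hl
      have hc : ∀ j < 5, ∀ l ∈ coR.getD j [], l < 18 := by decide +kernel
      simp only [cosW, List.mem_append] at hl
      rcases hl with h | h | h | h | h
      exacts [invW_lt (hc i hi5) l h, (fixW_ok k hk).2 l h, tWord_lt l h,
        invW_lt (fixW_ok k hk).2 l h, hc i hi5 l h]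
    · have hc : ∀ j < 5, ∀ l ∈ coR.getD j [], l < 18 := by decide +kernel
      have e : ev LA (cosW k i) = q' * (a⁻¹ * tA * a) * q'⁻¹ := by
        rw [he', cosW]
        simp only [ev_append, ev_invW_LA _ (hc i hi5), ev_invW_LA _ (fixW_ok k hk).2, gF, tA,
          mul_inv_rev, inv_inv]
        simp only [mul_assoc, mul_inv_cancel, mul_one, inv_mul_cancel_left, mul_inv_cancel_left]
      rw [e]
      exact mul_mem (mul_mem hq'' hq') (inv_mem hq'')
    · rw [he', QuotientGroup.mk_mul_of_mem _ hq'']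

theorem incB_spec : ∀ (l : List Nat) (prev : Nat), incB prev l = true →
    l.Nodup ∧ ∀ a ∈ l, prev ≤ a := by
  intro l
  induction l with
  | nil => intro _ _; simp
  | cons a l ih =>
    intro prev h
    change cond (Nat.ble prev a) (incB (Nat.add a 1) l) false = true at h
    rw [cond_false_eq_true] at h
    obtain ⟨h1, h2⟩ := ih _ h.2
    have h3 : prev ≤ a := Nat.ble_eq.mp h.1
    refine ⟨List.nodup_cons.mpr ⟨fun hm => absurd (h2 a hm) (by simp), h1⟩, fun b hb => ?_⟩
    rcases List.mem_cons.mp hb with rfl | hb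
    · exact h3
    · have := h2 b hb
      simp only [Nat.add_eq] at this
      omega

theorem cntSq_eq (b c : Nat) (G : List (List Nat)) (pre : List Nat) :
    ∀ wd : List (List Nat), cntSq b c G pre wd =
      (wd.filter fun ids => sqTest b c (pre ++ flatW G ids)).length := by
  intro wd
  induction wd with
  | nil => rfl
  | cons ids wd ih =>
    change cond (sqTest b c (pre ++ flatW G ids)) (Nat.add (cntSq b c G pre wd) 1)
      (cntSq b c G pre wd) = _
    rw [ih, List.filter_cons]
    cases sqTest b c (pre ++ flatW G ids) <;> simp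

/-- The involutions of a stabilising subgroup, bounded by counting words. -/
theorem invol_le {gens : List (List Nat)} {β γ : Fin 3906} {m dm : Nat} {P' Inv : Nat → Nat}
    (hc : checkOrbit TP.Tb β m dm gens P' Inv = true)
    (hcl : checkClosed TP.Tb m dm gens P' Inv = true) (hl : checkLetters 18 gens = true)
    (hm0 : 0 < m) {wd : List (List Nat)} (hlen : wd.length = m)
    (hinc : incB 0 (wd.map fun ids => fw (flatW gens ids) β) = true)
    {cs : List (List Nat)} (hcs : ∀ c ∈ cs, ∀ l ∈ c, l < 18)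
    (hcov : ∀ h ∈ genW LA gens ⊓ pstab ρ β, ∃ c ∈ cs, h = ev LA c) :
    {s : A | s ∈ genW LA gens ∧ s * s = 1}.ncard ≤
      (cs.map fun c => cntSq β γ gens c wd).sum := by
  have hfl : ∀ ids, ∀ l ∈ flatW gens ids, l < 18 := by
    intro ids l hl'
    obtain ⟨u, hu, hlu⟩ := List.mem_flatten.mp hl'
    obtain ⟨i, -, rfl⟩ := List.mem_map.mp hu
    exact letters_getD hl i l hlu
  have hor : (orb ρ (genW LA gens) β).ncard = m :=
    matches_ρ.orbit_eq hc hcl (by rw [len_LA]; exact hl) hm0
  have hreach : ∀ x ∈ orb ρ (genW LA gens) β, ∃ ids ∈ wd, fw (flatW gens ids) β = x := by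
    set L := wd.map fun ids => fw (flatW gens ids) β with hL
    have hsub : ↑L.toFinset ⊆ Fin.val '' orb ρ (genW LA gens) β := by
      intro p hp
      simp only [List.coe_toFinset, Set.mem_setOf_eq, hL, List.mem_map] at hp
      obtain ⟨ids, -, rfl⟩ := hp
      exact ⟨(ρ (ev LA (flatW gens ids)))⁻¹ β,
        ⟨(ev LA (flatW gens ids))⁻¹, inv_mem (ev_flatW_mem gens ids), by rw [map_inv]⟩,
        fw_eq (hfl ids) β⟩
    have hc' : (Fin.val '' orb ρ (genW LA gens) β).ncard ≤ (↑L.toFinset : Set ℕ).ncard := by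
      rw [Set.ncard_image_of_injective _ Fin.val_injective, hor, Set.ncard_coe_finset,
        List.toFinset_card_of_nodup (incB_spec _ 0 hinc).1, hL, List.length_map, hlen]
    intro x hx
    have he := Set.eq_of_subset_of_ncard_le hsub hc' (Set.toFinite _)
    have hx' : (x : ℕ) ∈ (↑L.toFinset : Set ℕ) := he ▸ ⟨x, hx, rfl⟩
    simpa [hL] using hx'
  let mk : List Nat → List (List Nat) := fun c =>
    (wd.filter fun ids => sqTest β γ (c ++ flatW gens ids)).map fun ids => c ++ flatW gens ids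
  refine le_trans (Set.ncard_le_ncard (t := ↑((cs.flatMap mk).map (ev LA)).toFinset) ?_
    (Set.toFinite _)) ?_
  swap
  · rw [Set.ncard_coe_finset]
    refine (List.toFinset_card_le _).trans (le_of_eq ?_)
    rw [List.length_map, List.length_flatMap]
    congr 1
    refine List.map_congr_left fun c _ => ?_
    simp only [mk, List.length_map, cntSq_eq]
  rintro s ⟨hs, hs2⟩
  obtain ⟨ids, hids, hfe⟩ := hreach ((ρ s)⁻¹ β) ⟨s⁻¹, inv_mem hs, by rw [map_inv]⟩
  rw [← fw_eq (hfl ids) β, Fin.val_inj] at hfe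
  have hh : s * (ev LA (flatW gens ids))⁻¹ ∈ genW LA gens ⊓ pstab ρ β := by
    refine Subgroup.mem_inf.mpr ⟨mul_mem hs (inv_mem (ev_flatW_mem gens ids)), ?_⟩
    show ρ _ β = β
    rw [map_mul, map_inv, Equiv.Perm.mul_apply, hfe, Equiv.Perm.inv_def, Equiv.apply_symm_apply]
  obtain ⟨c, hc', he⟩ := hcov _ hh
  have hse : s = ev LA (c ++ flatW gens ids) := by
    rw [ev_append, ← he, inv_mul_cancel_right]
  have hcl' : ∀ l ∈ c ++ flatW gens ids, l < 18 := fun l hl' =>
    (List.mem_append.mp hl').elim (hcs c hc' l) (hfl ids l)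
  have hfix : ∀ z : Fin 3906,
      fw ((c ++ flatW gens ids) ++ (c ++ flatW gens ids)) z = z := fun z =>
    fix_fw (fun l hl' => (List.mem_append.mp hl').elim (hcl' l) (hcl' l))
      (by rw [ev_append, ← hse, hs2, map_one, Equiv.Perm.one_apply])
  simp only [List.coe_toFinset, Set.mem_setOf_eq, List.mem_map, List.mem_flatMap, mk,
    List.mem_filter]
  refine ⟨_, ⟨c, hc', ids, ⟨hids, ?_⟩, rfl⟩, hse.symm⟩
  rw [sqTest, cond_false_eq_true]
  exact ⟨Nat.beq_eq.mpr (hfix β), Nat.beq_eq.mpr (hfix γ)⟩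

/-- Counting fixed cosets by the elements of the subgroup conjugate to the involution. -/
theorem cosets_le {G : Type*} [Group G] [Finite G] (t : G) (ht : t * t = 1) (ht1 : t ≠ 1)
    (S : Subgroup G) :
    Nat.card S * {q : G ⧸ S | t • q = q}.ncard ≤
      Nat.card (Subgroup.centralizer {t}) * ({s : G | s ∈ S ∧ s * s = 1}.ncard - 1) := by
  classical
  haveI := Fintype.ofFinite G
  rw [← Nat.card_coe_set_eq, ← Nat.card_prod,
    ← Nat.card_congr (QuotientGroup.preimageMkEquivSubgroupProdSet S _), Nat.card_coe_set_eq,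
    Set.ncard_eq_toFinset_card']
  set T := (QuotientGroup.mk ⁻¹' {q : G ⧸ S | t • q = q} : Set G).toFinset with hT
  have hmem : ∀ a ∈ T, a⁻¹ * t * a ∈ S := fun a ha => by
    simp only [hT, Set.mem_toFinset, Set.mem_preimage, Set.mem_setOf_eq,
      MulAction.Quotient.smul_mk, smul_eq_mul, QuotientGroup.eq] at ha
    rw [← inv_mem_iff]; simpa [mul_assoc] using ha
  refine le_trans (Finset.card_le_mul_card_image (f := fun a => a⁻¹ * t * a) T _ ?_)
    (Nat.mul_le_mul_left (Nat.card (Subgroup.centralizer {t})) ?_)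
  · intro b hb
    obtain ⟨a0, ha0, rfl⟩ := Finset.mem_image.mp hb
    rw [← Set.ncard_coe_finset, ← Nat.card_coe_set_eq]
    refine Nat.card_le_card_of_injective (fun a => (⟨a.1 * a0⁻¹, ?_⟩ : Subgroup.centralizer {t}))
      fun a a' h => ?_
    · have h := (Finset.mem_filter.mp a.2).2
      rw [Subgroup.mem_centralizer_singleton_iff]
      calc (a.1 * a0⁻¹) * t = a.1 * (a0⁻¹ * t * a0) * a0⁻¹ := by group
        _ = a.1 * (a.1⁻¹ * t * a.1) * a0⁻¹ := by rw [h]
        _ = t * (a.1 * a0⁻¹) := by group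
    · exact Subtype.ext (mul_right_cancel (congrArg Subtype.val h))
  · have h1 : (1 : G) ∈ {s : G | s ∈ S ∧ s * s = 1} := ⟨one_mem _, one_mul 1⟩
    rw [← Set.ncard_diff_singleton_of_mem h1, Set.ncard_eq_toFinset_card']
    refine Finset.card_le_card fun b hb => ?_
    obtain ⟨a, ha, rfl⟩ := Finset.mem_image.mp hb
    simp only [Set.mem_toFinset, Set.mem_diff, Set.mem_setOf_eq, Set.mem_singleton_iff]
    refine ⟨⟨hmem a ha, by
      rw [show a⁻¹ * t * a * (a⁻¹ * t * a) = a⁻¹ * (t * t) * a by group, ht]; simp⟩,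
      fun h => ht1 ?_⟩
    have e : t = a * (a⁻¹ * t * a) * a⁻¹ := by group
    rw [e, h, mul_one, mul_inv_cancel]

theorem tA_sq : tA * tA = 1 := by
  rw [tA, ← ev_append, ← ev_nil (L := LA)]
  exact eqA_sound (by decide +kernel)

theorem tA_ne_one : tA ≠ 1 := fun h => by
  have h1 : fw tWord 1 = 1 := fix_fw tWord_lt (x := ⟨1, by decide⟩) (by
    rw [show ev LA tWord = 1 from h, map_one, Equiv.Perm.one_apply])
  exact absurd h1 (by decide +kernel)

/-- The suborbit sizes. -/
def subV : List Nat := [1, 19530, 968750, 5812500, 2034375]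

theorem index_St_eq (n : Fin 5) :
    (frame_LG.stabN n).index = subV.getD n 0 ∧ frame_LG.stabN n = St n := by
  haveI := finite_Ly
  have hle : ∀ m : Fin 5, (frame_LG.stabN m).index ≤ subV.getD m 0 := by
    intro m
    rcases Nat.eq_zero_or_pos (m : ℕ) with h | h
    · obtain rfl : m = 0 := Fin.ext h
      rw [← ncard_orbN, orbN_zero, Set.ncard_singleton]
      exact le_rfl
    · refine Nat.le_of_dvd ?_ ((Subgroup.index_dvd_of_le (frame_LG.St_le m.2)).trans
        (index_St_dvd m h m.2))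
      exact (by decide +kernel : ∀ i < 5, 0 < subV.getD i 0) m m.2
  have hcov : Nat.card (Ly ⧸ frame_LG.H) ≤ ∑ m : Fin 5, (frame_LG.stabN m).index := by
    have hu : (Set.univ : Set (Ly ⧸ frame_LG.H)) = ⋃ m ∈ (Finset.univ : Finset (Fin 5)), orbN m := by
      ext x; simpa using orbN_cover x
    rw [← Set.ncard_univ, hu]
    refine (Finset.set_ncard_biUnion_le _ _).trans (Finset.sum_le_sum fun m _ => ?_)
    rw [ncard_orbN]
  rw [← Subgroup.index_eq_card, index_H isSimple_A] at hcov
  have hn : (frame_LG.stabN n).index = subV.getD n 0 := by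
    have h0 := hle 0
    have h1 := hle 1
    have h2 := hle 2
    have h3 := hle 3
    have h4 := hle 4
    simp only [Fin.sum_univ_five] at hcov
    simp only [subV] at h0 h1 h2 h3 h4 ⊢
    simp only [List.getD_cons_zero, List.getD_cons_succ, Fin.val_zero, Fin.val_one,
      Fin.val_two, show ((3 : Fin 5) : ℕ) = 3 from rfl, show ((4 : Fin 5) : ℕ) = 4 from rfl]
      at h0 h1 h2 h3 h4
    fin_cases n <;> simp only [Fin.reduceFinMk, Fin.zero_eta, Fin.isValue] <;>
      simp only [List.getD_cons_zero, List.getD_cons_succ, Fin.val_zero, Fin.val_one,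
        Fin.val_two, show ((3 : Fin 5) : ℕ) = 3 from rfl, show ((4 : Fin 5) : ℕ) = 4 from rfl] <;>
      simp only [Fin.reduceFinMk, Fin.val_zero, Fin.val_one, Fin.val_two,
        show ((3 : Fin 5) : ℕ) = 3 from rfl, show ((4 : Fin 5) : ℕ) = 4 from rfl] at hcov ⊢ <;>
      omega
  refine ⟨hn, ?_⟩
  rcases Nat.eq_zero_or_pos (n : ℕ) with h | h
  · obtain rfl : n = 0 := Fin.ext h
    rw [show St ((0 : Fin 5) : ℕ) = ⊤ from rfl, ← Subgroup.index_eq_one, hn]
    rfl
  · refine (Subgroup.eq_of_le_of_card_ge (frame_LG.St_le n.2) ?_).symm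
    have e1 := Subgroup.card_mul_index (St n)
    have e2 := Subgroup.card_mul_index (frame_LG.stabN n)
    have hd := Nat.le_of_dvd ((by decide +kernel : ∀ i < 5, 0 < subV.getD i 0) n n.2)
      (index_St_dvd n h n.2)
    rw [hn] at e2
    rw [← e1] at e2
    have hpos : 0 < subV.getD n 0 := (by decide +kernel : ∀ i < 5, 0 < subV.getD i 0) n n.2
    by_contra hlt
    have := Nat.mul_lt_mul_of_lt_of_le (not_le.mp hlt) hd hpos
    change Nat.card (St n) * (St n).index < Nat.card (frame_LG.stabN n) * subV.getD n 0 at this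
    omega

theorem card_St {n : Fin 5} (M : ℕ) (hM : M * subV.getD n 0 = 5859000000)
    (h0 : 0 < subV.getD n 0) : Nat.card (St n) = M := by
  have h := Subgroup.card_mul_index (frame_LG.stabN n)
  rw [(index_St_eq n).1, card_and_injective.1, ← hM] at h
  rw [← (index_St_eq n).2]
  exact Nat.eq_of_mul_eq_mul_right h0 h

/-- The bound on the fixed cosets in one suborbit. -/
theorem cosets_St (n : Fin 5) (hn : 2 ≤ (n : ℕ)) {M B : ℕ} (hM : Nat.card (St n) = M)
    (hB : {s : A | s ∈ St n ∧ s * s = 1}.ncard ≤ B) {V : ℕ}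
    (hV : 14400 * (B - 1) < M * (V + 1)) : {q : A ⧸ St n | tA • q = q}.ncard ≤ V := by
  have h := cosets_le tA tA_sq tA_ne_one (St n)
  rw [hM] at h
  have h2 := h.trans (Nat.mul_le_mul card_CA (Nat.sub_le_sub_right hB 1))
  by_contra hc
  exact absurd ((Nat.mul_le_mul_left M (not_le.mp hc : V < _)).trans h2) (not_le.mpr hV)

theorem two_stab {gens : List (List Nat)} {β γ : Fin 3906} {c : List Nat}
    (hc : ev LA c ∈ genW LA gens) (hcl : ∀ l ∈ c, l < 18) (h1 : fw c β = β) (h2 : fw c γ ≠ γ)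
    (hcard : Nat.card (genW LA gens ⊓ pstab ρ β : Subgroup A) = 2) :
    ∀ h ∈ genW LA gens ⊓ pstab ρ β, ∃ w ∈ [[], c], h = ev LA w := by
  intro h hh
  have hcm : ev LA c ∈ genW LA gens ⊓ pstab ρ β := Subgroup.mem_inf.mpr ⟨hc, by
    rw [mem_pstab, matches_ρ.fix_iff fun l hl => (hcl l hl).trans_eq len_LA.symm, ← ff_eq]
    exact h1⟩
  have hne : ev LA c ≠ 1 := fun e => h2 (fix_fw hcl (by rw [e, map_one, Equiv.Perm.one_apply]))
  haveI := Fintype.ofFinite (genW LA gens ⊓ pstab ρ β : Subgroup A)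
  by_contra hno
  simp only [List.mem_cons, List.not_mem_nil, or_false, exists_eq_or_imp, exists_eq_left, ev_nil,
    not_or] at hno
  have : ({1, ev LA c, h} : Finset A).card ≤ 2 := by
    rw [← hcard, ← Set.ncard_coe_finset]
    refine Set.ncard_le_ncard ?_ (Set.toFinite _)
    intro x hx
    simp only [Finset.coe_insert, Finset.coe_singleton, Set.mem_insert_iff,
      Set.mem_singleton_iff] at hx
    rcases hx with rfl | rfl | rfl
    exacts [one_mem _, hcm, hh]
  rw [Finset.card_eq_three.mpr ⟨1, ev LA c, h, hne.symm, Ne.symm hno.1, Ne.symm hno.2, rfl⟩] at this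
  omega

theorem three_stab {gens : List (List Nat)} {β γ : Fin 3906} {c : List Nat}
    (hc : ev LA c ∈ genW LA gens) (hcl : ∀ l ∈ c, l < 18) (h1 : fw c β = β) (h2 : fw c γ ≠ γ)
    (h3 : fw (c ++ c) γ ≠ γ)
    (hcard : Nat.card (genW LA gens ⊓ pstab ρ β : Subgroup A) = 3) :
    ∀ h ∈ genW LA gens ⊓ pstab ρ β, ∃ w ∈ [[], c, c ++ c], h = ev LA w := by
  intro h hh
  set D := (genW LA gens ⊓ pstab ρ β : Subgroup A) with hD
  have hcm : ev LA c ∈ D := Subgroup.mem_inf.mpr ⟨hc, by
    rw [mem_pstab, matches_ρ.fix_iff fun l hl => (hcl l hl).trans_eq len_LA.symm, ← ff_eq]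
    exact h1⟩
  have hne : ev LA c ≠ 1 := fun e => h2 (fix_fw hcl (by rw [e, map_one, Equiv.Perm.one_apply]))
  have hne2 : ev LA c * ev LA c ≠ 1 := fun e =>
    h3 (fix_fw (fun l hl => (List.mem_append.mp hl).elim (hcl l) (hcl l))
      (by rw [ev_append, e, map_one, Equiv.Perm.one_apply]))
  have hne3 : ev LA c * ev LA c ≠ ev LA c := fun e => hne (mul_eq_left.mp e)
  by_contra hno
  simp only [List.mem_cons, List.not_mem_nil, or_false, exists_eq_or_imp, exists_eq_left, ev_nil,
    ev_append, not_or] at hno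
  have : ({1, ev LA c, ev LA c * ev LA c, h} : Finset A).card ≤ 3 := by
    rw [← hcard, ← Set.ncard_coe_finset]
    refine Set.ncard_le_ncard ?_ (Set.toFinite _)
    intro x hx
    simp only [Finset.coe_insert, Finset.coe_singleton, Set.mem_insert_iff,
      Set.mem_singleton_iff] at hx
    rcases hx with rfl | rfl | rfl | rfl
    exacts [one_mem _, hcm, mul_mem hcm hcm, hh]
  rw [Finset.card_insert_of_notMem, Finset.card_eq_three.mpr
    ⟨ev LA c, ev LA c * ev LA c, h, Ne.symm hne3, Ne.symm hno.2.1, Ne.symm hno.2.2, rfl⟩] at this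
  · omega
  · simp only [Finset.mem_insert, Finset.mem_singleton, not_or]
    exact ⟨hne.symm, hne2.symm, Ne.symm hno.1⟩

theorem card_stab_orbit {gens : List (List Nat)} {β : Fin 3906} {m dm k : Nat}
    {P' Inv : Nat → Nat} (hc : checkOrbit TP.Tb β m dm gens P' Inv = true)
    (hcl : checkClosed TP.Tb m dm gens P' Inv = true) (hl : checkLetters 18 gens = true)
    (hm0 : 0 < m) (hcard : Nat.card (genW LA gens) = m * k) :
    Nat.card (genW LA gens ⊓ pstab ρ β : Subgroup A) = k := by
  have h := card_orb_mul (ρ := ρ) (genW LA gens) β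
  rw [show (orb ρ (genW LA gens) β).ncard = m from
    matches_ρ.orbit_eq hc hcl (by rw [len_LA]; exact hl) hm0, hcard] at h
  exact Nat.eq_of_mul_eq_mul_left hm0 h

theorem card_two : Nat.card (genW LA cv2G) = 2016 * 3 :=
  card_St (n := 2) 6048 (by decide +kernel) (by decide +kernel)

theorem card_three : Nat.card (genW LA cv3G) = 1008 * 1 :=
  card_St (n := 3) 1008 (by decide +kernel) (by decide +kernel)

theorem card_four : Nat.card (genW LA cv4G) = 1440 * 2 :=
  card_St (n := 4) 2880 (by decide +kernel) (by decide +kernel)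

attribute [local irreducible] cntSq

theorem invol_St2 : {s : A | s ∈ St 2 ∧ s * s = 1}.ncard ≤ 64 := by
  obtain ⟨h1, h2, h3, -, -⟩ := cw_ok
  have hmem : ev LA cw2 ∈ genW LA cv2G :=
    mem_of_checkExpr (exprs := C21E) (ws := C21G) (by decide +kernel) _ cw_lt.2.2.1
  have hk := card_stab_orbit (β := (3528 : Fin 3906)) (m := 2016) (dm := 11) (k := 3)
    (P' := C20P) (Inv := C20Inv) (gens := cv2G) (by decide +kernel) (by decide +kernel) gens_lt.1
    (by norm_num) card_two
  have h := invol_le (β := (3528 : Fin 3906)) (γ := (376 : Fin 3906)) (P' := C20P)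
    (Inv := C20Inv) (m := 2016) (dm := 11) (gens := cv2G) (by decide +kernel) (by decide +kernel)
    gens_lt.1 (by norm_num) wd_len.1 wd2_inc (cs := [[], cw2, cw2 ++ cw2])
    (by simp only [List.mem_cons, List.not_mem_nil, or_false]
        rintro c (rfl | rfl | rfl) l hl
        · simp at hl
        · exact cw_lt.1 l hl
        · exact (List.mem_append.mp hl).elim (cw_lt.1 l) (cw_lt.1 l))
    (three_stab (β := (3528 : Fin 3906)) (γ := (376 : Fin 3906)) hmem cw_lt.1 h1 h2 h3 hk)
  refine h.trans ?_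
  simpa [add_assoc] using wd2_count

theorem invol_St3 : {s : A | s ∈ St 3 ∧ s * s = 1}.ncard ≤ 106 := by
  have hk := card_stab_orbit (β := (1515 : Fin 3906)) (m := 1008) (dm := 10) (k := 1)
    (P' := C30P) (Inv := C30Inv) (gens := cv3G) (by decide +kernel) (by decide +kernel)
    gens_lt.2.1 (by norm_num) card_three
  have h := invol_le (β := (1515 : Fin 3906)) (γ := (1515 : Fin 3906)) (P' := C30P)
    (Inv := C30Inv) (m := 1008) (dm := 10) (gens := cv3G) (by decide +kernel) (by decide +kernel)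
    gens_lt.2.1 (by norm_num) wd_len.2.1 wd3_inc (cs := [[]]) (by simp)
    (fun x hx => ⟨[], by simp, by
      rw [Subgroup.eq_bot_of_card_eq _ hk, Subgroup.mem_bot] at hx
      rw [hx, ev_nil]⟩)
  exact h.trans (by simpa using wd3_count)

theorem invol_St4 : {s : A | s ∈ St 4 ∧ s * s = 1}.ncard ≤ 212 := by
  obtain ⟨-, -, -, h1, h2⟩ := cw_ok
  have hmem : ev LA cw4 ∈ genW LA cv4G :=
    mem_of_checkExpr (exprs := C41E) (ws := C41G) (by decide +kernel) _ cw_lt.2.2.2
  have hk := card_stab_orbit (β := (2398 : Fin 3906)) (m := 1440) (dm := 11) (k := 2)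
    (P' := C40P) (Inv := C40Inv) (gens := cv4G) (by decide +kernel) (by decide +kernel)
    gens_lt.2.2 (by norm_num) card_four
  have h := invol_le (β := (2398 : Fin 3906)) (γ := (757 : Fin 3906)) (P' := C40P)
    (Inv := C40Inv) (m := 1440) (dm := 11) (gens := cv4G) (by decide +kernel) (by decide +kernel)
    gens_lt.2.2 (by norm_num) wd_len.2.2 wd4_inc (cs := [[], cw4])
    (by simp only [List.mem_cons, List.not_mem_nil, or_false]
        rintro c (rfl | rfl) l hl
        · simp at hl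
        · exact cw_lt.2.1 l hl)
    (two_stab (β := (2398 : Fin 3906)) (γ := (757 : Fin 3906)) hmem cw_lt.2.1 h1 h2 hk)
  exact h.trans (by simpa using wd4_count)

theorem Ψ_tA : frame_LG.Ψ tA = ev LG tWord := frame_LG.Ψ_ev _ tWord_lt

/-- The fixed points of the involution in one suborbit. -/
theorem fix_orbN {n : Fin 5} {V : ℕ} (h : {q : A ⧸ St n | tA • q = q}.ncard ≤ V) :
    {x ∈ orbN n | tA • x = x}.ncard ≤ V := by
  haveI := finite_Ly
  refine le_trans ?_ h
  rw [← (index_St_eq n).2, ← stab_pt]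
  refine le_trans (Set.ncard_le_ncard
    (t := MulAction.ofQuotientStabilizer A (pt n) ''
      {q : A ⧸ MulAction.stabilizer A (pt n) | tA • q = q}) ?_ (Set.toFinite _))
    (Set.ncard_image_le (Set.toFinite _))
  rintro x ⟨⟨a, rfl⟩, hx⟩
  exact ⟨QuotientGroup.mk a, MulAction.injective_ofQuotientStabilizer A (pt n)
    ((MulAction.ofQuotientStabilizer_smul A (pt n) tA _).trans hx), rfl⟩

theorem card_cent : Nat.card (Subgroup.centralizer {ev LG tWord}) ≤ 39916800 := by
  haveI := finite_Ly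
  have hfix : {x : Ly ⧸ frame_LG.H | tA • x = x}.ncard ≤ 2772 := by
    refine le_trans (Set.ncard_le_ncard (t := ⋃ m ∈ (Finset.univ : Finset (Fin 5)),
      {x ∈ orbN m | tA • x = x}) ?_ (Set.toFinite _)) ((Finset.set_ncard_biUnion_le _ _).trans ?_)
    · intro x hx
      obtain ⟨n, hn⟩ := orbN_cover x
      simp only [Finset.mem_univ, Set.iUnion_true, Set.mem_iUnion]
      exact ⟨n, hn, hx⟩
    · rw [Fin.sum_univ_five]
      have b0 : {x ∈ orbN 0 | tA • x = x}.ncard ≤ 1 :=
        (Set.ncard_le_ncard (fun x hx => hx.1) (Set.toFinite _)).trans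
          (le_of_eq (by rw [orbN_zero, Set.ncard_singleton]))
      have b1 := fix_orbN (n := 1) cosets_K0
      have b2 := fix_orbN (n := 2) (cosets_St 2 (by decide)
        (card_St (n := 2) 6048 (by decide +kernel) (by decide +kernel)) invol_St2 (V := 150)
        (by norm_num))
      have b3 := fix_orbN (n := 3) (cosets_St 3 (by decide)
        (card_St (n := 3) 1008 (by decide +kernel) (by decide +kernel)) invol_St3 (V := 1500)
        (by norm_num))
      have b4 := fix_orbN (n := 4) (cosets_St 4 (by decide)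
        (card_St (n := 4) 2880 (by decide +kernel) (by decide +kernel)) invol_St4 (V := 1055)
        (by norm_num))
      omega
  set C := Subgroup.centralizer ({ev LG tWord} : Set Ly)
  set o : Ly ⧸ frame_LG.H := QuotientGroup.mk 1
  have horb : MulAction.orbit C o ⊆ {x | tA • x = x} := by
    rintro _ ⟨c, rfl⟩
    show (QuotientGroup.mk (frame_LG.Ψ tA * ((c : Ly) * 1)) : Ly ⧸ frame_LG.H) =
      QuotientGroup.mk ((c : Ly) * 1)
    rw [Ψ_tA, QuotientGroup.eq, mul_one, ← Subgroup.mem_centralizer_singleton_iff.mp c.2]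
    have := frame_LG.mem_H (w := tWord) tWord_lt
    simpa [mul_assoc] using inv_mem this
  have hst : Nat.card (MulAction.stabilizer C o) ≤ Nat.card CA := by
    have hex : ∀ c : MulAction.stabilizer C o, ∃ a : CA, frame_LG.Ψ a = ((c : C) : Ly) := by
      intro c
      have h := MulAction.mem_stabilizer_iff.mp c.2
      change (QuotientGroup.mk (((c : C) : Ly) * 1) : Ly ⧸ frame_LG.H) = QuotientGroup.mk 1 at h
      rw [QuotientGroup.eq, mul_one, mul_one, inv_mem_iff] at h
      obtain ⟨a, ha⟩ := h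
      refine ⟨⟨a, Subgroup.mem_centralizer_singleton_iff.mpr
        (Ψ_injective isSimple_A ?_)⟩, ha⟩
      rw [map_mul, map_mul, ha, Ψ_tA]
      exact Subgroup.mem_centralizer_singleton_iff.mp (c : C).2
    choose f hf using hex
    exact Nat.card_le_card_of_injective f fun c c' h =>
      Subtype.ext (Subtype.ext ((hf c).symm.trans (h ▸ hf c')))
  calc Nat.card C = (MulAction.orbit C o).ncard * Nat.card (MulAction.stabilizer C o) := by
        rw [← Subgroup.card_mul_index (MulAction.stabilizer C o), MulAction.index_stabilizer,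
          mul_comm]
    _ ≤ 2772 * 14400 := Nat.mul_le_mul ((Set.ncard_le_ncard horb (Set.toFinite _)).trans hfix)
        (hst.trans card_CA)
    _ = 39916800 := by norm_num

end CfsgLib.Coset.Ly
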