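import Mathlib.Data.List.Basic

set_option autoImplicit false

namespace CfsgLib.Coset.Ly

/-- The generators of a level in those of the subgroup. -/
def CK1E : List (List Nat) := [[0, 6, 7, 6, 3, 6, 0, 7, 5], [7, 2, 0, 5, 6, 1, 1], [0, 5, 7, 5, 4, 6, 1, 1], [5, 5, 2, 6, 1, 6, 7, 6]]

/-- The generators of a level in those of the subgroup. -/
def C21E : List (List Nat) := [[3, 2, 3, 0, 2, 1], [3, 1, 3, 3, 0, 0]]

/-- The generators of a level in those of the subgroup. -/
def C41E : List (List Nat) := [[2, 0, 0, 5, 0]]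

end CfsgLib.Coset.Ly
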