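import Cfsg.Agent.Coset.Ly.Frame
import Cfsg.Agent.Coset.Ly.CoverData
import Cfsg.Agent.Coset.Ly.ChainExpr

/-!
The subgroups of the model fixing the nodes: lower bounds for their orders.
-/

set_option autoImplicit false
set_option maxRecDepth 100000
set_option Elab.async false

namespace CfsgLib.Coset.Ly

/-- The subgroup normalised by `z`. -/
noncomputable abbrev K0 : Subgroup A := genW LA kgW

/-- The stabilising subgroup of a node. -/
noncomputable def St : Nat → Subgroup A
  | 0 => ⊤
  | 1 => K0
  | 2 => genW LA cv2G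
  | 3 => genW LA cv3G
  | _ => genW LA cv4G

/-- The words are equal to the listed products of the generators. -/
noncomputable def checkExpr (gens ws exprs : List (List Nat)) : Bool :=
  cond (Nat.beq ws.length exprs.length)
    (allList (fun q : List Nat × List Nat => eqA (flatW gens q.2) q.1) (ws.zip exprs)) false

theorem ev_flatW_mem (gens : List (List Nat)) : ∀ ids : List Nat,
    ev LA (flatW gens ids) ∈ genW LA gens := by
  intro ids
  induction ids with
  | nil => simp [flatW]
  | cons i ids ih =>
    have e : flatW gens (i :: ids) = gens.getD i [] ++ flatW gens ids := by simp [flatW]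
    rw [e, ev_append]
    refine mul_mem ?_ ih
    rcases lt_or_ge i gens.length with hi | hi
    · rw [List.getD_eq_getElem _ _ hi]; exact ev_mem_genW (List.getElem_mem hi)
    · rw [List.getD_eq_default _ _ hi]; exact one_mem _

theorem mem_of_checkExpr {gens ws exprs : List (List Nat)} (h : checkExpr gens ws exprs = true) :
    ∀ w ∈ ws, ev LA w ∈ genW LA gens := by
  unfold checkExpr at h
  rw [cond_false_eq_true] at h
  intro w hw
  obtain ⟨i, hi, rfl⟩ := List.getElem_of_mem hw
  have hi' : i < exprs.length := Nat.eq_of_beq_eq_true h.1 ▸ hi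
  have := allList_iff.mp h.2 (ws[i], exprs[i]) (by
    refine List.mem_iff_getElem.mpr ⟨i, by simp [hi, hi'], by simp⟩)
  rw [← eqA_sound this]
  exact ev_flatW_mem gens _

theorem card_K0_ge : 300000 ≤ Nat.card K0 := by
  have h1 := orbit_step_in matches_ρ K0 (base := [(2144 : Fin 3906)]) (β := 3808) (m := 96)
    (dm := 7) (gens := CK1G) (P := CK1P) (Inv := CK1Inv)
    (by decide +kernel) (by rw [len_LA]; decide +kernel) (by decide +kernel)
    (mem_of_checkExpr (exprs := CK1E) (by decide +kernel))
    (show 1 ≤ Nat.card (K0 ⊓ baseStab ρ [(2144 : Fin 3906), 3808] : Subgroup A) from Nat.card_pos)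
  have h0 := orbit_step_in matches_ρ K0 (base := []) (β := 2144) (m := 3125) (dm := 12)
    (gens := CK0G) (P := CK0P) (Inv := CK0Inv)
    (by decide +kernel) (by rw [len_LA]; decide +kernel) (by decide +kernel)
    (fun w hw => ev_mem_genW ((by decide +kernel : ∀ w ∈ CK0G, w ∈ kgW) w hw)) h1
  simpa [baseStab] using h0

theorem card_St2_ge : 6048 ≤ Nat.card (St 2) := by
  show 6048 ≤ Nat.card (genW LA cv2G)
  have h1 := orbit_step_in matches_ρ (genW LA cv2G) (base := [(3528 : Fin 3906)]) (β := 376)
    (m := 3) (dm := 2) (gens := C21G) (P := C21P) (Inv := C21Inv)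
    (by decide +kernel) (by rw [len_LA]; decide +kernel) (by decide +kernel)
    (mem_of_checkExpr (exprs := C21E) (by decide +kernel))
    (show 1 ≤ Nat.card (genW LA cv2G ⊓ baseStab ρ [(3528 : Fin 3906), 376] : Subgroup A) from
      Nat.card_pos)
  have h0 := orbit_step_in matches_ρ (genW LA cv2G) (base := []) (β := 3528) (m := 2016) (dm := 11)
    (gens := C20G) (P := C20P) (Inv := C20Inv)
    (by decide +kernel) (by rw [len_LA]; decide +kernel) (by decide +kernel)
    (fun w hw => ev_mem_genW ((by decide +kernel : ∀ w ∈ C20G, w ∈ cv2G) w hw)) h1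
  simpa [baseStab] using h0

theorem card_St3_ge : 1008 ≤ Nat.card (St 3) := by
  show 1008 ≤ Nat.card (genW LA cv3G)
  have h0 := orbit_step_in matches_ρ (genW LA cv3G) (base := []) (β := 1515) (m := 1008) (dm := 10)
    (gens := C30G) (P := C30P) (Inv := C30Inv)
    (by decide +kernel) (by rw [len_LA]; decide +kernel) (by decide +kernel)
    (fun w hw => ev_mem_genW ((by decide +kernel : ∀ w ∈ C30G, w ∈ cv3G) w hw))
    (show 1 ≤ Nat.card (genW LA cv3G ⊓ baseStab ρ [(1515 : Fin 3906)] : Subgroup A) from
      Nat.card_pos)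
  simpa [baseStab] using h0

theorem card_St4_ge : 2880 ≤ Nat.card (St 4) := by
  show 2880 ≤ Nat.card (genW LA cv4G)
  have h1 := orbit_step_in matches_ρ (genW LA cv4G) (base := [(2398 : Fin 3906)]) (β := 757)
    (m := 2) (dm := 1) (gens := C41G) (P := C41P) (Inv := C41Inv)
    (by decide +kernel) (by rw [len_LA]; decide +kernel) (by decide +kernel)
    (mem_of_checkExpr (exprs := C41E) (by decide +kernel))
    (show 1 ≤ Nat.card (genW LA cv4G ⊓ baseStab ρ [(2398 : Fin 3906), 757] : Subgroup A) from
      Nat.card_pos)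
  have h0 := orbit_step_in matches_ρ (genW LA cv4G) (base := []) (β := 2398) (m := 1440) (dm := 11)
    (gens := C40G) (P := C40P) (Inv := C40Inv)
    (by decide +kernel) (by rw [len_LA]; decide +kernel) (by decide +kernel)
    (fun w hw => ev_mem_genW ((by decide +kernel : ∀ w ∈ C40G, w ∈ cv4G) w hw)) h1
  simpa [baseStab] using h0

end CfsgLib.Coset.Ly
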