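import Cfsg.Agent.Coset.Ly.Derive
import Cfsg.Agent.Coset.Ly.Sub

/-!
Every double coset of a stabilising subgroup and the subgroup normalised by `z` contains a fact.
-/

set_option autoImplicit false
set_option maxRecDepth 100000
set_option Elab.async false

namespace CfsgLib.Coset.Ly

section Kernel

/-- Every point is a root or is reached from an earlier one. -/
noncomputable def forestF (gens : List (List Nat)) (Par : Nat → Nat) (roots : List Nat) : Bool :=
  allBelow 12 3906 fun i =>
    cond (List.rec false (fun r _ ih => cond (Nat.beq r i) true ih) roots) true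
      (cond (Nat.ble (Nat.add (field (Par i) 0) 1) 3906)
        (cond (Nat.ble (Nat.add (field (Par (field (Par i) 0)) 2) 1) (field (Par i) 2))
          (Nat.beq (ff (tget TP.Tb) (field (Par i) 0) (gens.getD (field (Par i) 1) [])) i) false)
        false)

/-- One coset of a root. -/
noncomputable def coverAt (n : Nat) (ids : List Nat) (e : List Nat) (c : Cert) : Bool :=
  cond (Nat.ble (Nat.add c.1 1) factL.length)
    (cond (Nat.beq (factAt c.1).1 n)
      (cond (allList (fun i => List.rec false (fun r _ ih => cond (Nat.beq r i) true ih) ids) c.2.1)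
        (eqA e (stWord c.2.1 ++ (factAt c.1).2.1 ++ flatW kgW c.2.2)) false) false) false

/-- One root. -/
noncomputable def rowAt (n : Nat) (ids : List Nat) (q : Nat × List Nat × List Cert) : Bool :=
  cond (Nat.beq (ff (tget TP.Tb) 0 (invW q.2.1)) q.1)
    (cond (lettersA q.2.1)
      (cond (Nat.beq q.2.2.length coR.length)
        (allList (fun rc : List Nat × Cert => coverAt n ids (q.2.1 ++ rc.1) rc.2) (coR.zip q.2.2))
        false) false) false

/-- The representatives are closed under a generator. -/
noncomputable def closeAt (q : Nat × List (Nat × List Nat)) : Bool :=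
  cond (Nat.beq q.2.length coR.length)
    (allList (fun rc : List Nat × (Nat × List Nat) =>
      cond (Nat.ble (Nat.add rc.2.1 1) coR.length)
        (eqA (q.1 :: rc.1) (coR.getD rc.2.1 [] ++ flatW kgW rc.2.2)) false) (coR.zip q.2)) false

end Kernel

theorem invW_lt {w : List Nat} (h : ∀ l ∈ w, l < 18) : ∀ l ∈ invW w, l < 18 := by
  intro l hl
  simp only [invW, List.mem_reverse, List.mem_map] at hl
  obtain ⟨x, hx, rfl⟩ := hl
  exact (pairsA x (h x hx)).1

theorem ev_invW_LA : ∀ w : List Nat, (∀ l ∈ w, l < 18) → ev LA (invW w) = (ev LA w)⁻¹ := by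
  intro w
  induction w with
  | nil => simp [invW]
  | cons x w ih =>
    intro hw
    have e : invW (x :: w) = invW w ++ [Nat.xor x 1] := by simp [invW]
    rw [e, ev_append, ih fun y hy => hw y (by simp [hy])]
    simp only [ev_cons, ev_nil, mul_one, mul_inv_rev]
    rw [inv_eq_of_mul_eq_one_right (pairsA x (hw x (by simp))).2]

theorem P_eq : P.index = 3906 ∧ P = pstab ρ ⟨0, by decide⟩ :=
  exact_index top_table matches_ρ (by decide) (len_LA.symm ▸ TP.htrans) closure_LA
    (genW_le_pstab matches_ρ _ (by rw [len_LA]; decide +kernel) (by decide +kernel))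

theorem close_ok : allList closeAt coClose = true := by decide +kernel

theorem P_cover {p : A} (hp : p ∈ P) :
    ∃ r ∈ coR, ∃ q ∈ K0, p = ev LA r * q := by
  have hstep : ∀ l : Nat, l ∈ coClose.map Prod.fst → ∀ y : A, (∃ r ∈ coR, ∃ q ∈ K0, y = ev LA r * q) →
      ∃ r ∈ coR, ∃ q ∈ K0, fl LA l * y = ev LA r * q := by
    intro l hl y hy
    obtain ⟨r, hr, q, hq, rfl⟩ := hy
    obtain ⟨e, he, rfl⟩ := List.mem_map.mp hl
    have h := allList_iff.mp close_ok e he
    unfold closeAt at h
    rw [cond_false_eq_true] at h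
    obtain ⟨i, hi, rfl⟩ := List.getElem_of_mem hr
    have hi' : i < e.2.length := Nat.eq_of_beq_eq_true h.1 ▸ hi
    have h2 := allList_iff.mp h.2 (coR[i], e.2[i])
      (List.mem_iff_getElem.mpr ⟨i, by simp [hi, hi'], by simp⟩)
    simp only [cond_false_eq_true] at h2
    have hj : e.2[i].1 < coR.length := Nat.ble_eq.mp h2.1
    refine ⟨coR[e.2[i].1], List.getElem_mem hj, _, mul_mem (ev_flatW_mem kgW e.2[i].2) hq, ?_⟩
    have h3 := eqA_sound h2.2
    rw [ev_cons, ev_append, List.getD_eq_getElem _ _ hj] at h3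
    rw [← mul_assoc, h3, mul_assoc]
  have hsub : ∀ w ∈ TP.subs, ∃ l, w = [l] ∧ l < 18 ∧ l ∈ coClose.map Prod.fst ∧
      Nat.xor l 1 ∈ coClose.map Prod.fst := by
    have : ∀ w ∈ TP.subs, w.length = 1 ∧ w.getD 0 0 < 18 ∧ w.getD 0 0 ∈ coClose.map Prod.fst ∧
        Nat.xor (w.getD 0 0) 1 ∈ coClose.map Prod.fst := by decide +kernel
    intro w hw
    obtain ⟨h1, h2, h3, h4⟩ := this w hw
    match w, h1 with
    | [l], _ => exact ⟨l, rfl, h2, h3, h4⟩
  induction hp using Subgroup.closure_induction_left with
  | one => exact ⟨[], (by decide +kernel : ([] : List Nat) ∈ coR), 1, one_mem _, by simp⟩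
  | mul_left x hx y _ ih =>
    obtain ⟨w, hw, rfl⟩ := hx
    obtain ⟨l, rfl, -, hl, -⟩ := hsub w hw
    simpa using hstep l hl y ih
  | inv_mul_cancel x hx y _ ih =>
    obtain ⟨w, hw, rfl⟩ := hx
    obtain ⟨l, rfl, hlt, -, hl⟩ := hsub w hw
    have : (ev LA [l])⁻¹ = fl LA (Nat.xor l 1) := by
      rw [ev_cons, ev_nil, mul_one, inv_eq_of_mul_eq_one_right (pairsA l hlt).2]
    rw [this]
    exact hstep _ hl y ih

theorem forest_cover {gens : List (List Nat)} {Par : Nat → Nat} {roots : List Nat}
    (hc : forestF gens Par roots = true) (hl : checkLetters LA.length gens = true)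
    (i : Fin 3906) : ∃ r ∈ roots, ∃ β : Fin 3906, (β : Nat) = r ∧ i ∈ orb ρ (genW LA gens) β := by
  obtain ⟨d, hd⟩ : ∃ d, field (Par i) 2 = d := ⟨_, rfl⟩
  induction d using Nat.strong_induction_on generalizing i with
  | _ d ih =>
    have h : cond (List.rec false (fun r _ ih => cond (Nat.beq r i) true ih) roots) true _ = true :=
      of_allBelow hc i i.2
    cases hr : (List.rec false (fun r _ ih => cond (Nat.beq r (i : Nat)) true ih) roots : Bool)
    · rw [hr, cond_false, cond_false_eq_true, cond_false_eq_true] at h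
      obtain ⟨h1, h2, h3⟩ := h
      obtain ⟨r, hr', β, hβ, g, hg, hge⟩ := ih (field (Par (field (Par i) 0)) 2)
        (hd ▸ Nat.ble_eq.mp h2) ⟨_, Nat.ble_eq.mp h1⟩ rfl
      refine ⟨r, hr', β, hβ, (ev LA (gens.getD (field (Par i) 1) []))⁻¹ * g, ?_, ?_⟩
      · refine mul_mem (inv_mem ?_) hg
        rcases lt_or_ge (field (Par i) 1) gens.length with hi | hi
        · rw [List.getD_eq_getElem _ _ hi]; exact ev_mem_genW (List.getElem_mem hi)
        · rw [List.getD_eq_default _ _ hi]; exact one_mem _
      · rw [ff_eq] at h3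
        rw [map_mul, Equiv.Perm.mul_apply, hge, map_inv]
        exact Fin.ext ((matches_ρ.follow_eq _ _ (letters_getD hl _)).trans
          (Nat.eq_of_beq_eq_true h3))
    · have : (i : Nat) ∈ roots := by
        clear h ih hd hc
        induction roots with
        | nil => simp at hr
        | cons a t iht =>
          change cond (Nat.beq a i) true _ = true at hr
          cases hb : Nat.beq a (i : Nat)
          · rw [hb, cond_false] at hr; exact List.mem_cons_of_mem _ (iht hr)
          · simp [Nat.eq_of_beq_eq_true hb]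
      exact ⟨i, this, i, rfl, self_mem_orb _ i⟩

theorem stWord_mem {S : Subgroup A} {ids : List Nat} (h : ∀ i ∈ ids, ev LA (stAt i).2 ∈ S) :
    ev LA (stWord ids) ∈ S := by
  induction ids with
  | nil => simp [stWord]
  | cons i ids ih =>
    rw [show stWord (i :: ids) = (stAt i).2 ++ stWord ids by simp [stWord], ev_append]
    exact mul_mem (h i (by simp)) (ih fun j hj => h j (by simp [hj]))

theorem mem_of_rec {i : Nat} : ∀ {l : List Nat},
    List.rec false (fun r _ ih => cond (Nat.beq r i) true ih) l = true → i ∈ l := by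
  intro l
  induction l with
  | nil => intro h; simp at h
  | cons a t ih =>
    intro h
    change cond (Nat.beq a i) true _ = true at h
    cases hb : Nat.beq a i
    · rw [hb, cond_false] at h; exact List.mem_cons_of_mem _ (ih h)
    · simp [Nat.eq_of_beq_eq_true hb]

theorem cover_node {n : Nat} {ids : List Nat} {gens : List (List Nat)} {Par : Nat → Nat}
    {rows : List (Nat × List Nat × List Cert)}
    (hf : forestF gens Par (rows.map Prod.fst) = true) (hl : checkLetters LA.length gens = true)
    (hrows : allList (rowAt n ids) rows = true)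
    (hids : ∀ i ∈ ids, (stAt i).2 ∈ gens) (a : A) :
    ∃ j < factL.length, (factAt j).1 = n ∧
      ∃ g ∈ genW LA gens, ∃ q ∈ K0, a = g * ev LA (factAt j).2.1 * q := by
  obtain ⟨r, hr, β, hβ, g, hg, hge⟩ := forest_cover hf hl (ρ a ⟨0, by decide⟩)
  obtain ⟨row, hrow, rfl⟩ := List.mem_map.mp hr
  have h := allList_iff.mp hrows row hrow
  unfold rowAt at h
  simp only [cond_false_eq_true] at h
  obtain ⟨h1, h2, h3, h4⟩ := h
  have hT := of_lettersA h2
  have hβT : ρ (ev LA row.2.1) ⟨0, by decide⟩ = β := by
    refine Fin.ext ?_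
    rw [hβ, ← Nat.eq_of_beq_eq_true h1, ff_eq]
    have := matches_ρ.follow_eq (invW row.2.1) ⟨0, by decide⟩
      (by rw [len_LA]; exact invW_lt hT)
    rw [ev_invW_LA _ hT, map_inv, inv_inv] at this
    exact this
  have hp : (g * ev LA row.2.1)⁻¹ * a ∈ P := by
    rw [P_eq.2, mem_pstab, map_mul, map_inv, Equiv.Perm.mul_apply, ← hge, ← hβT, map_mul,
      ← Equiv.Perm.mul_apply (ρ g), Equiv.Perm.inv_def, Equiv.symm_apply_apply]
  obtain ⟨rr, hrr, q, hq, he⟩ := P_cover hp
  obtain ⟨i, hi, rfl⟩ := List.getElem_of_mem hrr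
  have hi' : i < row.2.2.length := Nat.eq_of_beq_eq_true h3 ▸ hi
  have hc := allList_iff.mp h4 (coR[i], row.2.2[i])
    (List.mem_iff_getElem.mpr ⟨i, by simp [hi, hi'], by simp⟩)
  unfold coverAt at hc
  simp only [cond_false_eq_true] at hc
  obtain ⟨hj, hn, hs, hee⟩ := hc
  set c := row.2.2[i]
  refine ⟨c.1, Nat.ble_eq.mp hj, Nat.eq_of_beq_eq_true hn, g * ev LA (stWord c.2.1),
    mul_mem hg (stWord_mem fun k hk => ev_mem_genW (hids k (mem_of_rec (allList_iff.mp hs k hk)))),
    ev LA (flatW kgW c.2.2) * q, mul_mem (ev_flatW_mem kgW _) hq, ?_⟩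
  have h5 := eqA_sound hee
  simp only [ev_append] at h5
  have h6 : a = g * ev LA row.2.1 * (ev LA coR[i] * q) := by rw [← he, mul_inv_cancel_left]
  rw [h6]
  calc g * ev LA row.2.1 * (ev LA coR[i] * q)
      = g * (ev LA row.2.1 * ev LA coR[i]) * q := by simp [mul_assoc]
    _ = _ := by rw [h5]; simp [mul_assoc]

theorem forest1 : forestF cv1G cv1Par (cv1Rows.map Prod.fst) = true := by decide +kernel
theorem forest2 : forestF cv2G cv2Par (cv2Rows.map Prod.fst) = true := by decide +kernel
theorem forest3 : forestF cv3G cv3Par (cv3Rows.map Prod.fst) = true := by decide +kernel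
theorem forest4 : forestF cv4G cv4Par (cv4Rows.map Prod.fst) = true := by decide +kernel
theorem rows1 : allList (rowAt 1 cv1Ids) cv1Rows = true := by decide +kernel
theorem rows2 : allList (rowAt 2 cv2Ids) cv2Rows = true := by decide +kernel
theorem rows3 : allList (rowAt 3 cv3Ids) cv3Rows = true := by decide +kernel
theorem rows4 : allList (rowAt 4 cv4Ids) cv4Rows = true := by decide +kernel

/-- Double coset covering for the nodes other than the first. -/
theorem cover (n : Nat) (h1 : 1 ≤ n) (h4 : n ≤ 4) (a : A) :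
    ∃ j < factL.length, (factAt j).1 = n ∧
      ∃ g ∈ St n, ∃ q ∈ K0, a = g * ev LA (factAt j).2.1 * q := by
  interval_cases n
  · show ∃ j < factL.length, _ ∧ ∃ g ∈ genW LA kgW, _
    rw [show kgW = cv1G by decide +kernel]
    have := cover_node forest1 (by rw [len_LA]; decide +kernel) rows1 (by decide +kernel) a
    simpa [K0, show kgW = cv1G by decide +kernel] using this
  · exact cover_node forest2 (by rw [len_LA]; decide +kernel) rows2 (by decide +kernel) a
  · exact cover_node forest3 (by rw [len_LA]; decide +kernel) rows3 (by decide +kernel) a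
  · exact cover_node forest4 (by rw [len_LA]; decide +kernel) rows4 (by decide +kernel) a

end CfsgLib.Coset.Ly
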