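import Cfsg.Agent.Coset.Ly.Sub
import Cfsg.Agent.Coset.Ly.InvData
import Cfsg.Agent.Coset.Ly.Cover

/-!
The finite checks behind the bound for the centralizer of an involution.
-/

set_option autoImplicit false
set_option maxRecDepth 100000

namespace CfsgLib.Coset.Ly

section Kernel

/-- The image of a point under a word. -/
noncomputable def fw (w : List Nat) (i : Nat) : Nat := ff (tget TP.Tb) i w

/-- Membership in a list of numbers. -/
noncomputable def memB (l : List Nat) (i : Nat) : Bool :=
  List.rec false (fun b _ ih => cond (Nat.beq i b) true ih) l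

/-- The involution fixes exactly the listed points. -/
noncomputable def checkFixL : Bool :=
  allBelow 12 3906 fun i => cond (Nat.beq (fw tWord i) i) (memB fixL i)
    (cond (memB fixL i) false true)

/-- Membership in the large orbit of the point stabiliser. -/
noncomputable def isO (y : Nat) : Bool :=
  cond (Nat.ble (Nat.add (field (CK0Inv y) 0) 1) 3125) (Nat.beq (opt CK0P (field (CK0Inv y) 0)) y)
    false

/-- The number of fixed points opposite to the `k`-th one. -/
noncomputable def oppN (k : Nat) : Nat :=
  (fixL.filter fun y => isO (fw (invW (fixW.getD k [])) y)).length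

/-- The index of the block of a point. -/
noncomputable def blk (x : Nat) : Nat :=
  cond (memB (blkL.getD 0 []) x) 0 (cond (memB (blkL.getD 1 []) x) 1
    (cond (memB (blkL.getD 2 []) x) 2 3))

/-- A word permutes the three blocks. -/
noncomputable def blkTest (h : List Nat) : Bool :=
  allList (fun B => allList (fun x => cond (Nat.ble (Nat.add (blk (fw h x)) 1) 3)
    (Nat.beq (blk (fw h x)) (blk (fw h (B.getD 0 0)))) false) B) blkL

/-- The conjugate of the involution attached to a coset of the subgroup of index five. -/
noncomputable def cosW (k i : Nat) : List Nat :=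
  invW (coR.getD i []) ++ (fixW.getD k [] ++ (tWord ++ (invW (fixW.getD k []) ++ coR.getD i [])))

/-- A number greater than all previous ones. -/
noncomputable def incB (prev : Nat) (l : List Nat) : Bool :=
  List.rec (motive := fun _ => Nat → Bool) (fun _ => true)
    (fun a _ ih prev => cond (Nat.ble prev a) (ih (Nat.add a 1)) false) l prev

/-- A word may square to one, as seen at two points. -/
noncomputable def sqTest (b c : Nat) (w : List Nat) : Bool :=
  cond (Nat.beq (fw (w ++ w) b) b) (Nat.beq (fw (w ++ w) c) c) false

/-- The number of such words. -/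
noncomputable def cntSq (b c : Nat) (G : List (List Nat)) (pre : List Nat)
    (wd : List (List Nat)) : Nat :=
  List.rec 0 (fun ids _ ih => cond (sqTest b c (pre ++ flatW G ids)) (Nat.add ih 1) ih) wd

end Kernel

theorem fixL_ok : checkFixL = true := by decide +kernel

theorem fixW_ok : ∀ k < 42, fw (fixW.getD k []) 0 = fixL.getD k 0 ∧
    (∀ l ∈ fixW.getD k [], l < 18) := by decide +kernel

theorem fixL_shape : fixL.length = 42 ∧ fixL.Nodup ∧ ∀ y ∈ fixL, y < 3906 := by decide +kernel

theorem goodL_ok : ((List.range 42).filter fun k => Nat.beq (oppN k) 5).length = 6 := by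
  decide +kernel

theorem opp_zero : (fixL.filter isO).length = 5 := by decide +kernel

theorem opp_head : isO 2255 = true ∧ 2255 ∈ fixL := by decide +kernel

theorem P_closed : checkClosed TP.Tb 3125 12 (CK0G ++ TP.subs) CK0P CK0Inv = true := by
  decide +kernel

theorem P_orbit : checkOrbit TP.Tb 2144 3125 12 (CK0G ++ TP.subs) CK0P CK0Inv = true := by
  decide +kernel

theorem blk_gens : ∀ w ∈ kgW, blkTest w = true ∧ blkTest (invW w) = true := by decide +kernel

theorem blk_cosB : allBelow 6 42 (fun k => allBelow 3 5 fun i =>
    cond (blkTest (cosW k i)) (cosL.contains (k, i)) true) = true := by decide +kernel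

theorem blk_cos (k : Nat) (hk : k < 42) (i : Nat) (hi : i < 5)
    (h : blkTest (cosW k i) = true) : (k, i) ∈ cosL := by
  have h' := of_allBelow (of_allBelow blk_cosB k hk) i hi
  rw [h, cond_true] at h'
  simpa using h' 

theorem cosL_shape : cosL.length = 66 := by decide +kernel

theorem wd2_inc : incB 0 (wd2.map fun ids => fw (flatW cv2G ids) 3528) = true := by decide +kernel

theorem wd3_inc : incB 0 (wd3.map fun ids => fw (flatW cv3G ids) 1515) = true := by decide +kernel

theorem wd4_inc : incB 0 (wd4.map fun ids => fw (flatW cv4G ids) 2398) = true := by decide +kernel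

theorem wd_len : wd2.length = 2016 ∧ wd3.length = 1008 ∧ wd4.length = 1440 := by decide +kernel

theorem cw_ok :
    fw cw2 3528 = 3528 ∧ fw cw2 376 ≠ 376 ∧ fw (cw2 ++ cw2) 376 ≠ 376 ∧
    fw cw4 2398 = 2398 ∧ fw cw4 757 ≠ 757 := by decide +kernel

theorem cw_lt : (∀ l ∈ cw2, l < 18) ∧ (∀ l ∈ cw4, l < 18) ∧ cw2 ∈ C21G ∧ cw4 ∈ C41G := by
  decide +kernel

theorem gens_lt : checkLetters 18 cv2G = true ∧ checkLetters 18 cv3G = true ∧
    checkLetters 18 cv4G = true := by decide +kernel

theorem wd2_count : cntSq 3528 376 cv2G [] wd2 + cntSq 3528 376 cv2G cw2 wd2 +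
    cntSq 3528 376 cv2G (cw2 ++ cw2) wd2 ≤ 64 := by decide +kernel

theorem wd3_count : cntSq 1515 1515 cv3G [] wd3 ≤ 106 := by decide +kernel

theorem wd4_count : cntSq 2398 757 cv4G [] wd4 + cntSq 2398 757 cv4G cw4 wd4 ≤ 212 := by
  decide +kernel

end CfsgLib.Coset.Ly
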