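import Mathlib.Data.List.Basic

/-! Data for the centraliser of an element of order three in the Lyons group. -/

set_option autoImplicit false
set_option maxRecDepth 100000

namespace CfsgLib.Coset.Ly.Cent

/-- The element of order three. -/
def xW : List Nat := [5, 0, 3, 1, 2, 4]

/-- Its fixed points. -/
def fixL : List Nat := [
  0,
  3,
  29,
  30,
  243,
  298,
  304,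
  312,
  367,
  383,
  396,
  400,
  596,
  658,
  737,
  766,
  782,
  825,
  851,
  869,
  885,
  904,
  907,
  986,
  1001,
  1007,
  1077,
  1092,
  1103,
  1138,
  1211,
  1271,
  1304,
  1323,
  1343,
  1366,
  1397,
  1398,
  1561,
  1695,
  1750,
  1758,
  1771,
  1787,
  1802,
  1834,
  1929,
  1933,
  2002,
  2003,
  2040,
  2092,
  2096,
  2102,
  2136,
  2179,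
  2241,
  2255,
  2271,
  2291,
  2311,
  2319,
  2320,
  2362,
  2384,
  2436,
  2453,
  2455,
  2465,
  2480,
  2513,
  2519,
  2661,
  2674,
  2680,
  2700,
  2709,
  2751,
  2768,
  2772,
  2777,
  2791,
  2821,
  2833,
  2854,
  2917,
  2929,
  2971,
  2974,
  2992,
  2998,
  3053,
  3129,
  3186,
  3200,
  3224,
  3225,
  3243,
  3270,
  3278,
  3326,
  3335,
  3337,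
  3377,
  3379,
  3387,
  3423,
  3432,
  3492,
  3511,
  3526,
  3540,
  3547,
  3555,
  3571,
  3627,
  3663,
  3670,
  3689,
  3715,
  3759,
  3780,
  3793,
  3809,
  3841,
  3898
]

/-- Elements of its centraliser with seventh power in the cyclic group it generates. -/
def u7W : List (List Nat) := [[0, 8, 7, 8, 2, 6, 8], [3, 7, 8, 1, 8, 6, 4], [9, 7, 3, 9, 6, 9, 1], [5, 7, 9, 0, 9, 6, 2]]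

/-- Products giving the orbit of the first point. -/
def im0 : List (List Nat) := [
  [],
  [1, 0, 3, 2],
  [0, 0, 0, 3, 0],
  [3, 2],
  [3, 0, 3, 2],
  [2, 3, 3],
  [1, 1, 0, 0],
  [3, 2, 3, 2],
  [0, 1, 0, 0, 1],
  [3, 3, 3, 2],
  [0, 0, 3, 3, 0],
  [1, 0, 0, 1],
  [0, 1, 1, 1, 0],
  [0, 0, 3],
  [1, 2],
  [1, 1, 2, 1],
  [0, 1, 2],
  [1, 0, 0, 0],
  [1, 0],
  [2, 1, 1, 2, 3],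
  [2, 1, 0, 3],
  [3, 0, 1, 2],
  [1, 2, 1],
  [0, 1, 1, 0],
  [1, 0, 1, 0, 3],
  [1, 0, 1, 1],
  [1, 2, 1, 2, 3],
  [3, 0],
  [0],
  [2, 1, 1, 2],
  [0, 0, 3, 0, 0],
  [3, 0, 1, 1],
  [0, 1, 1, 2, 3],
  [0, 1, 0],
  [0, 0, 0, 3, 3],
  [3, 3, 2],
  [1, 0, 3, 3],
  [3, 0, 0],
  [0, 1, 0, 0],
  [0, 0, 3, 0, 3],
  [1, 2, 3, 0, 0],
  [3, 0, 0, 1, 2],
  [1, 0, 3],
  [2, 2],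
  [0, 1, 1, 0, 1],
  [1, 0, 3, 0],
  [3, 2, 3, 0],
  [1, 2, 2],
  [3, 3, 3],
  [2, 3, 3, 2],
  [2, 2, 2, 1],
  [1, 1, 1, 2],
  [1, 1, 1, 0, 1],
  [2, 2, 3, 3],
  [2],
  [3, 2, 3, 3, 2],
  [1, 1],
  [3, 3, 3, 0],
  [1, 1, 0, 3, 0],
  [1, 0, 0, 0, 3],
  [2, 1, 0],
  [1, 0, 1],
  [1, 2, 3, 0, 1],
  [3, 0, 0, 0, 1],
  [1, 1, 1, 0],
  [3, 3, 3, 2, 2],
  [1, 2, 2, 2, 3],
  [1, 2, 2, 1],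
  [2, 1, 2],
  [0, 0, 3, 3],
  [2, 1, 0, 3, 3],
  [0, 1, 1],
  [2, 2, 1],
  [1, 1, 0],
  [0, 1, 2, 2, 2],
  [1, 0, 0, 0, 1],
  [0, 1, 1, 2],
  [3, 3],
  [0, 0, 0],
  [1, 1, 0, 3],
  [2, 3, 0],
  [2, 1],
  [0, 1, 1, 1],
  [1, 0, 1, 2, 1],
  [1, 2, 3, 0],
  [0, 1, 2, 2],
  [1, 2, 2, 3],
  [1, 1, 2, 2, 1],
  [1, 1, 1],
  [0, 1, 2, 3],
  [1, 1, 2, 2],
  [2, 3, 0, 3],
  [3],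
  [2, 2, 2],
  [2, 2, 3, 3, 3],
  [3, 0, 0, 3],
  [0, 1],
  [1, 0, 1, 1, 0],
  [1, 0, 1, 2, 2],
  [3, 0, 3],
  [3, 2, 3],
  [2, 1, 0, 0],
  [1, 2, 2, 2],
  [3, 0, 0, 1],
  [3, 0, 0, 0],
  [1, 2, 1, 2],
  [0, 0, 3, 2],
  [3, 2, 3, 3],
  [1, 0, 0],
  [2, 2, 1, 1],
  [1, 2, 3],
  [0, 0],
  [2, 3, 3, 0],
  [1, 0, 1, 2],
  [1],
  [2, 1, 1],
  [1, 1, 2],
  [1, 0, 1, 0],
  [2, 3, 2],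
  [0, 0, 3, 0],
  [0, 0, 0, 3],
  [2, 2, 2, 3],
  [2, 3],
  [2, 2, 3],
  [3, 0, 1],
  [0, 1, 1, 1, 0, 3]
]

/-- Products giving the orbit of the second point. -/
def im1 : List (List Nat) := [
  [0, 1, 2, 1, 0, 3, 0],
  [1, 2, 3, 3, 2, 3, 2, 1],
  [1, 2, 2, 3, 0, 3, 3, 3, 2],
  [0, 1, 0, 3, 2, 2, 3, 2, 2],
  [0, 0, 1, 1, 2, 1, 0, 3, 0],
  [2, 1, 2, 1, 0, 3, 3, 3, 2],
  [2, 1, 2, 3, 0, 3, 2],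
  [0, 0, 1, 2, 3, 3, 0, 0, 1],
  [1, 2, 1, 0, 3, 2, 3, 2],
  [3, 2, 1, 0, 0, 0, 1],
  [0, 3, 2, 1, 2, 3, 2, 2, 1, 0],
  [0, 1, 0, 1, 2, 2, 1, 1, 2, 1],
  [1, 1, 0, 0, 0, 1, 1, 1, 2],
  [1, 2, 1, 1, 1, 2, 3, 2, 1, 0],
  [0, 0, 3, 2, 1, 1, 0, 3],
  [0, 3, 3, 2, 1, 1, 0, 3],
  [0, 1, 2, 3, 2, 2, 1, 0],
  [0, 1, 2, 2, 3, 2, 1, 2, 1],
  [3, 3, 2, 3, 2, 2, 3, 0, 1],
  [0, 3, 2, 2, 3, 3, 0, 0, 1],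
  [3, 3, 0, 0, 1],
  [2, 3, 2, 1, 2, 1, 1, 2, 1, 0],
  [0, 1, 0, 3, 2, 1, 2],
  [2, 1, 0, 0, 1, 2, 1, 0, 1],
  [0, 3, 0, 1, 2, 3, 3, 2, 2],
  [1, 0, 3, 3, 3, 2, 3, 3],
  [1, 0, 0, 3, 2, 3, 0],
  [0, 1, 1, 2, 1, 2, 2, 3, 0],
  [2, 1, 0, 1, 2, 2, 3],
  [0, 0, 3, 0, 1, 0, 1, 1, 2],
  [3, 0, 3, 2, 3, 0, 3, 0, 0],
  [3, 2, 2, 1, 1],
  [0, 1, 0, 1, 1, 0, 0, 3, 3],
  [3, 3, 3, 2, 3, 0, 0, 3, 3, 0],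
  [3, 2, 1, 1, 0, 3, 3],
  [0, 1, 2, 2, 2, 1, 0, 0, 1, 1],
  [0, 0, 1, 2, 3, 3, 2, 3, 0, 1],
  [0, 3, 3, 0, 3, 2, 3, 2, 1, 0],
  [3, 3, 2, 3, 0, 1],
  [2, 1, 1, 1, 2, 1, 2, 3],
  [3, 0, 1, 0, 1, 1, 0, 3],
  [2, 2, 1, 0, 0, 3, 3, 3],
  [1, 1, 2, 3, 0, 1, 1],
  [3, 3, 0, 3, 2, 1, 2, 3, 3, 3],
  [3, 2, 2, 2, 3, 2, 1, 1],
  [3, 2, 2, 2, 3, 0, 1],
  [0, 0, 3, 0, 1, 2, 3, 2, 1],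
  [1, 1, 0, 0, 0, 1, 1, 2, 2],
  [3, 0, 3, 2, 1, 1, 1, 0],
  [3, 3, 3, 2, 1, 0, 3, 2, 3],
  [3, 3, 3, 0, 3, 2, 1, 0],
  [3, 2, 3, 3, 0, 1, 0, 0],
  [3, 3, 0, 0, 3, 2, 3, 0, 1],
  [0, 1, 0, 1, 2, 3, 0, 3],
  [0, 1, 1, 0, 3, 2, 3, 2, 3, 3],
  [0, 3, 3, 0, 1, 0, 1, 1, 2],
  [0, 3, 2, 2],
  [1, 1, 0, 1, 1, 1, 2, 3],
  [0, 0, 1, 2, 3, 2, 2, 1, 1],
  [2, 1, 2, 1, 1, 0, 0, 3],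
  [1, 0, 3, 0, 3, 3, 3, 0],
  [2, 3, 0, 1, 2, 1, 1, 1],
  [3, 0, 3, 3, 0, 3, 0, 3],
  [3, 2, 2, 3, 0, 3, 2, 1, 0],
  [3, 0, 3, 3, 0, 0, 0, 1, 0],
  [0, 0, 0, 1, 2, 3, 2],
  [],
  [3, 0, 1, 0, 0, 1, 1, 2],
  [0, 3, 0, 1, 2, 3, 2],
  [2, 1, 1, 0, 1, 2, 3, 0],
  [3, 0, 3, 0, 3, 0, 0, 3],
  [0, 3, 3, 2, 1, 2, 1, 0, 0],
  [3, 2, 1, 0, 1, 1],
  [0, 1, 0, 3, 2, 2, 2],
  [0, 0, 3, 2, 2, 3, 2, 1],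
  [0, 0, 0, 1, 2, 3, 3, 2, 2],
  [3, 3, 2, 3, 2, 1, 1],
  [2, 3, 2, 3, 3, 2, 1, 2],
  [1, 0, 3, 2, 3, 0, 0, 1, 0],
  [3, 3, 0, 1, 0, 1, 1],
  [2, 2, 1, 1, 0, 0, 1, 1, 0],
  [0, 0, 1, 2],
  [0, 3, 2, 1, 0, 1, 0, 1, 0],
  [0, 0, 3, 0, 1, 0, 1, 2, 2],
  [0, 0, 3, 0, 1, 1, 1, 0, 3],
  [0, 1, 2, 1, 1, 1, 0, 0, 3],
  [1, 1, 2, 3, 3, 0, 1],
  [0, 0, 1, 0, 1, 2],
  [2, 3, 2, 2, 3, 0, 3],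
  [2, 1, 2, 2, 3, 3, 2, 2, 3],
  [0, 1, 1, 0, 0, 0, 3, 0],
  [1, 2, 3, 2, 1, 0, 0],
  [3, 0, 1, 0, 0, 1, 2, 2],
  [0, 1, 0, 1, 1, 0, 3, 0, 1, 1],
  [0, 0, 0, 1, 2, 3, 0, 1, 2],
  [1, 1, 0, 0, 1, 0, 1, 0, 0],
  [1, 1, 2, 1, 2, 2, 1, 0, 1, 0],
  [2, 3, 3, 0, 1, 2, 2, 3, 2],
  [0, 1, 1, 1, 2, 1, 0, 0, 3],
  [2, 3, 2, 1, 0, 0, 3, 3],
  [3, 0, 0, 3, 0, 1, 1, 2, 1],
  [1, 0, 1, 1, 2, 2, 1, 1, 0],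
  [0, 3, 3, 2, 3, 2, 1, 2, 2],
  [3, 2, 2, 1, 2, 2, 1, 1],
  [1, 1, 2, 2, 2, 1, 1, 2, 1, 0],
  [1, 2, 2, 3, 2, 3, 2, 3, 3, 3],
  [1, 0, 0, 1, 2, 1, 1, 2, 3],
  [0, 1, 0, 0, 3, 2, 1, 1, 0],
  [1, 1, 0, 1, 2, 1, 2, 2, 2, 3],
  [0, 1, 2, 3, 3, 0, 0, 3, 2],
  [1, 1, 2, 3, 3, 2, 1, 1],
  [1, 1, 0, 1, 0, 3, 2, 2, 3],
  [3, 3, 2, 1, 0, 3, 3],
  [0, 3, 0, 1, 1, 0, 1, 0],
  [0, 3, 3, 0, 1, 0, 1, 2, 2],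
  [3, 0, 1, 1, 0, 1, 2, 1, 2],
  [1, 1, 2, 3, 0, 0, 0, 1],
  [1, 0, 3, 2, 3, 3, 0, 3],
  [1, 0, 0, 3, 3, 2, 3, 3, 0],
  [1, 0, 3, 0, 0, 3, 0, 0],
  [1, 2, 1, 2, 1, 1, 2, 1],
  [3, 2, 3, 3, 0, 0, 1, 0, 3],
  [3, 3, 0, 0, 1, 0, 0, 1, 2],
  [0, 1, 0, 1, 0, 1, 0],
  [1, 0, 3, 0, 1, 0, 1, 2, 1]
]

/-- Products giving the stabiliser of two points. -/
def im2 : List (List Nat) := [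
  [0, 1, 0, 1, 0, 0, 0, 3, 3, 3, 0, 0, 3],
  [3, 2, 1, 1, 1, 0, 1, 0, 3, 0, 1],
  [0, 0, 1, 0, 1, 0, 1, 0, 1, 2],
  [0, 3, 0, 3, 0, 3, 0, 3, 0, 3, 0, 3, 0, 3],
  [3, 0, 0, 1, 1, 0, 0, 3, 2, 1, 0],
  [2, 3, 0, 1, 1, 2, 3, 0, 3, 3],
  [1, 0, 3, 2, 2, 1, 0, 3, 0, 3, 0],
  [1, 2, 1, 2, 1, 2, 1, 2, 1, 2, 1, 2, 1, 2],
  [0, 1, 2, 1, 1, 0, 0, 1, 1, 0, 1, 1, 0],
  [3, 2, 3, 3, 2, 2, 1, 0, 0, 3, 2, 1],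
  [0, 0, 1, 0, 3, 2, 3, 3, 2, 3, 2, 1, 0],
  [3, 0, 1, 2, 2, 3, 0, 0, 1, 1, 0, 1],
  [],
  [0, 0, 1, 0, 0, 1, 1, 2, 3, 0, 3],
  [3, 2, 1, 2, 3, 2, 3, 3, 3, 0, 1],
  [1, 2, 1, 0, 3, 3, 2, 2, 3, 2, 2],
  [0, 1, 0, 3, 2, 3, 2, 1, 1, 0, 3],
  [1, 1, 2, 1, 1, 0, 1, 2, 1, 1, 0, 3],
  [0, 3, 2, 3, 2, 3, 2, 3, 2, 2],
  [2, 3, 0, 1, 2, 2, 3, 3, 2, 2, 1],
  [1, 2, 1, 1, 0, 0, 0, 3, 0, 0],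
  [2, 2, 1, 2, 2, 2, 3, 3, 0, 3],
  [1, 1, 2, 1, 0, 3, 3, 2, 1, 0],
  [0, 3, 3, 2, 2, 2, 3, 0, 1, 2, 3, 3, 3]
]

/-- The stabiliser of two points as products. -/
def twoL : List (List Nat) := [
  [1, 2, 1, 3, 3],
  [0, 0, 0, 0, 0, 0],
  [0, 0, 2],
  [3, 0, 2, 1, 0],
  [0, 2, 3, 3, 0, 2],
  [0, 1, 1, 2, 3, 3],
  [1, 0, 3],
  [0, 0, 2, 3, 0, 2],
  [1, 0, 3, 3, 2],
  [0, 3, 0, 2, 2],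
  [0, 2, 1, 3, 2, 2],
  [0, 2, 3, 2],
  [1, 1, 1, 1, 2],
  [1, 0, 1, 0, 1],
  [1, 0, 1, 0, 1, 2, 1],
  [1, 3, 2, 3, 0],
  [1, 0],
  [0, 1, 2, 3, 2, 2],
  [3, 2, 2],
  [0, 1, 2, 3, 3],
  [0, 0, 0, 0, 1, 3],
  [2, 2, 3, 2, 3],
  [1, 3, 3, 2, 3],
  [1, 2, 3, 3],
  [0, 0, 0, 1, 1],
  [0, 0, 3, 0, 2, 2],
  [0, 2, 3],
  [0, 2, 2, 3, 3],
  [0, 0, 1],
  [0, 0, 1, 2, 3],
  [0, 0, 1, 0],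
  [0, 0, 0, 0, 0],
  [2, 1, 2, 3, 0, 2],
  [0, 0, 3, 2, 2],
  [0, 1, 0],
  [1, 0, 1, 0, 0],
  [3, 0, 2, 1, 3],
  [1, 0, 0, 3, 3],
  [0, 0, 0, 0, 3],
  [3, 0, 2, 3, 2],
  [0, 0, 3, 2, 2, 3],
  [0, 1, 1, 1, 2],
  [1],
  [1, 1, 3, 2, 2],
  [0, 1, 0, 0, 1],
  [2, 1, 0, 1],
  [0, 0, 1, 0, 2, 2],
  [3, 0, 0, 0, 1, 0],
  [0, 3],
  [0, 1, 3, 3, 2, 3, 3],
  [0, 0, 0, 1, 0, 1],
  [1, 3, 3, 2, 3, 0],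
  [0, 3, 2, 2, 3],
  [1, 0, 0, 3, 0],
  [3, 0, 1, 3, 2],
  [0, 0, 1, 1, 1],
  [1, 1, 3, 2, 3],
  [3, 0, 1],
  [2, 2, 3],
  [0, 3, 3, 0],
  [0, 1, 3, 2],
  [3, 3, 0, 2],
  [1, 1, 0, 2, 1, 2],
  [2, 1, 2, 3, 2],
  [3, 3, 2, 3, 0],
  [1, 1, 2, 2],
  [1, 0, 1, 2],
  [0, 0, 2, 3],
  [3, 2, 3, 3, 2],
  [0, 0, 1, 0, 1],
  [0, 0, 2, 2, 3],
  [0, 1, 0, 2],
  [0, 1, 3],
  [0, 0, 0, 1, 0],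
  [1, 0, 1, 0, 0, 3, 3],
  [2, 3, 3, 2, 3, 3, 0],
  [0, 1, 2, 3],
  [2, 3],
  [2, 3, 2, 3],
  [3, 0, 0, 0, 1, 3],
  [0, 0, 2, 1, 2],
  [0, 2, 3, 3, 0, 1],
  [3, 0, 2, 3],
  [2, 3, 0, 2, 3],
  [0, 1, 0, 1, 0, 1, 2],
  [0, 3, 3, 2],
  [0, 2],
  [0, 2, 2, 3, 0],
  [1, 0, 1, 0, 0, 3],
  [2, 1, 2, 3],
  [1, 0, 1, 2, 2],
  [2, 1, 3, 3, 0, 3],
  [2, 3, 0, 2],
  [1, 2, 3, 2],
  [1, 0, 1, 3, 2, 2],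
  [0, 1, 2, 1, 0],
  [0, 0, 2, 3, 2, 3],
  [0, 0, 0, 0],
  [0, 0, 1, 1, 0],
  [0, 1, 3, 3, 2, 3, 0],
  [1, 0, 2],
  [1, 2, 3, 0],
  [0, 0, 3, 2, 2, 3, 0],
  [2, 1, 2, 3, 2, 2],
  [0, 0, 3, 3],
  [0, 3, 0, 2, 1, 3],
  [1, 3, 3, 2, 3, 3, 0],
  [0, 1, 0, 0, 1, 3, 3],
  [2, 3, 0, 3],
  [2, 1, 0, 1, 2],
  [2, 3, 3, 2],
  [1, 1, 2],
  [3, 3, 2, 3],
  [0, 0, 3, 3, 2, 3],
  [1, 3, 3, 0, 0, 0],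
  [1, 0, 1, 0, 2],
  [0, 1, 0, 3, 3],
  [0, 1, 0, 3, 0],
  [1, 3, 3, 0, 2],
  [3, 0, 1, 0, 0],
  [1, 2, 3, 0, 2, 2],
  [1, 3, 2],
  [0, 1, 1, 3],
  [1, 0, 0, 0],
  [0, 0, 0, 1, 0, 1, 0],
  [1, 0, 1, 1, 2],
  [1, 3],
  [0, 0, 1, 3, 3, 2],
  [2, 1, 3, 3, 0],
  [3, 3, 0, 1, 3],
  [1, 0, 2, 1],
  [0, 2, 3, 3, 2],
  [0, 3, 0, 2, 1],
  [0, 0, 1, 1, 2],
  [1, 3, 3, 2],
  [0, 0, 0, 3],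
  [3, 3, 0, 2, 2],
  [1, 1, 2, 2, 3],
  [0, 0, 0, 0, 3, 3],
  [0, 1, 0, 0],
  [1, 0, 1, 1, 1],
  [0, 2, 3, 0, 2],
  [1, 3, 2, 3, 3, 0],
  [3, 3, 0, 2, 3, 3],
  [0, 0, 0, 1, 0, 1, 3],
  [0, 0, 1, 2, 3, 0, 2],
  [0, 1, 3, 2, 2],
  [0, 0, 3, 2, 3, 0],
  [1, 2],
  [0, 1, 0, 1, 2, 3],
  [0, 3, 2],
  [1, 0, 1, 3, 2],
  [0, 1],
  [3, 0, 1, 2],
  [1, 0, 0, 1, 0, 1, 3],
  [1, 1, 0, 2, 2],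
  [0, 2, 1, 2, 3],
  [0, 0, 2, 2, 3, 0],
  [3, 3, 2, 3, 3],
  [3, 2, 2, 3, 0, 2],
  [0, 0, 0, 0, 3, 0],
  [1, 3, 3, 0],
  [0, 0, 1, 0, 1, 2, 1],
  [1, 0, 0, 1, 0, 1],
  [0, 0, 1, 2, 3, 2, 3],
  [1, 1, 2, 3],
  [1, 1, 0, 2, 1],
  [1, 2, 1, 0],
  [1, 1, 1, 2],
  [0, 1, 0, 1, 3],
  [0, 0, 1, 1, 1, 2],
  [0, 0, 3],
  [1, 0, 1, 0, 1, 2],
  [0, 1, 2, 3, 0, 2, 2],
  [3, 2, 3, 0, 3],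
  [0, 2, 3, 3, 2, 3],
  [3, 0, 1, 2, 3],
  [2, 1, 3, 2],
  [1, 1, 3],
  [3, 0, 2],
  [0, 0, 3, 2, 3],
  [2, 1, 2, 3, 0],
  [0, 3, 3, 0, 3],
  [0, 1, 0, 3, 3, 2, 3],
  [0, 0, 2, 2],
  [2, 3, 3, 0, 2],
  [3, 3, 0],
  [1, 0, 2, 1, 2],
  [1, 0, 3, 3, 2, 3],
  [0, 0, 3, 2],
  [0, 0, 1, 2, 2],
  [0],
  [1, 2, 3],
  [0, 1, 0, 3],
  [2, 2, 3, 3],
  [0, 0, 0, 2, 1, 3],
  [0, 1, 1],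
  [0, 0, 2, 1, 0],
  [0, 0, 0, 0, 0, 3],
  [0, 0, 0, 2],
  [3, 3, 0, 0],
  [2, 3, 3, 0],
  [2, 3, 3, 0, 2, 3, 0],
  [0, 0, 1, 0, 1, 3],
  [0, 2, 1, 0],
  [1, 1],
  [1, 0, 1, 3],
  [0, 1, 1, 2],
  [1, 3, 2, 2, 3],
  [3, 0, 0, 3],
  [0, 2, 1, 2, 3, 0, 2],
  [0, 3, 3, 0, 1],
  [2, 3, 3],
  [0, 1, 1, 2, 3],
  [0, 1, 3, 3],
  [0, 1, 2, 2, 3],
  [2, 3, 0],
  [1, 3, 3],
  [0, 1, 0, 1, 0, 2],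
  [2, 1, 2, 1, 0],
  [0, 2, 1, 3, 2],
  [2, 1, 0, 1, 2, 3],
  [3, 2, 3, 3, 0],
  [3, 2, 3, 3, 2, 3],
  [0, 2, 3, 3, 0],
  [3, 0, 1, 2, 1],
  [2, 1, 2, 1, 3],
  [0, 1, 3, 3, 2],
  [0, 0, 3, 3, 0],
  [0, 1, 1, 3, 2],
  [],
  [2, 3, 0, 2, 2],
  [3, 0, 3, 3],
  [0, 3, 2, 3, 0],
  [1, 0, 0, 1, 3],
  [1, 0, 1, 2, 3],
  [1, 0, 0, 0, 3],
  [1, 0, 2, 1, 3],
  [0, 1, 0, 0, 3, 3],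
  [3, 0, 2, 3, 0],
  [1, 2, 3, 2, 2],
  [0, 1, 2, 3, 3, 2],
  [0, 1, 2, 1, 3],
  [3],
  [0, 0, 1, 0, 1, 0, 1],
  [2, 1],
  [0, 1, 1, 0],
  [0, 0, 1, 2, 3, 2, 2],
  [0, 2, 1, 2, 3, 2],
  [0, 3, 3, 2, 3],
  [1, 0, 0, 1, 3, 3],
  [3, 2, 3, 3],
  [0, 1, 2],
  [1, 0, 3, 3, 0, 2],
  [1, 1, 0, 1, 2],
  [1, 1, 2, 3, 3, 2],
  [1, 2, 3, 2, 3],
  [0, 3, 0, 2],
  [1, 0, 0, 1, 3, 3, 2],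
  [0, 3, 2, 2, 3, 0],
  [0, 0],
  [0, 1, 0, 0, 1, 3],
  [0, 1, 2, 2],
  [1, 1, 0, 2, 1, 3],
  [0, 1, 1, 2, 2, 3],
  [2, 3, 2, 2, 3],
  [3, 0, 1, 2, 1, 3],
  [3, 0, 1, 2, 3, 3],
  [2, 1, 0, 2, 1, 3],
  [2, 2, 3, 0, 3],
  [0, 0, 3, 0],
  [0, 1, 3, 3, 0, 1],
  [0, 0, 1, 2, 3, 2],
  [3, 2],
  [0, 0, 0, 3, 3],
  [0, 1, 3, 2, 2, 3],
  [2, 1, 2, 1],
  [0, 2, 2, 3, 2],
  [2, 2, 3, 2],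
  [0, 1, 2, 3, 2, 2, 3],
  [2, 1, 3, 3, 2],
  [3, 0, 2, 2],
  [1, 1, 1, 1],
  [0, 0, 1, 0, 1, 0],
  [3, 0, 2, 1],
  [2, 3, 2, 2],
  [0, 0, 0, 3, 0],
  [0, 2, 1, 0, 1],
  [0, 2, 2, 3, 2, 3],
  [1, 0, 3, 3, 0, 0],
  [0, 3, 3],
  [0, 1, 2, 1, 3, 3],
  [0, 2, 1, 2, 3, 2, 2],
  [1, 2, 2, 3],
  [0, 1, 0, 1, 0, 0],
  [1, 0, 0, 0, 3, 0],
  [0, 2, 1, 0, 2],
  [3, 0, 2, 1, 3, 3],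
  [0, 2, 1, 2],
  [2, 2, 3, 0],
  [0, 0, 0],
  [2, 1, 0, 2, 1],
  [2, 3, 3, 0, 1],
  [2, 2],
  [3, 0, 0, 3, 2],
  [2, 1, 2],
  [2, 1, 0, 1, 1],
  [0, 0, 3, 0, 2],
  [0, 1, 0, 1],
  [0, 1, 3, 3, 0],
  [1, 0, 1, 2, 3, 2],
  [0, 2, 3, 2, 3],
  [3, 0, 0, 0, 1],
  [1, 3, 2, 3, 3],
  [0, 1, 0, 0, 3],
  [1, 2, 1, 3, 3, 0],
  [2, 3, 2, 2, 3, 0],
  [0, 1, 1, 2, 2],
  [1, 1, 0],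
  [1, 1, 0, 1, 0],
  [2, 3, 3, 2, 3],
  [0, 3, 2, 2, 3, 0, 2],
  [1, 0, 0, 1],
  [3, 3, 2, 3, 3, 0],
  [1, 0, 1, 0, 2, 2],
  [0, 1, 0, 1, 2],
  [3, 2, 2, 3],
  [1, 0, 1, 0],
  [0, 1, 0, 3, 3, 0],
  [3, 3, 0, 2, 3, 0],
  [2, 1, 3, 2, 2],
  [1, 1, 1],
  [0, 2, 1, 3, 3, 0],
  [0, 0, 1, 0, 2],
  [0, 1, 2, 3, 2, 3],
  [0, 3, 0],
  [3, 3, 2, 2],
  [0, 1, 0, 3, 3, 0, 2],
  [0, 1, 1, 0, 2],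
  [2, 2, 3, 3, 2],
  [0, 0, 1, 2, 3, 0],
  [3, 0, 1, 0, 2],
  [0, 3, 2, 2, 3, 2],
  [3, 3, 0, 0, 0],
  [0, 3, 2, 3, 0, 3],
  [0, 0, 3, 3, 0, 2],
  [3, 0, 0, 0],
  [0, 0, 0, 1],
  [0, 0, 1, 3, 3],
  [2],
  [1, 0, 1, 0, 1, 0],
  [1, 2, 1, 3],
  [2, 1, 3, 3],
  [0, 0, 1, 2],
  [0, 0, 3, 3, 2],
  [0, 0, 1, 0, 1, 2, 3],
  [0, 2, 3, 3],
  [3, 3, 2],
  [0, 3, 3, 0, 2],
  [1, 0, 1, 1],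
  [2, 3, 3, 2, 3, 3],
  [0, 3, 3, 0, 0],
  [1, 1, 2, 3, 2, 2],
  [1, 2, 1, 3, 3, 0, 3],
  [0, 1, 0, 0, 3, 0],
  [1, 2, 1, 2, 3],
  [0, 0, 0, 2, 1, 0],
  [3, 2, 3, 0],
  [1, 0, 2, 2],
  [0, 1, 1, 1],
  [0, 0, 0, 1, 3],
  [1, 3, 3, 2, 3, 3],
  [3, 0, 3, 3, 0],
  [0, 3, 2, 3, 3],
  [1, 0, 0],
  [0, 2, 1, 3],
  [1, 0, 3, 3, 0],
  [3, 0, 1, 0, 3],
  [2, 1, 0, 2],
  [0, 1, 2, 3, 0, 2],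
  [0, 0, 1, 1],
  [0, 2, 1],
  [1, 2, 1],
  [0, 2, 3, 0],
  [0, 0, 3, 3, 0, 0],
  [1, 1, 0, 1, 2, 1],
  [1, 3, 2, 2],
  [1, 0, 0, 0, 0],
  [2, 1, 3],
  [1, 2, 3, 2, 2, 3],
  [2, 3, 3, 0, 1, 3],
  [0, 0, 1, 0, 1, 2],
  [0, 0, 2, 1, 3],
  [1, 0, 1],
  [0, 0, 2, 1],
  [0, 2, 1, 3, 3],
  [2, 3, 3, 0, 2, 3],
  [1, 3, 3, 0, 1],
  [0, 0, 3, 2, 2, 3, 2],
  [2, 1, 0],
  [0, 0, 1, 3],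
  [1, 1, 0, 1, 1, 2],
  [3, 3, 0, 2, 3],
  [1, 1, 3, 2],
  [2, 1, 0, 2, 1, 2],
  [1, 1, 2, 3, 2],
  [3, 0],
  [1, 1, 2, 3, 3],
  [0, 1, 0, 1, 0, 1],
  [0, 0, 2, 2, 3, 3],
  [3, 2, 3],
  [1, 1, 0, 1],
  [2, 3, 2],
  [0, 1, 0, 1, 0, 0, 3],
  [1, 3, 3, 0, 3],
  [1, 2, 1, 0, 2],
  [0, 0, 0, 0, 1, 0],
  [3, 3],
  [1, 2, 2],
  [2, 2, 3, 0, 2],
  [0, 0, 2, 3, 0],
  [1, 0, 3, 0],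
  [0, 0, 1, 1, 0, 2],
  [1, 0, 0, 3],
  [3, 0, 2, 3, 3],
  [3, 2, 2, 3, 0],
  [0, 1, 0, 1, 2, 1],
  [0, 1, 0, 3, 3, 2],
  [0, 2, 1, 0, 1, 2],
  [1, 3, 2, 3],
  [0, 0, 2, 3, 3],
  [0, 0, 0, 1, 0, 1, 2],
  [1, 2, 3, 0, 2],
  [3, 0, 1, 3],
  [0, 2, 1, 2, 3, 0],
  [0, 0, 0, 2, 2],
  [0, 1, 1, 3, 2, 3],
  [0, 3, 0, 2, 1, 0],
  [0, 3, 2, 2],
  [3, 0, 2, 3, 3, 0],
  [0, 0, 0, 0, 1],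
  [0, 1, 0, 0, 0],
  [0, 2, 2],
  [1, 0, 0, 1, 0],
  [1, 1, 0, 1, 1],
  [3, 0, 0],
  [0, 1, 0, 1, 0],
  [1, 1, 0, 1, 0, 2],
  [0, 1, 2, 3, 2],
  [2, 3, 3, 0, 2, 3, 3],
  [0, 0, 2, 1, 3, 3],
  [0, 2, 2, 3],
  [1, 2, 3, 3, 2],
  [1, 0, 3, 3],
  [1, 0, 1, 2, 1],
  [1, 2, 1, 2],
  [0, 0, 2, 3, 2],
  [3, 0, 1, 0],
  [0, 1, 0, 0, 1, 0],
  [0, 2, 2, 3, 0, 2],
  [0, 1, 2, 1],
  [3, 3, 0, 3],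
  [0, 1, 2, 3, 0],
  [1, 3, 3, 0, 0],
  [1, 2, 1, 3, 3, 2],
  [0, 2, 1, 3, 3, 2],
  [1, 2, 1, 0, 1],
  [1, 1, 0, 2],
  [0, 1, 0, 2, 2],
  [1, 1, 0, 1, 0, 0],
  [3, 2, 2, 3, 2],
  [3, 3, 0, 1],
  [0, 3, 2, 3],
  [3, 2, 2, 3, 2, 3],
  [1, 0, 1, 0, 1, 0, 0],
  [0, 0, 0, 2, 1],
  [0, 1, 3, 3, 2, 3],
  [3, 0, 3],
  [0, 0, 2, 1, 3, 3, 2],
  [3, 0, 0, 0, 1, 0, 1]
]

/-- An element of order three without fixed points. -/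
def badW : List Nat := [4, 8, 7, 8]

/-- The conjugacy class in the subgroup 1. -/
def clsW1 : List (List Nat) := [
  [0, 2, 2, 0, 4, 5, 0, 3, 1, 2, 4, 5, 1, 3, 3, 1],
  [0, 5, 2, 1, 2, 5, 0, 3, 1, 2, 4, 3, 0, 3, 4, 1],
  [0, 2, 2, 4, 1, 5, 0, 3, 1, 2, 4, 0, 5, 3, 3, 1],
  [4, 3, 0, 3, 0, 5, 0, 3, 1, 2, 4, 1, 2, 1, 2, 5],
  [1, 2, 2, 1, 5, 0, 3, 1, 2, 4, 0, 3, 3, 0],
  [2, 2, 0, 4, 5, 0, 3, 1, 2, 4, 5, 1, 3, 3],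
  [2, 2, 0, 3, 0, 4, 5, 0, 3, 1, 2, 4, 5, 1, 2, 1, 3, 3],
  [5, 1, 2, 2, 5, 0, 3, 1, 2, 4, 3, 3, 0, 4],
  [1, 5, 2, 2, 0, 5, 0, 3, 1, 2, 4, 1, 3, 3, 4, 0],
  [5, 1, 2, 2, 0, 5, 0, 3, 1, 2, 4, 1, 3, 3, 0, 4],
  [1, 2, 1, 5, 2, 5, 0, 3, 1, 2, 4, 3, 4, 0, 3, 0],
  [5, 2, 2, 4, 0, 5, 0, 3, 1, 2, 4, 1, 5, 3, 3, 4],
  [2, 2, 1, 3, 1, 5, 0, 3, 1, 2, 4, 0, 2, 0, 3, 3],
  [3, 4, 4, 0, 3, 5, 0, 3, 1, 2, 4, 2, 1, 5, 5, 2],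
  [4, 0, 2, 2, 0, 5, 0, 3, 1, 2, 4, 1, 3, 3, 1, 5],
  [0, 2, 2, 0, 5, 0, 3, 1, 2, 4, 1, 3, 3, 1],
  [0, 8, 4, 8, 0, 5, 0, 3, 1, 2, 4, 1, 9, 5, 9, 1],
  [2, 2, 4, 4, 0, 5, 0, 3, 1, 2, 4, 1, 5, 5, 3, 3],
  [8, 0, 0, 8, 0, 5, 0, 3, 1, 2, 4, 1, 9, 1, 1, 9],
  [0, 4, 2, 2, 5, 0, 3, 1, 2, 4, 3, 3, 5, 1],
  [5, 0, 2, 2, 0, 5, 0, 3, 1, 2, 4, 1, 3, 3, 1, 4],
  [3, 1, 4, 3, 0, 5, 0, 3, 1, 2, 4, 1, 2, 5, 0, 2],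
  [2, 0, 5, 2, 5, 0, 3, 1, 2, 4, 3, 4, 1, 3],
  [3, 3, 0, 2, 2, 0, 5, 0, 3, 1, 2, 4, 1, 3, 3, 1, 2, 2],
  [3, 4, 0, 3, 5, 0, 3, 1, 2, 4, 2, 1, 5, 2],
  [1, 2, 2, 0, 5, 0, 3, 1, 2, 4, 1, 3, 3, 0],
  [2, 2, 1, 5, 0, 3, 1, 2, 4, 0, 3, 3],
  [8, 0, 0, 8, 4, 0, 5, 0, 3, 1, 2, 4, 1, 5, 9, 1, 1, 9],
  [3, 1, 5, 3, 5, 0, 3, 1, 2, 4, 2, 4, 0, 2],
  [5, 2, 1, 2, 5, 0, 3, 1, 2, 4, 3, 0, 3, 4],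
  [2, 0, 4, 4, 2, 5, 0, 3, 1, 2, 4, 3, 5, 5, 1, 3],
  [2, 2, 4, 5, 0, 3, 1, 2, 4, 5, 3, 3],
  [3, 1, 2, 0, 3, 0, 5, 0, 3, 1, 2, 4, 1, 2, 1, 3, 0, 2],
  [0, 3, 3, 0, 2, 2, 5, 0, 3, 1, 2, 4, 3, 3, 1, 2, 2, 1],
  [4, 8, 0, 0, 8, 0, 5, 0, 3, 1, 2, 4, 1, 9, 1, 1, 9, 5],
  [2, 2, 0, 3, 4, 5, 0, 3, 1, 2, 4, 5, 2, 1, 3, 3],
  [2, 0, 4, 5, 0, 3, 1, 2, 4, 5, 1, 3],
  [1, 2, 2, 5, 0, 3, 1, 2, 4, 3, 3, 0],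
  [3, 1, 3, 5, 0, 3, 1, 2, 4, 2, 0, 2],
  [5, 3, 1, 3, 5, 0, 3, 1, 2, 4, 2, 0, 2, 4],
  [5, 0, 5, 2, 2, 5, 0, 3, 1, 2, 4, 3, 3, 4, 1, 4],
  [1, 5, 2, 1, 2, 5, 0, 3, 1, 2, 4, 3, 0, 3, 4, 0],
  [5, 3, 1, 3, 0, 5, 0, 3, 1, 2, 4, 1, 2, 0, 2, 4],
  [5, 2, 2, 0, 5, 0, 3, 1, 2, 4, 1, 3, 3, 4],
  [2, 2, 1, 3, 0, 5, 0, 3, 1, 2, 4, 1, 2, 0, 3, 3],
  [1, 2, 0, 2, 5, 0, 3, 1, 2, 4, 3, 1, 3, 0],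
  [0, 2, 0, 2, 5, 0, 3, 1, 2, 4, 3, 1, 3, 1],
  [2, 2, 4, 0, 5, 0, 3, 1, 2, 4, 1, 5, 3, 3],
  [1, 8, 0, 0, 8, 5, 0, 3, 1, 2, 4, 9, 1, 1, 9, 0],
  [3, 0, 3, 0, 5, 0, 3, 1, 2, 4, 1, 2, 1, 2],
  [2, 1, 5, 2, 5, 0, 3, 1, 2, 4, 3, 4, 0, 3],
  [3, 3, 1, 2, 2, 0, 5, 0, 3, 1, 2, 4, 1, 3, 3, 0, 2, 2],
  [3, 0, 4, 3, 5, 0, 3, 1, 2, 4, 2, 5, 1, 2],
  [3, 3, 4, 3, 0, 5, 0, 3, 1, 2, 4, 1, 2, 5, 2, 2],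
  [4, 2, 2, 1, 5, 0, 3, 1, 2, 4, 0, 3, 3, 5],
  [4, 4, 2, 2, 5, 0, 3, 1, 2, 4, 3, 3, 5, 5],
  [8, 4, 8, 5, 0, 3, 1, 2, 4, 9, 5, 9],
  [2, 2, 0, 5, 3, 0, 5, 0, 3, 1, 2, 4, 1, 2, 4, 1, 3, 3],
  [2, 4, 2, 0, 3, 0, 5, 0, 3, 1, 2, 4, 1, 2, 1, 3, 5, 3],
  [3, 1, 2, 1, 3, 0, 5, 0, 3, 1, 2, 4, 1, 2, 0, 3, 0, 2],
  [4, 2, 2, 1, 3, 5, 0, 3, 1, 2, 4, 2, 0, 3, 3, 5],
  [2, 1, 5, 0, 3, 1, 2, 4, 0, 3],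
  [3, 1, 5, 3, 4, 5, 0, 3, 1, 2, 4, 5, 2, 4, 0, 2],
  [4, 0, 2, 2, 5, 0, 3, 1, 2, 4, 3, 3, 1, 5],
  [0, 2, 2, 5, 0, 3, 1, 2, 4, 3, 3, 1],
  [0, 8, 4, 8, 5, 0, 3, 1, 2, 4, 9, 5, 9, 1],
  [3, 3, 4, 3, 5, 0, 3, 1, 2, 4, 2, 5, 2, 2],
  [2, 2, 1, 3, 5, 0, 3, 1, 2, 4, 2, 0, 3, 3],
  [3, 0, 4, 3, 0, 5, 0, 3, 1, 2, 4, 1, 2, 5, 1, 2],
  [3, 1, 3, 0, 5, 0, 3, 1, 2, 4, 1, 2, 0, 2],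
  [3, 3, 5, 3, 0, 5, 0, 3, 1, 2, 4, 1, 2, 4, 2, 2],
  [8, 4, 1, 1, 8, 5, 0, 3, 1, 2, 4, 9, 0, 0, 5, 9],
  [2, 2, 0, 5, 5, 0, 3, 1, 2, 4, 4, 1, 3, 3],
  [2, 2, 0, 4, 3, 0, 5, 0, 3, 1, 2, 4, 1, 2, 5, 1, 3, 3],
  [1, 4, 2, 2, 0, 5, 0, 3, 1, 2, 4, 1, 3, 3, 5, 0],
  [4, 3, 0, 3, 5, 0, 3, 1, 2, 4, 2, 1, 2, 5],
  [2, 1, 2, 5, 0, 3, 1, 2, 4, 3, 0, 3],
  [8, 2, 4, 8, 5, 0, 3, 1, 2, 4, 9, 5, 3, 9],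
  [3, 3, 1, 2, 0, 2, 5, 0, 3, 1, 2, 4, 3, 1, 3, 0, 2, 2],
  [0, 2, 5, 5, 0, 3, 1, 2, 4, 4, 3, 1],
  [4, 0, 4, 2, 2, 5, 0, 3, 1, 2, 4, 3, 3, 5, 1, 5],
  [0, 5, 2, 2, 5, 0, 3, 1, 2, 4, 3, 3, 4, 1],
  [4, 8, 4, 8, 5, 0, 3, 1, 2, 4, 9, 5, 9, 5],
  [3, 3, 1, 2, 2, 5, 0, 3, 1, 2, 4, 3, 3, 0, 2, 2],
  [0, 5, 2, 2, 0, 5, 0, 3, 1, 2, 4, 1, 3, 3, 4, 1],
  [8, 4, 8, 0, 5, 0, 3, 1, 2, 4, 1, 9, 5, 9],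
  [2, 2, 0, 3, 4, 0, 5, 0, 3, 1, 2, 4, 1, 5, 2, 1, 3, 3],
  [4, 1, 8, 4, 8, 5, 0, 3, 1, 2, 4, 9, 5, 9, 0, 5],
  [0, 2, 2, 0, 3, 5, 0, 3, 1, 2, 4, 2, 1, 3, 3, 1],
  [4, 0, 5, 2, 2, 5, 0, 3, 1, 2, 4, 3, 3, 4, 1, 5],
  [2, 2, 0, 5, 0, 3, 1, 2, 4, 1, 3, 3],
  [2, 4, 0, 5, 0, 3, 1, 2, 4, 1, 5, 3],
  [1, 2, 0, 2, 0, 5, 0, 3, 1, 2, 4, 1, 3, 1, 3, 0],
  [2, 1, 4, 1, 2, 5, 0, 3, 1, 2, 4, 3, 0, 5, 0, 3],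
  [0, 2, 2, 0, 3, 0, 5, 0, 3, 1, 2, 4, 1, 2, 1, 3, 3, 1],
  [3, 0, 3, 4, 0, 5, 0, 3, 1, 2, 4, 1, 5, 2, 1, 2],
  [2, 2, 1, 4, 3, 0, 5, 0, 3, 1, 2, 4, 1, 2, 5, 0, 3, 3],
  [1, 3, 0, 3, 0, 5, 0, 3, 1, 2, 4, 1, 2, 1, 2, 0],
  [2, 0, 2, 5, 0, 3, 1, 2, 4, 3, 1, 3],
  [2, 1, 2, 0, 5, 0, 3, 1, 2, 4, 1, 3, 0, 3],
  [2, 2, 5, 0, 3, 1, 2, 4, 3, 3],
  [0, 8, 0, 0, 8, 5, 0, 3, 1, 2, 4, 9, 1, 1, 9, 1],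
  [2, 2, 1, 5, 3, 4, 5, 0, 3, 1, 2, 4, 5, 2, 4, 0, 3, 3],
  [4, 2, 0, 5, 0, 3, 1, 2, 4, 1, 3, 5],
  [6, 6, 2, 2, 5, 0, 3, 1, 2, 4, 3, 3, 7, 7],
  [8, 6, 1, 5, 0, 6, 5, 0, 3, 1, 2, 4, 7, 1, 4, 0, 7, 9],
  [6, 6, 2, 2, 0, 5, 0, 3, 1, 2, 4, 1, 3, 3, 7, 7],
  [8, 4, 8, 5, 5, 0, 3, 1, 2, 4, 4, 9, 5, 9],
  [5, 5, 2, 2, 5, 0, 3, 1, 2, 4, 3, 3, 4, 4],
  [2, 2, 4, 1, 5, 0, 3, 1, 2, 4, 0, 5, 3, 3],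
  [4, 2, 2, 4, 5, 0, 3, 1, 2, 4, 5, 3, 3, 5],
  [1, 1, 2, 2, 5, 0, 3, 1, 2, 4, 3, 3, 0, 0],
  [3, 3, 5, 3, 5, 0, 3, 1, 2, 4, 2, 4, 2, 2],
  [8, 2, 0, 0, 8, 0, 5, 0, 3, 1, 2, 4, 1, 9, 1, 1, 3, 9],
  [3, 0, 2, 0, 3, 5, 0, 3, 1, 2, 4, 2, 1, 3, 1, 2],
  [0, 5, 2, 5, 0, 3, 1, 2, 4, 3, 4, 1],
  [2, 2, 1, 5, 3, 5, 0, 3, 1, 2, 4, 2, 4, 0, 3, 3],
  [1, 4, 2, 5, 0, 3, 1, 2, 4, 3, 5, 0],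
  [8, 2, 0, 0, 8, 5, 0, 3, 1, 2, 4, 9, 1, 1, 3, 9],
  [4, 2, 4, 0, 5, 0, 3, 1, 2, 4, 1, 5, 3, 5],
  [3, 1, 2, 0, 3, 5, 0, 3, 1, 2, 4, 2, 1, 3, 0, 2],
  [2, 4, 5, 0, 3, 1, 2, 4, 5, 3],
  [0, 4, 4, 2, 5, 0, 3, 1, 2, 4, 3, 5, 5, 1],
  [2, 4, 4, 0, 5, 0, 3, 1, 2, 4, 1, 5, 5, 3],
  [5, 1, 4, 2, 5, 0, 3, 1, 2, 4, 3, 5, 0, 4],
  [1, 4, 2, 2, 5, 0, 3, 1, 2, 4, 3, 3, 5, 0],
  [2, 2, 0, 4, 3, 5, 0, 3, 1, 2, 4, 2, 5, 1, 3, 3],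
  [3, 0, 3, 5, 0, 3, 1, 2, 4, 2, 1, 2],
  [1, 5, 2, 2, 5, 0, 3, 1, 2, 4, 3, 3, 4, 0],
  [2, 2, 5, 0, 3, 5, 0, 3, 1, 2, 4, 2, 1, 4, 3, 3],
  [3, 0, 3, 5, 5, 0, 3, 1, 2, 4, 4, 2, 1, 2],
  [8, 0, 0, 8, 5, 0, 3, 1, 2, 4, 9, 1, 1, 9],
  [1, 8, 4, 8, 5, 0, 3, 1, 2, 4, 9, 5, 9, 0],
  [2, 2, 0, 3, 5, 0, 3, 1, 2, 4, 2, 1, 3, 3],
  [2, 0, 4, 2, 5, 0, 3, 1, 2, 4, 3, 5, 1, 3],
  [8, 4, 8, 1, 5, 0, 3, 1, 2, 4, 0, 9, 5, 9],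
  [8, 4, 2, 8, 5, 0, 3, 1, 2, 4, 9, 3, 5, 9],
  [8, 5, 8, 3, 5, 0, 3, 1, 2, 4, 2, 9, 4, 9],
  [4, 2, 2, 1, 3, 0, 5, 0, 3, 1, 2, 4, 1, 2, 0, 3, 3, 5],
  [4, 8, 0, 0, 8, 5, 0, 3, 1, 2, 4, 9, 1, 1, 9, 5],
  [2, 0, 5, 0, 3, 1, 2, 4, 1, 3],
  [2, 2, 0, 3, 0, 5, 0, 3, 1, 2, 4, 1, 2, 1, 3, 3],
  [5, 1, 2, 5, 0, 3, 1, 2, 4, 3, 0, 4],
  [0, 4, 2, 2, 0, 5, 0, 3, 1, 2, 4, 1, 3, 3, 5, 1],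
  [8, 4, 1, 8, 6, 2, 5, 0, 3, 1, 2, 4, 3, 7, 9, 0, 5, 9],
  [4, 2, 2, 0, 5, 0, 3, 1, 2, 4, 1, 3, 3, 5],
  [4, 2, 2, 5, 0, 3, 1, 2, 4, 3, 3, 5],
  [2, 2, 0, 5, 3, 5, 0, 3, 1, 2, 4, 2, 4, 1, 3, 3],
  [0, 4, 2, 5, 0, 3, 1, 2, 4, 3, 5, 1],
  [2, 1, 4, 2, 5, 0, 3, 1, 2, 4, 3, 5, 0, 3],
  [2, 0, 2, 0, 5, 0, 3, 1, 2, 4, 1, 3, 1, 3],
  [2, 2, 5, 5, 0, 3, 1, 2, 4, 4, 3, 3],
  [8, 3, 0, 0, 8, 5, 0, 3, 1, 2, 4, 9, 1, 1, 2, 9],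
  [1, 4, 4, 2, 5, 0, 3, 1, 2, 4, 3, 5, 5, 0],
  [1, 5, 2, 5, 0, 3, 1, 2, 4, 3, 4, 0],
  [2, 2, 0, 3, 5, 5, 0, 3, 1, 2, 4, 4, 2, 1, 3, 3],
  [5, 2, 4, 5, 0, 3, 1, 2, 4, 5, 3, 4],
  [0, 2, 5, 0, 3, 1, 2, 4, 3, 1],
  [5, 2, 1, 5, 0, 3, 1, 2, 4, 0, 3, 4],
  [2, 4, 1, 5, 0, 3, 1, 2, 4, 0, 5, 3],
  [1, 2, 0, 5, 0, 3, 1, 2, 4, 1, 3, 0],
  [2, 5, 0, 3, 1, 2, 4, 3],
  [6, 6, 4, 2, 2, 5, 0, 3, 1, 2, 4, 3, 3, 5, 7, 7],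
  [3, 3, 0, 2, 2, 5, 0, 3, 1, 2, 4, 3, 3, 1, 2, 2],
  [2, 2, 4, 0, 3, 5, 0, 3, 1, 2, 4, 2, 1, 5, 3, 3],
  [7, 8, 0, 4, 8, 5, 0, 3, 1, 2, 4, 9, 5, 1, 9, 6],
  [5, 2, 2, 5, 0, 3, 1, 2, 4, 3, 3, 4],
  [6, 6, 0, 2, 5, 0, 3, 1, 2, 4, 3, 1, 7, 7],
  [4, 1, 2, 5, 0, 3, 1, 2, 4, 3, 0, 5],
  [2, 0, 5, 2, 0, 5, 0, 3, 1, 2, 4, 1, 3, 4, 1, 3],
  [3, 4, 3, 1, 2, 2, 5, 0, 3, 1, 2, 4, 3, 3, 0, 2, 5, 2],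
  [6, 6, 2, 0, 5, 0, 3, 1, 2, 4, 1, 3, 7, 7],
  [6, 6, 2, 5, 0, 3, 1, 2, 4, 3, 7, 7],
  [4, 2, 5, 0, 3, 1, 2, 4, 3, 5],
  [3, 1, 2, 1, 3, 5, 0, 3, 1, 2, 4, 2, 0, 3, 0, 2],
  [8, 4, 3, 8, 5, 0, 3, 1, 2, 4, 9, 2, 5, 9],
  [2, 1, 2, 1, 5, 0, 3, 1, 2, 4, 0, 3, 0, 3],
  [5, 2, 0, 5, 0, 3, 1, 2, 4, 1, 3, 4],
  [1, 2, 5, 0, 3, 1, 2, 4, 3, 0],
  [1, 5, 2, 0, 5, 0, 3, 1, 2, 4, 1, 3, 4, 0],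
  [8, 0, 0, 8, 4, 5, 0, 3, 1, 2, 4, 5, 9, 1, 1, 9],
  [0, 4, 1, 2, 5, 0, 3, 1, 2, 4, 3, 0, 5, 1],
  [4, 2, 5, 5, 0, 3, 1, 2, 4, 4, 3, 5],
  [8, 3, 8, 2, 5, 0, 3, 1, 2, 4, 3, 9, 2, 9],
  [8, 2, 8, 2, 5, 0, 3, 1, 2, 4, 3, 9, 3, 9],
  [2, 0, 5, 5, 0, 3, 1, 2, 4, 4, 1, 3],
  [1, 5, 1, 2, 5, 0, 3, 1, 2, 4, 3, 0, 4, 0],
  [5, 5, 2, 5, 0, 3, 1, 2, 4, 3, 4, 4],
  [1, 4, 1, 2, 5, 0, 3, 1, 2, 4, 3, 0, 5, 0],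
  [5, 2, 5, 5, 0, 3, 1, 2, 4, 4, 3, 4],
  [4, 6, 6, 2, 5, 0, 3, 1, 2, 4, 3, 7, 7, 5],
  [4, 4, 2, 5, 0, 3, 1, 2, 4, 3, 5, 5],
  [4, 1, 1, 2, 5, 0, 3, 1, 2, 4, 3, 0, 0, 5],
  [5, 2, 5, 0, 3, 1, 2, 4, 3, 4],
  [2, 5, 5, 0, 3, 1, 2, 4, 4, 3],
  [1, 2, 1, 5, 0, 3, 1, 2, 4, 0, 3, 0],
  [0, 2, 0, 5, 0, 3, 1, 2, 4, 1, 3, 1],
  [0, 5, 2, 0, 5, 0, 3, 1, 2, 4, 1, 3, 4, 1],
  [1, 2, 4, 0, 5, 0, 3, 1, 2, 4, 1, 5, 3, 0],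
  [1, 1, 2, 5, 0, 3, 1, 2, 4, 3, 0, 0]
]

/-- Conjugation of the class by the generators of the subgroup 1. -/
def clsTab1 : List (List Nat) := [
  [1, 2, 3, 4, 0, 5, 6, 7],
  [8, 9, 2, 10, 1, 11, 12, 13],
  [9, 14, 15, 16, 2, 17, 18, 19],
  [2, 15, 20, 21, 3, 22, 23, 24],
  [10, 16, 21, 25, 4, 26, 27, 28],
  [17, 29, 22, 30, 5, 0, 31, 31],
  [32, 33, 33, 34, 6, 35, 0, 36],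
  [37, 38, 39, 40, 7, 31, 35, 0],
  [41, 25, 9, 42, 8, 43, 44, 40],
  [25, 45, 14, 46, 9, 47, 48, 38],
  [42, 46, 16, 49, 10, 50, 51, 52],
  [47, 53, 17, 54, 11, 8, 55, 56],
  [57, 58, 58, 59, 12, 60, 8, 61],
  [62, 63, 64, 65, 13, 66, 67, 8],
  [45, 68, 69, 1, 14, 70, 71, 62],
  [14, 69, 42, 0, 15, 72, 73, 37],
  [46, 1, 0, 74, 16, 54, 33, 75],
  [70, 76, 72, 5, 17, 14, 66, 77],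
  [34, 12, 12, 78, 18, 67, 14, 79],
  [80, 81, 40, 63, 19, 82, 83, 14],
  [15, 42, 10, 84, 20, 85, 86, 87],
  [16, 0, 84, 45, 21, 30, 88, 89],
  [72, 90, 85, 53, 22, 20, 82, 55],
  [58, 6, 6, 44, 23, 83, 20, 91],
  [92, 62, 13, 38, 24, 93, 94, 20],
  [49, 74, 45, 95, 25, 90, 96, 63],
  [54, 97, 30, 98, 26, 25, 99, 100],
  [23, 101, 101, 73, 27, 102, 25, 103],
  [7, 39, 87, 92, 28, 104, 105, 25],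
  [76, 11, 90, 106, 29, 1, 107, 108],
  [5, 106, 53, 109, 30, 68, 56, 82],
  [110, 111, 112, 99, 31, 7, 5, 5],
  [48, 73, 73, 113, 32, 114, 9, 115],
  [73, 51, 51, 57, 33, 116, 10, 117],
  [113, 57, 57, 27, 34, 118, 4, 119],
  [116, 120, 120, 67, 35, 6, 7, 121],
  [122, 61, 123, 124, 36, 121, 121, 6],
  [64, 125, 38, 81, 37, 100, 126, 95],
  [125, 127, 65, 128, 38, 110, 129, 74],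
  [38, 65, 80, 130, 39, 112, 131, 69],
  [81, 128, 130, 132, 40, 108, 133, 84],
  [84, 49, 25, 69, 41, 29, 78, 65],
  [69, 95, 46, 3, 42, 134, 32, 92],
  [90, 5, 47, 135, 43, 84, 136, 137],
  [138, 34, 34, 88, 44, 139, 84, 140],
  [74, 4, 68, 8, 45, 98, 113, 81],
  [95, 8, 1, 20, 46, 135, 58, 39],
  [98, 22, 70, 11, 47, 74, 112, 99],
  [59, 44, 44, 141, 48, 131, 74, 142],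
  [3, 20, 74, 143, 49, 76, 144, 128],
  [135, 109, 54, 145, 50, 3, 146, 107],
  [18, 86, 86, 71, 51, 147, 3, 148],
  [13, 64, 37, 80, 52, 136, 139, 3],
  [22, 43, 76, 149, 53, 41, 93, 66],
  [11, 149, 5, 26, 54, 10, 77, 93],
  [108, 137, 150, 146, 55, 52, 43, 85],
  [82, 110, 55, 151, 56, 65, 109, 43],
  [96, 71, 71, 101, 57, 152, 49, 122],
  [71, 32, 32, 138, 58, 105, 69, 153],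
  [101, 138, 138, 51, 59, 120, 42, 154],
  [105, 155, 155, 131, 60, 44, 52, 156],
  [157, 140, 158, 159, 61, 160, 161, 44],
  [130, 28, 63, 127, 62, 162, 163, 21],
  [28, 87, 132, 24, 63, 111, 152, 15],
  [63, 132, 125, 89, 64, 151, 164, 4],
  [127, 24, 89, 7, 65, 137, 165, 1],
  [111, 166, 151, 77, 66, 40, 70, 29],
  [60, 94, 94, 133, 67, 71, 40, 161],
  [4, 21, 143, 9, 68, 109, 138, 125],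
  [68, 143, 95, 2, 69, 97, 57, 80],
  [109, 85, 97, 17, 70, 21, 108, 146],
  [78, 48, 48, 144, 71, 133, 21, 167],
  [97, 145, 134, 22, 72, 95, 110, 104],
  [44, 18, 18, 96, 73, 129, 95, 168],
  [20, 10, 4, 41, 74, 145, 101, 127],
  [19, 40, 92, 64, 75, 55, 60, 10],
  [85, 47, 145, 29, 76, 45, 100, 112],
  [66, 108, 136, 169, 77, 125, 50, 70],
  [27, 59, 59, 33, 78, 170, 1, 171],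
  [154, 142, 103, 158, 79, 172, 173, 71],
  [65, 89, 81, 28, 80, 169, 174, 49],
  [89, 52, 128, 87, 81, 175, 114, 46],
  [175, 176, 108, 56, 82, 62, 85, 109],
  [35, 170, 170, 129, 83, 86, 62, 173],
  [0, 3, 49, 68, 84, 53, 141, 132],
  [134, 98, 50, 76, 85, 16, 162, 136],
  [12, 23, 23, 48, 86, 163, 16, 177],
  [39, 80, 19, 62, 87, 107, 170, 16],
  [86, 27, 27, 32, 88, 155, 68, 178],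
  [24, 13, 52, 39, 89, 77, 116, 68],
  [145, 17, 98, 43, 90, 15, 150, 151],
  [119, 79, 157, 123, 91, 179, 160, 86],
  [40, 130, 62, 125, 92, 150, 180, 9],
  [162, 175, 66, 137, 93, 87, 29, 50],
  [155, 118, 118, 83, 94, 78, 87, 160],
  [143, 41, 8, 15, 95, 106, 34, 64],
  [88, 78, 78, 6, 96, 180, 15, 124],
  [149, 50, 106, 72, 97, 49, 111, 175],
  [26, 72, 109, 47, 98, 46, 151, 169],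
  [31, 66, 104, 150, 99, 92, 90, 145],
  [146, 104, 110, 166, 100, 64, 98, 90],
  [6, 144, 144, 18, 101, 174, 143, 158],
  [174, 133, 133, 116, 102, 96, 92, 181],
  [79, 148, 140, 119, 103, 182, 183, 96],
  [112, 151, 107, 162, 104, 63, 97, 106],
  [114, 102, 102, 139, 105, 57, 63, 183],
  [29, 54, 43, 134, 106, 4, 176, 111],
  [169, 146, 82, 111, 107, 75, 11, 22],
  [166, 93, 99, 55, 108, 132, 30, 11],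
  [30, 134, 149, 70, 109, 2, 137, 162],
  [176, 107, 137, 31, 110, 127, 106, 134],
  [107, 100, 56, 66, 111, 37, 76, 26],
  [137, 56, 169, 104, 112, 80, 145, 98],
  [141, 96, 96, 23, 113, 164, 46, 123],
  [129, 174, 174, 118, 114, 48, 39, 184],
  [124, 122, 185, 178, 115, 186, 187, 48],
  [147, 165, 165, 60, 116, 51, 125, 179],
  [167, 153, 124, 171, 117, 173, 156, 51],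
  [152, 147, 147, 170, 118, 27, 130, 188],
  [158, 154, 91, 36, 119, 187, 189, 27],
  [165, 114, 114, 94, 120, 32, 81, 190],
  [160, 191, 156, 172, 121, 36, 36, 35],
  [159, 157, 36, 117, 122, 189, 186, 144],
  [36, 158, 153, 115, 123, 192, 184, 58],
  [117, 159, 115, 168, 124, 188, 192, 73],
  [132, 75, 127, 52, 125, 146, 147, 2],
  [94, 139, 139, 163, 126, 113, 64, 191],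
  [75, 92, 24, 37, 127, 176, 118, 143],
  [52, 37, 7, 19, 128, 166, 120, 45],
  [67, 126, 126, 152, 129, 34, 127, 182],
  [128, 7, 28, 75, 130, 99, 102, 42],
  [139, 35, 35, 164, 131, 101, 80, 193],
  [87, 19, 75, 13, 132, 56, 155, 41],
  [131, 83, 83, 165, 133, 88, 132, 194],
  [106, 26, 135, 85, 134, 9, 175, 176],
  [43, 30, 11, 50, 135, 69, 104, 166],
  [151, 99, 100, 175, 136, 24, 53, 54],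
  [93, 82, 77, 112, 137, 13, 17, 53],
  [144, 113, 113, 86, 138, 165, 2, 157],
  [118, 116, 116, 180, 139, 141, 24, 195],
  [103, 171, 177, 91, 140, 196, 194, 141],
  [51, 88, 88, 58, 141, 94, 41, 185],
  [178, 124, 148, 177, 142, 190, 182, 101],
  [21, 84, 41, 14, 143, 149, 59, 130],
  [33, 141, 141, 12, 144, 126, 45, 159],
  [50, 70, 26, 90, 145, 143, 169, 150],
  [55, 112, 176, 100, 146, 19, 22, 30],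
  [163, 164, 164, 105, 147, 23, 19, 197],
  [142, 115, 171, 154, 148, 198, 195, 23],
  [53, 135, 29, 97, 149, 42, 166, 110],
  [99, 77, 162, 176, 150, 38, 72, 149],
  [56, 31, 146, 136, 151, 28, 135, 72],
  [133, 163, 163, 120, 152, 144, 37, 192],
  [123, 119, 159, 185, 153, 191, 193, 57],
  [177, 178, 79, 61, 154, 193, 181, 32],
  [102, 152, 152, 35, 155, 138, 65, 172],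
  [121, 173, 195, 179, 156, 171, 148, 139],
  [91, 103, 61, 153, 157, 194, 197, 18],
  [61, 177, 119, 122, 158, 184, 188, 59],
  [153, 91, 122, 167, 159, 183, 190, 113],
  [196, 187, 121, 190, 160, 140, 177, 170],
  [173, 198, 193, 121, 161, 157, 140, 133],
  [104, 136, 111, 93, 162, 89, 54, 17],
  [83, 180, 180, 114, 163, 33, 89, 198],
  [180, 67, 67, 102, 164, 58, 28, 189],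
  [164, 129, 129, 155, 165, 18, 13, 199],
  [100, 162, 31, 108, 166, 81, 134, 97],
  [185, 123, 117, 148, 167, 199, 198, 88],
  [171, 167, 178, 103, 168, 181, 191, 34],
  [77, 55, 175, 107, 169, 128, 149, 135],
  [120, 105, 105, 126, 170, 12, 75, 196],
  [148, 185, 168, 79, 171, 195, 199, 12],
  [190, 196, 179, 199, 172, 167, 171, 165],
  [191, 186, 161, 160, 173, 148, 167, 163],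
  [126, 131, 131, 147, 174, 59, 128, 186],
  [136, 150, 166, 82, 175, 39, 47, 76],
  [150, 169, 93, 110, 176, 130, 26, 47],
  [140, 168, 154, 157, 177, 197, 196, 33],
  [168, 117, 142, 140, 178, 161, 179, 138],
  [172, 160, 183, 181, 179, 177, 157, 147],
  [170, 60, 60, 174, 180, 73, 38, 187],
  [199, 190, 197, 189, 181, 119, 115, 180],
  [198, 197, 194, 173, 182, 124, 158, 118],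
  [179, 121, 188, 197, 183, 123, 124, 152],
  [197, 179, 192, 198, 184, 154, 153, 131],
  [115, 36, 167, 142, 185, 156, 172, 78],
  [189, 199, 198, 187, 186, 142, 159, 120],
  [193, 194, 191, 195, 187, 103, 142, 129],
  [183, 156, 190, 184, 188, 168, 154, 102],
  [194, 192, 186, 193, 189, 159, 103, 105],
  [188, 195, 172, 192, 190, 158, 123, 114],
  [187, 189, 173, 196, 191, 122, 119, 164],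
  [184, 183, 199, 182, 192, 153, 168, 126],
  [161, 182, 187, 156, 193, 115, 122, 174],
  [182, 184, 189, 161, 194, 79, 185, 155],
  [156, 161, 196, 183, 195, 61, 91, 94],
  [195, 193, 160, 188, 196, 185, 117, 60],
  [181, 172, 184, 186, 197, 117, 79, 83],
  [186, 181, 182, 191, 198, 91, 178, 116],
  [192, 188, 181, 194, 199, 178, 61, 67]
]

/-- Parents in the class in the subgroup 1. -/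
def clsPar1 : List (Nat × Nat) := [
  (0, 0),
  (0, 0),
  (0, 1),
  (0, 2),
  (0, 3),
  (0, 5),
  (0, 6),
  (0, 7),
  (1, 0),
  (1, 1),
  (1, 3),
  (1, 5),
  (1, 6),
  (1, 7),
  (2, 1),
  (2, 2),
  (2, 3),
  (2, 5),
  (2, 6),
  (2, 7),
  (3, 2),
  (3, 3),
  (3, 5),
  (3, 6),
  (3, 7),
  (4, 3),
  (4, 5),
  (4, 6),
  (4, 7),
  (5, 1),
  (5, 3),
  (5, 6),
  (6, 0),
  (6, 1),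
  (6, 3),
  (6, 5),
  (6, 7),
  (7, 0),
  (7, 1),
  (7, 2),
  (7, 3),
  (8, 0),
  (8, 3),
  (8, 5),
  (8, 6),
  (9, 1),
  (9, 3),
  (9, 5),
  (9, 6),
  (10, 3),
  (10, 5),
  (10, 6),
  (10, 7),
  (11, 1),
  (11, 3),
  (11, 6),
  (11, 7),
  (12, 0),
  (12, 1),
  (12, 3),
  (12, 5),
  (12, 7),
  (13, 0),
  (13, 1),
  (13, 2),
  (13, 3),
  (13, 5),
  (13, 6),
  (14, 1),
  (14, 2),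
  (14, 5),
  (14, 6),
  (15, 5),
  (15, 6),
  (16, 3),
  (16, 7),
  (17, 1),
  (17, 7),
  (18, 3),
  (18, 7),
  (19, 0),
  (19, 1),
  (19, 5),
  (19, 6),
  (20, 3),
  (20, 5),
  (20, 6),
  (20, 7),
  (21, 6),
  (21, 7),
  (22, 1),
  (23, 7),
  (24, 0),
  (24, 5),
  (24, 6),
  (25, 3),
  (25, 6),
  (26, 1),
  (26, 3),
  (26, 6),
  (26, 7),
  (27, 1),
  (27, 5),
  (27, 7),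
  (28, 5),
  (28, 6),
  (29, 3),
  (29, 6),
  (29, 7),
  (30, 3),
  (31, 0),
  (31, 1),
  (31, 2),
  (32, 3),
  (32, 5),
  (32, 7),
  (33, 5),
  (33, 7),
  (34, 5),
  (34, 7),
  (35, 1),
  (35, 7),
  (36, 0),
  (36, 2),
  (36, 3),
  (37, 1),
  (37, 6),
  (38, 1),
  (38, 3),
  (38, 6),
  (39, 3),
  (39, 6),
  (40, 3),
  (40, 6),
  (42, 5),
  (43, 3),
  (43, 6),
  (43, 7),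
  (44, 0),
  (44, 5),
  (44, 7),
  (48, 3),
  (48, 7),
  (49, 3),
  (49, 6),
  (50, 3),
  (50, 6),
  (51, 5),
  (51, 7),
  (53, 3),
  (55, 2),
  (56, 3),
  (57, 5),
  (58, 7),
  (59, 7),
  (60, 1),
  (60, 7),
  (61, 0),
  (61, 2),
  (61, 3),
  (61, 5),
  (61, 6),
  (62, 5),
  (62, 6),
  (64, 6),
  (65, 6),
  (66, 1),
  (71, 7),
  (73, 7),
  (77, 3),
  (78, 5),
  (78, 7),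
  (79, 5),
  (79, 6),
  (80, 6),
  (81, 5),
  (82, 1),
  (86, 7),
  (88, 7),
  (91, 5),
  (92, 6),
  (102, 7),
  (103, 5),
  (103, 6),
  (114, 7),
  (115, 2),
  (115, 5),
  (115, 6),
  (118, 7),
  (119, 6),
  (120, 7),
  (121, 1),
  (123, 5),
  (131, 7),
  (133, 7),
  (139, 7),
  (140, 5),
  (147, 7),
  (148, 5),
  (165, 7)
]

/-- Generators of a Sylow 3-subgroup of the subgroup 1. -/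
def sylI1 : List (List Nat) := [[0, 7, 2, 5, 6, 3, 5, 2]]

/-- Its elements. -/
def sylE1 : List (List Nat) := [[], [0], [0, 0]]

/-- Its multiplication by the generators. -/
def sylTab1 : List (List Nat) := [[1], [2], [0]]

/-- Whether trivial, in the class, or conjugate to the fixed-point-free element. -/
def sylK1 : List (Nat × Nat × List Nat) := [(0, 0, []), (1, 63, []), (1, 41, [])]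

/-- The class in increasing order of codes. -/
def clsOrd1 : List Nat := [
  33,
  134,
  123,
  149,
  179,
  130,
  160,
  117,
  152,
  105,
  119,
  127,
  41,
  22,
  32,
  57,
  90,
  195,
  58,
  128,
  104,
  79,
  173,
  165,
  84,
  121,
  8,
  95,
  155,
  189,
  110,
  156,
  74,
  10,
  177,
  197,
  67,
  133,
  21,
  137,
  131,
  158,
  111,
  198,
  143,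
  15,
  62,
  49,
  164,
  150,
  71,
  92,
  124,
  108,
  184,
  1,
  157,
  68,
  87,
  102,
  76,
  122,
  96,
  27,
  148,
  170,
  138,
  89,
  191,
  97,
  6,
  120,
  86,
  101,
  118,
  78,
  28,
  192,
  112,
  115,
  135,
  185,
  182,
  99,
  55,
  51,
  126,
  174,
  186,
  4,
  14,
  20,
  66,
  141,
  169,
  103,
  94,
  176,
  18,
  43,
  114,
  187,
  194,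
  26,
  140,
  35,
  142,
  144,
  70,
  190,
  45,
  72,
  171,
  153,
  175,
  147,
  91,
  193,
  48,
  69,
  24,
  50,
  47,
  116,
  162,
  37,
  19,
  25,
  56,
  82,
  129,
  93,
  75,
  159,
  167,
  40,
  17,
  5,
  109,
  196,
  178,
  11,
  9,
  132,
  59,
  38,
  31,
  188,
  7,
  139,
  39,
  46,
  54,
  23,
  16,
  65,
  63,
  73,
  113,
  98,
  2,
  136,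
  168,
  64,
  199,
  100,
  83,
  44,
  60,
  30,
  106,
  166,
  161,
  181,
  163,
  180,
  107,
  34,
  154,
  145,
  0,
  77,
  13,
  61,
  29,
  42,
  3,
  151,
  53,
  183,
  85,
  52,
  88,
  81,
  125,
  146,
  172,
  36,
  12,
  80
]

/-- The elements in increasing order of codes. -/
def sylOrd1 : List Nat := [2, 0, 1]

/-- A representative of a fixed coset of the suborbit 1. -/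
def aW1 : List Nat := [5, 1, 3, 3, 1]

/-- An element completing it to a centralising element. -/
def hW1 : List Nat := [0, 2, 2, 0, 4]

/-- The conjugacy class in the subgroup 2. -/
def clsW2 : List (List Nat) := [
  [2, 4, 5, 0, 3, 1, 2, 4, 5, 3],
  [2, 0, 4, 5, 0, 3, 1, 2, 4, 5, 1, 3],
  [2, 2, 0, 4, 5, 0, 3, 1, 2, 4, 5, 1, 3, 3],
  [1, 3, 3, 6, 8, 5, 0, 3, 1, 2, 4, 9, 7, 2, 2, 0],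
  [2, 2, 4, 5, 0, 3, 1, 2, 4, 5, 3, 3],
  [4, 4, 6, 5, 2, 5, 0, 3, 1, 2, 4, 3, 4, 7, 5, 5],
  [2, 2, 0, 3, 4, 5, 0, 3, 1, 2, 4, 5, 2, 1, 3, 3],
  [5, 1, 2, 2, 5, 0, 3, 1, 2, 4, 3, 3, 0, 4],
  [2, 2, 1, 2, 8, 5, 0, 3, 1, 2, 4, 9, 3, 0, 3, 3],
  [0, 2, 8, 5, 3, 5, 0, 3, 1, 2, 4, 2, 4, 9, 3, 1],
  [3, 6, 1, 8, 5, 0, 3, 1, 2, 4, 9, 0, 7, 2],
  [2, 8, 5, 3, 5, 0, 3, 1, 2, 4, 2, 4, 9, 3],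
  [2, 8, 6, 8, 4, 5, 0, 3, 1, 2, 4, 5, 9, 7, 9, 3],
  [2, 2, 0, 3, 0, 4, 5, 0, 3, 1, 2, 4, 5, 1, 2, 1, 3, 3],
  [0, 2, 2, 0, 4, 5, 0, 3, 1, 2, 4, 5, 1, 3, 3, 1],
  [5, 7, 5, 2, 0, 5, 0, 3, 1, 2, 4, 1, 3, 4, 6, 4],
  [1, 3, 0, 8, 5, 0, 3, 1, 2, 4, 9, 1, 2, 0],
  [2, 5, 8, 2, 0, 5, 0, 3, 1, 2, 4, 1, 3, 9, 4, 3],
  [4, 6, 5, 2, 0, 5, 0, 3, 1, 2, 4, 1, 3, 4, 7, 5],
  [2, 8, 0, 5, 6, 5, 0, 3, 1, 2, 4, 7, 4, 1, 9, 3],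
  [1, 3, 3, 8, 5, 0, 3, 1, 2, 4, 9, 2, 2, 0],
  [0, 3, 0, 8, 5, 0, 3, 1, 2, 4, 9, 1, 2, 1],
  [8, 0, 3, 5, 0, 5, 0, 3, 1, 2, 4, 1, 4, 2, 1, 9],
  [5, 6, 8, 4, 8, 5, 0, 3, 1, 2, 4, 9, 5, 9, 7, 4],
  [6, 0, 3, 0, 8, 5, 0, 3, 1, 2, 4, 9, 1, 2, 1, 7],
  [7, 3, 3, 8, 5, 0, 3, 1, 2, 4, 9, 2, 2, 6],
  [3, 3, 6, 8, 5, 0, 3, 1, 2, 4, 9, 7, 2, 2],
  [7, 3, 0, 8, 5, 0, 3, 1, 2, 4, 9, 1, 2, 6],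
  [2, 1, 8, 5, 3, 5, 0, 3, 1, 2, 4, 2, 4, 9, 0, 3],
  [3, 0, 8, 5, 0, 3, 1, 2, 4, 9, 1, 2],
  [7, 2, 8, 4, 0, 5, 0, 3, 1, 2, 4, 1, 5, 9, 3, 6],
  [6, 1, 2, 8, 4, 0, 5, 0, 3, 1, 2, 4, 1, 5, 9, 3, 0, 7],
  [5, 5, 7, 5, 2, 5, 0, 3, 1, 2, 4, 3, 4, 6, 4, 4],
  [1, 2, 8, 4, 0, 5, 0, 3, 1, 2, 4, 1, 5, 9, 3, 0],
  [8, 0, 5, 3, 4, 5, 0, 3, 1, 2, 4, 5, 2, 4, 1, 9],
  [5, 6, 2, 2, 0, 5, 0, 3, 1, 2, 4, 1, 3, 3, 7, 4],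
  [6, 2, 8, 4, 0, 5, 0, 3, 1, 2, 4, 1, 5, 9, 3, 7],
  [3, 0, 2, 0, 8, 5, 0, 3, 1, 2, 4, 9, 1, 3, 1, 2],
  [3, 6, 0, 8, 5, 0, 3, 1, 2, 4, 9, 1, 7, 2],
  [2, 0, 0, 8, 4, 0, 5, 0, 3, 1, 2, 4, 1, 5, 9, 1, 1, 3],
  [0, 2, 8, 4, 0, 5, 0, 3, 1, 2, 4, 1, 5, 9, 3, 1],
  [3, 0, 6, 8, 5, 0, 3, 1, 2, 4, 9, 7, 1, 2],
  [2, 8, 4, 0, 5, 0, 3, 1, 2, 4, 1, 5, 9, 3],
  [0, 3, 3, 8, 5, 0, 3, 1, 2, 4, 9, 2, 2, 1],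
  [4, 3, 5, 6, 2, 5, 0, 3, 1, 2, 4, 3, 7, 4, 2, 5],
  [3, 3, 0, 3, 8, 5, 0, 3, 1, 2, 4, 9, 2, 1, 2, 2],
  [2, 1, 2, 2, 8, 5, 0, 3, 1, 2, 4, 9, 3, 3, 0, 3],
  [0, 3, 6, 0, 8, 5, 0, 3, 1, 2, 4, 9, 1, 7, 2, 1],
  [2, 1, 8, 4, 0, 5, 0, 3, 1, 2, 4, 1, 5, 9, 0, 3],
  [1, 3, 6, 0, 8, 5, 0, 3, 1, 2, 4, 9, 1, 7, 2, 0],
  [6, 1, 3, 0, 8, 5, 0, 3, 1, 2, 4, 9, 1, 2, 0, 7],
  [4, 6, 8, 3, 0, 5, 0, 3, 1, 2, 4, 1, 2, 9, 7, 5],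
  [3, 1, 8, 5, 0, 3, 1, 2, 4, 9, 0, 2],
  [3, 3, 8, 5, 0, 3, 1, 2, 4, 9, 2, 2],
  [1, 3, 1, 8, 5, 0, 3, 1, 2, 4, 9, 0, 2, 0],
  [3, 3, 0, 0, 8, 5, 0, 3, 1, 2, 4, 9, 1, 1, 2, 2]
]

/-- Conjugation of the class by the generators of the subgroup 2. -/
def clsTab2 : List (List Nat) := [
  [1, 1, 2, 3],
  [0, 0, 4, 5],
  [6, 4, 7, 8],
  [9, 10, 11, 12],
  [13, 2, 14, 15],
  [12, 16, 17, 9],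
  [2, 7, 6, 18],
  [14, 6, 0, 19],
  [20, 21, 22, 23],
  [15, 24, 25, 1],
  [11, 18, 15, 26],
  [27, 28, 10, 10],
  [8, 29, 30, 0],
  [4, 14, 13, 31],
  [7, 13, 1, 32],
  [33, 27, 34, 35],
  [17, 31, 8, 36],
  [21, 37, 16, 16],
  [23, 38, 39, 20],
  [40, 41, 42, 43],
  [32, 44, 37, 6],
  [22, 5, 32, 29],
  [45, 36, 21, 46],
  [3, 47, 48, 2],
  [26, 23, 40, 49],
  [47, 42, 47, 28],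
  [50, 11, 50, 11],
  [34, 3, 19, 24],
  [24, 39, 24, 47],
  [36, 35, 43, 51],
  [52, 53, 52, 37],
  [35, 54, 55, 33],
  [43, 45, 53, 40],
  [19, 50, 28, 13],
  [41, 26, 27, 48],
  [5, 52, 46, 4],
  [44, 17, 44, 17],
  [29, 55, 29, 52],
  [39, 19, 3, 38],
  [10, 25, 38, 42],
  [18, 49, 26, 14],
  [42, 15, 18, 34],
  [38, 48, 41, 50],
  [31, 51, 36, 7],
  [46, 12, 35, 55],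
  [53, 8, 31, 22],
  [51, 22, 51, 45],
  [28, 40, 33, 25],
  [49, 34, 49, 41],
  [25, 33, 9, 27],
  [48, 9, 23, 39],
  [30, 20, 12, 21],
  [37, 43, 20, 30],
  [54, 46, 45, 44],
  [55, 32, 5, 54],
  [16, 30, 54, 53]
]

/-- Parents in the class in the subgroup 2. -/
def clsPar2 : List (Nat × Nat) := [
  (0, 0),
  (0, 0),
  (0, 2),
  (0, 3),
  (1, 2),
  (1, 3),
  (2, 0),
  (2, 2),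
  (2, 3),
  (3, 0),
  (3, 1),
  (3, 2),
  (3, 3),
  (4, 0),
  (4, 2),
  (4, 3),
  (5, 1),
  (5, 2),
  (6, 3),
  (7, 3),
  (8, 0),
  (8, 1),
  (8, 2),
  (8, 3),
  (9, 1),
  (9, 2),
  (10, 3),
  (11, 0),
  (11, 1),
  (12, 1),
  (12, 2),
  (13, 3),
  (14, 3),
  (15, 0),
  (15, 2),
  (15, 3),
  (16, 3),
  (17, 1),
  (18, 1),
  (18, 2),
  (19, 0),
  (19, 1),
  (19, 2),
  (19, 3),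
  (20, 1),
  (22, 0),
  (22, 3),
  (23, 1),
  (23, 2),
  (24, 3),
  (26, 0),
  (29, 3),
  (30, 0),
  (30, 1),
  (31, 1),
  (31, 2)
]

/-- Generators of a Sylow 3-subgroup of the subgroup 2. -/
def sylI2 : List (List Nat) := [[2, 2, 3, 1, 3, 3, 1, 3], [2, 3, 2, 3, 0, 0]]

/-- Its elements. -/
def sylE2 : List (List Nat) := [
  [],
  [0],
  [1],
  [0, 0],
  [0, 1],
  [1, 0],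
  [1, 1],
  [0, 0, 1],
  [0, 1, 0],
  [0, 1, 1],
  [1, 0, 0],
  [1, 0, 1],
  [1, 1, 0],
  [0, 0, 1, 0],
  [0, 0, 1, 1],
  [0, 1, 0, 0],
  [0, 1, 0, 1],
  [0, 1, 1, 0],
  [1, 0, 1, 1],
  [1, 1, 0, 1],
  [0, 0, 1, 0, 0],
  [0, 0, 1, 0, 1],
  [0, 0, 1, 1, 0],
  [0, 1, 0, 1, 1],
  [0, 1, 1, 0, 1],
  [0, 0, 1, 0, 1, 1],
  [0, 0, 1, 1, 0, 1]
]

/-- Its multiplication by the generators. -/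
def sylTab2 : List (List Nat) := [
  [1, 2],
  [3, 4],
  [5, 6],
  [0, 7],
  [8, 9],
  [10, 11],
  [12, 0],
  [13, 14],
  [15, 16],
  [17, 1],
  [2, 17],
  [14, 18],
  [16, 19],
  [20, 21],
  [22, 3],
  [4, 22],
  [6, 23],
  [21, 24],
  [23, 5],
  [24, 20],
  [7, 12],
  [9, 25],
  [11, 26],
  [25, 8],
  [26, 10],
  [18, 13],
  [19, 15]
]

/-- Whether trivial, in the class, or conjugate to the fixed-point-free element. -/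
def sylK2 : List (Nat × Nat × List Nat) := [
  (0, 0, []),
  (2, 0, [1, 5, 6, 4, 6, 5, 5, 8, 2]),
  (2, 0, [2, 0, 8, 7, 5, 0, 5, 5]),
  (2, 0, [8, 0, 3, 8, 0, 6, 5, 0]),
  (2, 0, [4, 8, 7, 8, 3, 4, 0, 6, 5]),
  (2, 0, [3, 0, 8, 4, 1, 8, 6, 6]),
  (2, 0, [3, 0, 4, 6, 8, 1, 2, 1]),
  (2, 0, [3, 4, 3, 1, 8, 4, 0, 5, 6]),
  (2, 0, [3, 0, 6, 4, 1, 8, 0, 0, 0]),
  (2, 0, [4, 3, 6, 0, 4, 8, 0, 5]),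
  (2, 0, [5, 8, 0, 5, 5, 7, 4, 6]),
  (2, 0, [8, 0, 5, 8, 0, 4, 8, 4]),
  (2, 0, [5, 2, 8, 7, 4, 2, 0, 4, 4]),
  (2, 0, [8, 1, 5, 2, 5, 6, 8, 7, 0, 0]),
  (2, 0, [2, 8, 0, 0, 5, 6, 5, 0, 2, 2]),
  (2, 0, [7, 8, 5, 7, 0, 5, 0, 8, 0]),
  (2, 0, [1, 8, 6, 5, 3, 5, 2, 1, 8]),
  (2, 0, [6, 2, 5, 8, 7, 4, 6, 2, 2, 0]),
  (2, 0, [4, 0, 8, 2, 1, 3, 1]),
  (2, 0, [4, 4, 7, 5, 8, 4, 0, 5, 6]),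
  (2, 0, [5, 1, 5, 6, 5, 3, 5, 0, 5]),
  (2, 0, [6, 4, 1, 8, 3, 1, 8, 6, 4]),
  (2, 0, [6, 5, 8, 3, 6, 5, 3, 5, 2]),
  (2, 0, [2, 8, 3, 0, 4, 3, 6, 5, 8]),
  (2, 0, [4, 1, 2, 8, 2, 2, 1, 4]),
  (1, 38, []),
  (1, 54, [])
]

/-- The class in increasing order of codes. -/
def clsOrd2 : List Nat := [
  0,
  13,
  6,
  2,
  4,
  7,
  14,
  1,
  25,
  37,
  26,
  46,
  44,
  24,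
  32,
  15,
  18,
  5,
  39,
  17,
  53,
  34,
  3,
  8,
  19,
  31,
  30,
  48,
  28,
  36,
  10,
  21,
  54,
  41,
  51,
  50,
  47,
  29,
  52,
  49,
  45,
  27,
  35,
  40,
  9,
  20,
  11,
  22,
  12,
  23,
  33,
  43,
  42,
  55,
  38,
  16
]

/-- The elements in increasing order of codes. -/
def sylOrd2 : List Nat := [0, 7, 21, 4, 23, 16, 6, 15, 5, 26, 24, 10, 9, 12, 2, 14, 22, 19, 13, 1, 20, 25, 11, 17, 18, 3, 8]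

/-- A representative of a fixed coset of the suborbit 2. -/
def aW2 : List Nat := [5, 3]

/-- An element completing it to a centralising element. -/
def hW2 : List Nat := [2, 4]

/-- The conjugacy class in the subgroup 3. -/
def clsW3 : List (List Nat) := [[2, 2, 4, 5, 0, 3, 1, 2, 4, 5, 3, 3], [2, 2, 0, 4, 5, 0, 3, 1, 2, 4, 5, 1, 3, 3]]

/-- Conjugation of the class by the generators of the subgroup 3. -/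
def clsTab3 : List (List Nat) := [[0, 1, 1, 1], [1, 0, 0, 0]]

/-- Parents in the class in the subgroup 3. -/
def clsPar3 : List (Nat × Nat) := [(0, 0), (0, 1)]

/-- Generators of a Sylow 3-subgroup of the subgroup 3. -/
def sylI3 : List (List Nat) := [[0, 0, 0, 0], [0, 3, 0, 1, 0]]

/-- Its elements. -/
def sylE3 : List (List Nat) := [[], [0], [1], [0, 0], [0, 1], [1, 1], [0, 0, 1], [0, 1, 1], [0, 0, 1, 1]]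

/-- Its multiplication by the generators. -/
def sylTab3 : List (List Nat) := [[1, 2], [3, 4], [4, 5], [0, 6], [6, 7], [7, 0], [2, 8], [8, 1], [5, 3]]

/-- Whether trivial, in the class, or conjugate to the fixed-point-free element. -/
def sylK3 : List (Nat × Nat × List Nat) := [
  (0, 0, []),
  (1, 0, []),
  (2, 0, [5, 2, 0, 4, 3, 6, 8, 7, 2]),
  (1, 1, []),
  (2, 0, [0, 8, 3, 0, 3, 6, 8, 6, 2]),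
  (2, 0, [6, 5, 2, 1, 5, 6, 4, 3, 5]),
  (2, 0, [4, 1, 8, 7, 4, 1, 5, 8, 0, 0]),
  (2, 0, [0, 4, 8, 1, 3, 5, 6, 8, 1]),
  (2, 0, [1, 8, 0, 8, 6, 0, 8, 2, 2])
]

/-- The class in increasing order of codes. -/
def clsOrd3 : List Nat := [1, 0]

/-- The elements in increasing order of codes. -/
def sylOrd3 : List Nat := [0, 3, 1, 8, 7, 5, 4, 2, 6]

/-- A representative of a fixed coset of the suborbit 3. -/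
def aW3 : List Nat := [5, 3, 3]

/-- An element completing it to a centralising element. -/
def hW3 : List Nat := [2, 4]

/-- The conjugacy class in the subgroup 4. -/
def clsW4 : List (List Nat) := [
  [8, 6, 0, 8, 7, 0, 5, 0, 3, 1, 2, 4, 1, 6, 9, 1, 7, 9],
  [6, 1, 5, 3, 6, 0, 5, 0, 3, 1, 2, 4, 1, 7, 2, 4, 0, 7],
  [4, 8, 7, 5, 0, 5, 0, 3, 1, 2, 4, 1, 4, 6, 9, 5],
  [5, 5, 8, 7, 5, 0, 5, 0, 3, 1, 2, 4, 1, 4, 6, 9, 4, 4],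
  [6, 8, 6, 1, 2, 0, 5, 0, 3, 1, 2, 4, 1, 3, 0, 7, 9, 7],
  [6, 2, 5, 5, 6, 2, 5, 0, 3, 1, 2, 4, 3, 7, 4, 4, 3, 7],
  [1, 4, 8, 6, 2, 2, 5, 0, 3, 1, 2, 4, 3, 3, 7, 9, 5, 0],
  [7, 5, 8, 5, 6, 0, 5, 0, 3, 1, 2, 4, 1, 7, 4, 9, 4, 6],
  [5, 8, 7, 5, 0, 5, 0, 3, 1, 2, 4, 1, 4, 6, 9, 4],
  [0, 4, 6, 4, 2, 0, 5, 0, 3, 1, 2, 4, 1, 3, 5, 7, 5, 1],
  [6, 2, 1, 8, 0, 5, 0, 3, 1, 2, 4, 1, 9, 0, 3, 7],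
  [6, 2, 1, 8, 2, 2, 5, 0, 3, 1, 2, 4, 3, 3, 9, 0, 3, 7],
  [8, 5, 0, 6, 2, 5, 0, 3, 1, 2, 4, 3, 7, 1, 4, 9],
  [3, 5, 0, 5, 7, 2, 5, 0, 3, 1, 2, 4, 3, 6, 4, 1, 4, 2],
  [8, 3, 0, 8, 6, 5, 0, 3, 1, 2, 4, 7, 9, 1, 2, 9],
  [8, 7, 5, 0, 5, 0, 3, 1, 2, 4, 1, 4, 6, 9],
  [8, 7, 0, 5, 1, 5, 0, 3, 1, 2, 4, 0, 4, 1, 6, 9],
  [8, 6, 4, 6, 2, 0, 5, 0, 3, 1, 2, 4, 1, 3, 7, 5, 7, 9],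
  [1, 4, 4, 6, 2, 5, 0, 3, 1, 2, 4, 3, 7, 5, 5, 0],
  [1, 8, 6, 1, 4, 1, 5, 0, 3, 1, 2, 4, 0, 5, 0, 7, 9, 0]
]

/-- Conjugation of the class by the generators of the subgroup 4. -/
def clsTab4 : List (List Nat) := [
  [1, 1, 2, 3, 4, 0],
  [4, 4, 5, 6, 3, 6],
  [6, 6, 7, 4, 8, 8],
  [9, 9, 10, 11, 12, 4],
  [8, 8, 13, 14, 15, 3],
  [14, 14, 12, 8, 9, 11],
  [16, 16, 3, 15, 10, 1],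
  [15, 15, 17, 16, 0, 12],
  [0, 0, 18, 10, 11, 2],
  [17, 17, 15, 12, 14, 18],
  [12, 12, 14, 17, 19, 10],
  [2, 2, 1, 13, 18, 5],
  [19, 19, 11, 7, 17, 7],
  [10, 10, 9, 0, 5, 14],
  [7, 7, 6, 19, 13, 13],
  [5, 5, 4, 18, 7, 16],
  [11, 11, 19, 9, 6, 15],
  [18, 18, 0, 5, 1, 19],
  [3, 3, 16, 1, 2, 9],
  [13, 13, 8, 2, 16, 17]
]

/-- Parents in the class in the subgroup 4. -/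
def clsPar4 : List (Nat × Nat) := [(0, 0), (0, 0), (0, 2), (0, 3), (0, 4), (1, 2), (1, 3), (2, 2), (2, 4), (3, 0), (3, 2), (3, 3), (3, 4), (4, 2), (4, 3), (4, 4), (6, 0), (7, 2), (8, 2), (10, 4)]

/-- Generators of a Sylow 3-subgroup of the subgroup 4. -/
def sylI4 : List (List Nat) := [[0, 0, 0, 1, 5, 4], [0, 0, 0, 4, 3, 2]]

/-- Its elements. -/
def sylE4 : List (List Nat) := [[], [0], [1], [0, 0], [0, 1], [1, 1], [0, 0, 1], [0, 1, 1], [0, 0, 1, 1]]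

/-- Its multiplication by the generators. -/
def sylTab4 : List (List Nat) := [[1, 2], [3, 4], [4, 5], [0, 6], [6, 7], [7, 0], [2, 8], [8, 1], [5, 3]]

/-- Whether trivial, in the class, or conjugate to the fixed-point-free element. -/
def sylK4 : List (Nat × Nat × List Nat) := [
  (0, 0, []),
  (2, 0, [8, 0, 3, 3, 5, 7, 2, 8, 2]),
  (1, 2, []),
  (2, 0, [7, 8, 4, 6, 8, 4, 0, 6, 4]),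
  (2, 0, [3, 5, 1, 8, 4, 2, 8, 0, 0]),
  (1, 14, []),
  (2, 0, [8, 4, 0, 2, 0, 5, 8, 1, 1]),
  (2, 0, [3, 4, 8, 5, 5, 1, 5, 8, 2, 0]),
  (2, 0, [8, 7, 8, 3, 6, 1, 3, 8])
]

/-- The class in increasing order of codes. -/
def clsOrd4 : List Nat := [2, 10, 9, 1, 12, 17, 6, 4, 16, 18, 8, 19, 5, 7, 15, 14, 13, 0, 3, 11]

/-- The elements in increasing order of codes. -/
def sylOrd4 : List Nat := [0, 8, 2, 5, 4, 3, 6, 1, 7]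

/-- A representative of a fixed coset of the suborbit 4. -/
def aW4 : List Nat := [1, 6, 9, 1, 7, 9]

/-- An element completing it to a centralising element. -/
def hW4 : List Nat := [2, 5, 7, 5, 8]

end CfsgLib.Coset.Ly.Cent
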