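import Cfsg.Agent.Coset.Ly.Lower
import Cfsg.Agent.Coset.Ly.CentData

/-!
Kernel checks and generic lemmas for the centraliser of an element of order three in the model.
-/

set_option autoImplicit false
set_option maxRecDepth 100000
set_option Elab.async false

namespace CfsgLib.Coset.Ly.Cent

/-- Generators of the subgroup fixing a node. -/
def gensN : Nat → List (List Nat)
  | 1 => kgW | 2 => cv2G | 3 => cv3G | _ => cv4G

/-- The listed class in the subgroup of a node. -/
def clsW : Nat → List (List Nat)
  | 1 => clsW1 | 2 => clsW2 | 3 => clsW3 | _ => clsW4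

/-- Conjugation of the class by generators. -/
def clsTab : Nat → List (List Nat)
  | 1 => clsTab1 | 2 => clsTab2 | 3 => clsTab3 | _ => clsTab4

/-- Parents in the class. -/
def clsPar : Nat → List (Nat × Nat)
  | 1 => clsPar1 | 2 => clsPar2 | 3 => clsPar3 | _ => clsPar4

/-- The class in increasing order of codes. -/
def clsOrd : Nat → List Nat
  | 1 => clsOrd1 | 2 => clsOrd2 | 3 => clsOrd3 | _ => clsOrd4

/-- Generators of a Sylow 3-subgroup as products. -/
def sylI : Nat → List (List Nat)
  | 1 => sylI1 | 2 => sylI2 | 3 => sylI3 | _ => sylI4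

/-- Its elements as products. -/
def sylE : Nat → List (List Nat)
  | 1 => sylE1 | 2 => sylE2 | 3 => sylE3 | _ => sylE4

/-- Its multiplication by the generators. -/
def sylTab : Nat → List (List Nat)
  | 1 => sylTab1 | 2 => sylTab2 | 3 => sylTab3 | _ => sylTab4

/-- The kinds of its elements. -/
def sylK : Nat → List (Nat × Nat × List Nat)
  | 1 => sylK1 | 2 => sylK2 | 3 => sylK3 | _ => sylK4

/-- Its elements in increasing order of codes. -/
def sylOrd : Nat → List Nat
  | 1 => sylOrd1 | 2 => sylOrd2 | 3 => sylOrd3 | _ => sylOrd4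

/-- Representatives of the fixed cosets. -/
def aW : Nat → List Nat
  | 1 => aW1 | 2 => aW2 | 3 => aW3 | _ => aW4

/-- Completing elements. -/
def hW : Nat → List Nat
  | 1 => hW1 | 2 => hW2 | 3 => hW3 | _ => hW4

/-- The sizes of the classes. -/
def clsSize (n : Nat) : Nat := [0, 200, 56, 2, 20].getD n 0

/-- The orders of the Sylow 3-subgroups. -/
def sylSize (n : Nat) : Nat := [0, 3, 27, 9, 9].getD n 0

/-- The orders of the subgroups fixing the nodes. -/
def stSize (n : Nat) : Nat := [0, 300000, 6048, 1008, 2880].getD n 0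

/-- The Sylow generators as words. -/
def sylW (n : Nat) : List (List Nat) := (sylI n).map (flatW (gensN n))

/-- The Sylow elements as words. -/
def sylEW (n : Nat) : List (List Nat) := (sylE n).map (flatW (sylW n))

/-- The elements of the stabiliser of two points. -/
def twoW : List (List Nat) := twoL.map (flatW CA2G)

section Kernel

/-- Membership in a list of numbers. -/
noncomputable def memL (i : Nat) (s : List Nat) : Bool :=
  List.rec false (fun r _ ih => cond (Nat.beq r i) true ih) s

/-- Image of a point under a word, from the right. -/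
noncomputable def im (i : Nat) (w : List Nat) : Nat := ff (tget TP.Tb) i w

/-- A code determined by the images of the base. -/
noncomputable def codeA (w : List Nat) : Nat :=
  Nat.add (Nat.mul (Nat.add (Nat.mul (im 0 w) 3906) (im 2455 w)) 3906) (im 1980 w)

/-- Strictly increasing, starting from a bound. -/
noncomputable def incrFrom (s : List Nat) (lo : Nat) : Bool :=
  List.rec (motive := fun _ => Nat → Bool) (fun _ => true)
    (fun v _ ih lo => cond (Nat.ble lo v) (ih (Nat.add v 1)) false) s lo

/-- Strictly increasing. -/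
noncomputable def incr (s : List Nat) : Bool := incrFrom s 0

/-- Equality of lists of numbers. -/
noncomputable def eqL (s t : List Nat) : Bool :=
  List.rec (motive := fun _ => List Nat → Bool)
    (fun t => List.rec true (fun _ _ _ => false) t)
    (fun a _ ih t => List.rec false (fun b r _ => cond (Nat.beq a b) (ih r) false) t) s t

/-- All indices are in range. -/
noncomputable def idxOK (m : Nat) (ord : List Nat) : Bool :=
  allList (fun j => Nat.ble (Nat.add j 1) m) ord

/-- Two words commute in the model. -/
noncomputable def commA (v w : List Nat) : Bool := eqA (v ++ w) (w ++ v)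

/-- The word of a conjugate. -/
def cjW (g w : List Nat) : List Nat := g ++ w ++ invW g

/-- A word has no fixed point. -/
noncomputable def noFix (w : List Nat) : Bool :=
  allBelow 12 3906 fun i => cond (Nat.beq (im i w) i) false true

/-- All fixed points of a word are listed. -/
noncomputable def fixIn (w : List Nat) (s : List Nat) : Bool :=
  allBelow 12 3906 fun i => cond (Nat.beq (im i w) i) (memL i s) true

end Kernel

theorem im_eq {w : List Nat} (hw : ∀ l ∈ w, l < 18) (i : Fin 3906) :
    im i w = (((ρ (ev LA w))⁻¹ i : Fin 3906) : Nat) := by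
  rw [im, ff_eq, matches_ρ.follow_eq w i (by simpa [len_LA] using hw)]

theorem fix_iff {w : List Nat} (hw : ∀ l ∈ w, l < 18) (i : Fin 3906) :
    ρ (ev LA w) i = i ↔ im i w = i := by
  rw [im, ff_eq, matches_ρ.fix_iff (by simpa [len_LA] using hw)]

theorem eqL_sound : ∀ {s t : List Nat}, eqL s t = true → s = t := by
  intro s
  induction s with
  | nil => intro t h; cases t with
    | nil => rfl
    | cons b r => exact Bool.noConfusion h
  | cons a s ih => intro t h; cases t with
    | nil => exact Bool.noConfusion h
    | cons b r =>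
      change cond (Nat.beq a b) (eqL s r) false = true at h
      rw [cond_false_eq_true] at h
      rw [Nat.eq_of_beq_eq_true h.1, ih h.2]

theorem memL_sound : ∀ {s : List Nat} {i : Nat}, memL i s = true → i ∈ s := by
  intro s
  induction s with
  | nil => intro i h; exact Bool.noConfusion h
  | cons r s ih =>
    intro i h
    change cond (Nat.beq r i) true (memL i s) = true at h
    cases hb : Nat.beq r i
    · rw [hb, cond_false] at h
      exact List.mem_cons_of_mem _ (ih h)
    · rw [Nat.eq_of_beq_eq_true hb]
      exact List.mem_cons_self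

theorem incrFrom_sound : ∀ {s : List Nat} {lo : Nat}, incrFrom s lo = true →
    (∀ v ∈ s, lo ≤ v) ∧ s.Nodup := by
  intro s
  induction s with
  | nil => intro lo _; simp
  | cons v s ih =>
    intro lo h
    change cond (Nat.ble lo v) (incrFrom s (v + 1)) false = true at h
    rw [cond_false_eq_true] at h
    obtain ⟨h1, h2⟩ := ih h.2
    have hlo : lo ≤ v := Nat.ble_eq.mp h.1
    refine ⟨fun u hu => ?_, List.nodup_cons.mpr ⟨fun hm => ?_, h2⟩⟩
    · rcases List.mem_cons.mp hu with rfl | hu
      · exact hlo
      · have := h1 u hu; omega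
    · have := h1 v hm; omega

theorem commA_sound {v w : List Nat} (h : commA v w = true) :
    ev LA v * ev LA w = ev LA w * ev LA v := by
  have := eqA_sound h
  rwa [ev_append, ev_append] at this

theorem ev_cjW {g : List Nat} (hg : ∀ l ∈ g, l < 18) (w : List Nat) :
    ev LA (cjW g w) = ev LA g * ev LA w * (ev LA g)⁻¹ := by
  rw [cjW, ev_append, ev_append, ev_invW_LA g hg]

/-- Words with distinct codes give as many elements. -/
theorem le_ncard_of_codes {ws : List (List Nat)} {ord : List Nat} (hl : ∀ w ∈ ws, ∀ l ∈ w, l < 18)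
    (hi : idxOK ws.length ord = true) (hc : incr (ord.map fun j => codeA (ws.getD j [])) = true) :
    ord.length ≤ {a : A | ∃ w ∈ ws, ev LA w = a}.ncard := by
  classical
  have hnd := (incrFrom_sound (lo := 0) hc).2
  have hfin : {a : A | ∃ w ∈ ws, ev LA w = a}.Finite := Set.toFinite _
  let c : A → Nat := fun a => ((((ρ a)⁻¹ (0 : Fin 3906) : Fin 3906) : Nat) * 3906 +
    (((ρ a)⁻¹ (2455 : Fin 3906) : Fin 3906) : Nat)) * 3906 +
    (((ρ a)⁻¹ (1980 : Fin 3906) : Fin 3906) : Nat)
  have hce : ∀ w ∈ ws, c (ev LA w) = codeA w := fun w hw => by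
    show _ = (im 0 w * 3906 + im 2455 w) * 3906 + im 1980 w
    have a0 := im_eq (hl w hw) (0 : Fin 3906)
    have a1 := im_eq (hl w hw) (2455 : Fin 3906)
    have a2 := im_eq (hl w hw) (1980 : Fin 3906)
    rw [show ((0 : Fin 3906) : Nat) = 0 from rfl] at a0
    rw [show ((2455 : Fin 3906) : Nat) = 2455 from rfl] at a1
    rw [show ((1980 : Fin 3906) : Nat) = 1980 from rfl] at a2
    rw [a0, a1, a2]
  calc ord.length = ((ord.map fun j => codeA (ws.getD j [])).toFinset).card := by
        rw [List.toFinset_card_of_nodup hnd, List.length_map]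
    _ ≤ (c '' {a : A | ∃ w ∈ ws, ev LA w = a}).ncard := by
        rw [← Set.ncard_coe_finset]
        refine Set.ncard_le_ncard (fun v hv => ?_) (hfin.image c)
        obtain ⟨j, hj, rfl⟩ := List.mem_map.mp (List.mem_toFinset.mp (Finset.mem_coe.mp hv))
        have hjl : j < ws.length := Nat.ble_eq.mp (allList_iff.mp hi j hj)
        have hm : ws.getD j [] ∈ ws := by
          rw [List.getD_eq_getElem _ _ hjl]; exact List.getElem_mem hjl
        exact ⟨ev LA (ws.getD j []), ⟨_, hm, rfl⟩, hce _ hm⟩
    _ ≤ _ := Set.ncard_image_le hfin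

theorem ncard_words_le (ws : List (List Nat)) :
    {a : A | ∃ w ∈ ws, ev LA w = a}.ncard ≤ ws.length := by
  classical
  rw [show {a : A | ∃ w ∈ ws, ev LA w = a} = ((ws.map (ev LA)).toFinset : Set A) by
    ext a; simp, Set.ncard_coe_finset]
  exact (List.toFinset_card_le _).trans_eq (List.length_map _)

/-- Words moving a point to distinct images bound a subgroup from below. -/
theorem level_ge (T : Subgroup A) (i : Fin 3906) {ws : List (List Nat)} {pts : List Nat}
    (hl : ∀ w ∈ ws, ∀ l ∈ w, l < 18) (hT : ∀ w ∈ ws, ev LA w ∈ T)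
    (he : eqL (ws.map (im i)) pts = true) (hc : incr pts = true) {M : Nat}
    (hM : M ≤ Nat.card (T ⊓ pstab ρ i : Subgroup A)) : pts.length * M ≤ Nat.card T := by
  classical
  rw [← card_orb_mul (ρ := ρ) T i]
  refine Nat.mul_le_mul ?_ hM
  have hnd := (incrFrom_sound (lo := 0) hc).2
  have hpts : pts = ws.map (im i) := (eqL_sound he).symm
  calc pts.length = (pts.toFinset).card := (List.toFinset_card_of_nodup hnd).symm
    _ ≤ ((fun j : Fin 3906 => (j : Nat)) '' orb ρ T i).ncard := by
        rw [← Set.ncard_coe_finset]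
        refine Set.ncard_le_ncard (fun v hv => ?_) ((Set.toFinite _).image _)
        rw [Finset.mem_coe, List.mem_toFinset, hpts] at hv
        obtain ⟨w, hw, rfl⟩ := List.mem_map.mp hv
        refine ⟨(ρ (ev LA w))⁻¹ i, ⟨(ev LA w)⁻¹, inv_mem (hT w hw), by rw [map_inv]⟩, ?_⟩
        exact (im_eq (hl w hw) i).symm
    _ ≤ _ := Set.ncard_image_le (Set.toFinite _)

/-- A finite set closed under right translation by generators absorbs the generated subgroup. -/
theorem mul_mem_of_gens {S : Set A} {gens : List (List Nat)}
    (h : ∀ w ∈ gens, ∀ s ∈ S, s * ev LA w ∈ S) :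
    ∀ g ∈ genW LA gens, ∀ s ∈ S, s * g ∈ S := by
  suffices h2 : ∀ g ∈ genW LA gens, ∀ s, s ∈ S ↔ s * g ∈ S from fun g hg s hs => (h2 g hg s).mp hs
  intro g hg
  induction hg using Subgroup.closure_induction with
  | mem x hx =>
    obtain ⟨w, hw, rfl⟩ := hx
    intro s
    refine ⟨h w hw s, fun hs => ?_⟩
    have himg : (fun t => t * ev LA w) '' S = S := Set.eq_of_subset_of_ncard_le
      (Set.image_subset_iff.mpr (h w hw)) (by rw [Set.ncard_image_of_injective _ (mul_left_injective _)])
    rw [← himg] at hs
    obtain ⟨t, ht, hts⟩ := hs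
    exact mul_right_cancel hts ▸ ht
  | one => intro s; rw [mul_one]
  | mul a b _ _ ha hb => intro s; rw [ha s, hb (s * a), mul_assoc]
  | inv a _ ha => intro s; rw [ha (s * a⁻¹), inv_mul_cancel_right]

/-- A finite set closed under conjugation by generators is invariant under the generated
subgroup. -/
theorem conj_mem_of_gens {S : Set A} {gens : List (List Nat)}
    (h : ∀ w ∈ gens, ∀ s ∈ S, ev LA w * s * (ev LA w)⁻¹ ∈ S) :
    ∀ g ∈ genW LA gens, ∀ s, s ∈ S ↔ g * s * g⁻¹ ∈ S := by
  intro g hg
  induction hg using Subgroup.closure_induction with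
  | mem x hx =>
    obtain ⟨w, hw, rfl⟩ := hx
    intro s
    refine ⟨h w hw s, fun hs => ?_⟩
    have hinj : Function.Injective fun t => ev LA w * t * (ev LA w)⁻¹ := fun a b hab =>
      mul_left_cancel (mul_right_cancel hab)
    have himg : (fun t => ev LA w * t * (ev LA w)⁻¹) '' S = S := Set.eq_of_subset_of_ncard_le
      (Set.image_subset_iff.mpr (h w hw)) (by rw [Set.ncard_image_of_injective _ hinj])
    rw [← himg] at hs
    obtain ⟨t, ht, hts⟩ := hs
    exact hinj hts ▸ ht
  | one => intro s; simp
  | mul a b _ _ ha hb =>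
    intro s
    rw [hb s, ha (b * s * b⁻¹)]
    simp [mul_assoc]
  | inv a _ ha =>
    intro s
    rw [ha (a⁻¹ * s * a⁻¹⁻¹)]
    simp [mul_assoc]

theorem orbit_mul {G α : Type*} [Group G] [MulAction G α] (a : α) :
    (MulAction.orbit G a).ncard * Nat.card (MulAction.stabilizer G a) = Nat.card G := by
  rw [← MulAction.index_stabilizer, mul_comm, Subgroup.card_mul_index]

end CfsgLib.Coset.Ly.Cent
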