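import Mathlib.GroupTheory.Sylow
import Mathlib.GroupTheory.GroupAction.Quotient
import Mathlib.GroupTheory.Perm.Cycle.Type
import Mathlib.Data.Set.Card.Arithmetic
import Mathlib.Algebra.BigOperators.Fin
import Mathlib.Tactic.NormNum.Prime
import Mathlib.Tactic.Ring

/-!
A central extension of order three acting transitively on 7128 points with suborbit lengths
1, 252, 750, 2625, 3500 is simple modulo its centre.
-/

set_option autoImplicit false
set_option linter.unusedSectionVars false

namespace CfsgLib.Coset.Ly.Cent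

/-- The suborbit lengths. -/
def subLen : Fin 4 → ℕ := ![252, 3500, 750, 2625]

variable {C : Type*} [Group C] [Finite C]

theorem mem_of_pow_mem {N : Subgroup C} [N.Normal] {u : C} (h : u ^ 7 ∈ N) (hd : ¬ 7 ∣ N.index) :
    u ∈ N := by
  haveI : Fact (Nat.Prime 7) := ⟨by norm_num⟩
  rw [← QuotientGroup.eq_one_iff]
  by_contra hne
  refine hd ?_
  have ho : orderOf ((u : C ⧸ N)) = 7 :=
    orderOf_eq_prime (by rw [← QuotientGroup.mk_pow]; exact (QuotientGroup.eq_one_iff _).mpr h) hne
  rw [← ho, Subgroup.index_eq_card]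
  exact orderOf_dvd_natCard _

theorem not_seven_dvd_index {N : Subgroup C} (hC : Nat.card C = 2694384000)
    (h7 : 7 ∣ Nat.card N) : ¬ 7 ∣ N.index := by
  intro h
  have h49 := mul_dvd_mul h7 h
  rw [Subgroup.card_mul_index, hC] at h49
  norm_num at h49

/-- The elements of prime order in a group with Sylow subgroups of that order. -/
theorem card_prime_order {p : ℕ} [Fact p.Prime] {G : Type*} [Group G] [Finite G]
    (hP : ∀ P : Sylow p G, Nat.card P = p) :
    {g : G | g ^ p = 1 ∧ g ≠ 1}.ncard = Nat.card (Sylow p G) * (p - 1) := by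
  classical
  haveI := Fintype.ofFinite (Sylow p G)
  have key : ∀ (P : Sylow p G) (g : G), g ∈ (P : Subgroup G) → g ^ p = 1 := fun P g hg => by
    have h := Subgroup.orderOf_dvd_natCard _ hg
    rw [show Nat.card (P : Subgroup G) = p from hP P] at h
    exact orderOf_dvd_iff_pow_eq_one.mp h
  have hz : ∀ (P : Sylow p G) (g : G), g ∈ (P : Subgroup G) → g ≠ 1 →
      Subgroup.zpowers g = (P : Subgroup G) := fun P g hg hne =>
    Subgroup.eq_of_le_of_card_ge (Subgroup.zpowers_le.mpr hg)
      (by rw [Nat.card_zpowers, orderOf_eq_prime (key P g hg) hne]; exact (hP P).le)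
  let f : (Σ P : Sylow p G, {g : (P : Subgroup G) // g ≠ 1}) → {g : G | g ^ p = 1 ∧ g ≠ 1} :=
    fun q => ⟨(q.2.1 : G), key q.1 _ q.2.1.2, fun h => q.2.2 (Subtype.ext h)⟩
  have hf : Function.Bijective f := by
    constructor
    · rintro ⟨P, g, hg⟩ ⟨Q, h, hh⟩ he
      have he' : (g : G) = (h : G) := congrArg Subtype.val he
      have hne : (g : G) ≠ 1 := fun e => hg (Subtype.ext e)
      obtain rfl : P = Q := Sylow.ext (by
        rw [← hz P g g.2 hne, he', hz Q h h.2 (he' ▸ hne)])
      obtain rfl : g = h := Subtype.ext he'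
      rfl
    · rintro ⟨g, hg, hne⟩
      obtain ⟨Q, hQ⟩ := IsPGroup.exists_le_sylow (P := Subgroup.zpowers g) (p := p)
        (IsPGroup.of_card (n := 1) (by rw [Nat.card_zpowers, orderOf_eq_prime hg hne, pow_one]))
      exact ⟨⟨Q, ⟨⟨g, hQ (Subgroup.mem_zpowers g)⟩, fun h => hne (congrArg Subtype.val h)⟩⟩, rfl⟩
  rw [← Nat.card_coe_set_eq, ← Nat.card_congr (Equiv.ofBijective f hf), Nat.card_sigma]
  have h1 : ∀ P : Sylow p G, Nat.card {g : (P : Subgroup G) // g ≠ 1} = p - 1 := fun P => by
    haveI := Fintype.ofFinite (P : Subgroup G)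
    rw [Nat.card_eq_fintype_card, Fintype.card_subtype_compl, Fintype.card_subtype_eq,
      ← Nat.card_eq_fintype_card, show Nat.card (P : Subgroup G) = p from hP P]
  rw [Finset.sum_congr rfl fun P _ => h1 P, Finset.sum_const, Finset.card_univ, smul_eq_mul,
    Nat.card_eq_fintype_card]

variable {α : Type*} [MulAction C α] {ω : α} {F : Fin 4 → Set α}

/-- An invariant subset avoiding the base point is a union of suborbits. -/
theorem card_invariant (hdis : Pairwise fun i j => Disjoint (F i) (F j))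
    (hlen : ∀ j, (F j).ncard = subLen j)
    (htr : ∀ j, ∀ q ∈ F j, ∀ q' ∈ F j, ∃ u ∈ MulAction.stabilizer C ω, u • q = q')
    {S : Set α} (hS : ∀ u ∈ MulAction.stabilizer C ω, ∀ q ∈ S, u • q ∈ S) (hsub : S ⊆ ⋃ j, F j) :
    ∃ b : Fin 4 → Bool, S.ncard = ∑ j, cond (b j) (subLen j) 0 := by
  classical
  refine ⟨fun j => decide (∃ q, q ∈ F j ∧ q ∈ S), ?_⟩
  have hfin : ∀ j, (F j).Finite := fun j => Set.finite_of_ncard_ne_zero (by
    rw [hlen]; fin_cases j <;> simp [subLen])
  have hS' : S = ⋃ j ∈ (Finset.univ.filter fun j => ∃ q, q ∈ F j ∧ q ∈ S), F j := by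
    ext q
    simp only [Set.mem_iUnion, Finset.mem_filter, Finset.mem_univ, true_and, exists_prop]
    constructor
    · intro hq
      obtain ⟨j, hj⟩ := Set.mem_iUnion.mp (hsub hq)
      exact ⟨j, ⟨q, hj, hq⟩, hj⟩
    · rintro ⟨j, ⟨q', hq'F, hq'S⟩, hqF⟩
      obtain ⟨u, hu, rfl⟩ := htr j q' hq'F q hqF
      exact hS u hu q' hq'S
  conv_lhs => rw [hS']
  rw [← Finset.set_biUnion_coe, (Finset.finite_toSet _).ncard_biUnion (fun j _ => hfin j)
    (fun i _ j _ hij => hdis hij), finsum_mem_coe_finset, Finset.sum_filter]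
  refine Finset.sum_congr rfl fun j _ => ?_
  by_cases h : ∃ q, q ∈ F j ∧ q ∈ S
  · simp [h, hlen]
  · simp [h]

variable {Z : Subgroup C}

/-- The normal subgroups containing the centre. -/
theorem normal_cases (hC : Nat.card C = 2694384000) (hZ : Nat.card Z = 3)
    (hZc : Z ≤ Subgroup.center C) (hZω : Z ≤ MulAction.stabilizer C ω)
    (horb : (MulAction.orbit C ω).ncard = 7128) (hdis : Pairwise fun i j => Disjoint (F i) (F j))
    (hlen : ∀ j, (F j).ncard = subLen j) (hcover : MulAction.orbit C ω = insert ω (⋃ j, F j))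
    (hωF : ∀ j, ω ∉ F j)
    (htr : ∀ j, ∀ q ∈ F j, ∀ q' ∈ F j, ∃ u ∈ MulAction.stabilizer C ω, u • q = q')
    (hM : ∀ M : Subgroup C, Z ≤ M → M ≤ MulAction.stabilizer C ω →
      (∀ u ∈ MulAction.stabilizer C ω, ∀ m ∈ M, u * m * u⁻¹ ∈ M) → M = Z ∨ 7 ∣ Nat.card M)
    (hgen : MulAction.stabilizer C ω ≤ Subgroup.closure {u | u ^ 7 ∈ Z})
    (N : Subgroup C) [N.Normal] (hZN : Z ≤ N) : N = Z ∨ N = ⊤ := by
  classical
  set U := MulAction.stabilizer C ω with hU
  have hUcard : Nat.card U = 378000 := by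
    have := Subgroup.card_mul_index U
    rw [MulAction.index_stabilizer, horb, hC] at this
    omega
  have hUN : (7 ∣ Nat.card N) → U ≤ N := by
    intro h7
    refine hgen.trans ((Subgroup.closure_le _).mpr fun u hu => ?_)
    exact mem_of_pow_mem (hZN hu) (not_seven_dvd_index hC h7)
  set T := MulAction.orbit N ω with hT
  have hTsub : T ⊆ MulAction.orbit C ω := by
    rintro _ ⟨n, rfl⟩; exact ⟨(n : C), rfl⟩
  have hTinv : ∀ u ∈ U, ∀ q ∈ T, u • q ∈ T := by
    rintro u hu _ ⟨n, rfl⟩
    refine ⟨⟨u * n * u⁻¹, ‹N.Normal›.conj_mem n n.2 u⟩, ?_⟩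
    show (u * (n : C) * u⁻¹) • ω = u • ((n : C) • ω)
    rw [mul_smul, mul_smul, inv_smul_eq_iff.mpr (MulAction.mem_stabilizer_iff.mp hu).symm]
  have hωT : ω ∈ T := MulAction.mem_orbit_self ω
  obtain ⟨b, hb⟩ := card_invariant (S := T \ {ω}) hdis hlen htr
    (fun u hu q hq => ⟨hTinv u hu q hq.1, fun h => hq.2 (by
      have : u • q = u • ω := h.trans (MulAction.mem_stabilizer_iff.mp hu).symm
      exact (MulAction.injective u) this)⟩)
    (fun q hq => by
      have := hTsub hq.1
      rw [hcover] at this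
      exact this.resolve_left hq.2)
  have hTfin : T.Finite := (Set.finite_of_ncard_ne_zero (by omega)).subset hTsub
  have hTcard : T.ncard = 1 + ∑ j, cond (b j) (subLen j) 0 := by
    rw [← hb, ← Set.ncard_diff_singleton_add_one hωT hTfin, add_comm]
  have hTdvd : T.ncard ∣ 7128 := by
    have hM' : MulAction.orbit (N ⊔ U : Subgroup C) ω = T := by
      refine Set.Subset.antisymm ?_ ?_
      · rintro _ ⟨⟨g, hg⟩, rfl⟩
        obtain ⟨n, hn, u, hu, rfl⟩ := Subgroup.mem_sup_of_normal_left.mp hg
        refine ⟨⟨n, hn⟩, ?_⟩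
        show n • ω = (n * u) • ω
        rw [mul_smul, MulAction.mem_stabilizer_iff.mp hu]
      · rintro _ ⟨n, rfl⟩
        exact ⟨⟨n, Subgroup.mem_sup_left n.2⟩, rfl⟩
    have h := Subgroup.card_mul_index (MulAction.stabilizer (N ⊔ U : Subgroup C) ω)
    have hstab : Nat.card (MulAction.stabilizer (N ⊔ U : Subgroup C) ω) = 378000 := by
      rw [← hUcard]
      exact Nat.card_congr
        { toFun := fun m => ⟨((m : (N ⊔ U : Subgroup C)) : C), m.2⟩
          invFun := fun u => ⟨⟨u, Subgroup.mem_sup_right u.2⟩, u.2⟩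
          left_inv := fun _ => rfl
          right_inv := fun _ => rfl }
    rw [MulAction.index_stabilizer, hM', hstab] at h
    have hd := Subgroup.card_subgroup_dvd_card (N ⊔ U)
    rw [← h, hC, show 2694384000 = 378000 * 7128 by norm_num] at hd
    exact Nat.dvd_of_mul_dvd_mul_left (by norm_num) hd
  have key : ∀ c : Fin 4 → Bool, 1 + ∑ j, cond (c j) (subLen j) 0 ∣ 7128 →
      1 + ∑ j, cond (c j) (subLen j) 0 = 1 ∨ 1 + ∑ j, cond (c j) (subLen j) 0 = 7128 := by
    decide +kernel
  rw [hTcard] at hTdvd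
  rcases key b hTdvd with hone | hall
  · rw [← hTcard] at hone
    -- `N` fixes every point
    have hfix : ∀ n ∈ N, ∀ q ∈ MulAction.orbit C ω, n • q = q := by
      rintro n hn _ ⟨g, rfl⟩
      have : g⁻¹ * n * g ∈ N := by
        simpa [mul_assoc] using ‹N.Normal›.conj_mem n hn g⁻¹
      have hmem : (g⁻¹ * n * g) • ω ∈ T := ⟨⟨_, this⟩, rfl⟩
      have he : (g⁻¹ * n * g) • ω = ω := ((Set.ncard_le_one hTfin).mp hone.le) _ hmem _ hωT
      rw [mul_smul, mul_smul, inv_smul_eq_iff] at he
      exact he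
    have hNU : N ≤ U := fun n hn =>
      MulAction.mem_stabilizer_iff.mpr (hfix n hn ω (MulAction.mem_orbit_self ω))
    rcases hM N hZN hNU (fun u _ m hm => ‹N.Normal›.conj_mem m hm u) with h | h
    · exact Or.inl h
    · exfalso
      obtain ⟨q, hq⟩ : (F 0).Nonempty := Set.nonempty_of_ncard_ne_zero (by
        rw [hlen]; simp [subLen])
      obtain ⟨q', hq', hne⟩ : ∃ q' ∈ F 0, q' ≠ q :=
        Set.exists_ne_of_one_lt_ncard (by rw [hlen]; simp [subLen]) q
      obtain ⟨u, hu, huq⟩ := htr 0 q hq q' hq'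
      exact hne (huq ▸ hfix u (hUN h hu) q (hcover ▸ Or.inr (Set.mem_iUnion.mpr ⟨0, hq⟩)))
  · rw [← hTcard] at hall
    have hcap : Z ≤ N ⊓ U := le_inf hZN hZω
    have hTeq : T = MulAction.orbit C ω :=
      Set.eq_of_subset_of_ncard_le hTsub (by rw [hall, horb])
        (Set.finite_of_ncard_ne_zero (by omega))
    rcases hM (N ⊓ U) hcap inf_le_right (fun u hu m hm =>
        ⟨‹N.Normal›.conj_mem m hm.1 u, U.mul_mem (U.mul_mem hu hm.2) (U.inv_mem hu)⟩) with h | h
    · exfalso
      have hNcard : Nat.card N = 21384 := by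
        have h' := Subgroup.card_mul_index (MulAction.stabilizer N ω)
        have : Nat.card (MulAction.stabilizer N ω) = 3 := by
          rw [← hZ, ← h]
          exact Nat.card_congr
            { toFun := fun m => ⟨((m : N) : C), (m : N).2, m.2⟩
              invFun := fun u => ⟨⟨u.1, u.2.1⟩, u.2.2⟩
              left_inv := fun _ => rfl
              right_inv := fun _ => rfl }
        rw [MulAction.index_stabilizer, this, show MulAction.orbit N ω = T from rfl, hall] at h'
        omega
      haveI : Fact (Nat.Prime 11) := ⟨by norm_num⟩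
      have hP : ∀ P : Sylow 11 N, Nat.card P = 11 := fun P => by
        obtain ⟨k, hk⟩ := IsPGroup.iff_card.mp P.isPGroup'
        have h2 := Subgroup.card_mul_index (P : Subgroup N)
        rw [hk, hNcard] at h2
        show Nat.card (P : Subgroup N) = 11
        rw [hk]
        rcases k with _ | _ | k
        · exact absurd ⟨1944, by omega⟩ P.not_dvd_index
        · rfl
        · exfalso
          have h121 : 121 ∣ 21384 := ⟨11 ^ k * (P : Subgroup N).index, by
            rw [← h2, pow_succ, pow_succ]; ring⟩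
          norm_num at h121
      set E := {g : N | g ^ 11 = 1 ∧ g ≠ 1}
      have hEcard := card_prime_order (p := 11) hP
      obtain ⟨P⟩ : Nonempty (Sylow 11 N) := inferInstance
      have hn1 : Nat.card (Sylow 11 N) % 11 = 1 := card_sylow_modEq_one 11 N
      have hn2 : Nat.card (Sylow 11 N) ∣ 1944 := by
        have h1 := P.card_dvd_index
        have h2 := Subgroup.card_mul_index (P : Subgroup N)
        rw [show Nat.card (P : Subgroup N) = 11 from hP P, hNcard] at h2
        rwa [show (P : Subgroup N).index = 1944 by omega] at h1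
      have hinj : ∀ g ∈ E, ∀ g' ∈ E, (g : C) • ω = (g' : C) • ω → g = g' := by
        intro g hg g' hg' he
        have hmem : (g : C)⁻¹ * g' ∈ N ⊓ U := ⟨N.mul_mem (N.inv_mem g.2) g'.2, by
          show ((g : C)⁻¹ * g') • ω = ω
          rw [mul_smul, ← he, inv_smul_smul]⟩
        rw [h] at hmem
        set c := (g : C)⁻¹ * g'
        have hc3 : c ^ 3 = 1 := by
          have hd := Subgroup.orderOf_dvd_natCard _ hmem
          rw [hZ] at hd
          exact orderOf_dvd_iff_pow_eq_one.mp hd
        have hcg : Commute c (g : C) := (Subgroup.mem_center_iff.mp (hZc hmem) (g : C)).symm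
        have hg'c : (g' : C) = (g : C) * c := by simp [c]
        have hg11 : (g : C) ^ 11 = 1 := by simpa using congrArg Subtype.val hg.1
        have hg'11 : (g' : C) ^ 11 = 1 := by simpa using congrArg Subtype.val hg'.1
        rw [hg'c, hcg.symm.mul_pow, hg11, one_mul] at hg'11
        have hc1 : c = 1 := by
          have : c ^ (3 * 4) = c ^ 11 * c := by rw [← pow_succ]
          rwa [pow_mul, hc3, one_pow, hg'11, one_mul, eq_comm] at this
        exact Subtype.ext (by rw [hg'c, hc1, mul_one])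
      let f : N → α := fun g => (g : C) • ω
      have hfi : Set.InjOn f E := fun g hg g' hg' he => hinj g hg g' hg' he
      obtain ⟨b', hb'⟩ := card_invariant (S := f '' E) hdis hlen htr
        (by
          rintro u hu _ ⟨g, hg, rfl⟩
          refine ⟨⟨u * g * u⁻¹, ‹N.Normal›.conj_mem g g.2 u⟩, ⟨?_, ?_⟩, ?_⟩
          · apply Subtype.ext
            show (u * (g : C) * u⁻¹) ^ 11 = 1
            rw [conj_pow, show (g : C) ^ 11 = 1 by simpa using congrArg Subtype.val hg.1]
            group
          · intro h1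
            refine hg.2 (Subtype.ext ?_)
            exact conj_eq_one_iff.mp (congrArg Subtype.val h1)
          · show (u * (g : C) * u⁻¹) • ω = u • ((g : C) • ω)
            rw [mul_smul, mul_smul, inv_smul_eq_iff.mpr (MulAction.mem_stabilizer_iff.mp hu).symm])
        (by
          rintro _ ⟨g, hg, rfl⟩
          have hq : f g ∈ MulAction.orbit C ω := ⟨(g : C), rfl⟩
          rw [hcover] at hq
          refine hq.resolve_left fun he => ?_
          have hgU : (g : C) ∈ N ⊓ U := ⟨g.2, he⟩
          rw [h] at hgU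
          have hd := Subgroup.orderOf_dvd_natCard _ hgU
          rw [hZ] at hd
          have hd' : orderOf (g : C) ∣ 11 :=
            orderOf_dvd_iff_pow_eq_one.mpr (by simpa using congrArg Subtype.val hg.1)
          have := Nat.dvd_gcd hd hd'
          norm_num at this
          exact hg.2 (Subtype.ext (by simpa using this)))
      rw [hfi.ncard_image, show E = {g : N | g ^ 11 = 1 ∧ g ≠ 1} from rfl, hEcard] at hb'
      have key2 : ∀ c : Fin 4 → Bool, ∀ n ∈ [1, 12, 243],
          n * (11 - 1) ≠ ∑ j, cond (c j) (subLen j) 0 := by decide +kernel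
      have key3 : ∀ n ∈ Nat.divisors 1944, n % 11 = 1 → n ∈ [1, 12, 243] := by decide +kernel
      exact key2 b' _ (key3 _ (Nat.mem_divisors.mpr ⟨hn2, by norm_num⟩) hn1) hb'
    · right
      have hUN' : U ≤ N := hUN (h.trans (Subgroup.card_dvd_of_le inf_le_left))
      rw [eq_top_iff]
      intro g _
      have : g • ω ∈ T := hTeq ▸ ⟨g, rfl⟩
      obtain ⟨n, hn⟩ := this
      have hu : (n : C)⁻¹ * g ∈ U := by
        show ((n : C)⁻¹ * g) • ω = ω
        rw [mul_smul, inv_smul_eq_iff]
        exact hn.symm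
      have := mul_mem n.2 (hUN' hu)
      rwa [mul_inv_cancel_left] at this

end CfsgLib.Coset.Ly.Cent
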