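import Cfsg.Agent.Coset.Ly.CentA
import Cfsg.Agent.Coset.Ly.CentSimple

/-!
An element of order three of the presented Lyons group whose centraliser is a triple cover of a
simple group of McLaughlin's order.
-/

set_option autoImplicit false
set_option maxRecDepth 100000
set_option Elab.async false

namespace CfsgLib.Coset.Ly.Cent

open Cfsg.Spor (Ly)

attribute [local instance] actA

/-- The suborbit sizes. -/
def subSize (n : Fin 5) : ℕ := ![1, 19530, 968750, 5812500, 2034375] n

/-- The conjugation action of a subgroup on the model. -/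
@[reducible] noncomputable def cjAct (S : Subgroup A) : MulAction S A :=
  MulAction.compHom A ((MulAut.conj : A →* MulAut A).comp S.subtype)

section Lengths

variable (hA : IsSimpleGroup A)
include hA

theorem index_stabN (n : Fin 5) : (frame_LG.stabN n).index = subSize n := by
  haveI := finite_Ly
  obtain ⟨e, he, -, hsum⟩ := ncard_invariant Set.univ (fun _ _ _ => trivial)
  rw [Set.ncard_univ, ← Subgroup.index_eq_card, index_H hA] at hsum
  have hi0 : (frame_LG.stabN ((0 : Fin 5) : ℕ)).index = 1 := by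
    rw [← ncard_orbN, orbN_zero, Set.ncard_singleton]
  have hle : ∀ m : Fin 5, e m ≤ subSize m ∧ (e m = subSize m →
      (frame_LG.stabN m).index = subSize m) := by
    intro m
    have hpos : 0 < subSize m := by fin_cases m <;> simp [subSize]
    rcases he m with h | ⟨h, -⟩
    · exact ⟨by omega, fun h' => by omega⟩
    refine ⟨?_, fun h' => by omega⟩
    rw [h]
    rcases eq_or_ne m 0 with rfl | hm
    · rw [hi0]; exact hpos
    · refine Nat.le_of_dvd hpos ?_
      have h1 : 1 ≤ (m : ℕ) := Nat.one_le_iff_ne_zero.mpr fun h => hm (Fin.ext h)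
      refine ((Subgroup.index_dvd_of_le (frame_LG.St_le m.2)).trans
        (index_St_dvd m h1 m.2)).trans (dvd_of_eq ?_)
      fin_cases m <;> first | rfl | simp at hm
  have a0 := hle 0
  have a1 := hle 1
  have a2 := hle 2
  have a3 := hle 3
  have a4 := hle 4
  simp only [show subSize 0 = 1 from rfl, show subSize 1 = 19530 from rfl,
    show subSize 2 = 968750 from rfl, show subSize 3 = 5812500 from rfl,
    show subSize 4 = 2034375 from rfl] at a0 a1 a2 a3 a4
  refine (hle n).2 ?_
  have b0 : e 0 = subSize 0 := by show e 0 = 1; omega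
  have b1 : e 1 = subSize 1 := by show e 1 = 19530; omega
  have b2 : e 2 = subSize 2 := by show e 2 = 968750; omega
  have b3 : e 3 = subSize 3 := by show e 3 = 5812500; omega
  have b4 : e 4 = subSize 4 := by show e 4 = 2034375; omega
  fin_cases n
  exacts [b0, b1, b2, b3, b4]

theorem card_St (n : Fin 5) (h1 : 1 ≤ (n : ℕ)) :
    Nat.card (St n) = stSize n ∧ frame_LG.stabN n = St n := by
  have h := Subgroup.card_mul_index (frame_LG.stabN n)
  rw [index_stabN hA, card_and_injective.1] at h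
  have hle := frame_LG.St_le (n := (n : ℕ)) n.2
  have hge : stSize n ≤ Nat.card (St n) := by
    fin_cases n
    · exact absurd h1 (by simp)
    · exact card_K0_ge
    · exact card_St2_ge
    · exact card_St3_ge
    · exact card_St4_ge
  have hN : Nat.card (frame_LG.stabN n) = stSize n := by
    have key : ∀ m : Fin 5, 1 ≤ (m : ℕ) → stSize m * subSize m = 5859000000 ∧ 0 < subSize m := by
      decide +kernel
    obtain ⟨e1, e2⟩ := key n h1
    exact Nat.eq_of_mul_eq_mul_right e2 (h.trans e1.symm)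
  have hc : Nat.card (St n) = stSize n := le_antisymm (hN ▸ Subgroup.card_le_of_le hle) hge
  exact ⟨hc, (Subgroup.eq_of_le_of_card_ge hle (by rw [hN, hc])).symm⟩

theorem orbN_disjoint {n m : Fin 5} (h : n ≠ m) : Disjoint (orbN n) (orbN m) := by
  rw [Set.disjoint_left]
  intro q hn hm
  have he : orbN n = orbN m := by
    show MulAction.orbit A (pt n) = MulAction.orbit A (pt m)
    rw [← MulAction.orbit_eq_iff.mpr hn, MulAction.orbit_eq_iff.mpr hm]
  have h1 := ncard_orbN n
  rw [he, ncard_orbN, index_stabN hA, index_stabN hA] at h1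
  have key : ∀ a b : Fin 5, subSize a = subSize b → a = b := by decide
  exact h (key m n h1).symm

end Lengths

/-- The coset of the subgroup itself. -/
noncomputable def q0 : Ly ⧸ frame_LG.H := QuotientGroup.mk 1

/-- The element of order three of the group. -/
noncomputable def xL : Ly := frame_LG.Ψ xA

/-- Its centraliser. -/
noncomputable abbrev CL : Subgroup Ly := Subgroup.centralizer {xL}

/-- The cosets fixed by the element. -/
noncomputable def Fix : Set (Ly ⧸ frame_LG.H) := {q | xA • q = q}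

/-- The fixed point of a node. -/
noncomputable def qn (n : Fin 5) : Ly ⧸ frame_LG.H := ev LA (aW n) • pt n

/-- The fixed cosets of a suborbit. -/
noncomputable def Fn (n : Fin 5) : Set (Ly ⧸ frame_LG.H) :=
  MulAction.orbit CA (qn n)

/-- The sizes of the orbits on fixed cosets. -/
def fixSize (n : Fin 5) : ℕ := ![1, 252, 3500, 750, 2625] n

theorem pt_zero : pt 0 = q0 := by
  have h : pt 0 ∈ orbN 0 := MulAction.mem_orbit_self _
  rwa [orbN_zero, Set.mem_singleton_iff] at h

theorem mem_fix_smul {a : A} {n : Fin 5} :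
    a • pt n ∈ Fix ↔ a⁻¹ * xA * a ∈ frame_LG.stabN n := by
  rw [← stab_pt, MulAction.mem_stabilizer_iff, mul_smul, mul_smul, inv_smul_eq_iff]
  rfl

theorem CA_smul_fix {c : A} (hc : c ∈ CA) {q : Ly ⧸ frame_LG.H} (hq : q ∈ Fix) : c • q ∈ Fix := by
  show xA • c • q = c • q
  rw [← mul_smul, ← mem_CA.mp hc, mul_smul, show xA • q = q from hq]

theorem q0_fix : q0 ∈ Fix := by
  show xA • q0 = q0
  rw [q0, smul_mk, mul_one, QuotientGroup.eq]
  simpa using inv_mem (show frame_LG.Ψ xA ∈ frame_LG.H from ⟨xA, rfl⟩)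

section Count

variable (hA : IsSimpleGroup A) (n : Fin 5) (h1 : 1 ≤ (n : ℕ))
include hA h1

theorem qn_fix : qn n ∈ Fix := by
  obtain ⟨hc, he⟩ := card_St hA n h1
  rw [qn, mem_fix_smul, he, first_eq h1 n.2]
  obtain ⟨-, -, -, -, -, -, -, hlen, -, -, -, -, -, hkind, -⟩ := node_checks n h1 n.2
  -- some listed Sylow element lies in the class
  have hj : ∀ m : Fin 5, 1 ≤ (m : ℕ) → ∃ j ∈ List.range (sylSize m),
      Nat.beq ((sylK m).getD j (9, 0, [])).1 0 = false ∧
        Nat.beq ((sylK m).getD j (9, 0, [])).1 1 = true := by decide +kernel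
  obtain ⟨j, hj, hk0, hk1⟩ := hj n h1
  have hk := of_allBelow hkind j (List.mem_range.mp hj)
  rw [hk0, cond_false, hk1, cond_true, cond_false_eq_true] at hk
  obtain ⟨g, hg, hge⟩ := clsS_conn h1 n.2 (Nat.ble_eq.mp hk.1)
  have hmem : ev LA ((sylEW n).getD j []) ∈ St n := by
    refine (sylow_node h1 n.2).2.1 ?_
    have hlt : j < (sylEW n).length := hlen ▸ List.mem_range.mp hj
    rw [List.getD_eq_getElem _ _ hlt]
    obtain ⟨i, _, hi⟩ := List.mem_map.mp (List.getElem_mem hlt)
    rw [← hi]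
    exact ev_flatW_mem _ i
  rw [eqA_sound hk.2, ← hge] at hmem
  have := mul_mem (mul_mem (inv_mem hg) hmem) hg
  simpa [mul_assoc] using this

theorem Fix_inter_bound : (Fix ∩ orbN n).ncard * stSize n ≤ clsSize n * 378000 := by
  haveI := finite_Ly
  obtain ⟨hc, he⟩ := card_St hA n h1
  let Ua : Set A := {a | a⁻¹ * xA * a ∈ clsS n}
  have h1' : (Fix ∩ orbN n).ncard * stSize n ≤ Ua.ncard := by
    have hex : ∀ q : ↥(Fix ∩ orbN n), ∃ a : A, a • pt n = q.1 := fun q => q.2.2
    choose rep hrep using hex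
    rw [← hc, ← Nat.card_coe_set_eq, ← Nat.card_prod, ← Nat.card_coe_set_eq]
    let f : ↥(Fix ∩ orbN n) × St n → Ua := fun qs => ⟨rep qs.1 * qs.2, by
      have hfix : (rep qs.1 * qs.2) • pt n ∈ Fix := by
        rw [mul_smul, MulAction.mem_stabilizer_iff.mp
          (show (qs.2 : A) ∈ MulAction.stabilizer A (pt n) by rw [stab_pt, he]; exact qs.2.2), hrep]
        exact qs.1.2.1
      rw [mem_fix_smul, he] at hfix
      refine good_mem_cls h1 n.2 hc hfix ?_ ?_ ?_
      · have := congrArg (fun t => (rep qs.1 * qs.2)⁻¹ * t * (rep qs.1 * qs.2)) xA_cube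
        simpa [pow_succ, mul_assoc] using this
      · intro h
        have := congrArg (fun t => rep qs.1 * qs.2 * t * (rep qs.1 * qs.2)⁻¹) h
        exact xA_ne_one (by simpa [mul_assoc] using this)
      · refine ⟨ρ (rep qs.1 * qs.2)⁻¹ 0, ?_⟩
        rw [← Equiv.Perm.mul_apply, ← map_mul, mul_inv_cancel_right, map_mul,
          Equiv.Perm.mul_apply, fix_fixes (i := 0) (by decide +kernel)]⟩
    refine Nat.card_le_card_of_injective f ?_
    rintro ⟨q, s⟩ ⟨q', s'⟩ h
    have h' : rep q * s = rep q' * s' := congrArg Subtype.val h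
    have hsm : ∀ t : St n, (t : A) • pt n = pt n := fun t => MulAction.mem_stabilizer_iff.mp
      (show (t : A) ∈ MulAction.stabilizer A (pt n) by rw [stab_pt, he]; exact t.2)
    have hq : q = q' := Subtype.ext (by
      have := congrArg (fun a : A => a • pt n) h'
      simp only [mul_smul, hsm, hrep] at this
      exact this)
    subst hq
    exact Prod.ext rfl (Subtype.ext (mul_left_cancel h'))
  refine h1'.trans ?_
  rw [← Nat.card_coe_set_eq, ← ncard_clsS h1 n.2, ← card_CA, ← Nat.card_coe_set_eq, ← Nat.card_prod]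
  classical
  let g : A → A := fun a => a⁻¹ * xA * a
  let sel : A → A := fun s => if h : ∃ a, g a = s then h.choose else 1
  have hsel : ∀ a, g (sel (g a)) = g a := fun a => by
    have h : ∃ b, g b = g a := ⟨a, rfl⟩
    simp only [sel, dif_pos h]
    exact h.choose_spec
  refine Nat.card_le_card_of_injective (fun a : Ua => ((⟨g a, a.2⟩ : clsS n),
    (⟨a * (sel (g a))⁻¹, mem_CA.mpr (by
      have h := hsel (a : A)
      simp only [g] at h ⊢
      set b := sel ((a : A)⁻¹ * xA * a)
      calc (a : A) * b⁻¹ * xA = a * (b⁻¹ * xA * b) * b⁻¹ := by group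
        _ = a * ((a : A)⁻¹ * xA * a) * b⁻¹ := by rw [h]
        _ = _ := by group)⟩ : CA))) ?_
  intro a b hab
  simp only [Prod.mk.injEq, Subtype.mk.injEq] at hab
  rw [← hab.1] at hab
  exact Subtype.ext (mul_right_cancel hab.2)

theorem stab_bound :
    clsSize n * Nat.card (MulAction.stabilizer CA (qn n)) ≤ stSize n := by
  haveI := finite_Ly
  obtain ⟨hc, he⟩ := card_St hA n h1
  letI := cjAct (St n)
  set y := ev LA ((clsW n).getD 0 [])
  have hconj : ∀ (s : St n) (t : A), s • t = (s : A) * t * (s : A)⁻¹ := fun _ _ => rfl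
  have h := orbit_mul (G := St n) y
  have hsub : clsS n ⊆ MulAction.orbit (St n) y := by
    intro t ht
    obtain ⟨j, hj, rfl⟩ := clsS_eq h1 n.2 ht
    obtain ⟨g, hg, hge⟩ := clsS_conn h1 n.2 hj
    exact ⟨⟨g, hg⟩, hge⟩
  have h2 : clsSize n ≤ (MulAction.orbit (St n) y).ncard :=
    (ncard_clsS h1 n.2).ge.trans (Set.ncard_le_ncard hsub)
  rw [hc] at h
  rw [← h]
  refine Nat.mul_le_mul h2 ?_
  have hmem : ∀ c : MulAction.stabilizer CA (qn n),
      (ev LA (aW n))⁻¹ * ((c : CA) : A) * ev LA (aW n) ∈ St n := fun c => by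
    rw [← he, ← stab_pt, MulAction.mem_stabilizer_iff, mul_smul, mul_smul, inv_smul_eq_iff]
    exact c.2
  let f : MulAction.stabilizer CA (qn n) → MulAction.stabilizer (St n) y := fun c =>
    ⟨⟨_, hmem c⟩, by
      show (ev LA (aW n))⁻¹ * ((c : CA) : A) * ev LA (aW n) * y *
        ((ev LA (aW n))⁻¹ * ((c : CA) : A) * ev LA (aW n))⁻¹ = y
      have hy : y = (ev LA (aW n))⁻¹ * xA * ev LA (aW n) := (first_eq h1 n.2).symm
      rw [hy]
      have hcc : ((c : CA) : A) * xA = xA * ((c : CA) : A) := mem_CA.mp (c : CA).2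
      calc _ = (ev LA (aW n))⁻¹ * (((c : CA) : A) * xA) * ((c : CA) : A)⁻¹ * ev LA (aW n) := by group
        _ = (ev LA (aW n))⁻¹ * (xA * ((c : CA) : A)) * ((c : CA) : A)⁻¹ * ev LA (aW n) := by rw [hcc]
        _ = _ := by group⟩
  refine Nat.card_le_card_of_injective f fun c d hcd => ?_
  have := congrArg (fun t : MulAction.stabilizer (St n) y => ((t : St n) : A)) hcd
  exact Subtype.ext (Subtype.ext (mul_left_cancel (mul_right_cancel this)))

theorem Fn_eq : Fn n = Fix ∩ orbN n ∧ (Fn n).ncard = fixSize n := by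
  haveI := finite_Ly
  have hsub : Fn n ⊆ Fix ∩ orbN n := by
    rintro _ ⟨c, rfl⟩
    refine ⟨CA_smul_fix c.2 (qn_fix hA n h1), ?_⟩
    exact ⟨(c : A) * ev LA (aW n), mul_smul _ _ _⟩
  have hge : fixSize n ≤ (Fn n).ncard := by
    have h := orbit_mul (G := CA) (qn n)
    rw [card_CA] at h
    change (Fn n).ncard * _ = 378000 at h
    have hb := stab_bound hA n h1
    by_contra hlt
    have h2 : (Fn n).ncard * (clsSize n * Nat.card (MulAction.stabilizer CA (qn n))) ≤
        (fixSize n - 1) * stSize n := Nat.mul_le_mul (by omega) hb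
    rw [← mul_assoc, mul_comm (Fn n).ncard, mul_assoc, h] at h2
    fin_cases n <;> simp [fixSize, clsSize, stSize] at h2 h1
  have hle : (Fix ∩ orbN n).ncard ≤ fixSize n := by
    have hb := Fix_inter_bound hA n h1
    by_contra hlt
    have h2 : (fixSize n + 1) * stSize n ≤ clsSize n * 378000 :=
      (Nat.mul_le_mul_right _ (by omega)).trans hb
    fin_cases n <;> simp [fixSize, clsSize, stSize] at h2 h1
  have heq := Set.eq_of_subset_of_ncard_le hsub (hle.trans hge)
  exact ⟨heq, le_antisymm (heq ▸ hle) hge⟩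

end Count

/-- The centralising elements. -/
def gW (n : Nat) : List Nat := aW n ++ invW (nW n) ++ hW n

/-- The relator saying that a centralising element commutes. -/
def gRel (n : Nat) : List Nat := gW n ++ xW ++ invW (gW n) ++ invW xW

set_option maxHeartbeats 4000000 in
theorem g1_blk : ∀ s < 30, allBlock 2 s (fixI mask111 matL 111 (gRel 1)) = true := by
  intro s hs
  interval_cases s
  all_goals decide +kernel

set_option maxHeartbeats 4000000 in
theorem g2_blk : ∀ s < 30, allBlock 2 s (fixI mask111 matL 111 (gRel 2)) = true := by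
  intro s hs
  interval_cases s
  all_goals decide +kernel

set_option maxHeartbeats 4000000 in
theorem g3_blk : ∀ s < 30, allBlock 2 s (fixI mask111 matL 111 (gRel 3)) = true := by
  intro s hs
  interval_cases s
  all_goals decide +kernel

set_option maxHeartbeats 4000000 in
theorem g4_blk : ∀ s < 30, allBlock 2 s (fixI mask111 matL 111 (gRel 4)) = true := by
  intro s hs
  interval_cases s
  all_goals decide +kernel

theorem repLy_injective (hA : IsSimpleGroup A) : Function.Injective repLy := by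
  rcases (simple_Ly hA).eq_bot_or_eq_top_of_normal repLy.ker inferInstance with h | h
  · exact (MonoidHom.ker_eq_bot_iff _).mp h
  · exfalso
    have h1 : repLy (ev LG [0]) = 1 := MonoidHom.mem_ker.mp (h ▸ Subgroup.mem_top _)
    have h2 := vrun_rep [0] (by decide) e0
    rw [h1, Units.val_one, Matrix.vecMul_one, code_e0] at h2
    exact absurd h2 (by decide +kernel)

theorem Ψ_word {w : List Nat} (hw : ∀ l ∈ w, l < 18) : frame_LG.Ψ (ev LA w) = ev LG w :=
  frame_LG.Ψ_ev w hw

/-- The listed element centralises and carries the base coset to the fixed point of the node. -/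
theorem gW_mem (hA : IsSimpleGroup A) (n : Fin 5) (h1 : 1 ≤ (n : ℕ)) :
    ∃ g ∈ CL, g • q0 = qn n := by
  obtain ⟨-, -, -, -, -, -, -, -, -, -, -, -, -, -, ha, hh, -⟩ := node_checks n h1 n.2
  have hnl : ∀ m : Fin 5, (∀ l ∈ invW (nW m), l < 20) ∧ (∀ l ∈ gW m, l < 20) ∧
      (∀ l ∈ gRel m, l < 20) ∧ (∀ l ∈ nW m, l < 20) := by decide +kernel
  obtain ⟨hn1, hgl, hrl, hn0⟩ := hnl n
  refine ⟨ev LG (gW n), Subgroup.mem_centralizer_singleton_iff.mpr ?_, ?_⟩
  · have hblk : ∀ s < 30, allBlock 2 s (fixI mask111 matL 111 (gRel n)) = true := by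
      fin_cases n
      · exact absurd h1 (by simp)
      · exact g1_blk
      · exact g2_blk
      · exact g3_blk
      · exact g4_blk
    have hm := matWord_eq_one (by norm_num) matL_ok mask111_eq
      (fun l hl => (hrl l hl).trans_eq len_matL.symm) hblk
    have hev : ev LG (gRel n) = 1 := by
      refine repLy_injective hA ?_
      rw [map_one, repLy_ev _ hrl]
      refine Units.ext ?_
      rw [val_ev_LR _ hrl, hm]
      rfl
    rw [gRel, ev_append, ev_append, ev_append, frame_LG.ev_invW, frame_LG.ev_invW,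
      ← Ψ_word xW_lt] at hev
    rw [mul_inv_eq_one, mul_inv_eq_iff_eq_mul] at hev
    exact hev
  · show (QuotientGroup.mk (ev LG (gW n) * 1) : Ly ⧸ frame_LG.H) = _
    rw [qn, pt, smul_mk, mul_one, gW, ev_append, ev_append, frame_LG.ev_invW,
      ← Ψ_word (lettersA_sound ha), ← Ψ_word (lettersA_sound hh), QuotientGroup.eq]
    simpa [mul_assoc] using inv_mem (show frame_LG.Ψ (ev LA (hW n)) ∈ frame_LG.H from ⟨_, rfl⟩)

theorem smul_Ψ (a : A) (q : Ly ⧸ frame_LG.H) : frame_LG.Ψ a • q = a • q := rfl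

theorem Ψ_mem_CL {c : A} (hc : c ∈ CA) : frame_LG.Ψ c ∈ CL := by
  rw [Subgroup.mem_centralizer_singleton_iff, xL, ← map_mul, ← map_mul, mem_CA.mp hc]

theorem Fix_cover (hA : IsSimpleGroup A) :
    Fix = insert q0 (⋃ j : Fin 4, Fn j.succ) := by
  refine Set.Subset.antisymm (fun q hq => ?_) ?_
  · obtain ⟨n, hn⟩ := orbN_cover q
    rcases Fin.eq_zero_or_eq_succ n with rfl | ⟨j, rfl⟩
    · rw [orbN_zero] at hn
      exact Or.inl hn
    · exact Or.inr (Set.mem_iUnion.mpr ⟨j, ((Fn_eq hA j.succ (by simp)).1).symm ▸ ⟨hq, hn⟩⟩)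
  · rintro q (rfl | hq)
    · exact q0_fix
    · obtain ⟨j, hj⟩ := Set.mem_iUnion.mp hq
      rw [(Fn_eq hA j.succ (by simp)).1] at hj
      exact hj.1

theorem q0_notMem (hA : IsSimpleGroup A) (j : Fin 4) : q0 ∉ Fn j.succ := by
  rw [(Fn_eq hA j.succ (by simp)).1]
  intro h
  refine Set.disjoint_left.mp (orbN_disjoint hA (Fin.succ_ne_zero j).symm) ?_ h.2
  rw [orbN_zero]; rfl

theorem Fn_disjoint (hA : IsSimpleGroup A) :
    Pairwise fun i j : Fin 4 => Disjoint (Fn i.succ) (Fn j.succ) := by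
  intro i j hij
  rw [(Fn_eq hA i.succ (by simp)).1, (Fn_eq hA j.succ (by simp)).1]
  exact (orbN_disjoint hA fun h => hij (Fin.succ_injective _ h)).mono Set.inter_subset_right
    Set.inter_subset_right

theorem orbit_CL (hA : IsSimpleGroup A) : MulAction.orbit CL q0 = Fix := by
  refine Set.Subset.antisymm ?_ ?_
  · rintro _ ⟨g, rfl⟩
    show xL • ((g : Ly) • q0) = (g : Ly) • q0
    rw [← mul_smul, ← Subgroup.mem_centralizer_singleton_iff.mp g.2, mul_smul]
    congr 1
    exact q0_fix
  · rw [Fix_cover hA]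
    rintro q (rfl | hq)
    · exact MulAction.mem_orbit_self _
    · obtain ⟨j, hj⟩ := Set.mem_iUnion.mp hq
      obtain ⟨c, rfl⟩ := hj
      obtain ⟨g, hg, hge⟩ := gW_mem hA j.succ (by simp)
      refine ⟨⟨frame_LG.Ψ c * g, mul_mem (Ψ_mem_CL c.2) hg⟩, ?_⟩
      show (frame_LG.Ψ c * g) • q0 = (c : A) • qn j.succ
      rw [mul_smul, hge]
      rfl

theorem card_Fix (hA : IsSimpleGroup A) : Fix.ncard = 7128 := by
  haveI := finite_Ly
  rw [Fix_cover hA, Set.ncard_insert_of_notMem (by
      intro h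
      obtain ⟨j, hj⟩ := Set.mem_iUnion.mp h
      exact q0_notMem hA j hj) (Set.toFinite _),
    Set.ncard_iUnion_of_finite (fun _ => Set.toFinite _) (Fn_disjoint hA),
    finsum_eq_sum_of_fintype,
    Finset.sum_congr rfl fun j _ => (Fn_eq hA j.succ (by simp)).2]
  rfl

theorem stab_CL (hA : IsSimpleGroup A) {g : Ly} (hg : g ∈ CL) (h : g • q0 = q0) :
    ∃ c ∈ CA, frame_LG.Ψ c = g := by
  have h' : g ∈ frame_LG.H := by
    change (QuotientGroup.mk (g * 1) : Ly ⧸ frame_LG.H) = QuotientGroup.mk 1 at h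
    rw [QuotientGroup.eq] at h
    simpa using h
  obtain ⟨c, rfl⟩ := h'
  refine ⟨c, mem_CA.mpr (Ψ_injective hA ?_), rfl⟩
  rw [map_mul, map_mul]
  exact Subgroup.mem_centralizer_singleton_iff.mp hg

/-- The map of the centraliser in the model. -/
noncomputable def ψ : CA →* CL :=
  (frame_LG.Ψ.comp CA.subtype).codRestrict CL fun c => Ψ_mem_CL c.2

theorem range_ψ (hA : IsSimpleGroup A) : ψ.range = MulAction.stabilizer CL q0 := by
  ext g
  constructor
  · rintro ⟨c, rfl⟩
    show frame_LG.Ψ c • q0 = q0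
    rw [q0]
    show (QuotientGroup.mk (frame_LG.Ψ c * 1) : Ly ⧸ frame_LG.H) = _
    rw [QuotientGroup.eq]
    simpa using inv_mem (show frame_LG.Ψ c ∈ frame_LG.H from ⟨_, rfl⟩)
  · intro hg
    obtain ⟨c, hc, hce⟩ := stab_CL hA g.2 hg
    exact ⟨⟨c, hc⟩, Subtype.ext hce⟩

theorem ψ_injective (hA : IsSimpleGroup A) : Function.Injective ψ := fun c d h =>
  Subtype.ext (Ψ_injective hA (congrArg Subtype.val h))

theorem card_CL (hA : IsSimpleGroup A) : Nat.card CL = 2694384000 := by
  haveI := finite_Ly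
  rw [← orbit_mul (G := CL) q0, orbit_CL hA, card_Fix hA, ← range_ψ hA,
    ← Nat.card_congr (MonoidHom.ofInjective (ψ_injective hA)).toEquiv, card_CA]

theorem orderOf_xL (hA : IsSimpleGroup A) : orderOf xL = 3 := by
  haveI : Fact (Nat.Prime 3) := ⟨Nat.prime_three⟩
  rw [xL, orderOf_injective _ (Ψ_injective hA)]
  exact orderOf_eq_prime xA_cube xA_ne_one

/-- The element in its centraliser. -/
noncomputable def xC : CL := ⟨xL, Subgroup.mem_centralizer_singleton_iff.mpr rfl⟩

theorem card_zpowers_xC (hA : IsSimpleGroup A) : Nat.card (Subgroup.zpowers xC) = 3 := by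
  rw [Nat.card_zpowers, ← Subgroup.orderOf_coe]
  exact orderOf_xL hA

theorem CA_normal_cases (hA : IsSimpleGroup A) (M : Subgroup CA)
    (hM : ∀ u : CA, ∀ m ∈ M, u * m * u⁻¹ ∈ M) :
    7 ∣ Nat.card M ∨ ∀ m ∈ M, (m : A) = 1 ∨ (m : A) = xA ∨ (m : A) = xA * xA := by
  classical
  set T : Set (Fin 3906) := {i | ∃ m ∈ M, ρ (m : A) 0 = i}
  by_cases hone : ∀ i ∈ T, i = 0
  · refine Or.inr fun m hm => CA_faithful m.2 fun i hi => ?_
    obtain ⟨g, hg, hgi⟩ := CA_trans hi
    have hm' : (⟨g, hg⟩ : CA)⁻¹ * m * ⟨g, hg⟩ ∈ M := by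
      simpa using hM (⟨g, hg⟩ : CA)⁻¹ m hm
    have h0 := hone _ ⟨_, hm', rfl⟩
    rw [Subgroup.coe_mul, Subgroup.coe_mul, Subgroup.coe_inv, map_mul, map_mul, map_inv,
      Equiv.Perm.mul_apply, Equiv.Perm.mul_apply, Equiv.Perm.inv_def, Equiv.symm_apply_eq,
      hgi] at h0
    exact h0
  · left
    push Not at hone
    obtain ⟨i, ⟨m, hm, hmi⟩, hi0⟩ := hone
    have hfix0 : ρ xA (0 : Fin 3906) = 0 := fix_fixes (by decide +kernel)
    have hfx : ∀ {g : A}, g ∈ CA → ((ρ g 0 : Fin 3906) : Nat) ∈ fixL := fun hg =>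
      fix_mem (fix_orb hg hfix0)
    have hall : ∀ j : Fin 3906, (j : Nat) ∈ fixL → j ∈ T := by
      intro j hj
      rcases eq_or_ne j 0 with rfl | hj0
      · exact ⟨1, one_mem M, by simp⟩
      · obtain ⟨g1, hg1, g10, g1i⟩ := CA_trans_two (hmi ▸ hfx m.2) hi0
        obtain ⟨g2, hg2, g20, g2j⟩ := CA_trans_two hj hj0
        let u : CA := ⟨g2 * g1⁻¹, mul_mem hg2 (inv_mem hg1)⟩
        have hu0 : ρ (u : A) 0 = 0 := by
          show ρ (g2 * g1⁻¹) 0 = 0
          rw [map_mul, map_inv, Equiv.Perm.mul_apply, Equiv.Perm.inv_def,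
            (Equiv.symm_apply_eq _).mpr g10.symm, g20]
        refine ⟨u * m * u⁻¹, hM u m hm, ?_⟩
        rw [Subgroup.coe_mul, Subgroup.coe_mul, Subgroup.coe_inv, map_mul, map_mul, map_inv,
          Equiv.Perm.mul_apply, Equiv.Perm.mul_apply, Equiv.Perm.inv_def,
          (Equiv.symm_apply_eq _).mpr hu0.symm, hmi]
        show ρ (g2 * g1⁻¹) i = j
        rw [map_mul, map_inv, Equiv.Perm.mul_apply, Equiv.Perm.inv_def,
          (Equiv.symm_apply_eq _).mpr g1i.symm, g2j]
    have hT : T = {j : Fin 3906 | (j : Nat) ∈ fixL} := Set.Subset.antisymm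
      (by rintro _ ⟨m', _, rfl⟩; exact hfx m'.2) hall
    have horb := card_orb_mul (ρ := ρ) (M.map CA.subtype) 0
    have he : orb ρ (M.map CA.subtype) 0 = T := by
      ext j
      constructor
      · rintro ⟨_, ⟨m', hm', rfl⟩, rfl⟩; exact ⟨m', hm', rfl⟩
      · rintro ⟨m', hm', rfl⟩; exact ⟨_, ⟨m', hm', rfl⟩, rfl⟩
    have hlist : ∀ v ∈ fixL, v < 3906 := by decide +kernel
    have h126 : T.ncard = 126 := by
      rw [hT, ← Set.ncard_image_of_injective _ Fin.val_injective]
      have : (fun j : Fin 3906 => (j : Nat)) '' {j | (j : Nat) ∈ fixL} = (fixL.toFinset : Set Nat) := by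
        ext v
        simp only [Set.mem_image, Finset.mem_coe, List.mem_toFinset]
        exact ⟨fun ⟨j, hj, e⟩ => e ▸ hj, fun hv => ⟨⟨v, hlist v hv⟩, hv, rfl⟩⟩
      rw [show (Fin.val '' {j : Fin 3906 | (j : Nat) ∈ fixL}) = (fixL.toFinset : Set Nat) from this,
        Set.ncard_coe_finset]
      decide +kernel
    rw [he, h126, Subgroup.card_map_of_injective CA.subtype_injective] at horb
    exact (dvd_mul_of_dvd_left (by norm_num) _).trans (dvd_of_eq horb)

theorem quotient_cases (hA : IsSimpleGroup A) (N : Subgroup CL) [N.Normal]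
    (hN : Subgroup.zpowers xC ≤ N) : N = Subgroup.zpowers xC ∨ N = ⊤ := by
  haveI := finite_Ly
  have hzc : Subgroup.zpowers xC ≤ Subgroup.center CL := by
    rw [Subgroup.zpowers_le, Subgroup.mem_center_iff]
    exact fun g => Subtype.ext (Subgroup.mem_centralizer_singleton_iff.mp g.2)
  have hψx : ψ ⟨xA, xA_mem_CA⟩ = xC := rfl
  refine normal_cases (C := CL) (ω := q0) (F := fun j : Fin 4 => Fn j.succ)
    (card_CL hA) (card_zpowers_xC hA) hzc ?_ ?_ (Fn_disjoint hA) ?_ ?_ (q0_notMem hA) ?_ ?_ ?_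
    N hN
  · rw [← range_ψ hA, Subgroup.zpowers_le]
    exact ⟨_, hψx⟩
  · rw [orbit_CL hA, card_Fix hA]
  · intro j
    rw [(Fn_eq hA j.succ (by simp)).2]
    fin_cases j <;> rfl
  · rw [orbit_CL hA, Fix_cover hA]
  · rintro j _ ⟨c, rfl⟩ _ ⟨d, rfl⟩
    refine ⟨ψ (d * c⁻¹), (range_ψ hA).le ⟨_, rfl⟩, ?_⟩
    show ((d * c⁻¹ : CA) : A) • ((c : A) • qn j.succ) = (d : A) • qn j.succ
    rw [← mul_smul, Subgroup.coe_mul, Subgroup.coe_inv, inv_mul_cancel_right]
  · intro M hZM hMU hnorm
    rcases CA_normal_cases hA (M.comap ψ) (fun u m hm => by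
        show ψ (u * m * u⁻¹) ∈ M
        rw [map_mul, map_mul, map_inv]
        exact hnorm _ ((range_ψ hA).le ⟨u, rfl⟩) _ hm) with h | h
    · refine Or.inr ?_
      have he : M = (M.comap ψ).map ψ := by
        rw [Subgroup.map_comap_eq, inf_eq_right.mpr]
        rw [range_ψ hA]; exact hMU
      rw [he, Subgroup.card_map_of_injective (ψ_injective hA)]
      exact h
    · refine Or.inl (le_antisymm (fun g hg => ?_) hZM)
      obtain ⟨c, rfl⟩ := (range_ψ hA).ge (hMU hg)
      rcases h c hg with h' | h' | h'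
      · rw [show c = 1 from Subtype.ext h', map_one]; exact one_mem _
      · rw [show c = ⟨xA, xA_mem_CA⟩ from Subtype.ext h', hψx]; exact Subgroup.mem_zpowers _
      · rw [show c = ⟨xA, xA_mem_CA⟩ * ⟨xA, xA_mem_CA⟩ from Subtype.ext h', map_mul, hψx]
        exact mul_mem (Subgroup.mem_zpowers _) (Subgroup.mem_zpowers _)
  · intro g hg
    obtain ⟨⟨c, hc⟩, rfl⟩ := (range_ψ hA).ge hg
    have hc' : c ∈ genW LA u7W := CA_eq ▸ hc
    clear hg
    revert hc
    induction hc' using Subgroup.closure_induction with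
    | mem a ha =>
      obtain ⟨w, hw, rfl⟩ := ha
      intro hc
      refine Subgroup.subset_closure ?_
      show ψ ⟨ev LA w, hc⟩ ^ 7 ∈ Subgroup.zpowers xC
      rw [← map_pow]
      rcases u7_seven hw with h | h | h
      · rw [show (⟨ev LA w, hc⟩ : CA) ^ 7 = 1 from Subtype.ext h, map_one]; exact one_mem _
      · rw [show (⟨ev LA w, hc⟩ : CA) ^ 7 = ⟨xA, xA_mem_CA⟩ from Subtype.ext h, hψx]
        exact Subgroup.mem_zpowers _
      · rw [show (⟨ev LA w, hc⟩ : CA) ^ 7 = ⟨xA, xA_mem_CA⟩ * ⟨xA, xA_mem_CA⟩ from Subtype.ext h,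
          map_mul, hψx]
        exact mul_mem (Subgroup.mem_zpowers _) (Subgroup.mem_zpowers _)
    | one =>
      intro hc
      rw [show (⟨1, hc⟩ : CA) = 1 from rfl, map_one]
      exact one_mem _
    | mul a b ha hb iha ihb =>
      intro hc
      rw [show (⟨a * b, hc⟩ : CA) = ⟨a, CA_eq ▸ ha⟩ * ⟨b, CA_eq ▸ hb⟩ from rfl, map_mul]
      exact mul_mem (iha _) (ihb _)
    | inv a ha iha =>
      intro hc
      rw [show (⟨a⁻¹, hc⟩ : CA) = (⟨a, CA_eq ▸ ha⟩ : CA)⁻¹ from rfl, map_inv]
      exact inv_mem (iha _)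

theorem center_CL (hA : IsSimpleGroup A) : Subgroup.center CL = Subgroup.zpowers xC := by
  haveI := finite_Ly
  have hle : Subgroup.zpowers xC ≤ Subgroup.center CL := by
    rw [Subgroup.zpowers_le, Subgroup.mem_center_iff]
    exact fun g => Subtype.ext (Subgroup.mem_centralizer_singleton_iff.mp g.2)
  refine (quotient_cases hA (Subgroup.center CL) hle).resolve_right fun h => ?_
  obtain ⟨g, hg, k, hk, hne⟩ := CA_not_comm
  have hm : ψ ⟨k, hk⟩ ∈ Subgroup.center CL := h ▸ Subgroup.mem_top _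
  have := congrArg Subtype.val (Subgroup.mem_center_iff.mp hm (ψ ⟨g, hg⟩))
  exact hne (Ψ_injective hA (by rw [map_mul, map_mul]; exact this))

theorem isMcL_quotient (hA : IsSimpleGroup A) :
    Cfsg.IsMcL (CL ⧸ Subgroup.center CL) := by
  haveI := finite_Ly
  have hq : Nat.card (CL ⧸ Subgroup.center CL) = 898128000 := by
    have h := Subgroup.card_eq_card_quotient_mul_card_subgroup (Subgroup.center CL)
    have h3 : Nat.card (Subgroup.center CL) = 3 := by rw [center_CL hA, card_zpowers_xC hA]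
    rw [card_CL hA, h3] at h
    omega
  refine ⟨?_, hq⟩
  haveI : Nontrivial (CL ⧸ Subgroup.center CL) := by
    rw [← Finite.one_lt_card_iff_nontrivial, hq]; norm_num
  refine ⟨fun K hK => ?_⟩
  have hsurj := QuotientGroup.mk'_surjective (Subgroup.center CL)
  haveI := hK.comap (QuotientGroup.mk' (Subgroup.center CL))
  rcases quotient_cases hA (K.comap (QuotientGroup.mk' (Subgroup.center CL))) (by
      rw [← center_CL hA]
      intro g hg
      show QuotientGroup.mk' _ g ∈ K
      rw [QuotientGroup.mk'_apply, (QuotientGroup.eq_one_iff g).mpr hg]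
      exact one_mem K) with h | h
  · left
    rw [eq_bot_iff]
    intro k hk
    obtain ⟨g, rfl⟩ := hsurj k
    rw [Subgroup.mem_bot, QuotientGroup.mk'_apply, QuotientGroup.eq_one_iff, center_CL hA, ← h]
    exact hk
  · right
    rw [← Subgroup.map_comap_eq_self_of_surjective hsurj K, h,
      Subgroup.map_top_of_surjective _ hsurj]

/-- The Lyons group has an element of order three with centraliser a triple cover of a group of
McLaughlin's order. -/
theorem exists_three (hA : IsSimpleGroup A) :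
    ∃ (G : Type) (_ : Group G) (_ : Finite G), Cfsg.IsLy G ∧ ∃ x : G, orderOf x = 3 ∧
      Nat.card (Subgroup.center (Subgroup.centralizer ({x} : Set G))) = 3 ∧
      Cfsg.IsMcL ((Subgroup.centralizer ({x} : Set G)) ⧸
        Subgroup.center (Subgroup.centralizer ({x} : Set G))) :=
  ⟨Ly, inferInstance, finite_Ly, isLy hA, xL, orderOf_xL hA,
    by rw [center_CL hA, card_zpowers_xC hA], isMcL_quotient hA⟩

end CfsgLib.Coset.Ly.Cent
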