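import Mathlib.Data.List.Basic

/-! A derivation of the coset facts from the relators. -/

set_option autoImplicit false
set_option maxRecDepth 100000

namespace CfsgLib.Coset.Ly

/-- The node representatives. -/
def nodeW : List (List Nat) := [[], [18], [18, 7, 18], [18, 3, 7, 18], [18, 8, 7, 18]]

/-- The stabilising words with their nodes. -/
def stL : List (Nat × List Nat) := [(0, [0]),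
  (0, [1]),
  (0, [2]),
  (0, [3]),
  (0, [4]),
  (0, [5]),
  (0, [6]),
  (0, [7]),
  (0, [8]),
  (0, [9]),
  (0, [10]),
  (0, [11]),
  (0, [12]),
  (0, [13]),
  (0, [14]),
  (0, [15]),
  (0, [16]),
  (0, [17]),
  (1, [4]),
  (1, [10]),
  (1, [12]),
  (1, [14]),
  (1, [16]),
  (1, [0]),
  (1, [2, 0, 3]),
  (1, [2, 2, 0, 3, 3]),
  (2, [0, 2, 0, 3, 1]),
  (2, [2, 1, 3]),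
  (2, [3, 1, 3, 3, 1, 3]),
  (2, [1, 7, 12, 4, 8, 12, 3, 1]),
  (3, [3, 3, 0, 2, 0]),
  (3, [2, 0, 2, 2, 0, 2, 0]),
  (3, [0, 2, 2, 0, 2, 6, 1, 3, 1]),
  (3, [4, 14, 3, 15, 6, 15, 1, 9, 5, 6, 0]),
  (4, [3, 0, 2, 12, 2, 0, 2, 1, 3, 1]),
  (4, [2, 0, 2, 1, 3, 5, 3, 1]),
  (4, [5, 1, 3, 3, 1, 2, 15, 1]),
  (4, [2, 1, 8, 5, 15, 0, 2, 1, 2, 1]),
  (4, [6, 4, 6, 5, 6, 14, 11, 12, 2, 0]),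
  (4, [2, 11, 15, 16, 1, 6, 17, 14, 10, 3])]

/-- The facts. -/
def factL : List (Nat × List Nat × Nat × List Nat) := [(0, [], 1, []),
  (1, [], 0, [0, 0]),
  (1, [7], 2, []),
  (2, [], 1, [0, 0, 6]),
  (2, [3, 7], 2, [6, 6, 15, 8, 13, 7, 12, 9, 1]),
  (2, [6, 6, 15, 8, 13, 7, 12, 9, 1], 2, [0, 0, 3, 6]),
  (2, [11, 2, 11, 5, 7], 2, [1, 8, 14, 3, 10, 6, 14, 1, 10, 2]),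
  (2, [1, 8, 14, 3, 10, 6, 14, 1, 10, 2], 2, [2, 1, 5, 10, 14, 6, 0]),
  (2, [12, 11, 2, 14, 7], 2, [0, 11, 4, 7, 12, 5, 3, 1, 9, 10, 0]),
  (2, [0, 11, 4, 7, 12, 5, 3, 1, 9, 10, 0], 2, [2, 5, 1, 5, 13, 6, 0]),
  (1, [3], 1, [2, 0, 2, 2, 0, 2, 1, 3]),
  (1, [2, 0, 2, 2, 0, 2, 1, 3], 1, [0, 0, 3]),
  (1, [3, 8, 15, 4, 11], 1, [3, 3, 8, 16, 6, 8, 4, 1, 2, 2]),
  (1, [3, 3, 8, 16, 6, 8, 4, 1, 2, 2], 1, [3, 8, 15, 4, 11, 0, 0]),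
  (1, [3, 7], 3, []),
  (3, [], 1, [0, 0, 3, 6]),
  (2, [3], 3, [0, 3, 0, 2, 2, 7]),
  (3, [0, 3, 0, 2, 2, 7], 2, [0, 0, 3]),
  (3, [15, 4, 4, 7], 2, [2, 2, 8, 6, 10, 6, 17, 12]),
  (2, [2, 2, 8, 6, 10, 6, 17, 12], 3, [15, 0, 0, 4, 6]),
  (3, [13, 7], 3, [4, 1, 13, 14, 8, 16, 6, 0, 13]),
  (3, [4, 1, 13, 14, 8, 16, 6, 0, 13], 3, [13, 0, 0, 6]),
  (3, [15, 7], 3, [0, 2, 12, 2, 11, 8, 7, 0, 3, 1]),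
  (3, [0, 2, 12, 2, 11, 8, 7, 0, 3, 1], 3, [15, 0, 0, 6]),
  (3, [14, 0, 4, 7], 2, [1, 6, 17, 8, 1, 8, 1, 9, 13]),
  (2, [1, 6, 17, 8, 1, 8, 1, 9, 13], 3, [10, 10, 14, 1, 7]),
  (3, [10, 2, 1, 8], 3, [1, 4, 15, 8, 10, 7, 0, 15, 13, 10]),
  (3, [1, 4, 15, 8, 10, 7, 0, 15, 13, 10], 3, [10, 2, 1, 8, 0, 0]),
  (3, [3, 10, 13, 13, 7], 3, [3, 12, 15, 1, 8, 2, 10, 7, 13, 0]),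
  (3, [3, 12, 15, 1, 8, 2, 10, 7, 13, 0], 3, [3, 1, 4, 1, 12, 7]),
  (3, [2, 10, 3, 16, 7], 3, [4, 6, 12, 12, 11, 7, 10, 2, 9, 4, 1]),
  (3, [4, 6, 12, 12, 11, 7, 10, 2, 9, 4, 1], 3, [0, 10, 5, 13, 14, 7, 1]),
  (3, [15, 8, 2, 7], 3, [4, 1, 7, 12, 0, 5, 9, 5, 6, 16]),
  (3, [4, 1, 7, 12, 0, 5, 9, 5, 6, 16], 3, [15, 8, 2, 0, 7, 1]),
  (3, [11, 2, 5, 5, 7], 3, [5, 14, 1, 8, 0, 8, 10, 4, 14, 0]),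
  (3, [5, 14, 1, 8, 0, 8, 10, 4, 14, 0], 3, [1, 5, 1, 2, 4, 7]),
  (3, [11, 2, 17, 7], 3, [5, 7, 11, 3, 8, 5, 6, 14, 10, 0]),
  (3, [5, 7, 11, 3, 8, 5, 6, 14, 10, 0], 3, [1, 5, 1, 2, 16, 7]),
  (3, [14, 12, 2, 7], 3, [1, 10, 3, 13, 7, 8, 11, 2, 15, 0]),
  (3, [1, 10, 3, 13, 7, 8, 11, 2, 15, 0], 3, [14, 12, 2, 0, 7, 1]),
  (3, [2, 4, 16, 7], 2, [3, 14, 7, 16, 1, 8, 4, 6, 5, 13, 1]),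
  (2, [3, 14, 7, 16, 1, 8, 4, 6, 5, 13, 1], 3, [2, 0, 10, 0, 17, 6]),
  (3, [4, 12, 2, 16, 7], 3, [14, 0, 6, 14, 7, 9, 12, 0]),
  (3, [14, 0, 6, 14, 7, 9, 12, 0], 3, [4, 12, 2, 16, 0, 7, 1]),
  (3, [10, 16, 0, 2, 6], 3, [5, 15, 8, 1, 2, 6, 14, 7, 13, 0]),
  (3, [5, 15, 8, 1, 2, 6, 14, 7, 13, 0], 3, [10, 16, 1, 2, 6]),
  (3, [10, 12, 0, 2, 6], 3, [2, 10, 16, 0, 7, 13, 11, 7, 3, 1]),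
  (3, [2, 10, 16, 0, 7, 13, 11, 7, 3, 1], 3, [10, 12, 1, 2, 6]),
  (3, [11, 15, 3, 4, 7], 3, [5, 11, 8, 11, 4, 7, 10, 10, 2, 9, 1]),
  (3, [5, 11, 8, 11, 4, 7, 10, 10, 2, 9, 1], 3, [11, 15, 3, 4, 6, 1, 1]),
  (3, [5, 11, 16, 16, 7], 3, [4, 14, 13, 6, 13, 8, 6, 17, 13, 3, 3]),
  (3, [4, 14, 13, 6, 13, 8, 6, 17, 13, 3, 3], 3, [0, 4, 11, 0, 10, 6]),
  (3, [0, 15, 13, 11, 2, 7], 3, [0, 11, 3, 3, 1, 14, 10, 2, 2, 1]),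
  (3, [0, 11, 3, 3, 1, 14, 10, 2, 2, 1], 3, [10, 14, 1, 15, 7, 2]),
  (1, [8, 7], 4, []),
  (4, [], 1, [8, 0, 0, 6]),
  (2, [7], 4, [1, 5, 1, 14, 8, 4, 2, 0, 3]),
  (4, [1, 5, 1, 14, 8, 4, 2, 0, 3], 2, [0, 0, 6]),
  (3, [2, 5, 7], 4, [3, 12, 14, 8, 6, 6, 9, 11, 6]),
  (4, [3, 12, 14, 8, 6, 6, 9, 11, 6], 3, [2, 0, 11, 0, 6]),
  (3, [10, 8], 4, [6, 4, 1, 6, 13, 15, 13, 2]),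
  (4, [6, 4, 1, 6, 13, 15, 13, 2], 3, [10, 8, 0, 0]),
  (3, [14, 3, 16, 7], 4, [5, 17, 1, 7, 15, 16, 9, 3, 10, 6]),
  (4, [5, 17, 1, 7, 15, 16, 9, 3, 10, 6], 3, [3, 14, 0, 12, 0, 6]),
  (3, [10, 14, 13, 2, 7], 4, [3, 15, 5, 8, 6, 15, 12, 11, 7, 9]),
  (4, [3, 15, 5, 8, 6, 15, 12, 11, 7, 9], 3, [2, 15, 1, 15, 1, 13, 7]),
  (4, [7], 3, [1, 1, 15, 8, 13, 1, 12, 1]),
  (3, [1, 1, 15, 8, 13, 1, 12, 1], 4, [0, 0, 6]),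
  (4, [3], 4, [1, 3, 1, 15, 4, 8, 6, 9, 3]),
  (4, [1, 3, 1, 15, 4, 8, 6, 9, 3], 4, [0, 0, 3]),
  (4, [11, 7], 4, [0, 12, 14, 17, 6, 11, 0, 9, 17, 5]),
  (4, [0, 12, 14, 17, 6, 11, 0, 9, 17, 5], 4, [1, 5, 1, 7]),
  (4, [2, 11, 7], 3, [3, 8, 2, 15, 7, 5, 14, 10, 5, 0]),
  (3, [3, 8, 2, 15, 7, 5, 14, 10, 5, 0], 4, [2, 1, 5, 1, 7]),
  (4, [2, 5, 5, 7], 3, [1, 11, 16, 8, 13, 0, 9, 0, 14, 13]),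
  (3, [1, 11, 16, 8, 13, 0, 9, 0, 14, 13], 4, [0, 0, 2, 5, 6]),
  (4, [8, 7], 4, [1, 10, 8, 1, 17, 7, 15, 9, 15]),
  (4, [1, 10, 8, 1, 17, 7, 15, 9, 15], 4, [8, 0, 0, 6]),
  (4, [0, 4, 7], 2, [12, 6, 8, 2, 14, 6, 14, 14, 0]),
  (2, [12, 6, 8, 2, 14, 6, 14, 14, 0], 4, [1, 4, 4, 7]),
  (4, [6, 4, 4, 6], 2, [2, 5, 1, 13, 7, 10, 12, 12, 2, 10]),
  (2, [2, 5, 1, 13, 7, 10, 12, 12, 2, 10], 4, [0, 0, 6, 5, 6]),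
  (4, [3, 3, 15, 7], 2, [0, 3, 15, 16, 7, 17, 1, 15]),
  (2, [0, 3, 15, 16, 7, 17, 1, 15], 4, [3, 0, 11, 0, 3, 6]),
  (4, [10, 14, 7], 4, [1, 10, 5, 6, 4, 15, 7, 0, 17, 11]),
  (4, [1, 10, 5, 6, 4, 15, 7, 0, 17, 11], 4, [10, 14, 0, 0, 6]),
  (4, [10, 14, 14, 7], 4, [3, 3, 7, 10, 16, 16, 7, 14, 4, 4]),
  (4, [3, 3, 7, 10, 16, 16, 7, 14, 4, 4], 4, [1, 4, 1, 15, 7]),
  (4, [10, 14, 3, 7], 3, [6, 8, 15, 17, 7, 10, 10, 9, 15, 6, 1]),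
  (3, [6, 8, 15, 17, 7, 10, 10, 9, 15, 6, 1], 4, [10, 14, 3, 0, 7, 1])]

/-- The words equal to `z`: relator, position and word. -/
def varL : List (Nat × Nat × List Nat) := [(81, 5, [3, 3, 1, 2, 2, 1, 1, 18, 1, 1, 3, 3, 1, 2, 2, 18, 1, 1, 3, 3, 1, 2, 2]),
  (81, 11, [3, 3, 1, 2, 2, 18, 1, 1, 3, 3, 1, 2, 2, 1, 1, 18, 1, 1, 3, 3, 1, 2, 2]),
  (81, 17, [3, 3, 1, 2, 2, 18, 1, 1, 3, 3, 1, 2, 2, 18, 1, 1, 3, 3, 1, 2, 2, 1, 1]),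
  (82, 8, [6, 4, 3, 0, 4, 0, 6, 4, 18, 1, 1, 2, 2, 0, 2, 4, 2, 2, 5, 1, 4, 0, 6, 4, 1, 2, 4, 1, 6, 4, 0, 18, 1, 1, 2, 1, 3, 1, 2, 1, 4, 0, 2, 4, 3, 6, 4, 3, 0, 4, 2, 7, 0]),
  (82, 28, [2, 1, 3, 1, 2, 1, 4, 0, 2, 4, 3, 6, 4, 3, 0, 4, 2, 7, 0, 18, 1, 1, 6, 4, 3, 0, 4, 0, 6, 4, 18, 1, 1, 2, 2, 0, 2, 4, 2, 2, 5, 1, 4, 0, 6, 4, 1, 2, 4, 1, 6, 4, 0]),
  (82, 49, [2, 2, 0, 2, 4, 2, 2, 5, 1, 4, 0, 6, 4, 1, 2, 4, 1, 6, 4, 0, 18, 1, 1, 2, 1, 3, 1, 2, 1, 4, 0, 2, 4, 3, 6, 4, 3, 0, 4, 2, 7, 0, 18, 1, 1, 6, 4, 3, 0, 4, 0, 6, 4]),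
  (83, 0, [7, 18, 1, 1, 1, 5, 7, 2, 1, 3, 5, 7, 2, 1, 3, 5, 3, 0, 3, 3, 0, 3, 18, 6, 18, 0, 2, 1, 2, 2, 1, 2, 2, 5, 0, 4, 2, 4, 3, 6, 4, 3, 3, 6, 4, 2, 4]),
  (83, 2, [1, 5, 7, 2, 1, 3, 5, 7, 2, 1, 3, 5, 3, 0, 3, 3, 0, 3, 18, 6, 18, 0, 2, 1, 2, 2, 1, 2, 2, 5, 0, 4, 2, 4, 3, 6, 4, 3, 3, 6, 4, 2, 4, 18, 1, 1, 7]),
  (83, 21, [2, 1, 2, 2, 1, 2, 4, 2, 0, 3, 6, 4, 2, 0, 3, 6, 4, 0, 18, 6, 18, 5, 3, 5, 7, 2, 2, 5, 7, 2, 5, 3, 5, 1, 4, 3, 3, 0, 3, 3, 0, 3, 1, 18, 1, 1, 7]),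
  (83, 23, [7, 18, 1, 1, 2, 1, 2, 2, 1, 2, 4, 2, 0, 3, 6, 4, 2, 0, 3, 6, 4, 0, 18, 6, 18, 5, 3, 5, 7, 2, 2, 5, 7, 2, 5, 3, 5, 1, 4, 3, 3, 0, 3, 3, 0, 3, 1]),
  (84, 0, [0, 3, 0, 2, 2, 0, 5, 0, 2, 1, 6, 4, 0, 5, 3, 5, 1, 6, 18, 2, 0, 3, 1, 3, 3, 1, 3, 4, 2, 2, 4, 2, 6, 4, 3, 3, 6, 4, 2, 4, 18, 6, 2, 5, 0, 5, 1, 5, 7, 4, 4, 0, 3, 4, 3, 5, 0, 2, 2, 1, 18, 1, 1, 5, 3, 5, 7, 2, 2, 5, 7, 3, 5, 3, 3, 5, 2, 0, 2, 2, 0, 2, 1, 3]),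
  (84, 22, [5, 3, 5, 7, 2, 2, 5, 7, 3, 5, 3, 3, 5, 2, 0, 2, 2, 0, 2, 1, 3, 18, 1, 1, 0, 3, 0, 2, 2, 0, 5, 0, 2, 1, 6, 4, 0, 5, 3, 5, 1, 6, 18, 2, 0, 3, 1, 3, 3, 1, 3, 4, 2, 2, 4, 2, 6, 4, 3, 3, 6, 4, 2, 4, 18, 6, 2, 5, 0, 5, 1, 5, 7, 4, 4, 0, 3, 4, 3, 5, 0, 2, 2, 1]),
  (84, 42, [5, 3, 5, 7, 2, 2, 5, 7, 3, 5, 3, 3, 5, 2, 0, 2, 2, 0, 2, 1, 3, 18, 1, 1, 7, 0, 4, 2, 4, 1, 5, 7, 0, 3, 1, 4, 1, 3, 3, 1, 2, 1, 18, 2, 0, 3, 1, 3, 3, 1, 3, 4, 2, 2, 4, 2, 6, 4, 3, 3, 6, 4, 2, 4, 18, 0, 3, 3, 1, 4, 2, 5, 2, 1, 5, 5, 6, 4, 0, 4, 1, 4, 3, 7]),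
  (84, 64, [7, 0, 4, 2, 4, 1, 5, 7, 0, 3, 1, 4, 1, 3, 3, 1, 2, 1, 18, 2, 0, 3, 1, 3, 3, 1, 3, 4, 2, 2, 4, 2, 6, 4, 3, 3, 6, 4, 2, 4, 18, 0, 3, 3, 1, 4, 2, 5, 2, 1, 5, 5, 6, 4, 0, 4, 1, 4, 3, 7, 18, 1, 1, 5, 3, 5, 7, 2, 2, 5, 7, 3, 5, 3, 3, 5, 2, 0, 2, 2, 0, 2, 1, 3]),
  (85, 0, [3, 0, 2, 0, 2, 5, 1, 5, 0, 5, 6, 4, 3, 5, 0, 4, 18, 2, 6, 18, 3, 5, 0, 3, 3, 4, 7, 4, 0, 5, 1, 4, 3, 3, 0, 2, 0, 3, 3, 18, 1, 1, 7, 3]),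
  (85, 3, [7, 3, 18, 1, 1, 3, 0, 2, 0, 2, 5, 1, 5, 0, 5, 6, 4, 3, 5, 0, 4, 18, 2, 6, 18, 3, 5, 0, 3, 3, 4, 7, 4, 0, 5, 1, 4, 3, 3, 0, 2, 0, 3, 3]),
  (85, 23, [7, 3, 18, 1, 1, 5, 1, 4, 2, 5, 7, 4, 1, 4, 0, 4, 3, 1, 3, 1, 2, 18, 2, 6, 18, 2, 2, 1, 3, 1, 2, 2, 5, 0, 4, 1, 5, 6, 5, 2, 2, 1, 4, 2]),
  (85, 26, [5, 1, 4, 2, 5, 7, 4, 1, 4, 0, 4, 3, 1, 3, 1, 2, 18, 2, 6, 18, 2, 2, 1, 3, 1, 2, 2, 5, 0, 4, 1, 5, 6, 5, 2, 2, 1, 4, 2, 18, 1, 1, 7, 3]),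
  (0, 0, [18])]

/-- The steps. -/
def stepL : List (Nat × Nat × List Nat × Nat × List (Nat × List Nat × List Nat) × List (Nat × List Nat × List Nat) × Nat) := [(2, 0, [], 0, [], [], 0),
  (1, 0, [], 0, [], [], 0),
  (2, 0, [], 0, [], [], 0),
  (1, 0, [], 0, [], [], 2),
  (3, 1, [7], 18, [(2, [23, 24, 25, 23, 25], [5, 5, 5, 6, 5])], [(2, [], [])], 0),
  (3, 1, [7], 18, [(2, [23, 23, 23, 23, 23, 23, 24], [5, 5, 6])], [(2, [], [])], 0),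
  (3, 1, [7], 18, [(2, [23, 23, 25, 24, 23, 25], [5, 5, 7, 5, 6, 7])], [(2, [], [])], 0),
  (3, 1, [7], 6, [(1, [], [5, 5, 5, 5]), (0, [0, 0, 1, 1, 1, 1, 1, 1, 1, 1, 1, 1, 1, 1, 1, 1, 1, 5, 7, 2, 1, 3, 5, 7, 2, 1, 3, 5, 3, 0, 3, 3, 0, 3], []), (2, [], [5, 5, 5, 5])], [(2, [], [])], 0),
  (0, 2, [3, 7], 4, [(3, [26, 27, 29, 29], [6, 7, 2, 5, 4, 6, 5, 7, 5]), (2, [20, 24, 25, 24, 19, 25, 23], [7, 1, 4, 5, 6, 5, 7, 6])], [], 0),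
  (1, 0, [], 0, [], [], 4),
  (0, 2, [11, 2, 11, 5, 7], 16, [(3, [], [2, 5, 7, 1, 7, 4, 5]), (2, [18, 20, 25, 21, 23, 25, 23], [0, 6, 5, 7, 6, 5, 2, 5, 7, 5]), (4, [26, 27, 29, 29, 27, 28, 29, 26], [5, 5, 5, 7, 6, 5, 7, 2])], [], 0),
  (1, 0, [], 0, [], [], 6),
  (0, 2, [12, 11, 2, 14, 7], 4, [(6, [26, 27, 29, 27, 29, 27, 26, 27, 29], [0, 0, 7, 1, 6, 1, 2]), (6, [26, 28, 29, 29, 28, 26, 29], [0, 5, 6, 3, 5, 5, 5, 7, 6, 5, 3])], [], 0),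
  (1, 0, [], 0, [], [], 8),
  (0, 1, [3], 14, [(2, [23, 23, 23, 21, 24, 19, 23, 24, 23], [0, 6, 5, 7, 6, 5, 3, 6, 0]), (8, [27, 28, 27, 29, 29, 28, 29], [5, 6, 7, 5, 3, 6, 3, 5]), (3, [26, 29, 28, 29, 29, 28, 26, 29, 29], [5, 5, 5, 5, 6, 7, 6])], [], 0),
  (1, 0, [], 0, [], [], 10),
  (0, 1, [3, 8, 15, 4, 11], 15, [(2, [18, 19, 23, 25, 19, 23, 22], [2, 6, 7, 3, 4, 5, 6, 7]), (6, [26, 26, 29, 27, 29, 28, 28], [5, 5, 0, 5, 6, 5, 3, 7]), (3, [29, 26, 28, 29, 29, 28, 29, 29], [5, 7, 5, 6, 2, 5, 0])], [], 0),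
  (1, 0, [], 0, [], [], 12),
  (2, 0, [], 0, [], [], 0),
  (1, 0, [], 0, [], [], 14),
  (3, 1, [3, 7], 18, [(14, [23, 23, 23, 23, 23, 24], [5, 5, 5, 5, 7, 6])], [(14, [], [])], 0),
  (3, 1, [3, 7], 18, [(14, [23, 23, 23, 23, 23, 24, 23], [6, 7, 6])], [(14, [], [])], 0),
  (0, 2, [3], 7, [(3, [27, 26, 29, 29], [5, 6, 0, 5, 5, 5]), (12, [18, 18, 18, 18, 25], [2, 7, 0, 5, 6, 5]), (14, [18, 24, 25, 24, 19, 23, 23, 18], [6, 5, 7, 5])], [], 0),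
  (1, 0, [], 0, [], [], 16),
  (3, 2, [3], 14, [(8, [29, 28, 29, 26, 28, 29, 27], [0, 2, 6, 1, 3, 5]), (8, [27, 29, 29, 28, 27, 28, 29], [3, 6, 7, 5, 6, 0, 1]), (16, [29, 28, 29, 26, 28, 26, 29, 29], [5, 5, 7, 5, 6, 7])], [(16, [], [])], 0),
  (0, 3, [15, 4, 4, 7], 9, [(15, [], [3, 6, 5, 3, 4, 5, 6]), (2, [25, 24, 21, 23, 23, 25, 24, 21], [4, 5, 5, 5, 2, 5, 6]), (6, [27, 29, 28, 28, 29, 28, 29], [4, 5, 6, 7, 5, 6, 0, 3])], [], 0),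
  (1, 0, [], 0, [], [], 18),
  (0, 3, [13, 7], 9, [(15, [], [5, 5, 5, 5, 2]), (12, [23, 23, 23, 23, 24, 18, 23, 23], [0, 0, 7, 5, 6, 3, 5, 7]), (14, [18, 23, 23, 24, 23, 25, 19, 25, 21], [2, 5, 6, 0, 0, 5, 7])], [], 0),
  (1, 0, [], 0, [], [], 20),
  (0, 3, [15, 7], 6, [(15, [], [5, 5, 5, 5, 3]), (12, [23, 23, 23, 23, 24, 23], [7, 2, 5, 5, 3, 6]), (14, [21, 23, 20, 25, 22, 23], [7, 2, 6, 7, 3, 4])], [], 0),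
  (1, 0, [], 0, [], [], 22),
  (0, 3, [14, 0, 4, 7], 6, [(15, [], [1, 5, 6, 7, 3, 7, 6]), (2, [19, 23, 25, 18, 25, 23, 24], [7, 0, 0, 7, 2, 1]), (6, [26, 29, 28, 29, 27, 29, 26, 27], [6, 1, 7, 3, 5])], [], 0),
  (1, 0, [], 0, [], [], 24),
  (0, 3, [10, 2, 1, 8], 0, [(24, [30, 31, 30, 32, 31], [5, 6, 0, 6, 1, 5, 5, 6]), (19, [27, 26, 27, 29, 28, 29, 27, 26], [2, 2, 6, 5, 7, 3, 3])], [], 0),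
  (1, 0, [], 0, [], [], 26),
  (0, 3, [3, 10, 13, 13, 7], 11, [(24, [31, 31, 32], [3, 6, 0, 4, 6]), (6, [27, 28, 29, 27, 28, 29, 27, 29, 27], [3, 0, 0, 7, 5, 6, 7, 0]), (19, [26, 29, 27, 28, 29, 27, 29, 28, 28], [2, 5, 0, 6, 0, 6, 7])], [], 0),
  (1, 0, [], 0, [], [], 28),
  (0, 3, [2, 10, 3, 16, 7], 9, [(15, [], [2, 5, 0, 5, 6, 1, 6]), (2, [24, 19, 24, 18, 25, 23, 24], [0, 5, 5, 5, 6, 1, 7, 0, 5]), (19, [28, 26, 29, 27, 26, 29, 29, 28], [3, 5, 5, 5, 5, 6, 7, 3])], [], 0),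
  (1, 0, [], 0, [], [], 30),
  (0, 3, [15, 8, 2, 7], 4, [(24, [31, 30, 32, 31], [5, 6, 7, 5, 6, 5, 2, 0]), (19, [29, 26, 27, 29, 26, 28, 28, 29], [1, 3, 7, 5, 6, 7, 1])], [], 0),
  (1, 0, [], 0, [], [], 32),
  (0, 3, [11, 2, 5, 5, 7], 9, [(17, [32], [5, 6, 5, 2, 2, 5, 7, 5]), (6, [29, 26, 28, 29, 28, 29, 28, 29], [5, 5, 7, 6, 5, 7, 1, 7, 3]), (19, [27, 28, 29, 28, 26, 29], [5, 5, 3, 5, 4, 7])], [], 0),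
  (1, 0, [], 0, [], [], 34),
  (3, 3, [11, 2, 5, 5, 7], 15, [(15, [], [1, 1, 7, 5, 2, 5, 7]), (2, [24, 20, 23, 23, 24, 23, 21, 23, 24], [1, 7, 5, 2, 5, 3]), (19, [29, 29, 28, 28, 29, 28, 28, 29], [5, 7, 4, 5, 3, 5])], [(34, [], [])], 0),
  (0, 3, [11, 2, 17, 7], 0, [(18, [30, 33, 32, 31, 32, 30], [7, 5, 0, 0, 1, 7, 5]), (19, [26, 29, 27, 26, 29, 29, 28, 26], [5, 3, 2, 6, 7, 6, 3])], [], 0),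
  (1, 0, [], 0, [], [], 36),
  (0, 3, [14, 12, 2, 7], 0, [(30, [30, 30, 33, 31, 32], [7, 5, 6, 2, 1, 0, 5]), (34, [30, 30, 33, 31], [0, 6, 2, 5, 0, 7, 6, 3])], [], 0),
  (1, 0, [], 0, [], [], 38),
  (0, 3, [2, 4, 16, 7], 9, [(17, [32], [5, 6, 4, 7, 1, 5, 5, 5]), (6, [29, 27, 29, 28, 29, 28, 28, 27], [7, 5, 7, 6, 2, 7, 5, 7]), (6, [29, 29, 27, 29, 27, 26, 27, 29], [2, 5, 2, 4, 7, 5, 6, 7])], [], 0),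
  (1, 0, [], 0, [], [], 40),
  (0, 3, [4, 12, 2, 16, 7], 7, [(36, [31, 33, 32, 30, 31, 33], [7, 1, 6, 0, 7, 5, 6, 5]), (31, [30, 31], [0, 5, 0, 5, 7, 6, 5, 2, 5, 7]), (28, [33, 33, 32, 30, 31], [2, 6, 7, 3, 3, 2, 5])], [], 0),
  (1, 0, [], 0, [], [], 42),
  (0, 3, [10, 16, 0, 2, 6], 3, [(22, [30, 32, 33, 32, 30, 32], [5, 5, 0, 5, 5, 7, 3, 6]), (31, [33, 30, 32, 31], [3, 2, 5, 7, 5, 2, 6])], [], 0),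
  (1, 0, [], 0, [], [], 44),
  (0, 3, [10, 12, 0, 2, 6], 7, [(36, [31, 32, 33, 31, 30, 33], [2, 5, 6, 0, 1, 2, 7]), (28, [31, 33, 33, 30, 30, 30], [0, 7, 5, 6, 7, 2, 1, 5]), (31, [33, 33, 30, 31, 30, 32], [1, 6, 7, 2, 3, 3, 5, 7])], [], 0),
  (1, 0, [], 0, [], [], 46),
  (0, 3, [11, 15, 3, 4, 7], 3, [(28, [32, 33, 33, 30, 31], [7, 6, 3, 6, 0, 5, 0, 6]), (28, [31, 33, 33, 30, 33], [1, 1, 7, 5, 0, 7, 4])], [], 0),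
  (1, 0, [], 0, [], [], 48),
  (0, 3, [5, 11, 16, 16, 7], 3, [(48, [30, 33, 30, 33, 31], [1, 7, 3, 6, 1, 2]), (46, [33, 33, 30], [1, 6, 0, 5, 5, 7, 5, 6])], [], 0),
  (1, 0, [], 0, [], [], 50),
  (0, 3, [0, 15, 13, 11, 2, 7], 0, [(15, [31, 33, 33, 31, 33, 31], [0, 5, 6, 4, 5, 3, 6, 5, 7]), (14, [23, 23, 23, 24, 25], [0, 5, 5, 0, 5, 7, 1, 7, 5])], [], 0),
  (1, 0, [], 0, [], [], 52),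
  (2, 0, [], 0, [], [], 0),
  (1, 0, [], 0, [], [], 54),
  (3, 1, [8, 7], 18, [(54, [18, 25, 21, 24, 22, 25, 23, 24], [6, 5, 7, 6, 5, 3, 5, 7, 5])], [(54, [], [])], 0),
  (3, 1, [8, 7], 18, [(54, [23, 18, 24, 18, 19, 24, 25], [2, 2, 4, 6, 7, 5, 3])], [(54, [], [])], 0),
  (3, 1, [8, 7], 18, [(54, [19, 23, 20, 23, 20, 25, 23], [5, 5, 5, 7, 0, 6])], [(54, [], [])], 0),
  (3, 1, [8, 7], 4, [(12, [23, 23, 23, 23, 24, 23], [2, 5, 5, 3, 6, 1]), (54, [22, 24, 23, 20, 23, 23, 23, 23], [0, 4, 6, 7, 2, 7, 5])], [(54, [], [])], 0),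
  (0, 2, [7], 4, [(3, [26, 27, 29, 29], [6, 7, 2, 6, 5, 0, 6, 7, 5]), (54, [23, 23, 23, 20, 23, 23, 18, 23, 24], [6, 0, 3, 5, 0, 2, 7, 5])], [], 0),
  (1, 0, [], 0, [], [], 56),
  (3, 2, [7], 6, [(3, [], [5, 5, 5, 5]), (12, [19, 19, 19, 19, 25, 23, 25], [1, 5, 5, 3, 2, 6, 7]), (54, [23, 25, 18, 24, 19, 24, 25, 23, 24], [6, 5, 7, 5, 2, 5, 7])], [(56, [], [])], 0),
  (0, 3, [2, 5, 7], 7, [(26, [31, 31, 31, 31], [0, 6, 0, 5, 3, 5, 7]), (15, [32, 33, 33, 30], [4, 6, 7, 6, 2, 6, 5, 2, 6]), (54, [23, 23, 20, 23, 23, 24, 25, 19], [5, 5, 5, 6, 7, 6, 5, 0, 6, 2])], [], 0),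
  (1, 0, [], 0, [], [], 58),
  (0, 3, [10, 8], 7, [(42, [33, 31, 33, 33, 33, 32], [1, 6, 1, 5, 2, 5, 5, 7]), (37, [32, 33, 32, 33, 31], [1, 1, 0, 6, 1, 5, 0]), (58, [31, 33, 31, 33, 32, 33], [1, 0, 3, 5, 0, 6, 5])], [], 0),
  (1, 0, [], 0, [], [], 60),
  (0, 3, [14, 3, 16, 7], 3, [(22, [33, 31, 32, 30, 33], [2, 5, 6, 3, 5, 7, 6]), (60, [30, 31, 30, 33, 31], [1, 6, 4, 7, 0])], [], 0),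
  (1, 0, [], 0, [], [], 62),
  (3, 3, [14, 3, 16, 7], 4, [(22, [33, 31, 33, 33, 32], [0, 2, 6, 5, 2, 5, 5, 5]), (60, [30, 31, 30, 33, 31], [0, 5, 5, 2, 4, 5, 6])], [(62, [], [])], 0),
  (0, 3, [10, 14, 13, 2, 7], 4, [(22, [30, 33, 32, 33, 30, 33], [0, 5, 5, 2, 6, 3, 5, 5, 7, 6]), (58, [31, 33, 33, 30, 30, 33], [2, 5, 5, 5, 5, 6, 3, 5])], [], 0),
  (1, 0, [], 0, [], [], 64),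
  (0, 4, [7], 6, [(55, [], [5, 5, 5, 5]), (54, [23, 23, 23, 23, 21, 23, 24], [7, 5, 0, 0, 6, 0, 5]), (59, [34, 34, 38, 35, 39, 35], [0, 0, 5, 7, 6, 5, 3])], [], 0),
  (1, 0, [], 0, [], [], 66),
  (0, 4, [3], 3, [(61, [34, 36, 34, 37], [4, 6, 5, 7, 0, 6, 1, 7]), (60, [31, 31], [1, 2, 3, 5, 5, 5, 5, 6])], [], 0),
  (1, 0, [], 0, [], [], 68),
  (0, 4, [11, 7], 9, [(55, [], [5, 5, 5, 0, 5]), (14, [24, 19, 23, 23, 23, 23, 24, 19, 24], [6, 3, 5, 5, 7, 2, 6, 7, 5]), (62, [30, 32, 33, 30, 32, 31], [5, 7, 6, 2, 1, 6, 7, 6, 5])], [], 0),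
  (1, 0, [], 0, [], [], 70),
  (0, 4, [2, 11, 7], 4, [(66, [36, 34, 38, 34, 34], [3, 6, 7, 5, 2, 6, 7, 5]), (48, [30, 31, 33, 30, 32], [1, 6, 5, 7, 2, 5, 5, 0])], [], 0),
  (1, 0, [], 0, [], [], 72),
  (0, 4, [2, 5, 5, 7], 3, [(59, [34, 35, 35, 38, 38], [5, 6, 7, 2, 5, 5, 0, 6, 5]), (48, [30, 33, 30, 30, 33], [0, 0, 3, 2, 7, 5])], [], 0),
  (1, 0, [], 0, [], [], 74),
  (0, 4, [8, 7], 6, [(66, [38], [1, 7, 0, 5, 6, 0, 5, 5, 7, 5]), (20, [32, 33, 33, 30, 31], [7, 5, 7, 1, 7, 1, 5]), (64, [33, 31, 33, 33], [0, 5, 5, 5, 6, 7, 5, 6, 5, 2])], [], 0),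
  (1, 0, [], 0, [], [], 76),
  (0, 4, [0, 4, 7], 3, [(63, [34, 36, 37, 36, 38, 37], [5, 3, 6, 3, 6, 3, 6, 5]), (40, [30, 31, 30, 33, 30], [6, 7, 1, 6, 1, 5, 5, 5])], [], 0),
  (1, 0, [], 0, [], [], 78),
  (0, 4, [6, 4, 4, 6], 0, [(61, [34, 35, 36, 35], [5, 3, 2]), (18, [30, 31, 33, 32, 30, 32], [3, 5, 4, 7])], [], 0),
  (1, 0, [], 0, [], [], 80),
  (0, 4, [3, 3, 15, 7], 0, [(63, [35, 39, 38, 34, 37], [3, 5, 3, 6, 3, 5, 6, 5]), (40, [30, 33, 33, 30, 30, 32], [1, 0, 1, 0, 7, 6])], [], 0),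
  (1, 0, [], 0, [], [], 82),
  (0, 4, [10, 14, 7], 3, [(61, [39, 35, 38], [1, 5, 3, 5, 6, 0, 7, 6]), (60, [30, 30, 30, 33], [5, 4, 6, 7, 2, 0, 5])], [], 0),
  (1, 0, [], 0, [], [], 84),
  (0, 4, [10, 14, 14, 7], 0, [(65, [34, 35, 39, 36, 34, 38], [1, 2, 5, 5, 6, 7, 0, 5, 5]), (64, [30, 30, 32], [5, 5, 6, 2, 7, 6, 3, 5, 5])], [], 0),
  (1, 0, [], 0, [], [], 86),
  (0, 4, [10, 14, 3, 7], 0, [(74, [34, 35, 35, 39, 34, 38], [0, 5, 7, 6, 1, 7, 3, 6]), (50, [30, 33, 33, 32, 31], [0, 1, 2, 3, 2, 2, 6])], [], 0),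
  (1, 0, [], 0, [], [], 88)]

end CfsgLib.Coset.Ly
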