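import Cfsg.Agent.Coset.Ly.Frame
import Cfsg.Agent.Coset.Ly.DeriveData

/-!
Checking the derivation: each fact is an equality of two cosets of the subgroup of all letters but
`z`, each step deduces one from earlier facts and one relator.
-/

set_option autoImplicit false
set_option maxRecDepth 100000
set_option Elab.async false

namespace CfsgLib.Coset.Ly

/-- A certificate for passing `z`. -/
abbrev Cert : Type := Nat × List Nat × List Nat

/-- A step. -/
abbrev Step : Type := Nat × Nat × List Nat × Nat × List Cert × List Cert × Nat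

/-- The representative of a node. -/
def nW (n : Nat) : List Nat := nodeW.getD n []

/-- The node and word of a stabilising element. -/
def stAt (i : Nat) : Nat × List Nat := stL.getD i (0, [])

/-- The word of a list of stabilising elements. -/
def stWord (ids : List Nat) : List Nat := (ids.map fun i => (stAt i).2).flatten

/-- A fact. -/
def factAt (j : Nat) : Nat × List Nat × Nat × List Nat := factL.getD j (0, [], 0, [])

/-- Free reduction. -/
def red : List Nat → List Nat :=
  List.foldr (fun x acc => match acc with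
    | y :: t => if y = Nat.xor x 1 then t else x :: acc
    | [] => [x]) []

/-- Writing `z⁻¹` as `z u⁻¹`. -/
def uexp : List Nat → List Nat :=
  List.flatMap fun x => if x = 19 then [18, 1, 1] else [x]

/-- A word equal to `z`, read off a relator containing `z` or `z⁻¹` at a position. -/
def varOf (r i : Nat) : List Nat :=
  if (relW.getD r []).getD i 0 = 18 then
    uexp (red (invW ((relW.getD r []).take i) ++ invW ((relW.getD r []).drop (i + 1))))
  else uexp (red ((relW.getD r []).drop (i + 1) ++ (relW.getD r []).take i))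

/-- The listed words are those of their relators, or the letter `z`. -/
def checkVar (q : Nat × Nat × List Nat) : Bool :=
  decide (q.2.2 = [18]) ||
    (decide (((relW.getD q.1 []).getD q.2.1 0 = 18 ∨ (relW.getD q.1 []).getD q.2.1 0 = 19) ∧
      q.2.1 < (relW.getD q.1 []).length ∧ relW.getD q.1 [] ∈ relW ∧ q.2.2 = varOf q.1 q.2.1))

section Kernel

/-- A word in the first eighteen letters. -/
noncomputable def lettersA (w : List Nat) : Bool := allList (fun x => Nat.ble (Nat.add x 1) 18) w

/-- Passing `z` at a point. -/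
noncomputable def stepZ (nf ns : Nat) (n : Nat) (h : List Nat) (c : Cert)
    (K : Nat → List Nat → Bool) : Bool :=
  cond (Nat.ble (Nat.add c.1 1) nf)
    (cond (Nat.beq (factAt c.1).1 n)
      (cond (allList (fun i => cond (Nat.ble (Nat.add i 1) ns) (Nat.beq (stAt i).1 n) false) c.2.1)
        (cond (allList (fun i => Nat.ble (Nat.add i 1) 8) c.2.2)
          (cond (eqA h (stWord c.2.1 ++ (factAt c.1).2.1 ++ flatW kgW c.2.2))
            (K (factAt c.1).2.2.1 ((factAt c.1).2.2.2 ++ flatW kmW c.2.2)) false)
          false) false) false) false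

/-- Trace a word from a point. -/
noncomputable def trace (nf ns : Nat) (v : List Nat) (certs : List Cert) (n : Nat) (h : List Nat)
    (K : Nat → List Nat → Bool) : Bool :=
  List.rec (motive := fun _ => List Cert → Nat → List Nat → Bool)
    (fun _ n h => K n h)
    (fun x _ ih certs n h =>
      cond (Nat.beq x 18)
        (List.rec false (fun c rest _ => stepZ nf ns n h c (fun m g => ih rest m g)) certs)
        (cond (Nat.ble (Nat.add x 1) 18) (ih certs n (h ++ [x])) false)) v certs n h

/-- One step, given the numbers of facts and stabilising elements known. -/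
noncomputable def checkStep1 (nf ns : Nat) (s : Step) : Bool :=
  cond (Nat.beq s.1 0)
    (cond (lettersA s.2.2.1)
      (cond (lettersA (factAt nf).2.2.2)
        (trace nf ns (varL.getD s.2.2.2.1 (0, 0, [18])).2.2 s.2.2.2.2.1 s.2.1 s.2.2.1 fun m g =>
          cond (Nat.beq (factAt nf).1 s.2.1)
            (cond (eqA (factAt nf).2.1 s.2.2.1)
              (cond (Nat.beq (factAt nf).2.2.1 m) (eqA g (factAt nf).2.2.2) false) false) false)
        false) false)
    (cond (Nat.beq s.1 1)
      (cond (Nat.ble (Nat.add s.2.2.2.2.2.2 1) nf)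
        (cond (Nat.beq (factAt nf).1 (factAt s.2.2.2.2.2.2).2.2.1)
          (cond (Nat.beq (factAt nf).2.2.1 (factAt s.2.2.2.2.2.2).1)
            (cond (eqA (factAt nf).2.1 (factAt s.2.2.2.2.2.2).2.2.2)
              (eqA (factAt nf).2.2.2 ((factAt s.2.2.2.2.2.2).2.1 ++ [0, 0])) false) false) false)
        false)
      (cond (Nat.beq s.1 2)
        (cond (wordEq (nW (factAt nf).1 ++ (factAt nf).2.1 ++ [18]) (nW (factAt nf).2.2.1))
          (wordEq (factAt nf).2.2.2 []) false)
        (cond (Nat.beq s.1 3) (cond (lettersA s.2.2.1)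
          (cond (lettersA (stAt ns).2)
            (trace nf ns (varL.getD s.2.2.2.1 (0, 0, [18])).2.2 s.2.2.2.2.1 s.2.1 s.2.2.1 fun m g =>
              trace nf ns [18] s.2.2.2.2.2.1 s.2.1 s.2.2.1 fun m' g' =>
                cond (Nat.beq m m') (cond (Nat.beq (stAt ns).1 m)
                  (eqA (stAt ns).2 (g ++ invW g')) false) false)
            false) false) false)))

/-- All steps. -/
noncomputable def checkAll (steps : List Step) (nf ns : Nat) : Bool :=
  List.rec (motive := fun _ => Nat → Nat → Bool)
    (fun nf ns => cond (Nat.beq nf factL.length) (Nat.beq ns stL.length) false)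
    (fun s _ ih nf ns =>
      cond (checkStep1 nf ns s)
        (cond (Nat.beq s.1 3) (ih nf (Nat.add ns 1)) (ih (Nat.add nf 1) ns)) false) steps nf ns

end Kernel

variable {Γ : Type*} [Group Γ] {L : List Γ}

/-- The coset of a node and a word. -/
def pe (L : List Γ) (n : Nat) (h : List Nat) : Γ := ev L (nW n) * ev L h

/-- Two elements in the same coset. -/
def Frame.Rel (hF : Frame L) (x y : Γ) : Prop := x * y⁻¹ ∈ hF.H

theorem Frame.rel_refl (hF : Frame L) (x : Γ) : hF.Rel x x := by
  simp [Frame.Rel]

theorem Frame.rel_symm (hF : Frame L) {x y : Γ} (h : hF.Rel x y) : hF.Rel y x := by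
  simpa [Frame.Rel] using inv_mem h

theorem Frame.rel_trans (hF : Frame L) {x y w : Γ} (h : hF.Rel x y) (h' : hF.Rel y w) :
    hF.Rel x w := by
  simpa [Frame.Rel, mul_assoc] using mul_mem h h'

theorem Frame.rel_mul (hF : Frame L) {x y : Γ} (h : hF.Rel x y) (g : Γ) :
    hF.Rel (x * g) (y * g) := by
  simpa [Frame.Rel, mul_assoc] using h

/-- The validity of the first facts and stabilising elements. -/
structure Frame.Known (hF : Frame L) (nf ns : Nat) : Prop where
  fact : ∀ j < nf, hF.Rel (pe L (factAt j).1 (factAt j).2.1 * fl L 18)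
    (pe L (factAt j).2.2.1 (factAt j).2.2.2)
  stab : ∀ i < ns, hF.Rel (pe L (stAt i).1 (stAt i).2) (pe L (stAt i).1 [])

theorem of_lettersA {w : List Nat} (h : lettersA w = true) : ∀ l ∈ w, l < 18 := fun l hl =>
  Nat.ble_eq.mp (allList_iff.mp h l hl)

theorem Frame.ev_eqA (hF : Frame L) {v w : List Nat} (h : eqA v w = true) : ev L v = ev L w := by
  have h' := h
  unfold eqA agree at h'
  simp only [cond_false_eq_true] at h'
  rw [← hF.Ψ_ev v (of_lettersA h'.1), ← hF.Ψ_ev w (of_lettersA h'.2.1), eqA_sound h]

theorem pe_append (n : Nat) (h v : List Nat) : pe L n (h ++ v) = pe L n h * ev L v := by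
  simp [pe, ev_append, mul_assoc]

theorem Frame.pe_stWord (hF : Frame L) {nf ns : Nat} (hK : hF.Known nf ns) {n : Nat} :
    ∀ ids : List Nat, (∀ i ∈ ids, i < ns ∧ (stAt i).1 = n) →
      hF.Rel (pe L n (stWord ids)) (pe L n []) := by
  intro ids
  induction ids with
  | nil => intro _; exact hF.rel_refl _
  | cons i ids ih =>
    intro h
    obtain ⟨hi, hn⟩ := h i (by simp)
    have e : stWord (i :: ids) = (stAt i).2 ++ stWord ids := by simp [stWord]
    rw [e, pe_append]
    have h1 := hK.stab i hi
    rw [hn] at h1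
    refine hF.rel_trans (hF.rel_mul h1 _) ?_
    rw [← pe_append, List.nil_append]
    exact ih fun j hj => h j (by simp [hj])

theorem Frame.stepZ_sound (hF : Frame L) {nf ns : Nat} (hK : hF.Known nf ns) {n : Nat}
    {h : List Nat} {c : Cert} {K : Nat → List Nat → Bool} (hs : stepZ nf ns n h c K = true) :
    ∃ m g, K m g = true ∧ hF.Rel (pe L n h * fl L 18) (pe L m g) := by
  unfold stepZ at hs
  simp only [cond_false_eq_true] at hs
  obtain ⟨hj, hn, hst, hk, he, hK'⟩ := hs
  refine ⟨_, _, hK', ?_⟩
  have hn' : (factAt c.1).1 = n := Nat.eq_of_beq_eq_true hn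
  have hids : ∀ i ∈ c.2.1, i < ns ∧ (stAt i).1 = n := fun i hi => by
    have := allList_iff.mp hst i hi
    rw [cond_false_eq_true] at this
    exact ⟨Nat.ble_eq.mp this.1, Nat.eq_of_beq_eq_true this.2⟩
  have hk' : ∀ i ∈ c.2.2, i < 8 := fun i hi => Nat.ble_eq.mp (allList_iff.mp hk i hi)
  have e1 : pe L n h = pe L n (stWord c.2.1 ++ (factAt c.1).2.1 ++ flatW kgW c.2.2) := by
    simp only [pe, hF.ev_eqA he]
  rw [e1, pe_append, pe_append, mul_assoc, hF.conj_ks _ hk', ← mul_assoc]
  refine hF.rel_trans (hF.rel_mul (hF.rel_mul (hF.rel_mul (hF.pe_stWord hK _ hids) _) _) _) ?_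
  rw [pe_append]
  refine hF.rel_mul ?_ _
  have h2 := hK.fact c.1 (Nat.ble_eq.mp hj)
  rw [hn'] at h2
  simpa [pe] using h2

theorem Frame.trace_sound (hF : Frame L) {nf ns : Nat} (hK : hF.Known nf ns) :
    ∀ (v : List Nat) (certs : List Cert) (n : Nat) (h : List Nat) (K : Nat → List Nat → Bool),
      trace nf ns v certs n h K = true →
        ∃ m g, K m g = true ∧ hF.Rel (pe L n h * ev L v) (pe L m g) := by
  intro v
  induction v with
  | nil => intro certs n h K ht; exact ⟨n, h, ht, by simpa using hF.rel_refl _⟩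
  | cons x v ih =>
    intro certs n h K ht
    change cond (Nat.beq x 18) _
      (cond (Nat.ble (Nat.add x 1) 18) (trace nf ns v certs n (h ++ [x]) K) false) = true at ht
    cases hx : Nat.beq x 18
    · rw [hx, cond_false, cond_false_eq_true] at ht
      obtain ⟨m, g, hm, hr⟩ := ih _ _ _ _ ht.2
      refine ⟨m, g, hm, ?_⟩
      rw [pe_append] at hr
      simpa [ev_cons, mul_assoc] using hr
    · rw [hx, cond_true] at ht
      rw [Nat.eq_of_beq_eq_true hx]
      cases certs with
      | nil => simp at ht
      | cons c rest =>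
        change stepZ nf ns n h c (fun m g => trace nf ns v rest m g K) = true at ht
        obtain ⟨m, g, hm, hr⟩ := hF.stepZ_sound hK ht
        obtain ⟨m', g', hm', hr'⟩ := ih _ _ _ _ hm
        refine ⟨m', g', hm', hF.rel_trans ?_ hr'⟩
        rw [ev_cons, ← mul_assoc]
        exact hF.rel_mul hr _

theorem Frame.ev_red (hF : Frame L) : ∀ w : List Nat, ev L (red w) = ev L w := by
  intro w
  induction w with
  | nil => rfl
  | cons x w ih =>
    have e : red (x :: w) = (match red w with
      | y :: t => if y = Nat.xor x 1 then t else x :: red w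
      | [] => [x]) := rfl
    rw [e, ev_cons, ← ih]
    cases red w with
    | nil => simp
    | cons y t =>
      show ev L (if y = Nat.xor x 1 then t else x :: y :: t) = _
      by_cases hy : y = Nat.xor x 1
      · rw [if_pos hy, ev_cons, hy, hF.fl_xor, mul_inv_cancel_left]
      · rw [if_neg hy, ev_cons]

theorem Frame.ev_uexp (hF : Frame L) : ∀ w : List Nat, ev L (uexp w) = ev L w := by
  intro w
  induction w with
  | nil => rfl
  | cons x w ih =>
    have e : uexp (x :: w) = (if x = 19 then [18, 1, 1] else [x]) ++ uexp w := rfl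
    rw [e, ev_append, ih, ev_cons]
    congr 1
    split
    · next h => rw [h, hF.z_inv]; simp [mul_assoc]
    · simp

theorem Frame.ev_var (hF : Frame L) {q : Nat × Nat × List Nat} (h : checkVar q = true) :
    ev L q.2.2 = fl L 18 := by
  simp only [checkVar, Bool.or_eq_true, decide_eq_true_eq] at h
  rcases h with h | ⟨h1, h2, h3, h4⟩
  · rw [h]; simp
  · rw [h4]
    have hw := hF.relW _ h3
    set w := Ly.relW.getD q.1 []
    have hd : w.getD q.2.1 0 = w[q.2.1] := List.getD_eq_getElem _ _ h2
    have hsplit : w = w.take q.2.1 ++ w[q.2.1] :: w.drop (q.2.1 + 1) := by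
      rw [← List.drop_eq_getElem_cons h2, List.take_append_drop]
    rw [hsplit, ev_append, ev_cons] at hw
    unfold varOf
    by_cases h18 : w.getD q.2.1 0 = 18
    · rw [if_pos h18, hF.ev_uexp, hF.ev_red, ev_append, hF.ev_invW, hF.ev_invW]
      rw [← hd, h18] at hw
      have h5 := eq_inv_of_mul_eq_one_right hw
      exact (eq_mul_inv_of_mul_eq h5).symm
    · rw [if_neg h18, hF.ev_uexp, hF.ev_red, ev_append]
      rw [← hd, h1.resolve_left h18, show fl L 19 = (fl L 18)⁻¹ from hF.fl_xor 18] at hw
      have h5 := eq_inv_of_mul_eq_one_right hw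
      rw [inv_mul_eq_iff_eq_mul] at h5
      exact eq_mul_inv_iff_mul_eq.mp h5

theorem vars_ok : varL.all checkVar = true := by decide +kernel

theorem Frame.ev_varAt (hF : Frame L) (k : Nat) :
    ev L (varL.getD k (0, 0, [18])).2.2 = fl L 18 := by
  rcases lt_or_ge k varL.length with hk | hk
  · rw [List.getD_eq_getElem _ _ hk]
    exact hF.ev_var (List.all_eq_true.mp vars_ok _ (List.getElem_mem hk))
  · rw [List.getD_eq_default _ _ hk]; simp

theorem Frame.step_fact (hF : Frame L) {nf ns : Nat} (hK : hF.Known nf ns) {s : Step}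
    (hs : checkStep1 nf ns s = true) (h3 : Nat.beq s.1 3 = false) :
    hF.Rel (pe L (factAt nf).1 (factAt nf).2.1 * fl L 18)
      (pe L (factAt nf).2.2.1 (factAt nf).2.2.2) := by
  unfold checkStep1 at hs
  cases h0 : Nat.beq s.1 0
  · rw [h0, cond_false] at hs
    cases h1 : Nat.beq s.1 1
    · rw [h1, cond_false] at hs
      cases h2 : Nat.beq s.1 2
      · rw [h2, cond_false] at hs
        rw [h3] at hs
        exact Bool.noConfusion hs
      · rw [h2, cond_true, cond_false_eq_true] at hs
        rw [eq_of_wordEq hs.2]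
        have e : pe L (factAt nf).1 (factAt nf).2.1 * fl L 18 = pe L (factAt nf).2.2.1 [] := by
          simp only [pe, ← eq_of_wordEq hs.1, ev_append, ev_cons, ev_nil, mul_one]
        rw [e]; exact hF.rel_refl _
    · rw [h1, cond_true] at hs
      simp only [cond_false_eq_true] at hs
      obtain ⟨hj, hn, hm, he1, he2⟩ := hs
      have hf := hK.fact _ (Nat.ble_eq.mp hj)
      set f := factAt s.2.2.2.2.2.2
      rw [Nat.eq_of_beq_eq_true hn, Nat.eq_of_beq_eq_true hm]
      simp only [pe] at hf ⊢
      rw [hF.ev_eqA he1, hF.ev_eqA he2, ev_append, ← hF.zz, ← mul_assoc]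
      refine hF.rel_symm ?_
      have := hF.rel_mul hf (fl L 18)
      simpa [mul_assoc] using this
  · rw [h0, cond_true] at hs
    simp only [cond_false_eq_true] at hs
    obtain ⟨-, -, ht⟩ := hs
    obtain ⟨m, g, hm, hr⟩ := hF.trace_sound hK _ _ _ _ _ ht
    simp only [cond_false_eq_true] at hm
    obtain ⟨e1, e2, e3, e4⟩ := hm
    rw [hF.ev_varAt] at hr
    rw [Nat.eq_of_beq_eq_true e1, Nat.eq_of_beq_eq_true e3]
    simp only [pe] at hr ⊢
    rw [hF.ev_eqA e2, ← hF.ev_eqA e4]
    exact hr

theorem Frame.step_stab (hF : Frame L) {nf ns : Nat} (hK : hF.Known nf ns) {s : Step}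
    (hs : checkStep1 nf ns s = true) (h3 : s.1 = 3) :
    hF.Rel (pe L (stAt ns).1 (stAt ns).2) (pe L (stAt ns).1 []) := by
  unfold checkStep1 at hs
  rw [h3] at hs
  change cond (lettersA s.2.2.1) _ false = true at hs
  simp only [cond_false_eq_true] at hs
  obtain ⟨-, -, ht⟩ := hs
  obtain ⟨m, g, hm, hr⟩ := hF.trace_sound hK _ _ _ _ _ ht
  obtain ⟨m', g', hm', hr'⟩ := hF.trace_sound hK _ _ _ _ _ hm
  simp only [cond_false_eq_true] at hm'
  obtain ⟨e1, e2, e3⟩ := hm'
  rw [hF.ev_varAt] at hr
  simp only [ev_cons, ev_nil, mul_one] at hr'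
  have h := hF.rel_trans (hF.rel_symm hr) hr'
  rw [← Nat.eq_of_beq_eq_true e1] at h
  rw [Nat.eq_of_beq_eq_true e2]
  simp only [pe] at h ⊢
  rw [hF.ev_eqA e3, ev_append, hF.ev_invW, ← mul_assoc]
  have := hF.rel_mul h (ev L g')⁻¹
  simpa [mul_assoc] using this

theorem Frame.known_of_checkAll (hF : Frame L) : ∀ (steps : List Step) (nf ns : Nat),
    checkAll steps nf ns = true → hF.Known nf ns → hF.Known factL.length stL.length := by
  intro steps
  induction steps with
  | nil =>
    intro nf ns h hK
    change cond (Nat.beq nf factL.length) (Nat.beq ns stL.length) false = true at h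
    rw [cond_false_eq_true] at h
    rwa [← Nat.eq_of_beq_eq_true h.1, ← Nat.eq_of_beq_eq_true h.2]
  | cons s steps ih =>
    intro nf ns h hK
    change cond (checkStep1 nf ns s)
      (cond (Nat.beq s.1 3) (checkAll steps nf (ns + 1)) (checkAll steps (nf + 1) ns)) false = true
      at h
    rw [cond_false_eq_true] at h
    cases h3 : Nat.beq s.1 3
    · rw [h3, cond_false] at h
      refine ih _ _ h.2 ⟨fun j hj => ?_, hK.stab⟩
      rcases Nat.lt_or_eq_of_le (Nat.le_of_lt_succ hj) with hj | rfl
      · exact hK.fact j hj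
      · exact hF.step_fact hK h.1 h3
    · rw [h3, cond_true] at h
      refine ih _ _ h.2 ⟨hK.fact, fun i hi => ?_⟩
      rcases Nat.lt_or_eq_of_le (Nat.le_of_lt_succ hi) with hi | rfl
      · exact hK.stab i hi
      · exact hF.step_stab hK h.1 (Nat.eq_of_beq_eq_true h3)

theorem derivation_ok : checkAll stepL 0 26 = true := by decide +kernel

theorem stab_initial : ∀ i < 26, ((i < 18 ∧ stAt i = (0, [i])) ∨
    (18 ≤ i ∧ stAt i = (1, kgW.getD (i - 18) []))) := by decide +kernel

theorem Frame.known_initial (hF : Frame L) : hF.Known 0 26 := by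
  refine ⟨fun j hj => absurd hj (Nat.not_lt_zero _), fun i hi => ?_⟩
  rcases stab_initial i hi with ⟨hl, e⟩ | ⟨hl, e⟩
  · rw [e]
    have : ev L (nW 0) = 1 := by rw [show nW 0 = [] from by decide +kernel]; rfl
    simpa [Frame.Rel, pe, this] using hF.mem_H (w := [i]) (by simpa using hl)
  · rw [e]
    have hi8 : i - 18 < 8 := by omega
    have e1 : nW 1 = [18] := by decide +kernel
    have hkm : ∀ l ∈ kmW.getD (i - 18) [], l < 18 :=
      (by decide +kernel : ∀ k < 8, ∀ l ∈ kmW.getD k [], l < 18) _ hi8
    have h := hF.conj_k hi8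
    have e2 : ev L (kmW.getD (i - 18) []) = (fl L 18)⁻¹ * ev L (kgW.getD (i - 18) []) * fl L 18 := by
      rw [mul_assoc, h, inv_mul_cancel_left]
    have hmem : ev L ([0, 0] ++ kmW.getD (i - 18) [] ++ [1, 1]) ∈ hF.H := hF.mem_H (by
      intro l hl
      simp only [List.mem_append, List.mem_cons, List.not_mem_nil, or_false] at hl
      rcases hl with ((rfl | rfl) | hl) | (rfl | rfl)
      all_goals first | omega | exact hkm _ hl)
    rw [ev_append, ev_append, ← hF.zz, show ev L [1, 1] = (ev L [0, 0])⁻¹ from hF.ev_invW [0, 0],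
      ← hF.zz, e2] at hmem
    simpa [Frame.Rel, pe, e1, mul_assoc] using hmem

/-- All listed facts and stabilising elements are valid. -/
theorem Frame.known (hF : Frame L) : hF.Known factL.length stL.length :=
  hF.known_of_checkAll stepL 0 26 derivation_ok hF.known_initial

end CfsgLib.Coset.Ly
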