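import Cfsg.Agent.Coset.Ly.Sub

/-!
The orders of the subgroups fixing the nodes are multiples of their lower bounds, so their indices
divide the sizes of the suborbits.
-/

set_option autoImplicit false
set_option maxRecDepth 100000
set_option Elab.async false

namespace CfsgLib.Coset.Ly

theorem dvd_card_level {gens : List (List Nat)} {β : Fin 3906} {m dm : Nat} {P' Inv : Nat → Nat}
    (hc : checkOrbit TP.Tb β m dm gens P' Inv = true)
    (hcl : checkClosed TP.Tb m dm gens P' Inv = true) (hl : checkLetters LA.length gens = true)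
    (hm0 : 0 < m) {k : Nat}
    (hk : k ∣ Nat.card (genW LA gens ⊓ pstab ρ β : Subgroup A)) :
    m * k ∣ Nat.card (genW LA gens) := by
  rw [← card_orb_mul (ρ := ρ) (genW LA gens) β]
  have h := matches_ρ.orbit_eq hc hcl hl hm0
  exact mul_dvd_mul (dvd_of_eq h.symm) hk

theorem dvd_card_stab {gens ws exprs : List (List Nat)} {β : Fin 3906} {γ : Fin 3906} {m dm : Nat}
    {P' Inv : Nat → Nat}
    (hc : checkOrbit TP.Tb γ m dm ws P' Inv = true)
    (hcl : checkClosed TP.Tb m dm ws P' Inv = true) (hl : checkLetters LA.length ws = true)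
    (hm0 : 0 < m) (hf : checkFix TP.Tb [(β : Nat)] ws = true)
    (he : checkExpr gens ws exprs = true) :
    m ∣ Nat.card (genW LA gens ⊓ pstab ρ β : Subgroup A) := by
  refine dvd_trans (dvd_of_eq (mul_one m).symm)
    (dvd_trans (dvd_card_level hc hcl hl hm0 (one_dvd _)) (Subgroup.card_dvd_of_le ?_))
  refine le_inf ?_ (genW_le_pstab matches_ρ β hl hf)
  refine (Subgroup.closure_le _).mpr ?_
  rintro _ ⟨w, hw, rfl⟩
  exact mem_of_checkExpr he w hw

theorem dvd_K0 : 300000 ∣ Nat.card K0 := by
  show 3125 * 96 ∣ Nat.card (genW LA kgW)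
  exact dvd_card_level (β := 2144) (m := 3125) (dm := 12) (P' := CK0P) (Inv := CK0Inv)
    (by decide +kernel) (by decide +kernel) (by rw [len_LA]; decide +kernel) (by norm_num)
    (dvd_card_stab (ws := CK1G) (exprs := CK1E) (γ := 3808) (m := 96) (dm := 7) (P' := CK1P)
      (Inv := CK1Inv) (by decide +kernel) (by decide +kernel) (by rw [len_LA]; decide +kernel)
      (by norm_num) (by decide +kernel) (by decide +kernel))

theorem dvd_St2 : 6048 ∣ Nat.card (St 2) := by
  show 2016 * 3 ∣ Nat.card (genW LA cv2G)
  exact dvd_card_level (β := 3528) (m := 2016) (dm := 11) (P' := C20P) (Inv := C20Inv)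
    (by decide +kernel) (by decide +kernel) (by rw [len_LA]; decide +kernel) (by norm_num)
    (dvd_card_stab (ws := C21G) (exprs := C21E) (γ := 376) (m := 3) (dm := 2) (P' := C21P)
      (Inv := C21Inv) (by decide +kernel) (by decide +kernel) (by rw [len_LA]; decide +kernel)
      (by norm_num) (by decide +kernel) (by decide +kernel))

theorem dvd_St3 : 1008 ∣ Nat.card (St 3) := by
  show 1008 * 1 ∣ Nat.card (genW LA cv3G)
  exact dvd_card_level (β := 1515) (m := 1008) (dm := 10) (P' := C30P) (Inv := C30Inv)
    (by decide +kernel) (by decide +kernel) (by rw [len_LA]; decide +kernel) (by norm_num)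
    (one_dvd _)

theorem dvd_St4 : 2880 ∣ Nat.card (St 4) := by
  show 1440 * 2 ∣ Nat.card (genW LA cv4G)
  exact dvd_card_level (β := 2398) (m := 1440) (dm := 11) (P' := C40P) (Inv := C40Inv)
    (by decide +kernel) (by decide +kernel) (by rw [len_LA]; decide +kernel) (by norm_num)
    (dvd_card_stab (ws := C41G) (exprs := C41E) (γ := 757) (m := 2) (dm := 1) (P' := C41P)
      (Inv := C41Inv) (by decide +kernel) (by decide +kernel) (by rw [len_LA]; decide +kernel)
      (by norm_num) (by decide +kernel) (by decide +kernel))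

/-- The index of the subgroup fixing a node divides the size of the suborbit. -/
theorem index_St_dvd : ∀ n, 1 ≤ n → n < 5 →
    (St n).index ∣ [1, 19530, 968750, 5812500, 2034375].getD n 0 := by
  have hA := card_and_injective.1
  have key : ∀ {S : Subgroup A} (M N : ℕ), 0 < M → M * N = 5859000000 → M ∣ Nat.card S →
      S.index ∣ N := by
    intro S M N hM hMN hS
    have h := Subgroup.card_mul_index S
    rw [hA, ← hMN] at h
    obtain ⟨c, hc⟩ := hS
    refine ⟨c, ?_⟩
    rw [hc, mul_assoc] at h
    rw [← Nat.eq_of_mul_eq_mul_left hM h, mul_comm]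
  intro n h1 h4
  interval_cases n
  · exact key 300000 19530 (by norm_num) (by norm_num) dvd_K0
  · exact key 6048 968750 (by norm_num) (by norm_num) dvd_St2
  · exact key 1008 5812500 (by norm_num) (by norm_num) dvd_St3
  · exact key 2880 2034375 (by norm_num) (by norm_num) dvd_St4

end CfsgLib.Coset.Ly
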