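import Cfsg.Agent.Coset.Ly.A

/-!
Twenty elements of a group satisfying the relators of the Lyons presentation.
-/

set_option autoImplicit false
set_option maxRecDepth 100000
set_option Elab.async false

namespace CfsgLib.Coset.Ly

/-- The inverse of a word. -/
def invW (w : List Nat) : List Nat := (w.map fun x => Nat.xor x 1).reverse

/-- Concatenation of listed words. -/
def flatW (ws : List (List Nat)) (ids : List Nat) : List Nat :=
  (ids.map fun i => ws.getD i []).flatten

/-- The hypotheses: generators with inverses, the relators of the subgroup, and all printed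
relators. -/
structure Frame {Γ : Type*} [Group Γ] (L : List Γ) : Prop where
  len : L.length = 20
  pair : ∀ l, l < 20 → fl L l * fl L (Nat.xor l 1) = 1
  relA : ∀ w ∈ relsA, ev L w = 1
  relW : ∀ w ∈ relW, ev L w = 1
  gen : Subgroup.closure {x | x ∈ L} = ⊤

variable {Γ : Type*} [Group Γ] {L : List Γ}

theorem Frame.fl_xor (hF : Frame L) (l : Nat) : fl L (Nat.xor l 1) = (fl L l)⁻¹ := by
  rcases lt_or_ge l 20 with hl | hl
  · exact (inv_eq_of_mul_eq_one_right (hF.pair l hl)).symm
  · have h2 : 20 ≤ Nat.xor l 1 := by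
      by_contra hlt
      have h3 : ∀ m < 20, Nat.xor m 1 < 20 := by decide +kernel
      have := h3 _ (by omega : Nat.xor l 1 < 20)
      rw [show Nat.xor (Nat.xor l 1) 1 = l from Nat.xor_xor_cancel_right l 1] at this
      omega
    rw [fl_of_le _ (hF.len ▸ h2), fl_of_le _ (hF.len ▸ hl), inv_one]

theorem Frame.ev_invW (hF : Frame L) (w : List Nat) : ev L (invW w) = (ev L w)⁻¹ := by
  induction w with
  | nil => simp [invW]
  | cons x w ih =>
    have e : invW (x :: w) = invW w ++ [Nat.xor x 1] := by simp [invW]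
    rw [e, ev_append, ih, ev_cons, ev_nil, mul_one, hF.fl_xor, ev_cons, mul_inv_rev]

/-- The first eighteen generators. -/
def la (L : List Γ) : List Γ := L.take 18

theorem Frame.len_la (hF : Frame L) : (la L).length = 18 := by simp [la, hF.len]

theorem fl_la (L : List Γ) {l : Nat} (hl : l < 18) : fl (la L) l = fl L l := by
  simp [fl, la, List.getD_eq_getElem?_getD, List.getElem?_take, hl]

theorem ev_la (L : List Γ) : ∀ w : List Nat, (∀ l ∈ w, l < 18) → ev (la L) w = ev L w := by
  intro w
  induction w with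
  | nil => simp
  | cons x w ih =>
    intro hw
    rw [ev_cons, ev_cons, fl_la L (hw x (by simp)), ih fun y hy => hw y (by simp [hy])]

/-- The map from the model of the subgroup. -/
noncomputable def Frame.Ψ (hF : Frame L) : A →* Γ :=
  numHom (L := la L) hF.len_la fun w hw => by
    rw [ev_la L w ((by decide +kernel : ∀ w ∈ relsA, ∀ l ∈ w, l < 18) w hw)]
    exact hF.relA w hw

theorem Frame.Ψ_ev (hF : Frame L) (w : List Nat) (hw : ∀ l ∈ w, l < 18) :
    hF.Ψ (ev LA w) = ev L w := by
  rw [Frame.Ψ, numHom_ev, ev_la L w hw]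

/-- The subgroup generated by all letters but `z`. -/
noncomputable def Frame.H (hF : Frame L) : Subgroup Γ := hF.Ψ.range

theorem Frame.mem_H (hF : Frame L) {w : List Nat} (hw : ∀ l ∈ w, l < 18) : ev L w ∈ hF.H :=
  ⟨_, hF.Ψ_ev w hw⟩

theorem Frame.zz (hF : Frame L) : fl L 18 * fl L 18 = ev L [0, 0] := by
  have h := hF.relW (Ly.relW.getD 80 []) ((by decide +kernel :
    Ly.relW.getD 80 [] ∈ Ly.relW) )
  rw [(by decide +kernel : Ly.relW.getD 80 [] = [18, 18] ++ invW [0, 0]), ev_append,
    hF.ev_invW, mul_inv_eq_one] at h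
  rw [← h]; simp

theorem Frame.z_inv (hF : Frame L) : fl L 19 = fl L 18 * ev L [1, 1] := by
  have h1 : fl L 19 = (fl L 18)⁻¹ := hF.fl_xor 18
  have h2 : ev L [1, 1] = (ev L [0, 0])⁻¹ := hF.ev_invW [0, 0]
  rw [h1, h2, ← hF.zz, mul_inv_rev, mul_inv_cancel_left]

theorem Frame.conj_k (hF : Frame L) {i : Nat} (hi : i < 8) :
    ev L (kgW.getD i []) * fl L 18 = fl L 18 * ev L (kmW.getD i []) := by
  have key : ∀ i < 8, [19] ++ kgW.getD i [] ++ [18] ++ invW (kmW.getD i []) ∈ Ly.relW := by
    decide +kernel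
  have h := hF.relW _ (key i hi)
  rw [ev_append, ev_append, ev_append, hF.ev_invW, mul_inv_eq_one] at h
  simp only [ev_cons, ev_nil, mul_one] at h
  rw [show fl L 19 = (fl L 18)⁻¹ from hF.fl_xor 18] at h
  rw [← h, ← mul_assoc, ← mul_assoc, mul_inv_cancel, one_mul]

theorem Frame.conj_ks (hF : Frame L) : ∀ ids : List Nat, (∀ i ∈ ids, i < 8) →
    ev L (flatW kgW ids) * fl L 18 = fl L 18 * ev L (flatW kmW ids) := by
  intro ids
  induction ids with
  | nil => simp [flatW]
  | cons i ids ih =>
    intro h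
    have e : ∀ ws, flatW ws (i :: ids) = ws.getD i [] ++ flatW ws ids := fun ws => by simp [flatW]
    rw [e, e, ev_append, ev_append, mul_assoc, ih fun j hj => h j (by simp [hj]), ← mul_assoc,
      hF.conj_k (h i (by simp)), mul_assoc]

end CfsgLib.Coset.Ly
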