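import Cfsg.Agent.Coset.Ly.Upper
import Cfsg.Prelude.Def_Spor_Ly

/-!
A homomorphism from the free group killing the printed relators gives a frame; in particular the
presented Lyons group has one.
-/

set_option autoImplicit false
set_option maxRecDepth 100000
set_option Elab.async false

namespace CfsgLib.Coset.Ly

open Cfsg.Spor (coxRelators)
open Cfsg.Spor.Ly (Gen)

/-- The number of a printed generator. -/
def genIdx : Gen → Nat
  | .a => 0 | .b => 1 | .c => 2 | .d => 3 | .z => 4 | .e => 5 | .a1 => 6 | .a2 => 7 | .a3 => 8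
  | .a4 => 9 | .c1 => 10 | .c2 => 11 | .c3 => 12 | .c4 => 13 | .c5 => 14 | .u => 15 | .x23 => 16
  | .x24 => 17 | .x25 => 18 | .x29 => 19 | .x47 => 20 | .x96 => 21 | .x129 => 22 | .x162 => 23
  | .x163 => 24 | .x164 => 25 | .x165 => 26 | .x166 => 27 | .x167 => 28 | .x168 => 29
  | .x169 => 30 | .x364 => 31 | .x365 => 32 | .x366 => 33 | .x367 => 34 | .x368 => 35
  | .x369 => 36 | .x370 => 37 | .x371 => 38

/-- The word of a printed generator. -/
def dw (x : Gen) : List Nat := defW.getD (genIdx x) []

/-- The word of a signed generator. -/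
def sw (p : Gen × Bool) : List Nat := if p.2 then dw p.1 else invW (dw p.1)

/-- The word of an element of the free group. -/
def tw (r : FreeGroup Gen) : List Nat := r.toWord.flatMap sw

/-- The printed generators used as letters. -/
def baseG : List Gen := [.a, .b, .c, .d, .e, .c2, .c3, .c4, .c5, .z]

/-- The redundant printed generators, in the order of their definitions. -/
def defG : List Gen :=
  [.c1, .a1, .a2, .a3, .a4, .u, .x23, .x24, .x25, .x29, .x47, .x96, .x129, .x162, .x163, .x164,
    .x165, .x166, .x167, .x168, .x169, .x364, .x365, .x366, .x367, .x368, .x369, .x370, .x371]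

/-- The positions of the defining relators. -/
def defR : List Nat :=
  [5, 44, 45, 46, 47, 48, 49, 50, 51, 52, 53, 54, 55, 56, 57, 58, 59, 60, 61, 62, 63, 64, 65, 66,
    67, 68, 69, 70, 71]

/-- A relator defines the generator `i` by earlier ones. -/
def defOK (i : Nat) : Bool :=
  match (Cfsg.Spor.Ly.extra.getD (defR.getD i 0) 1).toWord with
  | [] => false
  | p :: rest =>
    decide (p.2 = true) && decide (p.1 = defG.getD i .a) &&
      rest.all (fun q => baseG.contains q.1 || (defG.take i).contains q.1) &&
      decide (dw p.1 = invW (rest.flatMap sw))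

theorem defs_ok : (List.range 29).all defOK = true := by decide +kernel

theorem relW_eq : Cfsg.Spor.Ly.extra.map tw = relW := by decide +kernel

theorem baseG_words : ∀ i < 10, dw (baseG.getD i .a) = [2 * i] := by decide +kernel

theorem all_gens : ∀ x : Gen, x ∈ baseG ∨ x ∈ defG := by intro x; cases x <;> decide

section

variable {X : Type*} [Group X] (f : FreeGroup Gen →* X)

/-- The twenty letters given by a homomorphism. -/
def lettersOf : List X := baseG.flatMap fun x => [f (FreeGroup.of x), (f (FreeGroup.of x))⁻¹]

theorem len_lettersOf : (lettersOf f).length = 20 := rfl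

theorem pair_lettersOf : ∀ l, l < 20 →
    fl (lettersOf f) l * fl (lettersOf f) (Nat.xor l 1) = 1 := by
  intro l hl
  interval_cases l
  all_goals first
    | exact mul_inv_cancel _
    | exact inv_mul_cancel _

theorem ev_invW_lettersOf : ∀ w : List Nat, (∀ l ∈ w, l < 20) →
    ev (lettersOf f) (invW w) = (ev (lettersOf f) w)⁻¹ := by
  intro w
  induction w with
  | nil => simp [invW]
  | cons x w ih =>
    intro hw
    have e : invW (x :: w) = invW w ++ [Nat.xor x 1] := by simp [invW]
    rw [e, ev_append, ih fun y hy => hw y (by simp [hy])]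
    simp only [ev_cons, ev_nil, mul_one, mul_inv_rev]
    rw [inv_eq_of_mul_eq_one_right (pair_lettersOf f x (hw x (by simp)))]

theorem dw_lt : ∀ x : Gen, ∀ l ∈ dw x, l < 20 := by
  have : ∀ i < 39, ∀ l ∈ defW.getD i [], l < 20 := by decide +kernel
  intro x
  exact this _ ((by intro x; cases x <;> decide : ∀ x, genIdx x < 39) x)

theorem f_word : ∀ w : List (Gen × Bool),
    (∀ p ∈ w, f (FreeGroup.of p.1) = ev (lettersOf f) (dw p.1)) →
    f (FreeGroup.mk w) = ev (lettersOf f) (w.flatMap sw) := by
  intro w
  induction w with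
  | nil => intro _; rw [← FreeGroup.one_eq_mk, map_one]; rfl
  | cons p w ih =>
    intro h
    have e : FreeGroup.mk (p :: w) = FreeGroup.mk [p] * FreeGroup.mk w := rfl
    rw [e, map_mul, ih fun q hq => h q (by simp [hq]), List.flatMap_cons, ev_append]
    congr 1
    obtain ⟨x, b⟩ := p
    have hx := h (x, b) (by simp)
    cases b
    · show f (FreeGroup.mk [(x, false)]) = ev (lettersOf f) (invW (dw x))
      rw [ev_invW_lettersOf f _ (dw_lt x), ← hx, ← map_inv]; rfl
    · exact hx

variable (hf : ∀ r ∈ Cfsg.Spor.Ly.extra, f r = 1)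
include hf

theorem f_of_base {x : Gen} (hx : x ∈ baseG) :
    f (FreeGroup.of x) = ev (lettersOf f) (dw x) := by
  obtain ⟨i, hi, rfl⟩ := List.getElem_of_mem hx
  have hi' : i < 10 := hi
  rw [show dw baseG[i] = [2 * i] by
    have := baseG_words i hi'
    rwa [List.getD_eq_getElem baseG .a hi] at this]
  interval_cases i <;> simp [ev, fl, lettersOf, baseG]

theorem f_of_def : ∀ i, ∀ x ∈ defG.take i, f (FreeGroup.of x) = ev (lettersOf f) (dw x) := by
  intro i
  induction i with
  | zero => simp
  | succ i ih =>
    rcases lt_or_ge i 29 with hi | hi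
    · intro x hx
      rw [List.take_succ_eq_append_getElem (by exact hi), List.mem_append,
        List.mem_singleton] at hx
      rcases hx with hx | rfl
      · exact ih x hx
      have h := List.all_eq_true.mp defs_ok i (List.mem_range.mpr hi)
      unfold defOK at h
      have hlen : defR.getD i 0 < Cfsg.Spor.Ly.extra.length :=
        (by decide +kernel : ∀ i < 29, defR.getD i 0 < Cfsg.Spor.Ly.extra.length) i hi
      have hr := hf _ (List.getElem_mem hlen)
      rw [← List.getD_eq_getElem Cfsg.Spor.Ly.extra 1 hlen] at hr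
      rw [← FreeGroup.mk_toWord (x := Cfsg.Spor.Ly.extra.getD (defR.getD i 0) 1)] at hr
      generalize (Cfsg.Spor.Ly.extra.getD (defR.getD i 0) 1).toWord = w at h hr
      match w, h with
      | (y, b) :: rest, h =>
        simp only [Bool.and_eq_true, decide_eq_true_eq, List.all_eq_true, Bool.or_eq_true,
          List.contains_iff_mem] at h
        obtain ⟨⟨⟨hb, hy⟩, hrest⟩, hdw⟩ := h
        rw [List.getD_eq_getElem _ _ (by exact hi)] at hy
        subst hb
        rw [← hy, hdw, ev_invW_lettersOf f _ ?_, ← f_word f rest ?_]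
        · have e : FreeGroup.mk ((y, true) :: rest) = FreeGroup.of y * FreeGroup.mk rest := rfl
          rw [e, map_mul] at hr
          exact eq_inv_of_mul_eq_one_left hr
        · intro p hp
          rcases hrest p hp with h' | h'
          · exact f_of_base f hf h'
          · exact ih _ h'
        · intro l hl
          obtain ⟨p, -, hp⟩ := List.mem_flatMap.mp hl
          obtain ⟨z, c⟩ := p
          cases c
          · simp only [sw, Bool.false_eq_true, if_false, invW, List.mem_reverse, List.mem_map] at hp
            obtain ⟨m, hm, rfl⟩ := hp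
            exact (by decide +kernel : ∀ m < 20, Nat.xor m 1 < 20) m (dw_lt z m hm)
          · exact dw_lt z l hp
    · rw [List.take_of_length_le (show defG.length ≤ i + 1 by simpa [defG] using Nat.le_succ_of_le hi)]
      rw [List.take_of_length_le (show defG.length ≤ i by simpa [defG] using hi)] at ih
      exact ih

theorem f_of (x : Gen) : f (FreeGroup.of x) = ev (lettersOf f) (dw x) := by
  rcases all_gens x with h | h
  · exact f_of_base f hf h
  · exact f_of_def f hf 29 x h

theorem f_eq_ev_tw (r : FreeGroup Gen) : f r = ev (lettersOf f) (tw r) := by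
  conv_lhs => rw [← FreeGroup.mk_toWord (x := r)]
  exact f_word f _ fun p _ => f_of f hf p.1

theorem relW_lettersOf : ∀ w ∈ relW, ev (lettersOf f) w = 1 := by
  intro w hw
  rw [← relW_eq] at hw
  obtain ⟨r, hr, rfl⟩ := List.mem_map.mp hw
  rw [← f_eq_ev_tw f hf r, hf r hr]

theorem fifth_power {l k : Nat} (hl : l < 20) {i : Nat}
    (hk : [l] ++ invW ([k] ++ [4] ++ [Nat.xor k 1]) = relW.getD i [] ∧ relW.getD i [] ∈ relW ∧
      k < 20) (h5 : [4, 4, 4, 4, 4] ∈ relW) : ev (lettersOf f) [l, l, l, l, l] = 1 := by
  obtain ⟨he, hm, hk20⟩ := hk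
  have h := relW_lettersOf f hf _ hm
  rw [← he, ev_append, ev_invW_lettersOf f _ (by
    intro m hm
    simp only [List.cons_append, List.nil_append, List.mem_cons, List.not_mem_nil, or_false] at hm
    rcases hm with rfl | rfl | rfl
    · exact hk20
    · norm_num
    · exact (by decide +kernel : ∀ m < 20, Nat.xor m 1 < 20) k hk20), mul_inv_eq_one] at h
  simp only [ev_cons, ev_nil, mul_one, List.cons_append, List.nil_append] at h
  have hinv : fl (lettersOf f) (Nat.xor k 1) = (fl (lettersOf f) k)⁻¹ :=
    (inv_eq_of_mul_eq_one_right (pair_lettersOf f k hk20)).symm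
  rw [hinv, ← mul_assoc] at h
  have hc := relW_lettersOf f hf _ h5
  have h4 : fl (lettersOf f) 4 ^ 5 = 1 := by
    rw [← hc]; simp [ev_cons, pow_succ, mul_assoc]
  have : fl (lettersOf f) l ^ 5 = 1 := by rw [h, conj_pow, h4]; simp
  rw [← this]; simp [ev_cons, pow_succ, mul_assoc]

theorem relsA_lettersOf : ∀ w ∈ relsA, ev (lettersOf f) w = 1 := by
  have hred : ∀ w : List Nat, (∀ l ∈ w, l < 20) →
      (∀ l ∈ red w, l < 20) ∧ ev (lettersOf f) (red w) = ev (lettersOf f) w := by
    intro w
    induction w with
    | nil => intro _; exact ⟨by simp [red], rfl⟩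
    | cons x w ih =>
      intro hw
      obtain ⟨h1, h2⟩ := ih fun y hy => hw y (by simp [hy])
      have hx := hw x (by simp)
      have e : red (x :: w) = (match red w with
        | y :: t => if y = Nat.xor x 1 then t else x :: red w
        | [] => [x]) := rfl
      rw [e, ev_cons, ← h2]
      revert h1
      cases red w with
      | nil => intro _; simp [hx]
      | cons y t =>
        intro h1
        show (∀ l ∈ (if y = Nat.xor x 1 then t else x :: y :: t), l < 20) ∧
          ev (lettersOf f) (if y = Nat.xor x 1 then t else x :: y :: t) = _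
        by_cases hy : y = Nat.xor x 1
        · rw [if_pos hy, ev_cons, hy,
            ← inv_eq_of_mul_eq_one_right (pair_lettersOf f x hx), mul_inv_cancel_left]
          exact ⟨fun l hl => h1 l (by simp [hl]), rfl⟩
        · rw [if_neg hy, ev_cons]
          exact ⟨fun l hl => by
            rcases List.mem_cons.mp hl with rfl | hl
            · exact hx
            · exact h1 l hl, rfl⟩
  have hcases : ∀ w ∈ relsA,
      (w.length = 2 ∧ w.getD 0 0 < 20 ∧ w = [w.getD 0 0, Nat.xor (w.getD 0 0) 1]) ∨
        w ∈ relW.map red ∨ w ∈ [[10, 10, 10, 10, 10], [12, 12, 12, 12, 12], [14, 14, 14, 14, 14]] := by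
    decide +kernel
  have hlt : ∀ w ∈ relW, ∀ l ∈ w, l < 20 := by decide +kernel
  intro w hw
  rcases hcases w hw with ⟨-, hl, he⟩ | h | h
  · rw [he]
    simpa [ev_cons] using pair_lettersOf f _ hl
  · obtain ⟨v, hv, rfl⟩ := List.mem_map.mp h
    rw [(hred v (hlt v hv)).2]
    exact relW_lettersOf f hf v hv
  · simp only [List.mem_cons, List.not_mem_nil, or_false] at h
    have h5 : [4, 4, 4, 4, 4] ∈ relW := by decide +kernel
    rcases h with rfl | rfl | rfl
    · exact fifth_power f hf (l := 10) (k := 1) (by norm_num) (i := 6) (by decide +kernel) h5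
    · exact fifth_power f hf (l := 12) (k := 3) (by norm_num) (i := 7) (by decide +kernel) h5
    · exact fifth_power f hf (l := 14) (k := 2) (by norm_num) (i := 8) (by decide +kernel) h5

theorem gen_lettersOf (hsurj : Function.Surjective f) :
    Subgroup.closure {x | x ∈ lettersOf f} = ⊤ := by
  rw [eq_top_iff]
  intro g _
  obtain ⟨r, rfl⟩ := hsurj g
  rw [f_eq_ev_tw f hf r]
  generalize tw r = w
  induction w with
  | nil => exact one_mem _
  | cons l w ih => rw [ev_cons]; exact mul_mem (mem_closure_fl _) ih

/-- A homomorphism killing the relators gives a frame. -/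
theorem frame_lettersOf (hsurj : Function.Surjective f) : Frame (lettersOf f) where
  len := len_lettersOf f
  pair := pair_lettersOf f
  relA := relsA_lettersOf f hf
  relW := relW_lettersOf f hf
  gen := gen_lettersOf f hf hsurj

end

/-- The map onto the presented group. -/
def mkLy : FreeGroup Gen →* Cfsg.Spor.Ly :=
  PresentedGroup.mk (coxRelators Cfsg.Spor.Ly.edges ∪ {r | r ∈ Cfsg.Spor.Ly.extra})

theorem mkLy_extra : ∀ r ∈ Cfsg.Spor.Ly.extra, mkLy r = 1 := fun _ hr =>
  PresentedGroup.one_of_mem (Set.mem_union_right _ hr)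

/-- The letters in the presented group. -/
noncomputable def LG : List Cfsg.Spor.Ly := lettersOf mkLy

/-- The presented group has a frame. -/
theorem frame_LG : Frame LG :=
  frame_lettersOf mkLy mkLy_extra (PresentedGroup.mk_surjective _)

theorem card_Ly_le : Finite Cfsg.Spor.Ly ∧ Nat.card Cfsg.Spor.Ly ≤ 51765179004000000 :=
  frame_LG.card_le

end CfsgLib.Coset.Ly
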