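import Cfsg.Agent.Coset.Table
import Mathlib.Data.ZMod.Basic
import Mathlib.LinearAlgebra.Matrix.GeneralLinearGroup.Defs
import Mathlib.Data.Matrix.Mul

/-!
Vectors modulo 5 packed into natural numbers, 24 bits a coordinate, and their products with
matrices given by packed rows.
-/

set_option autoImplicit false
set_option maxRecDepth 100000

namespace CfsgLib.Coset.Ly

open scoped Matrix

section Kernel

/-- The sum of the rows weighted by the coordinates. -/
noncomputable def vacc (rows : List Nat) (v acc : Nat) : Nat :=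
  List.rec (motive := fun _ => Nat → Nat → Nat) (fun _ acc => acc)
    (fun r _ ih v acc =>
      Nat.rec (ih 0 (Nat.add acc (Nat.mul (Nat.land v 7) r)))
        (fun m _ => ih (Nat.add m 1) (Nat.add acc (Nat.mul (Nat.land v 7) r)))
        (Nat.shiftRight v 24)) rows v acc

/-- Reduce every coordinate modulo 5. -/
noncomputable def vred (mask x : Nat) : Nat :=
  Nat.sub x (Nat.mul 5 (Nat.land (Nat.shiftRight (Nat.mul x 3277) 14) mask))

/-- Product of a vector and a matrix. -/
noncomputable def vmul (mask : Nat) (rows : List Nat) (v : Nat) : Nat :=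
  vred mask (vacc rows v 0)

/-- Product of a vector and a word. -/
noncomputable def vrun (mask : Nat) (ms : List (List Nat)) (v : Nat) (w : List Nat) : Nat :=
  List.rec (motive := fun _ => Nat → Nat) (fun v => v)
    (fun l _ ih v => Nat.rec (ih 0) (fun m _ => ih (Nat.add m 1)) (vmul mask (ms.getD l []) v)) w v

/-- A row has coordinates below 5. -/
noncomputable def rowOK : Nat → Nat → Bool :=
  fun n => Nat.rec (fun r => Nat.beq r 0)
    (fun _ ih r => cond (Nat.ble (Nat.add (Nat.land r 16777215) 1) 5)
      (Nat.rec (ih 0) (fun m _ => ih (Nat.add m 1)) (Nat.shiftRight r 24)) false) n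

/-- All rows are valid. -/
noncomputable def matOK (n : Nat) (rows : List Nat) : Bool :=
  cond (Nat.beq rows.length n) (allList (rowOK n) rows) false

/-- A word fixes a unit vector, if the index is in range. -/
noncomputable def fixI (mask : Nat) (ms : List (List Nat)) (n : Nat) (w : List Nat) (i : Nat) : Bool :=
  cond (Nat.ble n i) true
    (Nat.beq (vrun mask ms (Nat.pow 2 (Nat.mul 24 i)) w) (Nat.pow 2 (Nat.mul 24 i)))

end Kernel

/-- Packing of `n` coordinates. -/
def encF : (n : ℕ) → (Fin n → ℕ) → ℕ
  | 0, _ => 0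
  | n + 1, f => f 0 + 16777216 * encF n (f ∘ Fin.succ)

theorem encF_add : ∀ (n : ℕ) (f g : Fin n → ℕ),
    encF n f + encF n g = encF n fun j => f j + g j := by
  intro n
  induction n with
  | zero => intro f g; rfl
  | succ n ih =>
    intro f g
    simp only [encF]
    rw [show (fun j => f j + g j) ∘ Fin.succ = fun j => (f ∘ Fin.succ) j + (g ∘ Fin.succ) j from rfl,
      ← ih]
    ring

theorem encF_mul : ∀ (n : ℕ) (c : ℕ) (f : Fin n → ℕ),
    c * encF n f = encF n fun j => c * f j := by
  intro n
  induction n with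
  | zero => intro c f; rfl
  | succ n ih =>
    intro c f
    simp only [encF]
    rw [show (fun j => c * f j) ∘ Fin.succ = fun j => c * (f ∘ Fin.succ) j from rfl, ← ih]
    ring

theorem encF_zero : ∀ n : ℕ, encF n (fun _ => 0) = 0 := by
  intro n
  induction n with
  | zero => rfl
  | succ n ih =>
    simp only [encF]
    rw [show (fun _ : Fin (n + 1) => 0) ∘ Fin.succ = fun _ => 0 from rfl, ih]

theorem land_split (a b : ℕ) :
    a &&& b = ((a % 16777216) &&& (b % 16777216)) +
      16777216 * ((a / 16777216) &&& (b / 16777216)) := by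
  have h : (16777216 : ℕ) = 2 ^ 24 := by norm_num
  rw [h, ← Nat.and_mod_two_pow, ← Nat.and_div_two_pow]
  exact (Nat.mod_add_div _ _).symm

theorem quot_mask : ∀ (n : ℕ) (y : Fin n → ℕ), (∀ j, y j < 16777216) →
    (encF n y / 16384) &&& encF n (fun _ => 1023) = encF n fun j => y j / 16384 := by
  intro n
  induction n with
  | zero => intro y _; simp [encF]
  | succ n ih =>
    intro y hy
    simp only [encF]
    have hz : y 0 / 16384 < 1024 := by have := hy 0; omega
    have ih' := ih (y ∘ Fin.succ) fun j => hy _
    set R := encF n (y ∘ Fin.succ)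
    rw [show (fun _ : Fin (n + 1) => 1023) ∘ Fin.succ = fun _ => 1023 from rfl,
      show (fun j => y j / 16384) ∘ Fin.succ = fun j => (y ∘ Fin.succ) j / 16384 from rfl, ← ih']
    set M := encF n (fun _ : Fin n => 1023)
    rw [land_split]
    have e1 : (y 0 + 16777216 * R) / 16384 = y 0 / 16384 + 1024 * R := by omega
    have e2 : (1023 + 16777216 * M) % 16777216 = 1023 := by omega
    have e3 : (1023 + 16777216 * M) / 16777216 = M := by omega
    have e4 : (y 0 / 16384 + 1024 * R) / 16777216 = R / 16384 := by omega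
    rw [e1, e2, e3, e4]
    congr 1
    rw [show (1023 : ℕ) = 2 ^ 10 - 1 by norm_num, Nat.and_two_pow_sub_one_eq_mod,
      show (2 : ℕ) ^ 10 = 1024 by norm_num]
    omega

theorem magic : ∀ x < 2048, 5 * (x * 3277 / 16384) ≤ x ∧ x - 5 * (x * 3277 / 16384) = x % 5 := by
  intro x hx
  have : x * 3277 / 16384 = x / 5 := by
    have h1 := Nat.div_add_mod x 5
    have h2 := Nat.mod_lt x (show 5 > 0 by norm_num)
    rw [Nat.div_eq_iff (by norm_num)]
    omega
  rw [this]
  omega

theorem vred_eq {n : ℕ} (x : Fin n → ℕ) (hx : ∀ j, x j < 2048) :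
    vred (encF n fun _ => 1023) (encF n x) = encF n fun j => x j % 5 := by
  show encF n x - 5 * ((encF n x * 3277) >>> 14 &&& encF n fun _ => 1023) = _
  rw [Nat.shiftRight_eq_div_pow, show (2 : ℕ) ^ 14 = 16384 by norm_num, mul_comm (encF n x),
    encF_mul, quot_mask n _ fun j => by have := hx j; omega, encF_mul]
  refine Nat.sub_eq_of_eq_add ?_
  rw [encF_add]
  congr 1
  funext j
  have := magic (x j) (hx j)
  rw [mul_comm 3277]
  omega

/-- The code of a vector. -/
def code {n : ℕ} (v : Fin n → ZMod 5) : ℕ := encF n fun j => (v j).val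

/-- The coordinates of a packed number. -/
def lane (r j : ℕ) : ℕ := r / 16777216 ^ j % 16777216

theorem encF_lane : ∀ (n : ℕ) (f : Fin n → ℕ), (∀ j, f j < 16777216) →
    ∀ j : Fin n, lane (encF n f) j = f j := by
  intro n
  induction n with
  | zero => intro f _ j; exact j.elim0
  | succ n ih =>
    intro f hf j
    induction j using Fin.cases with
    | zero =>
      show (f 0 + 16777216 * encF n (f ∘ Fin.succ)) / 16777216 ^ 0 % 16777216 = f 0
      have := hf 0
      rw [pow_zero]; omega
    | succ j =>
      show (f 0 + 16777216 * encF n (f ∘ Fin.succ)) / 16777216 ^ (j.val + 1) % 16777216 = f j.succ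
      rw [pow_succ', ← Nat.div_div_eq_div_mul,
        show (f 0 + 16777216 * encF n (f ∘ Fin.succ)) / 16777216 = encF n (f ∘ Fin.succ) by
          have := hf 0; omega]
      exact ih _ (fun i => hf _) j

theorem rowOK_iff : ∀ (n r : ℕ), rowOK n r = true →
    ∃ f : Fin n → ZMod 5, r = code f := by
  intro n
  induction n with
  | zero => intro r h; exact ⟨Fin.elim0, Nat.eq_of_beq_eq_true h⟩
  | succ n ih =>
    intro r h
    change cond (Nat.ble (Nat.add (Nat.land r 16777215) 1) 5) (Nat.rec (motive := fun _ => Bool)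
      (rowOK n 0) (fun m _ => rowOK n (Nat.add m 1)) (Nat.shiftRight r 24)) false = true at h
    rw [show Nat.rec (motive := fun _ => Bool) (rowOK n 0) (fun m _ => rowOK n (Nat.add m 1))
      (Nat.shiftRight r 24) = rowOK n (Nat.shiftRight r 24) by
        cases Nat.shiftRight r 24 <;> rfl, cond_false_eq_true] at h
    obtain ⟨f, hf⟩ := ih _ h.2
    have h1 : r % 16777216 < 5 := by
      have h2 : Nat.land r 16777215 = r % 16777216 := Nat.and_two_pow_sub_one_eq_mod r 24
      have := Nat.ble_eq.mp h.1
      rw [h2] at this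
      exact this
    refine ⟨Fin.cons ((r % 16777216 : ℕ) : ZMod 5) f, ?_⟩
    have h3 : r / 16777216 = code f := by
      rw [← hf]; exact (Nat.shiftRight_eq_div_pow r 24).symm
    simp only [code, encF, Fin.cons_zero]
    rw [show (fun j => ((Fin.cons ((r % 16777216 : ℕ) : ZMod 5) f : Fin (n + 1) → ZMod 5) j).val) ∘
        Fin.succ = fun j => (f j).val by funext j; simp,
      ZMod.val_natCast_of_lt h1]
    unfold code at h3
    rw [← h3]
    omega

/-- The matrix of packed rows. -/
def matOf (n : ℕ) (rows : List ℕ) : Matrix (Fin n) (Fin n) (ZMod 5) :=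
  fun i j => (lane (rows.getD i 0) j : ZMod 5)

theorem code_lt {n : ℕ} (v : Fin n → ZMod 5) (j : Fin n) : (v j).val < 16777216 :=
  lt_trans (ZMod.val_lt _) (by norm_num)

theorem row_code {n : ℕ} {rows : List ℕ} (h : matOK n rows = true) (i : Fin n) :
    rows.getD i 0 = code (matOf n rows i) := by
  unfold matOK at h
  rw [cond_false_eq_true] at h
  have hi : (i : ℕ) < rows.length := by rw [Nat.eq_of_beq_eq_true h.1]; exact i.2
  obtain ⟨f, hf⟩ := rowOK_iff n (rows.getD i 0) (by
    rw [List.getD_eq_getElem _ _ hi]; exact allList_iff.mp h.2 _ (List.getElem_mem hi))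
  have e : matOf n rows i = f := by
    funext j
    show ((lane (rows.getD i 0) j : ℕ) : ZMod 5) = f j
    rw [hf, code, encF_lane n _ (code_lt f) j, ZMod.natCast_zmod_val]
  rw [e, hf]

theorem vacc_eq {n : ℕ} (g : ℕ → Fin n → ℕ) : ∀ (m : ℕ) (rows : List ℕ) (u : Fin m → ℕ),
    rows.length = m → (∀ j, u j < 8) → (∀ i < m, rows.getD i 0 = encF n (g i)) →
    ∀ acc : Fin n → ℕ, vacc rows (encF m u) (encF n acc) =
      encF n fun j => acc j + ∑ i : Fin m, u i * g i j := by
  intro m
  induction m generalizing g with
  | zero =>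
    intro rows u hl _ _ acc
    rw [List.eq_nil_of_length_eq_zero hl]
    show encF n acc = _
    simp
  | succ m ih =>
    intro rows u hl hu hg acc
    match rows, hl with
    | r :: rest, hl =>
      have hr : r = encF n (g 0) := hg 0 (Nat.succ_pos _)
      have hv7 : Nat.land (encF (m + 1) u) 7 = u 0 := by
        have h2 : Nat.land (encF (m + 1) u) 7 = encF (m + 1) u % 8 :=
          Nat.and_two_pow_sub_one_eq_mod _ 3
        rw [h2]
        have := hu 0
        simp only [encF]; omega
      have hv24 : Nat.shiftRight (encF (m + 1) u) 24 = encF m (u ∘ Fin.succ) := by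
        have h2 : Nat.shiftRight (encF (m + 1) u) 24 = encF (m + 1) u / 2 ^ 24 :=
          Nat.shiftRight_eq_div_pow _ _
        rw [h2]
        have := hu 0
        simp only [encF]; omega
      have step : vacc (r :: rest) (encF (m + 1) u) (encF n acc) =
          vacc rest (encF m (u ∘ Fin.succ)) (encF n fun j => acc j + u 0 * g 0 j) := by
        show Nat.rec (motive := fun _ => ℕ) (vacc rest 0 _) (fun k _ => vacc rest (Nat.add k 1) _)
          (Nat.shiftRight (encF (m + 1) u) 24) = _
        rw [hv24, hv7, hr, show Nat.mul (u 0) (encF n (g 0)) = encF n fun j => u 0 * g 0 j from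
          encF_mul n (u 0) (g 0), show Nat.add (encF n acc) (encF n fun j => u 0 * g 0 j) =
          encF n fun j => acc j + u 0 * g 0 j from encF_add n _ _]
        cases encF m (u ∘ Fin.succ) <;> rfl
      rw [step, ih (fun i => g (i + 1)) rest (u ∘ Fin.succ) (by simpa using hl) (fun j => hu _)
        (fun i hi => hg (i + 1) (Nat.succ_lt_succ hi))]
      congr 1
      funext j
      rw [Fin.sum_univ_succ]
      simp only [Function.comp_apply, Fin.val_zero, Fin.val_succ]
      ring

theorem vmul_code {n : ℕ} (hn : n ≤ 120) {rows : List ℕ} (h : matOK n rows = true)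
    (v : Fin n → ZMod 5) :
    vmul (encF n fun _ => 1023) rows (code v) = code (Matrix.vecMul v (matOf n rows)) := by
  have hl : rows.length = n := by
    have h' := h
    unfold matOK at h'
    rw [cond_false_eq_true] at h'
    exact Nat.eq_of_beq_eq_true h'.1
  let g : ℕ → Fin n → ℕ := fun i j => if hi : i < n then (matOf n rows ⟨i, hi⟩ j).val else 0
  have hg : ∀ i < n, rows.getD i 0 = encF n (g i) := by
    intro i hi
    rw [row_code h ⟨i, hi⟩, code]
    simp [g, hi]
  have h0 := vacc_eq g n rows (fun j => (v j).val) hl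
    (fun j => lt_trans (ZMod.val_lt _) (by norm_num)) hg (fun _ => 0)
  rw [encF_zero] at h0
  unfold vmul
  rw [code, h0, vred_eq, code]
  · congr 1
    funext j
    rw [← ZMod.val_natCast]
    congr 1
    simp only [Nat.cast_add, Nat.cast_zero, zero_add, Nat.cast_sum, Nat.cast_mul,
      ZMod.natCast_zmod_val, Matrix.vecMul, dotProduct]
    refine Finset.sum_congr rfl fun i _ => ?_
    simp [g]
  · intro j
    have : ∀ i : Fin n, (v i).val * g i j ≤ 16 := fun i => by
      have h1 := ZMod.val_lt (v i)
      have h2 : g i j ≤ 4 := by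
        simp only [g, dif_pos i.2]
        exact Nat.le_of_lt_succ (ZMod.val_lt _)
      calc (v i).val * g i j ≤ 4 * 4 := Nat.mul_le_mul (by omega) h2
        _ = 16 := rfl
    have := Finset.sum_le_sum (s := Finset.univ) fun i (_ : i ∈ Finset.univ) => this i
    simp only [Finset.sum_const, Finset.card_univ, Fintype.card_fin, smul_eq_mul] at this
    omega

/-- The matrix of a word. -/
def matWord (n : ℕ) (ms : List (List ℕ)) (w : List ℕ) : Matrix (Fin n) (Fin n) (ZMod 5) :=
  (w.map fun l => matOf n (ms.getD l [])).prod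

theorem vrun_code {n : ℕ} (hn : n ≤ 120) {ms : List (List ℕ)}
    (h : allList (matOK n) ms = true) : ∀ (w : List ℕ), (∀ l ∈ w, l < ms.length) →
    ∀ v : Fin n → ZMod 5,
      vrun (encF n fun _ => 1023) ms (code v) w = code (Matrix.vecMul v (matWord n ms w)) := by
  intro w
  induction w with
  | nil => intro _ v; simp [vrun, matWord]
  | cons l w ih =>
    intro hw v
    have hl := hw l (by simp)
    have hok : matOK n (ms.getD l []) = true := by
      rw [List.getD_eq_getElem _ _ hl]; exact allList_iff.mp h _ (List.getElem_mem hl)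
    show Nat.rec (motive := fun _ => ℕ) (vrun _ ms 0 w) (fun m _ => vrun _ ms (Nat.add m 1) w)
      (vmul (encF n fun _ => 1023) (ms.getD l []) (code v)) = _
    have e : ∀ x : ℕ, Nat.rec (motive := fun _ => ℕ) (vrun (encF n fun _ => 1023) ms 0 w)
        (fun m _ => vrun (encF n fun _ => 1023) ms (Nat.add m 1) w) x =
          vrun (encF n fun _ => 1023) ms x w := by intro x; cases x <;> rfl
    rw [e, vmul_code hn hok, ih fun x hx => hw x (by simp [hx]), Matrix.vecMul_vecMul]
    simp [matWord]

theorem code_injective {n : ℕ} : Function.Injective (code : (Fin n → ZMod 5) → ℕ) := by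
  intro v w h
  funext j
  apply ZMod.val_injective
  rw [← encF_lane n _ (code_lt v) j, ← encF_lane n _ (code_lt w) j]
  unfold code at h
  rw [h]

theorem code_single : ∀ (n : ℕ) (i : Fin n),
    code (Pi.single i (1 : ZMod 5)) = 2 ^ (24 * (i : ℕ)) := by
  intro n
  induction n with
  | zero => intro i; exact i.elim0
  | succ n ih =>
    intro i
    induction i using Fin.cases with
    | zero =>
      simp only [code, encF, Pi.single_eq_same]
      rw [show (fun j : Fin (n + 1) => ((Pi.single 0 1 : Fin (n + 1) → ZMod 5) j).val) ∘ Fin.succ =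
        fun _ => 0 by funext j; simp [Fin.succ_ne_zero], encF_zero]
      rfl
    | succ i =>
      have h1 : ((Pi.single i.succ 1 : Fin (n + 1) → ZMod 5) 0) = 0 :=
        Pi.single_eq_of_ne (Fin.succ_ne_zero i).symm _
      have h2 : (fun j : Fin (n + 1) => ((Pi.single i.succ 1 : Fin (n + 1) → ZMod 5) j).val) ∘
          Fin.succ = fun j => ((Pi.single i 1 : Fin n → ZMod 5) j).val := by
        funext j
        simp [Pi.single_apply, Fin.succ_inj]
      show encF (n + 1) _ = _
      simp only [encF]
      rw [h1, h2, show encF n (fun j => ((Pi.single i 1 : Fin n → ZMod 5) j).val) = 2 ^ (24 * (i : ℕ))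
        from ih i, ZMod.val_zero, zero_add, Fin.val_succ, Nat.mul_succ, pow_add]
      ring

theorem matWord_eq_one {n : ℕ} (hn : n ≤ 120) {ms : List (List ℕ)}
    (h : allList (matOK n) ms = true) {mask : ℕ} (hm : mask = encF n fun _ => 1023)
    {w : List ℕ} (hw : ∀ l ∈ w, l < ms.length)
    (hc : ∀ s < 30, allBlock 2 s (fixI mask ms n w) = true) :
    matWord n ms w = 1 := by
  refine Matrix.ext fun i j => ?_
  have h0 := allBlock_iff 2 ((i : ℕ) / 4) _ (hc _ (by have := i.2; omega)) i
    (by omega) (by omega)
  rw [fixI, show Nat.ble n i = false from Bool.eq_false_iff.mpr fun h => by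
    have := Nat.ble_eq.mp h; have := i.2; omega, cond_false] at h0
  have h1 := Nat.eq_of_beq_eq_true h0
  subst hm
  change vrun _ ms (2 ^ (24 * (i : ℕ))) w = 2 ^ (24 * (i : ℕ)) at h1
  rw [← code_single n i, vrun_code hn h w hw] at h1
  have h2 := congrFun (code_injective h1) j
  rw [Matrix.single_one_vecMul] at h2
  rw [Matrix.one_apply]
  rw [Pi.single_apply] at h2
  show matWord n ms w i j = _
  refine h2.trans ?_
  by_cases hij : i = j
  · simp [hij]
  · simp [hij, Ne.symm hij]

end CfsgLib.Coset.Ly
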