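import Cfsg.Agent.Coset.Ly.MatOK

/-!
Each letter of the matrix model is inverse to its partner.
-/

set_option autoImplicit false
set_option maxRecDepth 100000

namespace CfsgLib.Coset.Ly

theorem pair0_blk : ∀ s < 30, allBlock 2 s (fixI mask111 matL 111 [0, 1]) = true := by
  intro s hs
  interval_cases s
  all_goals decide +kernel

theorem pair1_blk : ∀ s < 30, allBlock 2 s (fixI mask111 matL 111 [1, 0]) = true := by
  intro s hs
  interval_cases s
  all_goals decide +kernel

theorem pair2_blk : ∀ s < 30, allBlock 2 s (fixI mask111 matL 111 [2, 3]) = true := by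
  intro s hs
  interval_cases s
  all_goals decide +kernel

theorem pair3_blk : ∀ s < 30, allBlock 2 s (fixI mask111 matL 111 [3, 2]) = true := by
  intro s hs
  interval_cases s
  all_goals decide +kernel

theorem pair4_blk : ∀ s < 30, allBlock 2 s (fixI mask111 matL 111 [4, 5]) = true := by
  intro s hs
  interval_cases s
  all_goals decide +kernel

theorem pair5_blk : ∀ s < 30, allBlock 2 s (fixI mask111 matL 111 [5, 4]) = true := by
  intro s hs
  interval_cases s
  all_goals decide +kernel

theorem pair6_blk : ∀ s < 30, allBlock 2 s (fixI mask111 matL 111 [6, 7]) = true := by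
  intro s hs
  interval_cases s
  all_goals decide +kernel

theorem pair7_blk : ∀ s < 30, allBlock 2 s (fixI mask111 matL 111 [7, 6]) = true := by
  intro s hs
  interval_cases s
  all_goals decide +kernel

theorem pair8_blk : ∀ s < 30, allBlock 2 s (fixI mask111 matL 111 [8, 9]) = true := by
  intro s hs
  interval_cases s
  all_goals decide +kernel

theorem pair9_blk : ∀ s < 30, allBlock 2 s (fixI mask111 matL 111 [9, 8]) = true := by
  intro s hs
  interval_cases s
  all_goals decide +kernel

theorem pair10_blk : ∀ s < 30, allBlock 2 s (fixI mask111 matL 111 [10, 11]) = true := by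
  intro s hs
  interval_cases s
  all_goals decide +kernel

theorem pair11_blk : ∀ s < 30, allBlock 2 s (fixI mask111 matL 111 [11, 10]) = true := by
  intro s hs
  interval_cases s
  all_goals decide +kernel

theorem pair12_blk : ∀ s < 30, allBlock 2 s (fixI mask111 matL 111 [12, 13]) = true := by
  intro s hs
  interval_cases s
  all_goals decide +kernel

theorem pair13_blk : ∀ s < 30, allBlock 2 s (fixI mask111 matL 111 [13, 12]) = true := by
  intro s hs
  interval_cases s
  all_goals decide +kernel

theorem pair14_blk : ∀ s < 30, allBlock 2 s (fixI mask111 matL 111 [14, 15]) = true := by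
  intro s hs
  interval_cases s
  all_goals decide +kernel

theorem pair15_blk : ∀ s < 30, allBlock 2 s (fixI mask111 matL 111 [15, 14]) = true := by
  intro s hs
  interval_cases s
  all_goals decide +kernel

theorem pair16_blk : ∀ s < 30, allBlock 2 s (fixI mask111 matL 111 [16, 17]) = true := by
  intro s hs
  interval_cases s
  all_goals decide +kernel

theorem pair17_blk : ∀ s < 30, allBlock 2 s (fixI mask111 matL 111 [17, 16]) = true := by
  intro s hs
  interval_cases s
  all_goals decide +kernel

theorem pair18_blk : ∀ s < 30, allBlock 2 s (fixI mask111 matL 111 [18, 19]) = true := by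
  intro s hs
  interval_cases s
  all_goals decide +kernel

theorem pair19_blk : ∀ s < 30, allBlock 2 s (fixI mask111 matL 111 [19, 18]) = true := by
  intro s hs
  interval_cases s
  all_goals decide +kernel

theorem pairs_one : ∀ l < 20, matWord 111 matL [l, Nat.xor l 1] = 1 := by
  intro l hl
  interval_cases l
  · exact matWord_eq_one (by norm_num) matL_ok mask111_eq (by decide) pair0_blk
  · exact matWord_eq_one (by norm_num) matL_ok mask111_eq (by decide) pair1_blk
  · exact matWord_eq_one (by norm_num) matL_ok mask111_eq (by decide) pair2_blk
  · exact matWord_eq_one (by norm_num) matL_ok mask111_eq (by decide) pair3_blk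
  · exact matWord_eq_one (by norm_num) matL_ok mask111_eq (by decide) pair4_blk
  · exact matWord_eq_one (by norm_num) matL_ok mask111_eq (by decide) pair5_blk
  · exact matWord_eq_one (by norm_num) matL_ok mask111_eq (by decide) pair6_blk
  · exact matWord_eq_one (by norm_num) matL_ok mask111_eq (by decide) pair7_blk
  · exact matWord_eq_one (by norm_num) matL_ok mask111_eq (by decide) pair8_blk
  · exact matWord_eq_one (by norm_num) matL_ok mask111_eq (by decide) pair9_blk
  · exact matWord_eq_one (by norm_num) matL_ok mask111_eq (by decide) pair10_blk
  · exact matWord_eq_one (by norm_num) matL_ok mask111_eq (by decide) pair11_blk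
  · exact matWord_eq_one (by norm_num) matL_ok mask111_eq (by decide) pair12_blk
  · exact matWord_eq_one (by norm_num) matL_ok mask111_eq (by decide) pair13_blk
  · exact matWord_eq_one (by norm_num) matL_ok mask111_eq (by decide) pair14_blk
  · exact matWord_eq_one (by norm_num) matL_ok mask111_eq (by decide) pair15_blk
  · exact matWord_eq_one (by norm_num) matL_ok mask111_eq (by decide) pair16_blk
  · exact matWord_eq_one (by norm_num) matL_ok mask111_eq (by decide) pair17_blk
  · exact matWord_eq_one (by norm_num) matL_ok mask111_eq (by decide) pair18_blk
  · exact matWord_eq_one (by norm_num) matL_ok mask111_eq (by decide) pair19_blk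

end CfsgLib.Coset.Ly
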