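import Cfsg.Agent.Coset.Ly.MatCode
import Cfsg.Agent.Coset.Ly.MatData
import Cfsg.Agent.Coset.Ly.Words

/-!
Each relator fixes each unit vector of the matrix model; checked four vectors at a time.
-/

set_option autoImplicit false
set_option maxRecDepth 100000
set_option Elab.async false

namespace CfsgLib.Coset.Ly

theorem rel0_blk : ∀ s < 30, allBlock 2 s (fixI mask111 matL 111 (relW.getD 0 [])) = true := by
  intro s hs
  interval_cases s
  all_goals decide +kernel

theorem rel7_blk : ∀ s < 30, allBlock 2 s (fixI mask111 matL 111 (relW.getD 7 [])) = true := by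
  intro s hs
  interval_cases s
  all_goals decide +kernel

theorem rel9_blk : ∀ s < 30, allBlock 2 s (fixI mask111 matL 111 (relW.getD 9 [])) = true := by
  intro s hs
  interval_cases s
  all_goals decide +kernel

theorem rel14_blk : ∀ s < 30, allBlock 2 s (fixI mask111 matL 111 (relW.getD 14 [])) = true := by
  intro s hs
  interval_cases s
  all_goals decide +kernel

theorem rel16_blk : ∀ s < 30, allBlock 2 s (fixI mask111 matL 111 (relW.getD 16 [])) = true := by
  intro s hs
  interval_cases s
  all_goals decide +kernel

theorem rel20_blk : ∀ s < 30, allBlock 2 s (fixI mask111 matL 111 (relW.getD 20 [])) = true := by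
  intro s hs
  interval_cases s
  all_goals decide +kernel

theorem rel25_blk : ∀ s < 30, allBlock 2 s (fixI mask111 matL 111 (relW.getD 25 [])) = true := by
  intro s hs
  interval_cases s
  all_goals decide +kernel

theorem rel32_blk : ∀ s < 30, allBlock 2 s (fixI mask111 matL 111 (relW.getD 32 [])) = true := by
  intro s hs
  interval_cases s
  all_goals decide +kernel

theorem rel40_blk : ∀ s < 30, allBlock 2 s (fixI mask111 matL 111 (relW.getD 40 [])) = true := by
  intro s hs
  interval_cases s
  all_goals decide +kernel

theorem rel42_blk : ∀ s < 30, allBlock 2 s (fixI mask111 matL 111 (relW.getD 42 [])) = true := by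
  intro s hs
  interval_cases s
  all_goals decide +kernel

theorem rel45_blk : ∀ s < 30, allBlock 2 s (fixI mask111 matL 111 (relW.getD 45 [])) = true := by
  intro s hs
  interval_cases s
  all_goals decide +kernel

theorem rel58_blk : ∀ s < 30, allBlock 2 s (fixI mask111 matL 111 (relW.getD 58 [])) = true := by
  intro s hs
  interval_cases s
  all_goals decide +kernel

theorem rel68_blk : ∀ s < 30, allBlock 2 s (fixI mask111 matL 111 (relW.getD 68 [])) = true := by
  intro s hs
  interval_cases s
  all_goals decide +kernel

theorem rel69_blk : ∀ s < 30, allBlock 2 s (fixI mask111 matL 111 (relW.getD 69 [])) = true := by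
  intro s hs
  interval_cases s
  all_goals decide +kernel

theorem rel72_blk : ∀ s < 30, allBlock 2 s (fixI mask111 matL 111 (relW.getD 72 [])) = true := by
  intro s hs
  interval_cases s
  all_goals decide +kernel

theorem rel74_blk : ∀ s < 30, allBlock 2 s (fixI mask111 matL 111 (relW.getD 74 [])) = true := by
  intro s hs
  interval_cases s
  all_goals decide +kernel

theorem rel76_blk : ∀ s < 30, allBlock 2 s (fixI mask111 matL 111 (relW.getD 76 [])) = true := by
  intro s hs
  interval_cases s
  all_goals decide +kernel

theorem rel80_blk : ∀ s < 30, allBlock 2 s (fixI mask111 matL 111 (relW.getD 80 [])) = true := by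
  intro s hs
  interval_cases s
  all_goals decide +kernel

theorem rel81_blk : ∀ s < 30, allBlock 2 s (fixI mask111 matL 111 (relW.getD 81 [])) = true := by
  intro s hs
  interval_cases s
  all_goals decide +kernel

theorem rel84_blk : ∀ s < 30, allBlock 2 s (fixI mask111 matL 111 (relW.getD 84 [])) = true := by
  intro s hs
  interval_cases s
  all_goals decide +kernel

end CfsgLib.Coset.Ly
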