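import Cfsg.Agent.Coset.Ly.MatCode
import Cfsg.Agent.Coset.Ly.MatData
import Cfsg.Agent.Coset.Ly.Words

/-!
Each relator fixes each unit vector of the matrix model; checked four vectors at a time.
-/

set_option autoImplicit false
set_option maxRecDepth 100000
set_option Elab.async false

namespace CfsgLib.Coset.Ly

theorem rel5_blk : ∀ s < 30, allBlock 2 s (fixI mask111 matL 111 (relW.getD 5 [])) = true := by
  intro s hs
  interval_cases s
  all_goals decide +kernel

theorem rel8_blk : ∀ s < 30, allBlock 2 s (fixI mask111 matL 111 (relW.getD 8 [])) = true := by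
  intro s hs
  interval_cases s
  all_goals decide +kernel

theorem rel10_blk : ∀ s < 30, allBlock 2 s (fixI mask111 matL 111 (relW.getD 10 [])) = true := by
  intro s hs
  interval_cases s
  all_goals decide +kernel

theorem rel15_blk : ∀ s < 30, allBlock 2 s (fixI mask111 matL 111 (relW.getD 15 [])) = true := by
  intro s hs
  interval_cases s
  all_goals decide +kernel

theorem rel17_blk : ∀ s < 30, allBlock 2 s (fixI mask111 matL 111 (relW.getD 17 [])) = true := by
  intro s hs
  interval_cases s
  all_goals decide +kernel

theorem rel21_blk : ∀ s < 30, allBlock 2 s (fixI mask111 matL 111 (relW.getD 21 [])) = true := by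
  intro s hs
  interval_cases s
  all_goals decide +kernel

theorem rel26_blk : ∀ s < 30, allBlock 2 s (fixI mask111 matL 111 (relW.getD 26 [])) = true := by
  intro s hs
  interval_cases s
  all_goals decide +kernel

theorem rel33_blk : ∀ s < 30, allBlock 2 s (fixI mask111 matL 111 (relW.getD 33 [])) = true := by
  intro s hs
  interval_cases s
  all_goals decide +kernel

theorem rel36_blk : ∀ s < 30, allBlock 2 s (fixI mask111 matL 111 (relW.getD 36 [])) = true := by
  intro s hs
  interval_cases s
  all_goals decide +kernel

theorem rel44_blk : ∀ s < 30, allBlock 2 s (fixI mask111 matL 111 (relW.getD 44 [])) = true := by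
  intro s hs
  interval_cases s
  all_goals decide +kernel

theorem rel47_blk : ∀ s < 30, allBlock 2 s (fixI mask111 matL 111 (relW.getD 47 [])) = true := by
  intro s hs
  interval_cases s
  all_goals decide +kernel

theorem rel48_blk : ∀ s < 30, allBlock 2 s (fixI mask111 matL 111 (relW.getD 48 [])) = true := by
  intro s hs
  interval_cases s
  all_goals decide +kernel

theorem rel53_blk : ∀ s < 30, allBlock 2 s (fixI mask111 matL 111 (relW.getD 53 [])) = true := by
  intro s hs
  interval_cases s
  all_goals decide +kernel

theorem rel56_blk : ∀ s < 30, allBlock 2 s (fixI mask111 matL 111 (relW.getD 56 [])) = true := by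
  intro s hs
  interval_cases s
  all_goals decide +kernel

theorem rel60_blk : ∀ s < 30, allBlock 2 s (fixI mask111 matL 111 (relW.getD 60 [])) = true := by
  intro s hs
  interval_cases s
  all_goals decide +kernel

theorem rel61_blk : ∀ s < 30, allBlock 2 s (fixI mask111 matL 111 (relW.getD 61 [])) = true := by
  intro s hs
  interval_cases s
  all_goals decide +kernel

theorem rel63_blk : ∀ s < 30, allBlock 2 s (fixI mask111 matL 111 (relW.getD 63 [])) = true := by
  intro s hs
  interval_cases s
  all_goals decide +kernel

theorem rel65_blk : ∀ s < 30, allBlock 2 s (fixI mask111 matL 111 (relW.getD 65 [])) = true := by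
  intro s hs
  interval_cases s
  all_goals decide +kernel

theorem rel67_blk : ∀ s < 30, allBlock 2 s (fixI mask111 matL 111 (relW.getD 67 [])) = true := by
  intro s hs
  interval_cases s
  all_goals decide +kernel

theorem rel73_blk : ∀ s < 30, allBlock 2 s (fixI mask111 matL 111 (relW.getD 73 [])) = true := by
  intro s hs
  interval_cases s
  all_goals decide +kernel

theorem rel78_blk : ∀ s < 30, allBlock 2 s (fixI mask111 matL 111 (relW.getD 78 [])) = true := by
  intro s hs
  interval_cases s
  all_goals decide +kernel

theorem rel82_blk : ∀ s < 30, allBlock 2 s (fixI mask111 matL 111 (relW.getD 82 [])) = true := by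
  intro s hs
  interval_cases s
  all_goals decide +kernel

end CfsgLib.Coset.Ly
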