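import Cfsg.Agent.Coset.Ly.MatCode
import Cfsg.Agent.Coset.Ly.MatData
import Cfsg.Agent.Coset.Ly.Words

/-!
Each relator fixes each unit vector of the matrix model; checked four vectors at a time.
-/

set_option autoImplicit false
set_option maxRecDepth 100000
set_option Elab.async false

namespace CfsgLib.Coset.Ly

theorem rel2_blk : ∀ s < 30, allBlock 2 s (fixI mask111 matL 111 (relW.getD 2 [])) = true := by
  intro s hs
  interval_cases s
  all_goals decide +kernel

theorem rel11_blk : ∀ s < 30, allBlock 2 s (fixI mask111 matL 111 (relW.getD 11 [])) = true := by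
  intro s hs
  interval_cases s
  all_goals decide +kernel

theorem rel12_blk : ∀ s < 30, allBlock 2 s (fixI mask111 matL 111 (relW.getD 12 [])) = true := by
  intro s hs
  interval_cases s
  all_goals decide +kernel

theorem rel19_blk : ∀ s < 30, allBlock 2 s (fixI mask111 matL 111 (relW.getD 19 [])) = true := by
  intro s hs
  interval_cases s
  all_goals decide +kernel

theorem rel24_blk : ∀ s < 30, allBlock 2 s (fixI mask111 matL 111 (relW.getD 24 [])) = true := by
  intro s hs
  interval_cases s
  all_goals decide +kernel

theorem rel28_blk : ∀ s < 30, allBlock 2 s (fixI mask111 matL 111 (relW.getD 28 [])) = true := by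
  intro s hs
  interval_cases s
  all_goals decide +kernel

theorem rel29_blk : ∀ s < 30, allBlock 2 s (fixI mask111 matL 111 (relW.getD 29 [])) = true := by
  intro s hs
  interval_cases s
  all_goals decide +kernel

theorem rel35_blk : ∀ s < 30, allBlock 2 s (fixI mask111 matL 111 (relW.getD 35 [])) = true := by
  intro s hs
  interval_cases s
  all_goals decide +kernel

theorem rel37_blk : ∀ s < 30, allBlock 2 s (fixI mask111 matL 111 (relW.getD 37 [])) = true := by
  intro s hs
  interval_cases s
  all_goals decide +kernel

theorem rel39_blk : ∀ s < 30, allBlock 2 s (fixI mask111 matL 111 (relW.getD 39 [])) = true := by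
  intro s hs
  interval_cases s
  all_goals decide +kernel

theorem rel43_blk : ∀ s < 30, allBlock 2 s (fixI mask111 matL 111 (relW.getD 43 [])) = true := by
  intro s hs
  interval_cases s
  all_goals decide +kernel

theorem rel46_blk : ∀ s < 30, allBlock 2 s (fixI mask111 matL 111 (relW.getD 46 [])) = true := by
  intro s hs
  interval_cases s
  all_goals decide +kernel

theorem rel49_blk : ∀ s < 30, allBlock 2 s (fixI mask111 matL 111 (relW.getD 49 [])) = true := by
  intro s hs
  interval_cases s
  all_goals decide +kernel

theorem rel54_blk : ∀ s < 30, allBlock 2 s (fixI mask111 matL 111 (relW.getD 54 [])) = true := by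
  intro s hs
  interval_cases s
  all_goals decide +kernel

theorem rel57_blk : ∀ s < 30, allBlock 2 s (fixI mask111 matL 111 (relW.getD 57 [])) = true := by
  intro s hs
  interval_cases s
  all_goals decide +kernel

theorem rel64_blk : ∀ s < 30, allBlock 2 s (fixI mask111 matL 111 (relW.getD 64 [])) = true := by
  intro s hs
  interval_cases s
  all_goals decide +kernel

theorem rel66_blk : ∀ s < 30, allBlock 2 s (fixI mask111 matL 111 (relW.getD 66 [])) = true := by
  intro s hs
  interval_cases s
  all_goals decide +kernel

theorem rel71_blk : ∀ s < 30, allBlock 2 s (fixI mask111 matL 111 (relW.getD 71 [])) = true := by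
  intro s hs
  interval_cases s
  all_goals decide +kernel

theorem rel75_blk : ∀ s < 30, allBlock 2 s (fixI mask111 matL 111 (relW.getD 75 [])) = true := by
  intro s hs
  interval_cases s
  all_goals decide +kernel

theorem rel77_blk : ∀ s < 30, allBlock 2 s (fixI mask111 matL 111 (relW.getD 77 [])) = true := by
  intro s hs
  interval_cases s
  all_goals decide +kernel

theorem rel79_blk : ∀ s < 30, allBlock 2 s (fixI mask111 matL 111 (relW.getD 79 [])) = true := by
  intro s hs
  interval_cases s
  all_goals decide +kernel

theorem rel83_blk : ∀ s < 30, allBlock 2 s (fixI mask111 matL 111 (relW.getD 83 [])) = true := by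
  intro s hs
  interval_cases s
  all_goals decide +kernel

end CfsgLib.Coset.Ly
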