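import Cfsg.Agent.Coset.Ly.MatCode
import Cfsg.Agent.Coset.Ly.MatData
import Cfsg.Agent.Coset.Ly.Words

/-!
Each relator fixes each unit vector of the matrix model; checked four vectors at a time.
-/

set_option autoImplicit false
set_option maxRecDepth 100000
set_option Elab.async false

namespace CfsgLib.Coset.Ly

theorem rel1_blk : ∀ s < 30, allBlock 2 s (fixI mask111 matL 111 (relW.getD 1 [])) = true := by
  intro s hs
  interval_cases s
  all_goals decide +kernel

theorem rel3_blk : ∀ s < 30, allBlock 2 s (fixI mask111 matL 111 (relW.getD 3 [])) = true := by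
  intro s hs
  interval_cases s
  all_goals decide +kernel

theorem rel4_blk : ∀ s < 30, allBlock 2 s (fixI mask111 matL 111 (relW.getD 4 [])) = true := by
  intro s hs
  interval_cases s
  all_goals decide +kernel

theorem rel6_blk : ∀ s < 30, allBlock 2 s (fixI mask111 matL 111 (relW.getD 6 [])) = true := by
  intro s hs
  interval_cases s
  all_goals decide +kernel

theorem rel13_blk : ∀ s < 30, allBlock 2 s (fixI mask111 matL 111 (relW.getD 13 [])) = true := by
  intro s hs
  interval_cases s
  all_goals decide +kernel

theorem rel18_blk : ∀ s < 30, allBlock 2 s (fixI mask111 matL 111 (relW.getD 18 [])) = true := by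
  intro s hs
  interval_cases s
  all_goals decide +kernel

theorem rel22_blk : ∀ s < 30, allBlock 2 s (fixI mask111 matL 111 (relW.getD 22 [])) = true := by
  intro s hs
  interval_cases s
  all_goals decide +kernel

theorem rel23_blk : ∀ s < 30, allBlock 2 s (fixI mask111 matL 111 (relW.getD 23 [])) = true := by
  intro s hs
  interval_cases s
  all_goals decide +kernel

theorem rel27_blk : ∀ s < 30, allBlock 2 s (fixI mask111 matL 111 (relW.getD 27 [])) = true := by
  intro s hs
  interval_cases s
  all_goals decide +kernel

theorem rel30_blk : ∀ s < 30, allBlock 2 s (fixI mask111 matL 111 (relW.getD 30 [])) = true := by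
  intro s hs
  interval_cases s
  all_goals decide +kernel

theorem rel31_blk : ∀ s < 30, allBlock 2 s (fixI mask111 matL 111 (relW.getD 31 [])) = true := by
  intro s hs
  interval_cases s
  all_goals decide +kernel

theorem rel34_blk : ∀ s < 30, allBlock 2 s (fixI mask111 matL 111 (relW.getD 34 [])) = true := by
  intro s hs
  interval_cases s
  all_goals decide +kernel

theorem rel38_blk : ∀ s < 30, allBlock 2 s (fixI mask111 matL 111 (relW.getD 38 [])) = true := by
  intro s hs
  interval_cases s
  all_goals decide +kernel

theorem rel41_blk : ∀ s < 30, allBlock 2 s (fixI mask111 matL 111 (relW.getD 41 [])) = true := by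
  intro s hs
  interval_cases s
  all_goals decide +kernel

theorem rel50_blk : ∀ s < 30, allBlock 2 s (fixI mask111 matL 111 (relW.getD 50 [])) = true := by
  intro s hs
  interval_cases s
  all_goals decide +kernel

theorem rel51_blk : ∀ s < 30, allBlock 2 s (fixI mask111 matL 111 (relW.getD 51 [])) = true := by
  intro s hs
  interval_cases s
  all_goals decide +kernel

theorem rel52_blk : ∀ s < 30, allBlock 2 s (fixI mask111 matL 111 (relW.getD 52 [])) = true := by
  intro s hs
  interval_cases s
  all_goals decide +kernel

theorem rel55_blk : ∀ s < 30, allBlock 2 s (fixI mask111 matL 111 (relW.getD 55 [])) = true := by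
  intro s hs
  interval_cases s
  all_goals decide +kernel

theorem rel59_blk : ∀ s < 30, allBlock 2 s (fixI mask111 matL 111 (relW.getD 59 [])) = true := by
  intro s hs
  interval_cases s
  all_goals decide +kernel

theorem rel62_blk : ∀ s < 30, allBlock 2 s (fixI mask111 matL 111 (relW.getD 62 [])) = true := by
  intro s hs
  interval_cases s
  all_goals decide +kernel

theorem rel70_blk : ∀ s < 30, allBlock 2 s (fixI mask111 matL 111 (relW.getD 70 [])) = true := by
  intro s hs
  interval_cases s
  all_goals decide +kernel

theorem rel85_blk : ∀ s < 30, allBlock 2 s (fixI mask111 matL 111 (relW.getD 85 [])) = true := by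
  intro s hs
  interval_cases s
  all_goals decide +kernel

end CfsgLib.Coset.Ly
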