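import Cfsg.Agent.Coset.Ly.MultEq
import Cfsg.Agent.Coset.Ly.Group
import Cfsg.Prelude.Def_KGroupFacts

/-!
The Schur multiplier of the Lyons group is trivial, given the exact order, the embedding of the
model of `G₂(5)` and the facts that this model is perfect with trivial multiplier.
-/

set_option autoImplicit false
set_option maxRecDepth 100000
set_option Elab.async false

namespace CfsgLib.Coset.Ly

open scoped commutatorElement

/-- An injective map of a perfect group with trivial multiplier lifts along a central extension. -/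
theorem exists_lift {E G : Type} [Group E] [Finite E] [Group G] (σ : E →* G)
    (hσ : Function.Surjective σ) (hc : σ.ker ≤ Subgroup.center E) {B : Type} [Group B]
    (hm : Cfsg.HasCyclicSchurMultiplier B 1) (hp : commutator B = ⊤) (Ψ : B →* G)
    (hinj : Function.Injective Ψ) : ∃ s : B →* E, σ.comp s = Ψ := by
  let Q : Subgroup E := Subgroup.comap σ Ψ.range
  let D : Subgroup E := ⁅Q, Q⁆
  have hQ : Q.map σ = Ψ.range := Subgroup.map_comap_eq_self_of_surjective hσ _
  have hDm : D.map σ = Ψ.range := by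
    rw [Subgroup.map_commutator, hQ, MonoidHom.range_eq_map, ← Subgroup.map_commutator,
      ← commutator_def, hp]
  have hDQ : D ≤ Q := Subgroup.commutator_le_self Q
  have hQD : Q ≤ D ⊔ σ.ker := by
    intro x hx
    obtain ⟨d, hd, e⟩ : σ x ∈ D.map σ := by rw [hDm]; exact hx
    have : d⁻¹ * x ∈ σ.ker := by simp [MonoidHom.mem_ker, e]
    simpa using mul_mem (Subgroup.mem_sup_left hd : d ∈ D ⊔ σ.ker)
      (Subgroup.mem_sup_right this)
  have hperf : commutator D = ⊤ := by
    refine Subgroup.map_injective D.subtype_injective ?_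
    rw [commutator_def, Subgroup.map_commutator, ← MonoidHom.range_eq_map, D.range_subtype]
    refine le_antisymm (Subgroup.commutator_le_self D) (Subgroup.commutator_le.mpr ?_)
    intro a ha b hb
    have split : ∀ x ∈ Q, ∃ d ∈ D, ∃ z ∈ Subgroup.center E, x = d * z := by
      intro x hx
      obtain ⟨d, hd, e⟩ : σ x ∈ D.map σ := by rw [hDm]; exact hx
      exact ⟨d, hd, d⁻¹ * x, hc (by simp [MonoidHom.mem_ker, e]), by group⟩
    obtain ⟨a', ha', za, hza, rfl⟩ := split a ha
    obtain ⟨b', hb', zb, hzb, rfl⟩ := split b hb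
    have e : ⁅a' * za, b' * zb⁆ = ⁅a', b'⁆ := by
      simp only [commutatorElement_def, mul_inv_rev]
      have h1 := Subgroup.mem_center_iff.mp hza
      have h2 := Subgroup.mem_center_iff.mp hzb
      calc a' * za * (b' * zb) * (za⁻¹ * a'⁻¹) * (zb⁻¹ * b'⁻¹)
          = a' * (za * (b' * zb)) * za⁻¹ * a'⁻¹ * zb⁻¹ * b'⁻¹ := by group
        _ = a' * b' * (zb * a'⁻¹) * zb⁻¹ * b'⁻¹ := by rw [← h1]; group
        _ = _ := by rw [← h2]; group
    rw [e]
    exact Subgroup.commutator_mem_commutator ha' hb'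
  let ι : Ψ.range ≃* B := (MonoidHom.ofInjective hinj).symm
  let σD : D →* Ψ.range := (σ.comp D.subtype).codRestrict Ψ.range fun d => by
    rw [← hDm]; exact Subgroup.mem_map_of_mem σ d.2
  let τ : D →* B := ι.toMonoidHom.comp σD
  have hτ : ∀ d : D, Ψ (τ d) = σ d := fun d => by
    have := (MonoidHom.ofInjective hinj).apply_symm_apply (σD d)
    exact congrArg Subtype.val this
  have hsur : Function.Surjective τ := by
    intro b
    obtain ⟨d, hd, e⟩ : Ψ b ∈ D.map σ := by rw [hDm]; exact ⟨b, rfl⟩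
    exact ⟨⟨d, hd⟩, hinj (by rw [hτ]; exact e)⟩
  have hker : τ.ker ≤ Subgroup.center D := by
    intro d hd
    have h1 : (d : E) ∈ Subgroup.center E := hc (by
      rw [MonoidHom.mem_ker, ← hτ, MonoidHom.mem_ker.mp hd, map_one])
    exact Subgroup.mem_center_iff.mpr fun g => Subtype.ext (Subgroup.mem_center_iff.mp h1 g)
  obtain ⟨π, hπ⟩ := hm.2 D τ ⟨hsur, hker, by rw [hperf]; exact le_top⟩
  have : Subsingleton τ.ker := hπ.subsingleton
  have hbij : Function.Bijective τ := ⟨(MonoidHom.ker_eq_bot_iff τ).mp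
    (Subgroup.eq_bot_of_subsingleton _), hsur⟩
  refine ⟨D.subtype.comp (MulEquiv.ofBijective τ hbij).symm.toMonoidHom, MonoidHom.ext fun b => ?_⟩
  show σ ((MulEquiv.ofBijective τ hbij).symm b : E) = Ψ b
  rw [← hτ]
  exact congrArg Ψ ((MulEquiv.ofBijective τ hbij).apply_symm_apply b)

theorem relW_A : ∀ w ∈ relW, (∀ l ∈ w, l < 18) → eqA w [] = true := by
  have h : allList (fun w => cond (lettersA w) (eqA w []) true) relW = true := by decide +kernel
  intro w hw hl
  have h1 := allList_iff.mp h w hw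
  rwa [show lettersA w = true from allList_iff.mpr fun l hl' => Nat.ble_eq.mpr (hl l hl'),
    cond_true] at h1

theorem z_exponent : (relW.getD 80 []).count 19 = 0 ∧ (relW.getD 80 []).count 18 = 2 ∧
    (relW.getD 81 []).count 19 = 0 ∧ (relW.getD 81 []).count 18 = 3 := by decide +kernel

theorem relW_z : ∀ w ∈ relW, (∀ l ∈ w, l < 18) ∨ ∃ r < 86, 72 ≤ r ∧ relW.getD r [] = w := by
  decide +kernel

/-- The letters of a lift. -/
noncomputable def liftL {E : Type} [Group E] (s : A →* E) (z : E) : List E :=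
  LA.map s ++ [z, z⁻¹]

theorem fl_liftL {E : Type} [Group E] (s : A →* E) (z : E) :
    (∀ l < 18, fl (liftL s z) l = s (fl LA l)) ∧ fl (liftL s z) 18 = z ∧
      fl (liftL s z) 19 = z⁻¹ := by
  have h : (LA.map s).length = 18 := by rw [List.length_map, len_LA]
  refine ⟨fun l hl => ?_, ?_, ?_⟩
  · simp only [fl, liftL, List.getD_eq_getElem?_getD]
    rw [List.getElem?_append_left (by omega), List.getElem?_map]
    rcases Option.eq_none_or_eq_some (LA[l]?) with e | ⟨x, e⟩ <;> simp [e]
  · simp [fl, liftL, List.getD_eq_getElem?_getD, len_LA]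
  · simp [fl, liftL, List.getD_eq_getElem?_getD, len_LA]

theorem ev_liftL {E : Type} [Group E] (s : A →* E) (z : E) :
    ∀ w : List Nat, (∀ l ∈ w, l < 18) → ev (liftL s z) w = s (ev LA w) := by
  intro w
  induction w with
  | nil => simp
  | cons x w ih =>
    intro hw
    rw [ev_cons, ev_cons, map_mul, ih fun y hy => hw y (by simp [hy]),
      (fl_liftL s z).1 x (hw x (by simp))]

/-- Changing the lift of `z` by a central element. -/
theorem ev_liftL_mul {E : Type} [Group E] (s : A →* E) (z ζ : E) (hζ : ∀ g : E, g * ζ = ζ * g) :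
    ∀ w : List Nat, (∀ l ∈ w, l ≠ 19 ∧ l < 20) →
      ev (liftL s (z * ζ)) w = ev (liftL s z) w * ζ ^ w.count 18 := by
  intro w
  induction w with
  | nil => simp
  | cons x w ih =>
    intro hw
    rw [ev_cons, ev_cons, ih fun y hy => hw y (by simp [hy])]
    obtain ⟨h1, h2⟩ := hw x (by simp)
    by_cases hx : x = 18
    · subst hx
      rw [(fl_liftL s _).2.1, (fl_liftL s _).2.1, List.count_cons_self, pow_succ']
      simp only [mul_assoc]
      rw [← mul_assoc ζ, ← hζ, mul_assoc]
    · rw [(fl_liftL s _).1 x (by omega), (fl_liftL s _).1 x (by omega), List.count_cons_of_ne hx]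
      simp [mul_assoc]

theorem exists_frame_lift {E : Type} [Group E] [Finite E] (σ : E →* Cfsg.Spor.Ly)
    (hσ : Cfsg.IsStemExtension σ) (s : A →* E) (hs : σ.comp s = frame_LG.Ψ)
    (hinj : Function.Injective frame_LG.Ψ) : ∃ L : List E, Frame L := by
  obtain ⟨hsur, hcen, hcom⟩ := hσ
  have hσs : ∀ a, σ (s a) = frame_LG.Ψ a := fun a => DFunLike.congr_fun hs a
  have hfl : ∀ z : E, σ z = fl LG 18 → ∀ l, σ (fl (liftL s z) l) = fl LG l := by
    intro z hz l
    rcases lt_or_ge l 18 with hl | hl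
    · rw [(fl_liftL s z).1 l hl, hσs]
      have := frame_LG.Ψ_ev [l] (by simpa using hl)
      simpa [ev_cons] using this
    · rcases lt_or_ge l 20 with h2 | h2
      · rcases (show l = 18 ∨ l = 19 by omega) with rfl | rfl
        · rw [(fl_liftL s z).2.1, hz]
        · rw [(fl_liftL s z).2.2, map_inv, hz]
          exact (frame_LG.fl_xor 18).symm
      · rw [fl_of_le _ (by simp [liftL, len_LA]; omega), fl_of_le _ (by rw [frame_LG.len]; exact h2),
          map_one]
  have hev : ∀ z : E, σ z = fl LG 18 → ∀ w, σ (ev (liftL s z) w) = ev LG w := by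
    intro z hz w
    induction w with
    | nil => simp
    | cons x w ih => rw [ev_cons, ev_cons, map_mul, ih, hfl z hz]
  obtain ⟨z₀, hz₀⟩ := hsur (fl LG 18)
  -- normalise the lift
  let ζ : E := (ev (liftL s z₀) (relW.getD 81 []))⁻¹ * ev (liftL s z₀) (relW.getD 80 [])
  have hker : ∀ z : E, σ z = fl LG 18 → ∀ r < 86, ev (liftL s z) (relW.getD r []) ∈ σ.ker := by
    intro z hz r hr
    rw [MonoidHom.mem_ker, hev z hz]
    refine frame_LG.relW _ ?_
    rw [List.getD_eq_getElem _ _ (by
      have : relW.length = 86 := by decide +kernel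
      omega)]
    exact List.getElem_mem _
  have hζk : ζ ∈ σ.ker := mul_mem (inv_mem (hker z₀ hz₀ 81 (by norm_num))) (hker z₀ hz₀ 80 (by norm_num))
  have hcomm : ∀ x ∈ σ.ker, ∀ g : E, g * x = x * g := fun x hx g =>
    Subgroup.mem_center_iff.mp (hcen hx) g
  let z := z₀ * ζ
  have hz : σ z = fl LG 18 := by rw [map_mul, hz₀, MonoidHom.mem_ker.mp hζk, mul_one]
  let L := liftL s z
  let c : Nat → E := fun i => if i < 14 then ev L (relW.getD (72 + i) []) else 1
  have hlen : L.length = 20 := by simp [L, liftL, len_LA]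
  have hpair : ∀ l, l < 20 → fl L l * fl L (Nat.xor l 1) = 1 := by
    intro l hl
    rcases lt_or_ge l 18 with h | h
    · rw [(fl_liftL s z).1 l h, (fl_liftL s z).1 _ (pairsA l h).1, ← map_mul, (pairsA l h).2,
        map_one]
    · rcases (show l = 18 ∨ l = 19 by omega) with rfl | rfl
      · rw [(fl_liftL s z).2.1, show Nat.xor 18 1 = 19 from rfl, (fl_liftL s z).2.2, mul_inv_cancel]
      · rw [(fl_liftL s z).2.2, show Nat.xor 19 1 = 18 from rfl, (fl_liftL s z).2.1, inv_mul_cancel]
  have hrelA : ∀ w ∈ relsA, ev L w = 1 := by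
    intro w hw
    rw [ev_liftL s z w ((by decide +kernel : ∀ w ∈ relsA, ∀ l ∈ w, l < 18) w hw),
      ev_numGens (k := 18) w hw, map_one]
  have hF : CFrame L σ.ker c :=
    { len := hlen
      pair := hpair
      relA := hrelA
      cen := hcomm
      mem := fun i => by
        by_cases hi : i < 14
        · simp only [c, if_pos hi]; exact hker z hz _ (by omega)
        · simp only [c, if_neg hi]; exact one_mem _
      relC := fun r h1 h2 => by
        simp only [c, if_pos (show r - 72 < 14 by omega), show 72 + (r - 72) = r by omega]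
      meet := by
        intro x hx hxk
        have : x ∈ s.range := by
          refine (Subgroup.closure_le _).mpr ?_ hx
          intro y hy
          obtain ⟨l, hl, rfl⟩ := List.getElem_of_mem hy
          rw [← List.getD_eq_getElem (la L) 1 hl]
          have hl18 : l < 18 := by simp [la, hlen] at hl; omega
          exact ⟨fl LA l, by rw [← (fl_liftL s z).1 l hl18]; exact (fl_la L hl18).symm⟩
        obtain ⟨a, rfl⟩ := this
        rw [MonoidHom.mem_ker, hσs, ← map_one frame_LG.Ψ] at hxk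
        rw [hinj hxk, map_one] }
  have hn : c 8 = c 9 := by
    obtain ⟨a80, b80, a81, b81⟩ := z_exponent
    have hw : ∀ w ∈ relW, ∀ l ∈ w, l < 20 := by decide +kernel
    have m80 : relW.getD 80 [] ∈ relW := by decide +kernel
    have m81 : relW.getD 81 [] ∈ relW := by decide +kernel
    have g : ∀ w ∈ relW, w.count 19 = 0 → ∀ l ∈ w, l ≠ 19 ∧ l < 20 := fun w hw' h0 l hl =>
      ⟨fun e => List.count_eq_zero.mp h0 (e ▸ hl), hw w hw' l hl⟩
    simp only [c, show (8 : Nat) < 14 by norm_num, show (9 : Nat) < 14 by norm_num, if_true,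
      show 72 + 8 = 80 from rfl, show 72 + 9 = 81 from rfl, L, z]
    rw [ev_liftL_mul s z₀ ζ (hcomm _ hζk) _ (g _ m80 a80),
      ev_liftL_mul s z₀ ζ (hcomm _ hζk) _ (g _ m81 a81), b80, b81, pow_succ' ζ 2, ← mul_assoc]
    congr 1
    simp [ζ]
  have hone := hF.c_eq_one hn
  refine ⟨L, ⟨hlen, hpair, hrelA, ?_, ?_⟩⟩
  · intro w hw
    rcases relW_z w hw with h | ⟨r, hr, hr', rfl⟩
    · rw [ev_liftL s z w h, eqA_sound (relW_A w hw h)]; simp
    · rw [hF.relC r hr' hr]; exact hone _ (by omega)
  · set C := Subgroup.closure {x | x ∈ L}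
    have hmap : C.map σ = ⊤ := by
      rw [MonoidHom.map_closure, eq_top_iff, ← frame_LG.gen]
      refine Subgroup.closure_mono ?_
      intro x hx
      obtain ⟨l, hl, rfl⟩ := List.getElem_of_mem hx
      refine ⟨fl L l, ?_, ?_⟩
      · show fl L l ∈ L
        rw [fl, List.getD_eq_getElem _ _ (hlen.trans frame_LG.len.symm ▸ hl)]
        exact List.getElem_mem _
      · rw [hfl z hz, fl, List.getD_eq_getElem _ _ hl]
    have hdec : ∀ g : E, ∃ d ∈ C, d⁻¹ * g ∈ σ.ker := fun g => by
      obtain ⟨d, hd, e⟩ : σ g ∈ C.map σ := hmap ▸ Subgroup.mem_top _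
      exact ⟨d, hd, by simp [MonoidHom.mem_ker, e]⟩
    have hcomC : commutator E ≤ C := by
      rw [commutator_def, Subgroup.commutator_le]
      intro a _ b _
      obtain ⟨a', ha', ka⟩ := hdec a
      obtain ⟨b', hb', kb⟩ := hdec b
      have e : ⁅a, b⁆ = ⁅a', b'⁆ := by
        obtain ⟨za, hza, rfl⟩ : ∃ za ∈ σ.ker, a = a' * za := ⟨_, ka, by group⟩
        obtain ⟨zb, hzb, rfl⟩ : ∃ zb ∈ σ.ker, b = b' * zb := ⟨_, kb, by group⟩
        simp only [commutatorElement_def, mul_inv_rev]
        calc a' * za * (b' * zb) * (za⁻¹ * a'⁻¹) * (zb⁻¹ * b'⁻¹)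
            = a' * (za * (b' * zb)) * za⁻¹ * a'⁻¹ * zb⁻¹ * b'⁻¹ := by group
          _ = a' * b' * (zb * a'⁻¹) * zb⁻¹ * b'⁻¹ := by rw [← hcomm _ hza]; group
          _ = _ := by rw [← hcomm _ hzb]; group
      rw [e, commutatorElement_def]
      exact mul_mem (mul_mem (mul_mem ha' hb') (inv_mem ha')) (inv_mem hb')
    rw [eq_top_iff]
    intro g _
    obtain ⟨d, hd, hk⟩ := hdec g
    simpa using mul_mem hd (hcomC (hcom hk))

/-- The order of the Lyons group from the embedding of the model and its index. -/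
theorem card_Ly_eq (hinj : Function.Injective frame_LG.Ψ) (hidx : frame_LG.H.index = 8835156) :
    Nat.card Cfsg.Spor.Ly = 51765179004000000 := by
  rw [← Subgroup.card_mul_index frame_LG.H, hidx, Frame.H,
    ← Nat.card_congr (MonoidHom.ofInjective hinj).toEquiv, card_and_injective.1]

/-- The multiplier of the Lyons group is trivial. -/
theorem multiplier_Ly (hinj : Function.Injective frame_LG.Ψ)
    (hidx : frame_LG.H.index = 8835156) (hm : Cfsg.HasCyclicSchurMultiplier A 1)
    (hp : commutator A = ⊤) : Cfsg.HasCyclicSchurMultiplier Cfsg.Spor.Ly 1 := by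
  refine ⟨⟨Cfsg.Spor.Ly, inferInstance, card_Ly_le.1, MonoidHom.id _,
    ⟨Function.surjective_id, ?_, ?_⟩, ?_⟩, ?_⟩
  · rw [(MonoidHom.ker_eq_bot_iff _).mpr Function.injective_id]; exact bot_le
  · rw [(MonoidHom.ker_eq_bot_iff _).mpr Function.injective_id]; exact bot_le
  · have : Subsingleton (MonoidHom.id Cfsg.Spor.Ly).ker := ⟨fun a b => Subtype.ext (by
      rw [show (a : Cfsg.Spor.Ly) = 1 from a.2, show (b : Cfsg.Spor.Ly) = 1 from b.2])⟩
    have : Unique (MonoidHom.id Cfsg.Spor.Ly).ker := uniqueOfSubsingleton 1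
    exact ⟨MulEquiv.ofUnique⟩
  intro E _ _ σ hσ
  obtain ⟨s, hs⟩ := exists_lift σ hσ.1 hσ.2.1 hm hp frame_LG.Ψ hinj
  obtain ⟨L, hL⟩ := exists_frame_lift σ hσ s hs hinj
  have h1 : Nat.card E = Nat.card Cfsg.Spor.Ly * Nat.card σ.ker := by
    rw [← σ.ker.card_mul_index, mul_comm, Subgroup.index_ker,
      MonoidHom.range_eq_top.mpr hσ.1, Subgroup.card_top]
  have h2 : Nat.card σ.ker = 1 := by
    have := hL.card_le.2
    rw [h1, card_Ly_eq hinj hidx] at this
    have : 0 < Nat.card σ.ker := Nat.card_pos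
    omega
  have : Subsingleton σ.ker := (Nat.card_eq_one_iff_unique.mp h2).1
  exact ⟨1, fun y => ⟨1, Subsingleton.elim _ _⟩⟩

end CfsgLib.Coset.Ly
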