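import Cfsg.Agent.Coset.Ly.Derive
import Cfsg.Agent.Coset.Ly.MultData

/-!
The derivation in a group where the relators involving `z` hold up to central constants: it forces
the constants to be trivial.
-/

set_option autoImplicit false
set_option maxRecDepth 100000
set_option Elab.async false

namespace CfsgLib.Coset.Ly

/-- Sum of two integer vectors. -/
def vadd : List Int → List Int → List Int
  | [], b => b
  | a, [] => a
  | x :: a, y :: b => (x + y) :: vadd a b

/-- A multiple of an integer vector. -/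
def vsmul (k : Int) (a : List Int) : List Int := a.map (k * ·)

/-- A difference of integer vectors. -/
def vsub (a b : List Int) : List Int := vadd a (vsmul (-1) b)

/-- A zero vector. -/
def vz (a : List Int) : Bool := a.all (fun x => decide (x = 0))

/-- A multiple of a unit vector. -/
def vunit (i : Nat) (k : Int) : List Int := List.replicate i 0 ++ [k]

/-- The listed constant of a fact. -/
def fC (j : Nat) : List Int := factC.getD j []

/-- The listed constant of a stabilising element. -/
def sC (i : Nat) : List Int := stC.getD i []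

/-- The constant of a product of stabilising elements. -/
def sumS : List Nat → List Int
  | [] => []
  | i :: ids => vadd (sC i) (sumS ids)

/-- The constant of passing `z` by generators of the subgroup normalised by it. -/
def sumK : List Nat → List Int
  | [] => []
  | i :: ids => vadd (vunit i 1) (sumK ids)

/-- The constant of a certificate. -/
def certV (c : Cert) : List Int := vadd (sumS c.2.1) (vadd (fC c.1) (sumK c.2.2))

/-- The constant of a traced word. -/
def traceV : List Nat → List Cert → List Int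
  | [], _ => []
  | x :: v, certs => if x = 18 then
      match certs with
      | [] => []
      | c :: rest => vadd (certV c) (traceV v rest)
    else traceV v certs

/-- The constant of a word listed as equal to `z`. -/
def varD (q : Nat × Nat × List Nat) : List Int :=
  if q.2.2 = [18] then [] else
    if (relW.getD q.1 []).getD q.2.1 0 = 18 then
      vadd (vunit (q.1 - 72) (-1)) (vunit 8 ((red (invW ((relW.getD q.1 []).take q.2.1) ++
        invW ((relW.getD q.1 []).drop (q.2.1 + 1)))).count 19 : Int))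
    else vadd (vunit (q.1 - 72) 1) (vunit 8 ((red ((relW.getD q.1 []).drop (q.2.1 + 1) ++
        (relW.getD q.1 []).take q.2.1)).count 19 : Int))

/-- The constant given by a step. -/
def stepV (s : Step) : List Int :=
  if s.1 = 0 then
    vsub (traceV (varL.getD s.2.2.2.1 (0, 0, [18])).2.2 s.2.2.2.2.1)
      (varD (varL.getD s.2.2.2.1 (0, 0, [18])))
  else if s.1 = 1 then vsub (vunit 8 1) (fC s.2.2.2.2.2.2)
  else if s.1 = 2 then []
  else vadd (vsub (varD (varL.getD s.2.2.2.1 (0, 0, [18])))
      (traceV (varL.getD s.2.2.2.1 (0, 0, [18])).2.2 s.2.2.2.2.1))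
    (traceV [18] s.2.2.2.2.2.1)

/-- The listed constants agree with the steps. -/
def checkC : List Step → Nat → Nat → Bool
  | [], _, _ => true
  | s :: steps, nf, ns =>
    if s.1 = 3 then vz (vsub (stepV s) (sC ns)) && checkC steps nf (ns + 1)
    else vz (vsub (stepV s) (fC nf)) && checkC steps (nf + 1) ns

/-- The relators whose constant is used by a listed word. -/
def varRange (q : Nat × Nat × List Nat) : Bool :=
  decide (q.2.2 = [18]) || decide (72 ≤ q.1 ∧ q.1 < 86)

section Val

variable {Γ : Type*} [Group Γ] (Z : Subgroup Γ) (c : Nat → Γ)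

/-- The value of a vector. -/
def vval : Nat → List Int → Γ
  | _, [] => 1
  | i, x :: a => c i ^ x * vval (i + 1) a

variable {c}

theorem vval_mem (hc : ∀ i, c i ∈ Z) : ∀ (a : List Int) (i : Nat), vval c i a ∈ Z := by
  intro a
  induction a with
  | nil => intro i; exact one_mem Z
  | cons x a ih => intro i; exact mul_mem (zpow_mem (hc i) x) (ih _)

variable (hc : ∀ i, c i ∈ Z) (hZ : ∀ x ∈ Z, ∀ g : Γ, g * x = x * g)
include hc hZ

theorem vval_vadd : ∀ (a b : List Int) (i : Nat), vval c i (vadd a b) = vval c i a * vval c i b := by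
  intro a
  induction a with
  | nil => intro b i; simp [vadd, vval]
  | cons x a ih =>
    intro b i
    cases b with
    | nil => simp [vadd, vval]
    | cons y b =>
      simp only [vadd, vval, ih, zpow_add]
      have h := hZ _ (vval_mem Z hc a (i + 1)) (c i ^ y)
      simp only [mul_assoc]
      rw [← mul_assoc (c i ^ y), h, mul_assoc]

theorem vval_vsmul (k : Int) : ∀ (a : List Int) (i : Nat),
    vval c i (vsmul k a) = vval c i a ^ k := by
  intro a
  induction a with
  | nil => intro i; simp [vsmul, vval]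
  | cons x a ih =>
    intro i
    have h : Commute (c i ^ x) (vval c (i + 1) a) := hZ _ (vval_mem Z hc a (i + 1)) _
    show c i ^ (k * x) * vval c (i + 1) (vsmul k a) = _
    rw [ih, vval, h.mul_zpow, ← zpow_mul, mul_comm x k]

theorem vval_vsub (a b : List Int) (i : Nat) :
    vval c i (vsub a b) = vval c i a * (vval c i b)⁻¹ := by
  rw [vsub, vval_vadd Z hc hZ, vval_vsmul Z hc hZ, zpow_neg_one]

omit hc hZ in
theorem vval_vz : ∀ (a : List Int) (i : Nat), vz a = true → vval c i a = 1 := by
  intro a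
  induction a with
  | nil => intro i _; rfl
  | cons x a ih =>
    intro i h
    simp only [vz, List.all_cons, Bool.and_eq_true, decide_eq_true_eq] at h
    rw [vval, h.1, zpow_zero, one_mul, ih _ h.2]

theorem vval_eq_of_vz {a b : List Int} (h : vz (vsub a b) = true) :
    vval c 0 a = vval c 0 b := by
  rw [← mul_inv_eq_one, ← vval_vsub Z hc hZ]
  exact vval_vz _ _ h

omit hc hZ in
theorem vval_replicate : ∀ (n i : Nat) (k : Int), vval c i (List.replicate n 0 ++ [k]) = c (i + n) ^ k := by
  intro n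
  induction n with
  | zero => intro i k; simp [vval]
  | succ n ih =>
    intro i k
    rw [List.replicate_succ, List.cons_append, vval, zpow_zero, one_mul, ih,
      show i + 1 + n = i + (n + 1) by omega]

omit hc hZ in
theorem vval_vunit (n : Nat) (k : Int) : vval c 0 (vunit n k) = c n ^ k := by
  rw [vunit, vval_replicate, Nat.zero_add]

end Val

/-- The hypotheses: the relators of the subgroup hold, the relators with `z` hold up to central
constants from a subgroup meeting the image of the model trivially. -/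
structure CFrame {Γ : Type*} [Group Γ] (L : List Γ) (Z : Subgroup Γ) (c : Nat → Γ) : Prop where
  len : L.length = 20
  pair : ∀ l, l < 20 → fl L l * fl L (Nat.xor l 1) = 1
  relA : ∀ w ∈ relsA, ev L w = 1
  cen : ∀ x ∈ Z, ∀ g : Γ, g * x = x * g
  mem : ∀ i, c i ∈ Z
  relC : ∀ r, 72 ≤ r → r < 86 → ev L (relW.getD r []) = c (r - 72)
  meet : ∀ x ∈ Subgroup.closure {x | x ∈ la L}, x ∈ Z → x = 1

variable {Γ : Type*} [Group Γ] {L : List Γ} {Z : Subgroup Γ} {c : Nat → Γ}

theorem CFrame.fl_xor (hF : CFrame L Z c) (l : Nat) : fl L (Nat.xor l 1) = (fl L l)⁻¹ := by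
  rcases lt_or_ge l 20 with hl | hl
  · exact (inv_eq_of_mul_eq_one_right (hF.pair l hl)).symm
  · have h2 : 20 ≤ Nat.xor l 1 := by
      by_contra hlt
      have h3 : ∀ m < 20, Nat.xor m 1 < 20 := by decide +kernel
      have := h3 _ (by omega : Nat.xor l 1 < 20)
      rw [show Nat.xor (Nat.xor l 1) 1 = l from Nat.xor_xor_cancel_right l 1] at this
      omega
    rw [fl_of_le _ (hF.len ▸ h2), fl_of_le _ (hF.len ▸ hl), inv_one]

theorem CFrame.ev_invW (hF : CFrame L Z c) (w : List Nat) : ev L (invW w) = (ev L w)⁻¹ := by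
  induction w with
  | nil => simp [invW]
  | cons x w ih =>
    have e : invW (x :: w) = invW w ++ [Nat.xor x 1] := by simp [invW]
    rw [e, ev_append, ih, ev_cons, ev_nil, mul_one, hF.fl_xor, ev_cons, mul_inv_rev]

/-- The map from the model of the subgroup. -/
noncomputable def CFrame.Ψ (hF : CFrame L Z c) : A →* Γ :=
  numHom (L := la L) (by simp [la, hF.len]) fun w hw => by
    rw [ev_la L w ((by decide +kernel : ∀ w ∈ relsA, ∀ l ∈ w, l < 18) w hw)]
    exact hF.relA w hw

theorem CFrame.Ψ_ev (hF : CFrame L Z c) (w : List Nat) (hw : ∀ l ∈ w, l < 18) :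
    hF.Ψ (ev LA w) = ev L w := by
  rw [CFrame.Ψ, numHom_ev, ev_la L w hw]

theorem CFrame.ev_eqA (hF : CFrame L Z c) {v w : List Nat} (h : eqA v w = true) :
    ev L v = ev L w := by
  have h' := h
  unfold eqA agree at h'
  simp only [cond_false_eq_true] at h'
  rw [← hF.Ψ_ev v (of_lettersA h'.1), ← hF.Ψ_ev w (of_lettersA h'.2.1), eqA_sound h]

theorem CFrame.Ψ_mem_closure (hF : CFrame L Z c) (a : A) :
    hF.Ψ a ∈ Subgroup.closure {x | x ∈ la L} := by
  have h : a ∈ Subgroup.closure {x | x ∈ LA} := closure_LA ▸ Subgroup.mem_top a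
  induction h using Subgroup.closure_induction with
  | mem x hx =>
    obtain ⟨l, hl, rfl⟩ := List.getElem_of_mem hx
    rw [← List.getD_eq_getElem LA 1 hl]
    show hF.Ψ (fl LA l) ∈ _
    rw [CFrame.Ψ, numHom_fl]
    exact mem_closure_fl _
  | one => rw [map_one]; exact one_mem _
  | mul x y _ _ hx hy => rw [map_mul]; exact mul_mem hx hy
  | inv x _ hx => rw [map_inv]; exact inv_mem hx

/-- The value of a vector of constants. -/
def CFrame.V (_ : CFrame L Z c) (a : List Int) : Γ := vval c 0 a

theorem CFrame.V_mem (hF : CFrame L Z c) (a : List Int) : hF.V a ∈ Z := vval_mem Z hF.mem a 0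

theorem CFrame.V_comm (hF : CFrame L Z c) (a : List Int) (g : Γ) : g * hF.V a = hF.V a * g :=
  hF.cen _ (hF.V_mem a) g

theorem CFrame.V_nil (hF : CFrame L Z c) : hF.V [] = 1 := rfl

theorem CFrame.V_vadd (hF : CFrame L Z c) (a b : List Int) :
    hF.V (vadd a b) = hF.V a * hF.V b := vval_vadd Z hF.mem hF.cen a b 0

theorem CFrame.V_vsub (hF : CFrame L Z c) (a b : List Int) :
    hF.V (vsub a b) = hF.V a * (hF.V b)⁻¹ := vval_vsub Z hF.mem hF.cen a b 0

theorem CFrame.V_eq (hF : CFrame L Z c) {a b : List Int} (h : vz (vsub a b) = true) :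
    hF.V a = hF.V b := vval_eq_of_vz Z hF.mem hF.cen h

theorem CFrame.V_vunit (hF : CFrame L Z c) (n : Nat) (k : Int) : hF.V (vunit n k) = c n ^ k :=
  vval_vunit n k

theorem CFrame.zz (hF : CFrame L Z c) :
    fl L 18 * fl L 18 = ev L [0, 0] * hF.V (vunit 8 1) := by
  have h := hF.relC 80 (by norm_num) (by norm_num)
  rw [(by decide +kernel : relW.getD 80 [] = [18, 18] ++ invW [0, 0]), ev_append,
    hF.ev_invW, mul_inv_eq_iff_eq_mul] at h
  rw [hF.V_vunit, zpow_one, hF.cen _ (hF.mem 8), ← h]; simp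

theorem CFrame.z_inv (hF : CFrame L Z c) :
    fl L 18 * ev L [1, 1] = fl L 19 * hF.V (vunit 8 1) := by
  have h1 : fl L 19 = (fl L 18)⁻¹ := hF.fl_xor 18
  have h2 : ev L [1, 1] = (ev L [0, 0])⁻¹ := hF.ev_invW [0, 0]
  rw [h1, h2, eq_inv_mul_iff_mul_eq, ← mul_assoc, hF.zz, hF.V_comm, mul_assoc, mul_inv_cancel,
    mul_one]

theorem CFrame.conj_k (hF : CFrame L Z c) {i : Nat} (hi : i < 8) :
    ev L (kgW.getD i []) * fl L 18 = fl L 18 * ev L (kmW.getD i []) * hF.V (vunit i 1) := by
  have key : ∀ i < 8, relW.getD (72 + i) [] = [19] ++ kgW.getD i [] ++ [18] ++ invW (kmW.getD i []) := by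
    decide +kernel
  have h := hF.relC (72 + i) (by omega) (by omega)
  rw [key i hi, ev_append, ev_append, ev_append, hF.ev_invW, mul_inv_eq_iff_eq_mul,
    Nat.add_sub_cancel_left] at h
  simp only [ev_cons, ev_nil, mul_one] at h
  rw [show fl L 19 = (fl L 18)⁻¹ from hF.fl_xor 18, mul_assoc, inv_mul_eq_iff_eq_mul] at h
  rw [h, hF.V_vunit, zpow_one, mul_assoc, hF.cen _ (hF.mem i)]

theorem CFrame.conj_ks (hF : CFrame L Z c) : ∀ ids : List Nat, (∀ i ∈ ids, i < 8) →
    ev L (flatW kgW ids) * fl L 18 = fl L 18 * ev L (flatW kmW ids) * hF.V (sumK ids) := by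
  intro ids
  induction ids with
  | nil => simp [flatW, sumK, hF.V_nil]
  | cons i ids ih =>
    intro h
    have e : ∀ ws, flatW ws (i :: ids) = ws.getD i [] ++ flatW ws ids := fun ws => by simp [flatW]
    rw [e, e, ev_append, ev_append, sumK, hF.V_vadd, mul_assoc, ih fun j hj => h j (by simp [hj])]
    simp only [← mul_assoc]
    rw [hF.conj_k (h i (by simp))]
    simp only [mul_assoc]
    rw [← mul_assoc (hF.V _) (ev L _), ← hF.V_comm, mul_assoc]

/-- Two elements in the same coset, up to a constant. -/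
def CFrame.R (hF : CFrame L Z c) (a : List Int) (x y : Γ) : Prop :=
  x * y⁻¹ * (hF.V a)⁻¹ ∈ hF.Ψ.range

theorem CFrame.R_refl (hF : CFrame L Z c) (x : Γ) : hF.R [] x x := by
  simp [CFrame.R, hF.V_nil]

theorem CFrame.R_congr (hF : CFrame L Z c) {a b : List Int} {x y : Γ}
    (h : hF.R a x y) (e : hF.V a = hF.V b) : hF.R b x y := by
  rw [CFrame.R, ← e]; exact h

theorem CFrame.R_symm (hF : CFrame L Z c) {a : List Int} {x y : Γ} (h : hF.R a x y) :
    hF.R (vsub [] a) y x := by
  have h' := inv_mem h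
  unfold CFrame.R at *
  rw [hF.V_vsub, hF.V_nil, one_mul, inv_inv]
  rw [mul_inv_rev, inv_inv, mul_inv_rev, inv_inv, ← hF.V_comm] at h'
  exact h'

theorem CFrame.R_trans (hF : CFrame L Z c) {a b : List Int} {x y w : Γ} (h : hF.R a x y)
    (h' : hF.R b y w) : hF.R (vadd a b) x w := by
  have h2 := mul_mem h h'
  unfold CFrame.R at *
  have e : x * w⁻¹ * (hF.V (vadd a b))⁻¹ = x * y⁻¹ * (hF.V a)⁻¹ * (y * w⁻¹ * (hF.V b)⁻¹) := by
    have c1 : ∀ g, (hF.V a)⁻¹ * g = g * (hF.V a)⁻¹ := fun g =>
      (hF.cen _ (inv_mem (hF.V_mem a)) g).symm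
    rw [hF.V_vadd, mul_inv_rev, ← c1]
    simp only [← mul_assoc]
    rw [mul_assoc (x * y⁻¹) (hF.V a)⁻¹ y, c1 y]
    simp only [← mul_assoc, inv_mul_cancel_right]
    rw [mul_assoc x (hF.V a)⁻¹ w⁻¹, c1 w⁻¹, ← mul_assoc]
  rw [e]; exact h2

theorem CFrame.R_mul (hF : CFrame L Z c) {a : List Int} {x y : Γ} (h : hF.R a x y) (g : Γ) :
    hF.R a (x * g) (y * g) := by
  unfold CFrame.R at *
  simpa [mul_assoc] using h

theorem CFrame.R_right (hF : CFrame L Z c) {a b : List Int} {x y : Γ}
    (h : hF.R a x (y * hF.V b)) : hF.R (vadd a b) x y := by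
  unfold CFrame.R at *
  rw [mul_inv_rev, ← hF.cen _ (inv_mem (hF.V_mem b))] at h
  rw [hF.V_vadd, mul_inv_rev]
  simpa [mul_assoc] using h

theorem CFrame.R_left (hF : CFrame L Z c) {a b : List Int} {x y : Γ}
    (h : hF.R a (x * hF.V b) y) : hF.R (vsub a b) x y := by
  unfold CFrame.R at *
  rw [hF.V_vsub, mul_inv_rev, inv_inv]
  rw [mul_assoc x, ← hF.V_comm b y⁻¹, ← mul_assoc] at h
  simpa [mul_assoc] using h

theorem CFrame.R_eq_one (hF : CFrame L Z c) {a : List Int} {x : Γ} (h : hF.R a x x) :
    hF.V a = 1 := by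
  unfold CFrame.R at h
  rw [mul_inv_cancel, one_mul] at h
  obtain ⟨p, hp⟩ := h
  have := hF.meet _ (hF.Ψ_mem_closure p) (hp ▸ inv_mem (hF.V_mem a))
  rw [hp] at this
  exact inv_eq_one.mp this

/-- The validity of the first facts and stabilising elements, with their constants. -/
structure CFrame.Known (hF : CFrame L Z c) (nf ns : Nat) : Prop where
  fact : ∀ j < nf, hF.R (fC j) (pe L (factAt j).1 (factAt j).2.1 * fl L 18)
    (pe L (factAt j).2.2.1 (factAt j).2.2.2)
  stab : ∀ i < ns, hF.R (sC i) (pe L (stAt i).1 (stAt i).2) (pe L (stAt i).1 [])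

theorem CFrame.pe_stWord (hF : CFrame L Z c) {nf ns : Nat} (hK : hF.Known nf ns) {n : Nat} :
    ∀ ids : List Nat, (∀ i ∈ ids, i < ns ∧ (stAt i).1 = n) →
      hF.R (sumS ids) (pe L n (stWord ids)) (pe L n []) := by
  intro ids
  induction ids with
  | nil => intro _; exact hF.R_refl _
  | cons i ids ih =>
    intro h
    obtain ⟨hi, hn⟩ := h i (by simp)
    have e : stWord (i :: ids) = (stAt i).2 ++ stWord ids := by simp [stWord]
    rw [e, pe_append, sumS]
    have h1 := hK.stab i hi
    rw [hn] at h1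
    refine hF.R_trans (hF.R_mul h1 _) ?_
    rw [← pe_append, List.nil_append]
    exact ih fun j hj => h j (by simp [hj])

theorem CFrame.stepZ_sound (hF : CFrame L Z c) {nf ns : Nat} (hK : hF.Known nf ns) {n : Nat}
    {h : List Nat} {d : Cert} {K : Nat → List Nat → Bool} (hs : stepZ nf ns n h d K = true) :
    ∃ m g, K m g = true ∧ hF.R (certV d) (pe L n h * fl L 18) (pe L m g) := by
  unfold stepZ at hs
  simp only [cond_false_eq_true] at hs
  obtain ⟨hj, hn, hst, hk, he, hK'⟩ := hs
  refine ⟨_, _, hK', ?_⟩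
  have hn' : (factAt d.1).1 = n := Nat.eq_of_beq_eq_true hn
  have hids : ∀ i ∈ d.2.1, i < ns ∧ (stAt i).1 = n := fun i hi => by
    have := allList_iff.mp hst i hi
    rw [cond_false_eq_true] at this
    exact ⟨Nat.ble_eq.mp this.1, Nat.eq_of_beq_eq_true this.2⟩
  have hk' : ∀ i ∈ d.2.2, i < 8 := fun i hi => Nat.ble_eq.mp (allList_iff.mp hk i hi)
  have e1 : pe L n h = pe L n (stWord d.2.1 ++ (factAt d.1).2.1 ++ flatW kgW d.2.2) := by
    simp only [pe, hF.ev_eqA he]
  have h2 := hK.fact d.1 (Nat.ble_eq.mp hj)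
  rw [hn'] at h2
  rw [e1, pe_append, pe_append, mul_assoc, hF.conj_ks _ hk', ← mul_assoc, ← mul_assoc]
  refine hF.R_trans (hF.R_mul (hF.R_mul (hF.R_mul (hF.R_mul (hF.pe_stWord hK _ hids) _) _) _) _) ?_
  rw [pe_append]
  refine hF.R_trans (hF.R_mul (hF.R_mul ?_ _) _) ?_ (y := pe L (factAt d.1).2.2.1
    (factAt d.1).2.2.2 * ev L (flatW kmW d.2.2) * hF.V (sumK d.2.2))
  · simpa [pe] using h2
  · unfold CFrame.R
    simp [mul_assoc, hF.V_comm]

theorem CFrame.trace_sound (hF : CFrame L Z c) {nf ns : Nat} (hK : hF.Known nf ns) :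
    ∀ (v : List Nat) (certs : List Cert) (n : Nat) (h : List Nat) (K : Nat → List Nat → Bool),
      trace nf ns v certs n h K = true →
        ∃ m g, K m g = true ∧ hF.R (traceV v certs) (pe L n h * ev L v) (pe L m g) := by
  intro v
  induction v with
  | nil =>
    intro certs n h K ht
    exact ⟨n, h, ht, by simpa [traceV] using hF.R_refl (pe L n h)⟩
  | cons x v ih =>
    intro certs n h K ht
    change cond (Nat.beq x 18) _
      (cond (Nat.ble (Nat.add x 1) 18) (trace nf ns v certs n (h ++ [x]) K) false) = true at ht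
    cases hx : Nat.beq x 18
    · rw [hx, cond_false, cond_false_eq_true] at ht
      obtain ⟨m, g, hm, hr⟩ := ih _ _ _ _ ht.2
      refine ⟨m, g, hm, ?_⟩
      rw [pe_append] at hr
      have hx' : x ≠ 18 := Nat.ne_of_beq_eq_false hx
      simpa [ev_cons, mul_assoc, traceV, hx'] using hr
    · rw [hx, cond_true] at ht
      rw [Nat.eq_of_beq_eq_true hx]
      cases certs with
      | nil => simp at ht
      | cons d rest =>
        change stepZ nf ns n h d (fun m g => trace nf ns v rest m g K) = true at ht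
        obtain ⟨m, g, hm, hr⟩ := hF.stepZ_sound hK ht
        obtain ⟨m', g', hm', hr'⟩ := ih _ _ _ _ hm
        refine ⟨m', g', hm', ?_⟩
        rw [show traceV (18 :: v) (d :: rest) = vadd (certV d) (traceV v rest) by simp [traceV]]
        refine hF.R_trans ?_ hr'
        rw [ev_cons, ← mul_assoc]
        exact hF.R_mul hr _

theorem CFrame.ev_red (hF : CFrame L Z c) : ∀ w : List Nat, ev L (red w) = ev L w := by
  intro w
  induction w with
  | nil => rfl
  | cons x w ih =>
    have e : red (x :: w) = (match red w with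
      | y :: t => if y = Nat.xor x 1 then t else x :: red w
      | [] => [x]) := rfl
    rw [e, ev_cons, ← ih]
    cases red w with
    | nil => simp
    | cons y t =>
      show ev L (if y = Nat.xor x 1 then t else x :: y :: t) = _
      by_cases hy : y = Nat.xor x 1
      · rw [if_pos hy, ev_cons, hy, hF.fl_xor, mul_inv_cancel_left]
      · rw [if_neg hy, ev_cons]

theorem CFrame.ev_uexp (hF : CFrame L Z c) : ∀ w : List Nat,
    ev L (uexp w) = ev L w * hF.V (vunit 8 (w.count 19 : Int)) := by
  intro w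
  induction w with
  | nil =>
    rw [hF.V_vunit]
    simp [uexp]
  | cons x w ih =>
    have e : uexp (x :: w) = (if x = 19 then [18, 1, 1] else [x]) ++ uexp w := rfl
    rw [e, ev_append, ih, ev_cons]
    by_cases hx : x = 19
    · subst hx
      have hz : ev L [18, 1, 1] = fl L 19 * c 8 := by
        have := hF.z_inv
        rw [hF.V_vunit, zpow_one] at this
        rw [← this]
        simp [ev_cons]
      rw [if_pos rfl, hz, hF.V_vunit, hF.V_vunit, List.count_cons_self, Nat.cast_succ,
        zpow_add, zpow_one]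
      simp only [mul_assoc]
      congr 1
      rw [← mul_assoc, ← hF.cen _ (hF.mem 8), mul_assoc]
      congr 1
      exact ((Commute.refl (c 8)).zpow_right _).eq
    · rw [if_neg hx, List.count_cons_of_ne hx]
      simp [mul_assoc]

theorem CFrame.ev_var (hF : CFrame L Z c) {q : Nat × Nat × List Nat} (h : checkVar q = true)
    (hr : varRange q = true) : ev L q.2.2 = fl L 18 * hF.V (varD q) := by
  unfold varD
  by_cases hq : q.2.2 = [18]
  · rw [if_pos hq, hq, hF.V_nil]; simp
  rw [if_neg hq]
  simp only [checkVar, varRange, hq, decide_false, Bool.false_or, decide_eq_true_eq] at h hr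
  obtain ⟨h1, h2, h3, h4⟩ := h
  rw [h4]
  have hw := hF.relC q.1 hr.1 hr.2
  set w := Ly.relW.getD q.1 []
  have hd : w.getD q.2.1 0 = w[q.2.1] := List.getD_eq_getElem _ _ h2
  have hsplit : w = w.take q.2.1 ++ w[q.2.1] :: w.drop (q.2.1 + 1) := by
    rw [← List.drop_eq_getElem_cons h2, List.take_append_drop]
  rw [hsplit, ev_append, ev_cons] at hw
  unfold varOf
  by_cases h18 : w.getD q.2.1 0 = 18
  · rw [if_pos h18, if_pos h18, hF.ev_uexp, hF.ev_red, ev_append, hF.ev_invW, hF.ev_invW,
      hF.V_vadd, hF.V_vunit _ (-1), zpow_neg_one, ← mul_assoc]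
    congr 1
    rw [← hd, h18] at hw
    set P := ev L (w.take q.2.1)
    set Q := ev L (w.drop (q.2.1 + 1))
    have hC := hF.cen _ (hF.mem (q.1 - 72)) Q⁻¹
    have hz : fl L 18 = P⁻¹ * (c (q.1 - 72) * Q⁻¹) := by rw [← hw]; group
    rw [hz, ← hC]; group
  · rw [if_neg h18, if_neg h18, hF.ev_uexp, hF.ev_red, ev_append, hF.V_vadd,
      hF.V_vunit _ 1, zpow_one, ← mul_assoc]
    congr 1
    rw [← hd, h1.resolve_left h18, show fl L 19 = (fl L 18)⁻¹ from hF.fl_xor 18] at hw
    set P := ev L (w.take q.2.1)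
    set Q := ev L (w.drop (q.2.1 + 1))
    have hC := hF.cen _ (inv_mem (hF.mem (q.1 - 72))) P
    have hz : fl L 18 = Q * ((c (q.1 - 72))⁻¹ * P) := by rw [← hw]; group
    rw [hz, ← hC]; group

theorem vars_range : varL.all varRange = true := by decide +kernel

theorem CFrame.ev_varAt (hF : CFrame L Z c) (k : Nat) :
    ev L (varL.getD k (0, 0, [18])).2.2 = fl L 18 * hF.V (varD (varL.getD k (0, 0, [18]))) := by
  rcases lt_or_ge k varL.length with hk | hk
  · rw [List.getD_eq_getElem _ _ hk]
    exact hF.ev_var (List.all_eq_true.mp vars_ok _ (List.getElem_mem hk))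
      (List.all_eq_true.mp vars_range _ (List.getElem_mem hk))
  · rw [List.getD_eq_default _ _ hk]
    simp [varD, hF.V_nil]

theorem CFrame.step_fact (hF : CFrame L Z c) {nf ns : Nat} (hK : hF.Known nf ns) {s : Step}
    (hs : checkStep1 nf ns s = true) (h3 : Nat.beq s.1 3 = false)
    (hv : vz (vsub (stepV s) (fC nf)) = true) :
    hF.R (fC nf) (pe L (factAt nf).1 (factAt nf).2.1 * fl L 18)
      (pe L (factAt nf).2.2.1 (factAt nf).2.2.2) := by
  refine hF.R_congr ?_ (hF.V_eq hv)
  unfold checkStep1 at hs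
  unfold stepV
  cases h0 : Nat.beq s.1 0
  · rw [h0, cond_false] at hs
    rw [if_neg (Nat.ne_of_beq_eq_false h0)]
    cases h1 : Nat.beq s.1 1
    · rw [h1, cond_false] at hs
      rw [if_neg (Nat.ne_of_beq_eq_false h1)]
      cases h2 : Nat.beq s.1 2
      · rw [h2, cond_false] at hs
        rw [h3] at hs
        exact Bool.noConfusion hs
      · rw [h2, cond_true, cond_false_eq_true] at hs
        rw [if_pos (Nat.eq_of_beq_eq_true h2), eq_of_wordEq hs.2]
        have e : pe L (factAt nf).1 (factAt nf).2.1 * fl L 18 = pe L (factAt nf).2.2.1 [] := by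
          simp only [pe, ← eq_of_wordEq hs.1, ev_append, ev_cons, ev_nil, mul_one]
        rw [e]; exact hF.R_refl _
    · rw [h1, cond_true] at hs
      rw [if_pos (Nat.eq_of_beq_eq_true h1)]
      simp only [cond_false_eq_true] at hs
      obtain ⟨hj, hn, hm, he1, he2⟩ := hs
      have hf := hK.fact _ (Nat.ble_eq.mp hj)
      rw [Nat.eq_of_beq_eq_true hn, Nat.eq_of_beq_eq_true hm]
      have ep1 : ∀ n, pe L n (factAt nf).2.1 = pe L n (factAt s.2.2.2.2.2.2).2.2.2 := fun n => by
        simp only [pe, hF.ev_eqA he1]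
      have ep2 : ∀ n, pe L n (factAt nf).2.2.2 =
          pe L n (factAt s.2.2.2.2.2.2).2.1 * ev L [0, 0] := fun n => by
        simp only [pe, hF.ev_eqA he2, ev_append, mul_assoc]
      rw [ep1, ep2]
      have h5 := hF.R_symm (hF.R_mul hf (fl L 18))
      rw [mul_assoc _ (fl L 18) (fl L 18), hF.zz, ← mul_assoc] at h5
      refine hF.R_congr (hF.R_right h5) ?_
      simp only [hF.V_vadd, hF.V_vsub, hF.V_nil, one_mul]
      exact (hF.V_comm _ _).symm ▸ rfl
  · rw [h0, cond_true] at hs
    rw [if_pos (Nat.eq_of_beq_eq_true h0)]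
    simp only [cond_false_eq_true] at hs
    obtain ⟨-, -, ht⟩ := hs
    obtain ⟨m, g, hm, hr⟩ := hF.trace_sound hK _ _ _ _ _ ht
    simp only [cond_false_eq_true] at hm
    obtain ⟨e1, e2, e3, e4⟩ := hm
    rw [hF.ev_varAt, ← mul_assoc] at hr
    rw [Nat.eq_of_beq_eq_true e1, Nat.eq_of_beq_eq_true e3]
    have ep1 : ∀ n, pe L n (factAt nf).2.1 = pe L n s.2.2.1 := fun n => by
      simp only [pe, hF.ev_eqA e2]
    have ep2 : ∀ n, pe L n (factAt nf).2.2.2 = pe L n g := fun n => by
      simp only [pe, hF.ev_eqA e4]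
    rw [ep1, ep2]
    exact hF.R_left hr

theorem CFrame.step_stab (hF : CFrame L Z c) {nf ns : Nat} (hK : hF.Known nf ns) {s : Step}
    (hs : checkStep1 nf ns s = true) (h3 : s.1 = 3)
    (hv : vz (vsub (stepV s) (sC ns)) = true) :
    hF.R (sC ns) (pe L (stAt ns).1 (stAt ns).2) (pe L (stAt ns).1 []) := by
  refine hF.R_congr ?_ (hF.V_eq hv)
  unfold checkStep1 at hs
  unfold stepV
  rw [h3] at hs ⊢
  change cond (lettersA s.2.2.1) _ false = true at hs
  simp only [cond_false_eq_true] at hs
  obtain ⟨-, -, ht⟩ := hs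
  obtain ⟨m, g, hm, hr⟩ := hF.trace_sound hK _ _ _ _ _ ht
  obtain ⟨m', g', hm', hr'⟩ := hF.trace_sound hK _ _ _ _ _ hm
  simp only [cond_false_eq_true] at hm'
  obtain ⟨e1, e2, e3⟩ := hm'
  rw [hF.ev_varAt, ← mul_assoc] at hr
  simp only [ev_cons, ev_nil, mul_one] at hr'
  have h := hF.R_trans (hF.R_symm (hF.R_left hr)) hr'
  rw [← Nat.eq_of_beq_eq_true e1] at h
  rw [Nat.eq_of_beq_eq_true e2]
  simp only [show (3 : Nat) ≠ 0 by decide, show (3 : Nat) ≠ 1 by decide,
    show (3 : Nat) ≠ 2 by decide, if_false]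
  have h5 := hF.R_mul h (ev L g')⁻¹
  have ep : pe L m (stAt ns).2 = pe L m g * (ev L g')⁻¹ := by
    simp only [pe, hF.ev_eqA e3, ev_append, hF.ev_invW, mul_assoc]
  rw [ep]
  refine hF.R_congr (a := vadd (vsub [] (vsub
    (traceV (varL.getD s.2.2.2.1 (0, 0, [18])).2.2 s.2.2.2.2.1)
    (varD (varL.getD s.2.2.2.1 (0, 0, [18])))))
    (traceV [18] s.2.2.2.2.2.1)) ?_ ?_
  · simpa [pe, mul_assoc] using h5
  · simp only [hF.V_vadd, hF.V_vsub, hF.V_nil, one_mul, mul_inv_rev, inv_inv]

theorem CFrame.known_of_check (hF : CFrame L Z c) : ∀ (steps : List Step) (nf ns : Nat),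
    checkAll steps nf ns = true → checkC steps nf ns = true → hF.Known nf ns →
      hF.Known factL.length stL.length := by
  intro steps
  induction steps with
  | nil =>
    intro nf ns h _ hK
    change cond (Nat.beq nf factL.length) (Nat.beq ns stL.length) false = true at h
    rw [cond_false_eq_true] at h
    rwa [← Nat.eq_of_beq_eq_true h.1, ← Nat.eq_of_beq_eq_true h.2]
  | cons s steps ih =>
    intro nf ns h hC hK
    change cond (checkStep1 nf ns s)
      (cond (Nat.beq s.1 3) (checkAll steps nf (ns + 1)) (checkAll steps (nf + 1) ns)) false = true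
      at h
    rw [cond_false_eq_true] at h
    cases h3 : Nat.beq s.1 3
    · rw [h3, cond_false] at h
      simp only [checkC, if_neg (Nat.ne_of_beq_eq_false h3), Bool.and_eq_true] at hC
      refine ih _ _ h.2 hC.2 ⟨fun j hj => ?_, hK.stab⟩
      rcases Nat.lt_or_eq_of_le (Nat.le_of_lt_succ hj) with hj | rfl
      · exact hK.fact j hj
      · exact hF.step_fact hK h.1 h3 hC.1
    · rw [h3, cond_true] at h
      simp only [checkC, if_pos (Nat.eq_of_beq_eq_true h3), Bool.and_eq_true] at hC
      refine ih _ _ h.2 hC.2 ⟨hK.fact, fun i hi => ?_⟩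
      rcases Nat.lt_or_eq_of_le (Nat.le_of_lt_succ hi) with hi | rfl
      · exact hK.stab i hi
      · exact hF.step_stab hK h.1 (Nat.eq_of_beq_eq_true h3) hC.1

theorem constants_ok : checkC stepL 0 26 = true := by decide +kernel

theorem stC_initial : ∀ i < 26, vz (vsub (sC i) (if i < 18 then [] else vunit (i - 18) 1)) = true := by
  decide +kernel

theorem CFrame.known_initial (hF : CFrame L Z c) : hF.Known 0 26 := by
  refine ⟨fun j hj => absurd hj (Nat.not_lt_zero _), fun i hi => ?_⟩
  refine hF.R_congr ?_ (hF.V_eq (stC_initial i hi)).symm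
  rcases stab_initial i hi with ⟨hl, e⟩ | ⟨hl, e⟩
  · rw [e, if_pos hl]
    have : ev L (nW 0) = 1 := by rw [show nW 0 = [] from by decide +kernel]; rfl
    simpa [CFrame.R, pe, this, hF.V_nil] using
      (⟨_, hF.Ψ_ev [i] (by simpa using hl)⟩ : ev L [i] ∈ hF.Ψ.range)
  · rw [e, if_neg (not_lt.mpr hl)]
    have hi8 : i - 18 < 8 := by omega
    have e1 : nW 1 = [18] := by decide +kernel
    have hkm : ∀ l ∈ kmW.getD (i - 18) [], l < 18 :=
      (by decide +kernel : ∀ k < 8, ∀ l ∈ kmW.getD k [], l < 18) _ hi8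
    have h := hF.conj_k hi8
    have hmem : ev L ([0, 0] ++ kmW.getD (i - 18) [] ++ [1, 1]) ∈ hF.Ψ.range := ⟨_, hF.Ψ_ev _ (by
      intro l hl
      simp only [List.mem_append, List.mem_cons, List.not_mem_nil, or_false] at hl
      rcases hl with ((rfl | rfl) | hl) | (rfl | rfl)
      all_goals first | omega | exact hkm _ hl)⟩
    have huu : ev L [1, 1] = (ev L [0, 0])⁻¹ := hF.ev_invW [0, 0]
    have key : ev L [18] * ev L (kgW.getD (i - 18) []) * (ev L [18])⁻¹ =
        ev L [0, 0] * ev L (kmW.getD (i - 18) []) * (ev L [0, 0])⁻¹ * hF.V (vunit (i - 18) 1) := by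
      have e2 : ev L [18] * ev L (kgW.getD (i - 18) []) * (ev L [18])⁻¹ = fl L 18 *
          (ev L (kgW.getD (i - 18) []) * fl L 18) * (fl L 18 * fl L 18)⁻¹ := by
        simp only [ev_cons, ev_nil, mul_one]; group
      rw [e2, h]
      calc fl L 18 * (fl L 18 * ev L (kmW.getD (i - 18) []) * hF.V (vunit (i - 18) 1)) *
            (fl L 18 * fl L 18)⁻¹
          = (fl L 18 * fl L 18) * ev L (kmW.getD (i - 18) []) * (hF.V (vunit (i - 18) 1) *
            (fl L 18 * fl L 18)⁻¹) := by group
        _ = (fl L 18 * fl L 18) * ev L (kmW.getD (i - 18) []) * (fl L 18 * fl L 18)⁻¹ *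
            hF.V (vunit (i - 18) 1) := by rw [← hF.V_comm]; group
        _ = _ := by
          rw [hF.zz, mul_inv_rev, mul_assoc (ev L [0, 0]) (hF.V _), ← hF.V_comm]
          group
    show _ * _ * _ ∈ _
    rw [pe, pe, e1, ev_nil, mul_one, key, mul_inv_cancel_right]
    rwa [ev_append, ev_append, huu] at hmem

/-- All listed facts and stabilising elements are valid with their constants. -/
theorem CFrame.known (hF : CFrame L Z c) : hF.Known factL.length stL.length :=
  hF.known_of_check stepL 0 26 derivation_ok constants_ok hF.known_initial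

end CfsgLib.Coset.Ly
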