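import Cfsg.Agent.Coset.Ly.MultDerive

/-!
Equations between the constants, and their combinations giving every unit vector.
-/

set_option autoImplicit false
set_option maxRecDepth 100000
set_option Elab.async false

namespace CfsgLib.Coset.Ly

/-- The stabilising elements listed belong to a node. -/
def atNode (n : Nat) (ids : List Nat) : Bool :=
  ids.all fun i => decide (i < stL.length ∧ (stAt i).1 = n)

/-- Two products of stabilising elements of a node are equal in the subgroup. -/
noncomputable def checkKer (q : Nat × List Nat × List Nat) : Bool :=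
  cond (atNode q.1 q.2.1) (cond (atNode q.1 q.2.2) (eqA (stWord q.2.1) (stWord q.2.2)) false) false

/-- A relator traced from a node comes back into the stabiliser of the node. -/
noncomputable def checkRel (q : Nat × Nat × List Cert × List Nat) : Bool :=
  cond (decide (72 ≤ q.1 ∧ q.1 < 86) && atNode q.2.1 q.2.2.2)
    (trace factL.length stL.length (uexp (relW.getD q.1 [])) q.2.2.1 q.2.1 [] fun m g =>
      cond (Nat.beq q.2.1 m) (eqA g (stWord q.2.2.2)) false) false

/-- The equation of two equal products. -/
def kerV (q : Nat × List Nat × List Nat) : List Int := vsub (sumS q.2.1) (sumS q.2.2)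

/-- The equation of a traced relator. -/
def relV (q : Nat × Nat × List Cert × List Nat) : List Int :=
  vsub (vadd (vunit (q.1 - 72) 1) (vunit 8 ((relW.getD q.1 []).count 19 : Int)))
    (vadd (traceV (uexp (relW.getD q.1 [])) q.2.2.1) (sumS q.2.2.2))

/-- The equations, the normalisation first. -/
def eqsV : List (List Int) :=
  vsub (vunit 9 1) (vunit 8 1) :: (kerE.map kerV ++ relE.map fun q => vsub [] (relV q))

/-- A combination of vectors. -/
def combV : List Int → List (List Int) → List Int
  | k :: ks, v :: vs => vadd (vsmul k v) (combV ks vs)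
  | _, _ => []

theorem kerE_ok : allList checkKer kerE = true := by decide +kernel

theorem relE_ok : allList checkRel relE = true := by decide +kernel

theorem lamE_ok : ∀ i < 14, vz (vsub (combV (lamE.getD i []) eqsV) (vunit i 1)) = true := by
  decide +kernel

variable {Γ : Type*} [Group Γ] {L : List Γ} {Z : Subgroup Γ} {c : Nat → Γ}

theorem CFrame.kerV_one (hF : CFrame L Z c) {q : Nat × List Nat × List Nat} (hq : q ∈ kerE) :
    hF.V (kerV q) = 1 := by
  have h := allList_iff.mp kerE_ok q hq
  unfold checkKer at h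
  simp only [cond_false_eq_true, atNode, List.all_eq_true, decide_eq_true_eq] at h
  obtain ⟨h1, h2, he⟩ := h
  have r1 := hF.pe_stWord hF.known q.2.1 h1
  have r2 := hF.pe_stWord hF.known q.2.2 h2
  have e : pe L q.1 (stWord q.2.1) = pe L q.1 (stWord q.2.2) := by simp only [pe, hF.ev_eqA he]
  rw [e] at r1
  have := hF.R_eq_one (hF.R_trans (hF.R_symm r2) r1)
  simp only [hF.V_vadd, hF.V_vsub, hF.V_nil, one_mul] at this
  rw [kerV, hF.V_vsub]
  exact mul_eq_one_comm.mp this

theorem CFrame.relV_one (hF : CFrame L Z c) {q : Nat × Nat × List Cert × List Nat} (hq : q ∈ relE) :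
    hF.V (relV q) = 1 := by
  have h := allList_iff.mp relE_ok q hq
  unfold checkRel at h
  simp only [cond_false_eq_true, Bool.and_eq_true, atNode, List.all_eq_true, decide_eq_true_eq] at h
  obtain ⟨⟨⟨h1, h2⟩, hS⟩, ht⟩ := h
  obtain ⟨m, g, hm, hr⟩ := hF.trace_sound hF.known _ _ _ _ _ ht
  simp only [cond_false_eq_true] at hm
  obtain ⟨em, eg⟩ := hm
  rw [← Nat.eq_of_beq_eq_true em] at hr
  have ep : pe L q.2.1 g = pe L q.2.1 (stWord q.2.2.2) := by simp only [pe, hF.ev_eqA eg]
  rw [ep, hF.ev_uexp, hF.relC q.1 h1 h2] at hr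
  have e : c (q.1 - 72) * hF.V (vunit 8 ((relW.getD q.1 []).count 19 : Int)) =
      hF.V (vadd (vunit (q.1 - 72) 1) (vunit 8 ((relW.getD q.1 []).count 19 : Int))) := by
    rw [hF.V_vadd, hF.V_vunit _ 1, zpow_one]
  rw [e] at hr
  have := hF.R_eq_one (hF.R_left (hF.R_trans hr (hF.pe_stWord hF.known q.2.2.2 hS)))
  rw [relV, hF.V_vsub]
  rw [hF.V_vsub, mul_inv_eq_one] at this
  exact mul_inv_eq_one.mpr this.symm

/-- Under the normalisation all constants are trivial. -/
theorem CFrame.c_eq_one (hF : CFrame L Z c) (hn : c 8 = c 9) : ∀ i < 14, c i = 1 := by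
  have hone : ∀ v ∈ eqsV, hF.V v = 1 := by
    intro v hv
    simp only [eqsV, List.mem_cons, List.mem_append, List.mem_map] at hv
    rcases hv with rfl | ⟨q, hq, rfl⟩ | ⟨q, hq, rfl⟩
    · rw [hF.V_vsub, hF.V_vunit, hF.V_vunit, zpow_one, zpow_one, hn, mul_inv_cancel]
    · exact hF.kerV_one hq
    · rw [hF.V_vsub, hF.V_nil, hF.relV_one hq, inv_one, one_mul]
  have hcomb : ∀ (ks : List Int) (vs : List (List Int)), (∀ v ∈ vs, hF.V v = 1) →
      hF.V (combV ks vs) = 1 := by
    intro ks
    induction ks with
    | nil => intro vs _; simp [combV, hF.V_nil]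
    | cons k ks ih =>
      intro vs hvs
      cases vs with
      | nil => simp [combV, hF.V_nil]
      | cons v vs =>
        simp only [combV]
        rw [hF.V_vadd, ih vs fun x hx => hvs x (by simp [hx]), mul_one]
        show vval c 0 (vsmul k v) = 1
        rw [vval_vsmul Z hF.mem hF.cen, show vval c 0 v = 1 from hvs v (by simp), one_zpow]
  intro i hi
  have h := hF.V_eq (lamE_ok i hi)
  rw [hcomb _ _ hone, hF.V_vunit, zpow_one] at h
  exact h.symm

end CfsgLib.Coset.Ly
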