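import Cfsg.Agent.Coset.Ly.Cover
import Cfsg.Agent.Coset.Ly.OutData
import Mathlib.GroupTheory.Sylow

/-!
Tools for the model of `G₂(5)`: fixed points, set stabilisers, inequalities, orders of joins.
-/

set_option autoImplicit false
set_option maxRecDepth 100000
set_option Elab.async false

namespace CfsgLib.Coset.Ly

section Kernel

/-- The image of a point number under a word. -/
noncomputable def mv (i : Nat) (w : List Nat) : Nat := ff (tget TP.Tb) i w

/-- Membership in a list of numbers. -/
noncomputable def memN (i : Nat) (s : List Nat) : Bool :=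
  List.rec false (fun r _ ih => cond (Nat.beq r i) true ih) s

/-- A word maps one listed set into another. -/
noncomputable def mapsN (w s s' : List Nat) : Bool := allList (fun i => memN (mv i w) s') s

/-- Two words differ at a base point. -/
noncomputable def neA (v w : List Nat) : Bool :=
  cond (lettersA v) (cond (lettersA w)
    (!(allList (fun b => Nat.beq (mv b v) (mv b w)) [0, 2455, 1980])) false) false

/-- The number of points fixed by a word. -/
noncomputable def fixN (w : List Nat) : Nat :=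
  ((List.range 3906).filter fun i => Nat.beq (mv i w) i).length

/-- Conjugates of generators by a word are in the subgroup generated by the listed words. -/
noncomputable def conjOK (g : List Nat) (us gens : List (List Nat)) (exprs : List (List Nat)) :
    Bool :=
  cond (Nat.beq us.length exprs.length)
    (allList (fun q : List Nat × List Nat => eqA (invW g ++ q.1 ++ g) (flatW gens q.2))
      (us.zip exprs)) false

end Kernel

theorem mem_of_memN {i : Nat} {s : List Nat} (h : memN i s = true) : i ∈ s := mem_of_rec h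

theorem memN_of_mem {i : Nat} : ∀ {s : List Nat}, i ∈ s → memN i s = true := by
  intro s
  induction s with
  | nil => simp
  | cons a t ih =>
    intro h
    show cond (Nat.beq a i) true (memN i t) = true
    cases hb : Nat.beq a i
    · rcases List.mem_cons.mp h with rfl | h
      · exact absurd rfl (Nat.ne_of_beq_eq_false hb)
      · exact ih h
    · rfl

theorem mv_eq {w : List Nat} (hw : ∀ l ∈ w, l < 18) (i : Fin 3906) :
    (((ρ (ev LA w))⁻¹ i : Fin 3906) : Nat) = mv i w := by
  rw [matches_ρ.follow_eq w i (len_LA.symm ▸ hw), mv, ff_eq]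

theorem mv_lt {w : List Nat} (hw : ∀ l ∈ w, l < 18) {i : Nat} (hi : i < 3906) : mv i w < 3906 := by
  have := mv_eq hw ⟨i, hi⟩
  rw [← this]; exact Fin.isLt _

theorem neA_sound {v w : List Nat} (h : neA v w = true) : ev LA v ≠ ev LA w := by
  unfold neA at h
  simp only [cond_false_eq_true, Bool.not_eq_true'] at h
  obtain ⟨hv, hw, hne⟩ := h
  intro e
  have : allList (fun b => Nat.beq (mv b v) (mv b w)) [0, 2455, 1980] = true := by
    refine allList_iff.mpr fun b hb => ?_
    have hb' : b < 3906 := (by decide : ∀ b ∈ [0, 2455, 1980], b < 3906) b hb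
    have h1 := mv_eq (of_lettersA hv) ⟨b, hb'⟩
    rw [e, mv_eq (of_lettersA hw) ⟨b, hb'⟩] at h1
    rw [show mv b v = mv b w from h1.symm]
    exact Nat.beq_refl _
  rw [this] at hne
  exact Bool.noConfusion hne

/-- The number of fixed points. -/
noncomputable def F (a : A) : Nat := Nat.card {i : Fin 3906 // ρ a i = i}

theorem F_ev {w : List Nat} (hw : ∀ l ∈ w, l < 18) : F (ev LA w) = fixN w := by
  have e : ∀ i : Fin 3906, ρ (ev LA w) i = i ↔ Nat.beq (mv i w) i = true := by
    intro i
    have h1 := mv_eq hw i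
    constructor
    · intro h
      have h2 : (ρ (ev LA w))⁻¹ i = i := by rw [Equiv.Perm.inv_def, Equiv.symm_apply_eq, h]
      rw [h2] at h1
      rw [← h1]; exact Nat.beq_refl _
    · intro h
      have h2 : (ρ (ev LA w))⁻¹ i = i := Fin.ext (h1.trans (Nat.eq_of_beq_eq_true h))
      rw [Equiv.Perm.inv_def, Equiv.symm_apply_eq] at h2
      exact h2.symm
  have h3 : ((List.range 3906).filter fun i => Nat.beq (mv i w) i).length =
      ((List.finRange 3906).filter fun i : Fin 3906 => Nat.beq (mv i w) i).length := by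
    rw [← List.map_coe_finRange_eq_range, List.filter_map, List.length_map]; rfl
  rw [F, fixN, h3, ← List.toFinset_card_of_nodup ((List.nodup_finRange _).filter _),
    Nat.card_eq_fintype_card, Fintype.card_subtype]
  congr 1
  ext i
  simp [e]

theorem F_conj (a g : A) : F (g * a * g⁻¹) = F a := by
  refine Nat.card_congr (Equiv.subtypeEquiv (ρ g)⁻¹ fun i => ?_)
  simp only [map_mul, map_inv, Equiv.Perm.mul_apply]
  constructor
  · intro h
    have := congrArg (fun j : Fin 3906 => ((ρ g)⁻¹ : Equiv.Perm (Fin 3906)) j) h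
    simpa using this
  · intro h
    rw [h]; simp

theorem fixed_of_zpowers {a b : A} (h : b ∈ Subgroup.zpowers a) {i : Fin 3906} (hi : ρ a i = i) :
    ρ b i = i :=
  ((Subgroup.zpowers_le (H := pstab ρ i)).mpr hi h : b ∈ pstab ρ i)

theorem F_eq_of_zpowers_eq {a b : A} (h : Subgroup.zpowers a = Subgroup.zpowers b) : F a = F b := by
  refine Nat.card_congr (Equiv.subtypeEquiv (Equiv.refl _) fun i => ?_)
  exact ⟨fixed_of_zpowers (h ▸ Subgroup.mem_zpowers b), fixed_of_zpowers (h.symm ▸ Subgroup.mem_zpowers a)⟩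

theorem zpowers_eq_of_mem_prime {G : Type*} [Group G] {a b : G} {p : ℕ} (hp : p.Prime)
    (ha : orderOf a = p) (hb : b ∈ Subgroup.zpowers a) (hb1 : b ≠ 1) :
    Subgroup.zpowers b = Subgroup.zpowers a := by
  have hle : Subgroup.zpowers b ≤ Subgroup.zpowers a := Subgroup.zpowers_le.mpr hb
  have : Finite (Subgroup.zpowers a) := Nat.finite_of_card_ne_zero (by
    rw [Nat.card_zpowers, ha]; exact hp.ne_zero)
  refine Subgroup.eq_of_le_of_card_ge hle ?_
  rw [Nat.card_zpowers, Nat.card_zpowers, ha]
  have hd : orderOf b ∣ p := by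
    rw [← ha, ← Nat.card_zpowers a]
    exact (Subgroup.card_dvd_of_le hle).trans dvd_rfl |> fun h => by rwa [Nat.card_zpowers] at h
  rcases (Nat.dvd_prime hp).mp hd with h | h
  · exact absurd (orderOf_eq_one_iff.mp h) hb1
  · omega

/-- The points of a list. -/
def ptSet (s : List Nat) : Set (Fin 3906) := {i | (i : Nat) ∈ s}

/-- The stabiliser of a set of points. -/
def setStab (S : Set (Fin 3906)) : Subgroup A where
  carrier := {g | ρ g '' S = S}
  one_mem' := by simp
  mul_mem' := fun {a b} ha hb => by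
    show ρ (a * b) '' S = S
    rw [map_mul, Equiv.Perm.coe_mul, Set.image_comp]
    rw [hb, ha]
  inv_mem' := fun {a} ha => by
    show ρ a⁻¹ '' S = S
    conv_lhs => rw [← ha]
    rw [← Set.image_comp, map_inv]
    ext y; simp

theorem mem_setStab_iff {S : Set (Fin 3906)} {g : A} : g ∈ setStab S ↔ ρ g '' S = S := Iff.rfl

theorem setStab_apply {S : Set (Fin 3906)} {g : A} (hg : g ∈ setStab S) {i : Fin 3906} :
    i ∈ S ↔ ρ g i ∈ S := by
  constructor
  · intro h; rw [← mem_setStab_iff.mp hg]; exact ⟨i, h, rfl⟩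
  · intro h
    rw [← mem_setStab_iff.mp hg] at h
    obtain ⟨j, hj, e⟩ := h
    rwa [← (ρ g).injective e]

theorem setStab_of_subset {S : Set (Fin 3906)} {g : A} (h : ρ g '' S ⊆ S) : g ∈ setStab S :=
  Set.eq_of_subset_of_ncard_le h (by rw [Set.ncard_image_of_injective _ (Equiv.injective _)])
    (Set.toFinite _)

theorem mapsN_sound {w s s' : List Nat} (hw : ∀ l ∈ w, l < 18) (h : mapsN w s s' = true) :
    ρ (ev LA w)⁻¹ '' ptSet s ⊆ ptSet s' := by
  rintro _ ⟨i, hi, rfl⟩
  show ((ρ (ev LA w)⁻¹ i : Fin 3906) : Nat) ∈ s'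
  rw [map_inv, mv_eq hw]
  exact mem_of_memN (allList_iff.mp h _ hi)

theorem ev_mem_setStab {w s : List Nat} (hw : ∀ l ∈ w, l < 18) (h : mapsN w s s = true) :
    ev LA w ∈ setStab (ptSet s) := by
  simpa using inv_mem (setStab_of_subset (mapsN_sound hw h))

theorem mem_normalizer_of_conj {X : Set A} {g : A}
    (h : ∀ x ∈ X, g⁻¹ * x * g ∈ Subgroup.closure X) :
    g ∈ Subgroup.normalizer (Subgroup.closure X : Set A) := by
  set S := Subgroup.closure X
  have hle : S.map (MulAut.conj g⁻¹).toMonoidHom ≤ S := by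
    rw [MonoidHom.map_closure]
    refine (Subgroup.closure_le _).mpr ?_
    rintro _ ⟨x, hx, rfl⟩
    simpa using h x hx
  have he : S.map (MulAut.conj g⁻¹).toMonoidHom = S :=
    Subgroup.eq_of_le_of_card_ge hle (by
      rw [Subgroup.card_map_of_injective (MulEquiv.injective _)])
  rw [Subgroup.mem_normalizer_iff]
  intro x
  constructor
  · intro hx
    rw [← he] at hx
    obtain ⟨y, hy, rfl⟩ := hx
    simpa [mul_assoc] using hy
  · intro hx
    have := hle ⟨_, hx, rfl⟩
    simpa [mul_assoc] using this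

theorem flatW_lt {gens : List (List Nat)} (h : ∀ w ∈ gens, ∀ l ∈ w, l < 18) :
    ∀ ids : List Nat, ∀ l ∈ flatW gens ids, l < 18 := by
  intro ids l hl
  simp only [flatW, List.mem_flatten, List.mem_map] at hl
  obtain ⟨w, ⟨i, -, rfl⟩, hlw⟩ := hl
  rcases lt_or_ge i gens.length with hi | hi
  · rw [List.getD_eq_getElem _ _ hi] at hlw; exact h _ (List.getElem_mem hi) l hlw
  · rw [List.getD_eq_default _ _ hi] at hlw; simp at hlw

theorem conjOK_normalizer {g : List Nat} {gens exprs : List (List Nat)} (hg : ∀ l ∈ g, l < 18)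
    (h : conjOK g gens gens exprs = true) :
    ev LA g ∈ Subgroup.normalizer (genW LA gens : Set A) := by
  refine mem_normalizer_of_conj ?_
  rintro _ ⟨w, hw, rfl⟩
  unfold conjOK at h
  rw [cond_false_eq_true] at h
  obtain ⟨i, hi, rfl⟩ := List.getElem_of_mem hw
  have hi' : i < exprs.length := Nat.eq_of_beq_eq_true h.1 ▸ hi
  have h2 := eqA_sound (allList_iff.mp h.2 (gens[i], exprs[i])
    (List.mem_iff_getElem.mpr ⟨i, by simp [hi, hi'], by simp⟩))
  rw [ev_append, ev_append, ev_invW_LA g hg] at h2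
  rw [h2]
  exact ev_flatW_mem gens _

theorem conjOK_mem {g : List Nat} {us gens exprs : List (List Nat)} (hg : ∀ l ∈ g, l < 18)
    (h : conjOK g us gens exprs = true) :
    ∀ u ∈ us, (ev LA g)⁻¹ * ev LA u * ev LA g ∈ genW LA gens := by
  unfold conjOK at h
  rw [cond_false_eq_true] at h
  intro u hu
  obtain ⟨i, hi, rfl⟩ := List.getElem_of_mem hu
  have hi' : i < exprs.length := Nat.eq_of_beq_eq_true h.1 ▸ hi
  have h2 := eqA_sound (allList_iff.mp h.2 (us[i], exprs[i])
    (List.mem_iff_getElem.mpr ⟨i, by simp [hi, hi'], by simp⟩))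
  rw [ev_append, ev_append, ev_invW_LA g hg] at h2
  rw [h2]
  exact ev_flatW_mem gens _

theorem card_sup_le (K N : Subgroup A) (h : K ≤ Subgroup.normalizer (N : Set A)) :
    Nat.card (K ⊔ N : Subgroup A) ≤ Nat.card K * Nat.card N := by
  rw [← Nat.card_prod]
  refine Nat.card_le_card_of_surjective
    (fun p : K × N => (⟨(p.1 : A) * p.2, mul_mem (Subgroup.mem_sup_left p.1.2)
      (Subgroup.mem_sup_right p.2.2)⟩ : (K ⊔ N : Subgroup A))) ?_
  rintro ⟨x, hx⟩
  have hx' : x ∈ (↑(K ⊔ N) : Set A) := hx
  rw [Subgroup.coe_mul_of_left_le_normalizer_right K N h] at hx'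
  obtain ⟨k, hk, m, hm, rfl⟩ := hx'
  exact ⟨(⟨k, hk⟩, ⟨m, hm⟩), rfl⟩

theorem genW_le {gens : List (List Nat)} {S : Subgroup A} (h : ∀ w ∈ gens, ev LA w ∈ S) :
    genW LA gens ≤ S := by
  refine (Subgroup.closure_le _).mpr ?_
  rintro _ ⟨w, hw, rfl⟩
  exact h w hw

theorem card_P_eq : Nat.card P = 1500000 := by
  have h := Subgroup.card_mul_index P
  rw [P_eq.1, card_and_injective.1] at h
  omega

end CfsgLib.Coset.Ly
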