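import Cfsg.Agent.Coset.Ly.OutFive
import Cfsg.Agent.Coset.Ly.Lower

/-!
Elements and subgroups of the model fixing a coset of the subgroup other than itself.
-/

set_option autoImplicit false
set_option maxRecDepth 100000
set_option Elab.async false

namespace CfsgLib.Coset.Ly

open Cfsg.Spor (Ly)

theorem index_stabN (hA : IsSimpleGroup A) :
    (frame_LG.stabN 1).index = 19530 ∧ (frame_LG.stabN 2).index = 968750 ∧
      (frame_LG.stabN 3).index = 5812500 ∧ (frame_LG.stabN 4).index = 2034375 := by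
  haveI := finite_Ly
  let _ := actA
  have hsub : (Set.univ : Set (Ly ⧸ frame_LG.H)) ⊆
      orbN 0 ∪ (orbN 1 ∪ (orbN 2 ∪ (orbN 3 ∪ orbN 4))) := by
    intro x _
    obtain ⟨n, hn⟩ := orbN_cover x
    fin_cases n <;> simp_all
  have h := Set.ncard_le_ncard hsub (Set.toFinite _)
  rw [Set.ncard_univ, ← Subgroup.index_eq_card, index_H hA] at h
  have u1 := Set.ncard_union_le (orbN 0) (orbN 1 ∪ (orbN 2 ∪ (orbN 3 ∪ orbN 4)))
  have u2 := Set.ncard_union_le (orbN 1) (orbN 2 ∪ (orbN 3 ∪ orbN 4))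
  have u3 := Set.ncard_union_le (orbN 2) (orbN 3 ∪ orbN 4)
  have u4 := Set.ncard_union_le (orbN 3) (orbN 4)
  have h0 : (orbN 0).ncard = 1 := by rw [orbN_zero, Set.ncard_singleton]
  have h1 := ncard_orbN 1
  have h2 := ncard_orbN 2
  have h3 := ncard_orbN 3
  have h4 := ncard_orbN 4
  have b : ∀ n : Fin 5, (frame_LG.stabN n).index ≤ [1, 19530, 968750, 5812500, 2034375].getD n 0 :=
    fun n => (Nat.le_of_dvd (Nat.pos_of_ne_zero Subgroup.index_ne_zero_of_finite)
      (Subgroup.index_dvd_of_le (frame_LG.St_le n.2))).trans (index_St_le n)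
  have b1 := b 1
  have b2 := b 2
  have b3 := b 3
  have b4 := b 4
  simp only [show ((1 : Fin 5) : ℕ) = 1 from rfl, show ((2 : Fin 5) : ℕ) = 2 from rfl,
    show ((3 : Fin 5) : ℕ) = 3 from rfl, show ((4 : Fin 5) : ℕ) = 4 from rfl,
    List.getD_cons_succ, List.getD_cons_zero] at h1 h2 h3 h4 b1 b2 b3 b4
  omega

theorem card_stabN (hA : IsSimpleGroup A) :
    Nat.card (frame_LG.stabN 1) = 300000 ∧ Nat.card (frame_LG.stabN 2) = 6048 ∧
      Nat.card (frame_LG.stabN 3) = 1008 ∧ Nat.card (frame_LG.stabN 4) = 2880 := by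
  obtain ⟨h1, h2, h3, h4⟩ := index_stabN hA
  have key : ∀ (n m : ℕ), (frame_LG.stabN n).index = m → Nat.card (frame_LG.stabN n) * m = 5859000000 := by
    intro n m h
    rw [← h, Subgroup.card_mul_index, card_and_injective.1]
  have a1 := key 1 _ h1
  have a2 := key 2 _ h2
  have a3 := key 3 _ h3
  have a4 := key 4 _ h4
  omega

/-- A coset other than the subgroup itself lies in a suborbit of a node other than the first. -/
theorem off_H {g : Ly} (hg : g ∉ frame_LG.H) :
    ∃ n, 1 ≤ n ∧ n ≤ 4 ∧ ∃ a : A, ∀ b : A, g * frame_LG.Ψ b * g⁻¹ ∈ frame_LG.H →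
      a * b * a⁻¹ ∈ frame_LG.stabN n := by
  obtain ⟨n, hn, a, ha⟩ := frame_LG.exists_node g
  have h1 : 1 ≤ n := by
    rcases Nat.eq_zero_or_pos n with rfl | h
    · exfalso
      apply hg
      rw [show nW 0 = [] from by decide +kernel, ev_nil, one_mul] at ha
      have : g * (frame_LG.Ψ a)⁻¹ * frame_LG.Ψ a ∈ frame_LG.H := mul_mem ha ⟨a, rfl⟩
      simpa using this
    · exact h
  refine ⟨n, h1, by omega, a, fun b hb => ?_⟩
  show frame_LG.Rel (ev LG (nW n) * frame_LG.Ψ (a * b * a⁻¹)) (ev LG (nW n))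
  have h2 : frame_LG.Rel (g * frame_LG.Ψ b) g := hb
  have h3 := frame_LG.rel_trans (frame_LG.rel_symm (frame_LG.rel_mul ha (frame_LG.Ψ b)))
    (frame_LG.rel_trans h2 ha)
  have h4 := frame_LG.rel_mul h3 (frame_LG.Ψ a)⁻¹
  simpa [map_mul, map_inv, mul_assoc] using h4

theorem nodes {n : ℕ} (h1 : 1 ≤ n) (h4 : n ≤ 4) : n = 1 ∨ n = 2 ∨ n = 3 ∨ n = 4 := by omega

/-- A subgroup of order 15625 fixes only the subgroup itself. -/
theorem sylow_fix (hA : IsSimpleGroup A) {S : Subgroup A} (hS : Nat.card S = 15625) {g : Ly}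
    (hg : ∀ b ∈ S, g * frame_LG.Ψ b * g⁻¹ ∈ frame_LG.H) : g ∈ frame_LG.H := by
  by_contra hne
  obtain ⟨n, h1, h4, a, ha⟩ := off_H hne
  have hle : S.map (MulAut.conj a).toMonoidHom ≤ frame_LG.stabN n := by
    rintro _ ⟨b, hb, rfl⟩
    simpa using ha b (hg b hb)
  have hd := Subgroup.card_dvd_of_le hle
  rw [Subgroup.card_map_of_injective (MulEquiv.injective _), hS] at hd
  obtain ⟨c1, c2, c3, c4⟩ := card_stabN hA
  rcases nodes h1 h4 with rfl | rfl | rfl | rfl <;> simp_all

theorem Q1_le_K0 : Q1 ≤ K0 := genW_le fun w hw => by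
  have key : ∀ w ∈ SQ.map (fun l => [l]), (∀ l ∈ w, l < 18) ∧ w.length = 1 ∧
      (w ∈ kgW ∨ w.map (fun x => Nat.xor x 1) ∈ kgW) := by decide +kernel
  obtain ⟨hlt, hlen, h | h⟩ := key w hw
  · exact ev_mem_genW h
  · match w, hlen with
    | [l], _ =>
      have := inv_mem (ev_mem_genW (L := LA) h)
      simp only [List.map_cons, List.map_nil, ev_cons, ev_nil, mul_one] at this ⊢
      rwa [inv_eq_of_mul_eq_one_left (pairsA l (hlt l (by simp))).2] at this

theorem K0_le_P : K0 ≤ P := genW_le fun w hw => by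
  refine mem_P_of_fix ?_
  have hlt : ∀ l ∈ w, l < 18 := (by decide +kernel : ∀ w ∈ kgW, ∀ l ∈ w, l < 18) w hw
  refine (matches_ρ.mem_pstab_iff pt0 (len_LA.symm ▸ hlt)).mpr ?_
  show follow (tget TP.Tb) 0 w = 0
  rw [← ff_eq]
  exact (by decide +kernel : ∀ w ∈ kgW, mv 0 w = 0) w hw

/-- A subgroup of order 3125 fixing another coset is conjugate to the radical. -/
theorem radical_fix (hA : IsSimpleGroup A) {S : Subgroup A} (hS : Nat.card S = 3125) {g : Ly}
    (hg : ∀ b ∈ S, g * frame_LG.Ψ b * g⁻¹ ∈ frame_LG.H) (hne : g ∉ frame_LG.H) :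
    ∃ a : A, ∀ b ∈ S, a * b * a⁻¹ ∈ Q1 := by
  obtain ⟨n, h1, h4, a, ha⟩ := off_H hne
  set S' := S.map (MulAut.conj a).toMonoidHom
  have hle : S' ≤ frame_LG.stabN n := by
    rintro _ ⟨b, hb, rfl⟩
    simpa using ha b (hg b hb)
  have hc : Nat.card S' = 3125 := by
    rw [Subgroup.card_map_of_injective (MulEquiv.injective _), hS]
  have hd := Subgroup.card_dvd_of_le hle
  rw [hc] at hd
  obtain ⟨c1, c2, c3, c4⟩ := card_stabN hA
  refine ⟨a, fun b hb => ?_⟩
  rcases nodes h1 h4 with rfl | rfl | rfl | rfl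
  · rw [T1_eq] at hle
    have hn : S' ≤ Subgroup.normalizer (Q1 : Set A) := fun x hx => Q1_normal_P (K0_le_P (hle hx))
    have hb1 := card_sup_le S' Q1 hn
    have hp : IsPGroup 5 (S' ⊔ Q1 : Subgroup A) :=
      (IsPGroup.of_card (n := 5) (by rw [hc]; norm_num) : IsPGroup 5 S').to_sup_of_normal_right'
        (IsPGroup.of_card (n := 5) (by rw [card_U.2.1]; norm_num)) hn
    haveI : Fact (Nat.Prime 5) := ⟨by norm_num⟩
    obtain ⟨k, hk⟩ := IsPGroup.iff_card.mp hp
    have hdv := Subgroup.card_dvd_of_le (sup_le hle Q1_le_K0)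
    rw [hk, card_K0] at hdv
    have hk5 : k ≤ 5 := by
      by_contra hgt
      have : 5 ^ 6 ∣ 300000 := (pow_dvd_pow 5 (by omega)).trans hdv
      norm_num at this
    have heq : Q1 = S' ⊔ Q1 := Subgroup.eq_of_le_of_card_ge le_sup_right (by
      rw [hk, card_U.2.1]
      calc 5 ^ k ≤ 5 ^ 5 := Nat.pow_le_pow_right (by norm_num) hk5
        _ = 3125 := by norm_num)
    rw [heq]
    exact Subgroup.mem_sup_left ⟨b, hb, by simp⟩
  all_goals simp_all

theorem x4_facts : eqA (x4W ++ x4W ++ x4W ++ x4W ++ x4W) [] = true ∧ neA x4W [] = true ∧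
    fixN x4W = 36 ∧ (∀ l ∈ x4W, l < 18) ∧ eqA (flatW cv4G [1, 2]) x4W = true := by decide +kernel

/-- An element of order 5 of the last node stabiliser fixes 36 points. -/
theorem stab4_five (hA : IsSimpleGroup A) {g : A} (hg : g ∈ frame_LG.stabN 4) (ho : orderOf g = 5) :
    F g = 36 := by
  obtain ⟨h5, hne, hfix, hlt, hex⟩ := x4_facts
  set S := frame_LG.stabN 4
  have hx : ev LA x4W ∈ S := by
    rw [← eqA_sound hex]
    exact frame_LG.St_le (n := 4) (by norm_num) (ev_flatW_mem cv4G _)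
  have : Fact (Nat.Prime 5) := ⟨by norm_num⟩
  have ox : orderOf (ev LA x4W) = 5 := by
    refine orderOf_eq_prime ?_ (by simpa using neA_sound hne)
    have := eqA_sound h5
    simp only [ev_append, ev_nil] at this
    rw [← this]; simp [pow_succ, mul_assoc]
  have hfact : (Nat.card S).factorization 5 = 1 := by
    rw [(card_stabN hA).2.2.2]
    have a : 1 ≤ (2880 : ℕ).factorization 5 :=
      (Nat.Prime.dvd_iff_one_le_factorization (by norm_num) (by norm_num)).mp (by norm_num)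
    have b : (2880 : ℕ).factorization 5 < 2 := by
      by_contra hb
      have : 25 ∣ 2880 := dvd_trans (pow_dvd_pow 5 (not_lt.mp hb)) (Nat.ordProj_dvd _ 5)
      norm_num at this
    omega
  let sy : ∀ x : A, x ∈ S → orderOf x = 5 → Sylow 5 S := fun x hx hox =>
    Sylow.ofCard (Subgroup.zpowers (⟨x, hx⟩ : S)) (by
      rw [Nat.card_zpowers, Subgroup.orderOf_mk, hox, hfact, pow_one])
  obtain ⟨d, hd⟩ := MulAction.exists_smul_eq S (sy _ hx ox) (sy g hg ho)
  have hmem : (⟨g, hg⟩ : S) ∈ ((d • sy _ hx ox : Sylow 5 S) : Subgroup S) := by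
    rw [hd]
    exact Subgroup.mem_zpowers _
  rw [Sylow.coe_subgroup_smul, Subgroup.mem_smul_pointwise_iff_exists] at hmem
  obtain ⟨y, hy, e⟩ := hmem
  obtain ⟨k, hk⟩ := Subgroup.mem_zpowers_iff.mp (hy : y ∈ Subgroup.zpowers (⟨_, hx⟩ : S))
  have hy' : (y : A) ∈ Subgroup.zpowers (ev LA x4W) :=
    Subgroup.mem_zpowers_iff.mpr ⟨k, by rw [← hk]; rfl⟩
  have e' : g = (d : A) * y * (d : A)⁻¹ := by simpa using (congrArg Subtype.val e).symm
  have hy1 : (y : A) ≠ 1 := fun h => by
    rw [h, mul_one, mul_inv_cancel] at e'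
    simp [e'] at ho
  rw [e', F_conj, F_eq_of_zpowers_eq (zpowers_eq_of_mem_prime (by norm_num) ox hy' hy1), F_ev hlt,
    hfix]

/-- An element without fixed points and an element of order 5 with the wrong number of fixed points
fix only the subgroup itself. -/
theorem pair_fix (hA : IsSimpleGroup A) {b c : A} (hb : ∀ i, ρ b i ≠ i) (hc : orderOf c = 5)
    (hF : F c ≠ 36) {g : Ly} (hgb : g * frame_LG.Ψ b * g⁻¹ ∈ frame_LG.H)
    (hgc : g * frame_LG.Ψ c * g⁻¹ ∈ frame_LG.H) : g ∈ frame_LG.H := by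
  by_contra hne
  obtain ⟨n, h1, h4, a, ha⟩ := off_H hne
  have hb' := ha b hgb
  have hc' := ha c hgc
  have ho : orderOf (a * c * a⁻¹) = 5 := by
    rw [show a * c * a⁻¹ = MulAut.conj a c from rfl, MulEquiv.orderOf_eq, hc]
  have hd : 5 ∣ Nat.card (frame_LG.stabN n) := by
    rw [← ho, ← Nat.card_zpowers]
    exact Subgroup.card_dvd_of_le (Subgroup.zpowers_le.mpr hc')
  obtain ⟨c1, c2, c3, c4⟩ := card_stabN hA
  rcases nodes h1 h4 with rfl | rfl | rfl | rfl
  · rw [T1_eq] at hb'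
    have h := P_fix (K0_le_P hb')
    rw [map_mul, map_mul, Equiv.Perm.mul_apply, Equiv.Perm.mul_apply, map_inv] at h
    refine hb ((ρ a)⁻¹ pt0) ?_
    refine (ρ a).injective ?_
    rw [h]
    exact (Equiv.apply_symm_apply _ _).symm
  · rw [c2] at hd; norm_num at hd
  · rw [c3] at hd; norm_num at hd
  · exact hF ((F_conj c a).symm.trans (stab4_five hA hc' ho))

/-- Any element normalising the subgroup normalised by `z` lies in it. -/
theorem normK_ok : ∀ i < 4, (normK.getD i (0, [])).1 < 8 ∧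
    checkExpr (kgW ++ [coR.getD (i + 1) [] ++ kgW.getD (normK.getD i (0, [])).1 [] ++
        invW (coR.getD (i + 1) [])]) (letP.map fun l => [l]) (normK.getD i (0, [])).2 = true := by
  decide +kernel

theorem normalizer_K0 : Subgroup.normalizer (K0 : Set A) ≤ K0 := by
  intro a ha
  have hK : ∀ k : A, k ∈ K0 → a * k * a⁻¹ ∈ K0 := fun k hk =>
    (Subgroup.mem_normalizer_iff.mp ha k).mp hk
  -- the fixed point
  have huniq : ∀ i < 3906, (∀ w ∈ kgW, mv i w = i) → i = 0 := by
    have h : allBelow 12 3906 (fun i =>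
        cond (allList (fun w => Nat.beq (mv i w) i) kgW) (Nat.beq i 0) true) = true := by
      decide +kernel
    intro i hi hw
    have h2 := of_allBelow h i hi
    rw [allList_iff.mpr fun w hw' => by rw [hw w hw']; exact Nat.beq_refl _, cond_true] at h2
    exact Nat.eq_of_beq_eq_true h2
  have hfix : ρ a⁻¹ pt0 = pt0 := Fin.ext (huniq _ (Fin.isLt _) fun w hw => by
    have hlt : ∀ l ∈ w, l < 18 := (by decide +kernel : ∀ w ∈ kgW, ∀ l ∈ w, l < 18) w hw
    have h := P_fix (K0_le_P (hK _ (inv_mem (ev_mem_genW hw))))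
    rw [← mv_eq hlt, ← map_inv]
    rw [map_mul, map_mul, Equiv.Perm.mul_apply, Equiv.Perm.mul_apply] at h
    refine congrArg Fin.val ((ρ a).injective ?_)
    rw [h]
    simp)
  have haP : a ∈ P := by
    rw [← inv_inv a]; exact inv_mem (mem_P_of_fix hfix)
  obtain ⟨r, hr, q, hq, rfl⟩ := P_cover haP
  obtain ⟨i, hi, rfl⟩ := List.getElem_of_mem hr
  rcases Nat.eq_zero_or_pos i with rfl | hpos
  · have : coR[0] = [] := rfl
    rw [this, ev_nil, one_mul]; exact hq
  · exfalso
    have hi4 : i - 1 < 4 := by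
      have : coR.length = 5 := by decide +kernel
      omega
    obtain ⟨hj, hex⟩ := normK_ok (i - 1) hi4
    rw [show i - 1 + 1 = i by omega] at hex
    set j := (normK.getD (i - 1) (0, [])).1
    have hrk : ev LA coR[i] * ev LA (kgW.getD j []) * (ev LA coR[i])⁻¹ ∈ K0 := by
      have hkg : ev LA (kgW.getD j []) ∈ K0 := by
        rw [List.getD_eq_getElem _ _ (by
          have : kgW.length = 8 := by decide +kernel
          omega)]
        exact ev_mem_genW (List.getElem_mem _)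
      have := hK _ (mul_mem (mul_mem (inv_mem hq) hkg) hq)
      simpa [mul_assoc] using this
    have hlt : ∀ i < 5, ∀ l ∈ coR.getD i [], l < 18 := by decide +kernel
    have hmem : ∀ w ∈ kgW ++ [coR.getD i [] ++ kgW.getD j [] ++ invW (coR.getD i [])],
        ev LA w ∈ K0 := by
      intro w hw
      rcases List.mem_append.mp hw with h | h
      · exact ev_mem_genW h
      · rw [List.mem_singleton.mp h, ev_append, ev_append, ev_invW_LA _ (hlt i (by omega)),
          List.getD_eq_getElem coR [] hi]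
        exact hrk
    have hPK : P ≤ K0 := genW_le fun w hw => genW_le hmem (mem_of_checkExpr hex w
      ((by decide +kernel : ∀ w ∈ TP.subs, w ∈ letP.map fun l => [l]) w hw))
    have := Subgroup.card_le_of_le hPK
    rw [card_P_eq, card_K0] at this
    omega

end CfsgLib.Coset.Ly
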