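import Cfsg.Agent.Coset.Ly.OutLines

/-!
An element of order 5 stabilising the line and commuting with the central element of order 4 does
not fix 36 points.
-/

set_option autoImplicit false
set_option maxRecDepth 100000
set_option Elab.async false

namespace CfsgLib.Coset.Ly

/-- Certificate: a line inside the fixed points of the central element through an outside point. -/
noncomputable def twoAt (e : Nat × List Nat) : Bool :=
  cond (lettersA e.2) (cond (Nat.beq (mv 0 e.2) e.1)
    (allList (fun s => cond (allList (fun i => Nat.beq (mv (mv i e.2) wW) (mv i e.2)) s)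
      (mapsN e.2 s lineM) true) linesP) false) false

/-- Every fixed point of the central element off the line is listed. -/
noncomputable def coverW (i : Nat) : Bool :=
  cond (Nat.beq (mv i wW) i) (cond (memN i lineL) true (memN i (toPt.map Prod.fst))) true

/-- A point is off the orbit of the special point. -/
noncomputable def offOrb (p : Nat) : Bool :=
  allList (fun j => !(Nat.beq (opt SOrbP j) p)) (List.range 625)

/-- Elements fixing the special point. -/
noncomputable def check25 (w : List Nat) : Bool :=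
  cond (neA (w ++ wW) (wW ++ w)) true (!(Nat.beq (fixN w) 36))

theorem two_ok : allList twoAt toPt = true := by decide +kernel

theorem coverW_ok : allBelow 12 3906 coverW = true := by decide +kernel

theorem offOrb_ok : ∀ p ∈ lineM, p = pointS ∨ offOrb p = true := by decide +kernel

theorem check25_ok : allList check25 stab25 = true := by decide +kernel

theorem wW_lt : ∀ l ∈ wW, l < 18 := tor_lt _ (by simp)

theorem nW2_facts : (∀ l ∈ nW2, l < 18) ∧ mapsN nW2 lineL lineM = true ∧
    mapsN nW2 lineM lineL = true := by decide +kernel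

theorem ptSet_ncard {s : List Nat} (hn : s.Nodup) (hb : ∀ i ∈ s, i < 3906) :
    (ptSet s).ncard = s.length := by
  rw [← Nat.card_coe_set_eq, Nat.card_congr
    ({ toFun := fun i => ⟨((i : Fin 3906) : Nat), i.2⟩
       invFun := fun x => ⟨⟨x.1, hb _ x.2⟩, x.2⟩
       left_inv := fun i => rfl
       right_inv := fun x => rfl } : ptSet s ≃ {x : Nat // x ∈ s})]
  rw [Nat.card_congr (hn.getEquiv s).symm, Nat.card_fin]

theorem card_lineSet : lineSet.ncard = 6 := by
  rw [lineSet, ptSet_ncard lineL_facts.2.1 lineL_facts.2.2.1, lineL_facts.2.2.2.2.2.1]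

theorem card_oppSet : oppSet.ncard = 6 := by
  rw [oppSet, ptSet_ncard lineL_facts.2.2.2.2.2.2 fun i hi => (lineL_facts.2.2.2.1 i hi).1,
    lineL_facts.2.2.2.2.1]

theorem wW_fix_of_opp {i : Fin 3906} (hi : i ∈ oppSet) : ρ (ev LA wW) i = i := by
  have h : mv i wW = i := (by decide +kernel : ∀ p ∈ lineM, mv p wW = p) i hi
  have h1 := mv_eq wW_lt i
  rw [h] at h1
  have h2 : (ρ (ev LA wW))⁻¹ i = i := Fin.ext h1
  rw [Equiv.Perm.inv_def, Equiv.symm_apply_eq] at h2
  exact h2.symm

theorem setStab_opp_of_comm {g : A} (hL : g ∈ setStab lineSet) (hc : Commute g (ev LA wW)) :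
    g ∈ setStab oppSet := by
  obtain ⟨hn, hn1, hn2⟩ := nW2_facts
  -- the image of the first line under the exchanging element
  have hm : ρ (ev LA nW2)⁻¹ '' lineSet = oppSet := Set.eq_of_subset_of_ncard_le (mapsN_sound hn hn1)
    (by rw [Set.ncard_image_of_injective _ (Equiv.injective _), card_lineSet, card_oppSet])
    (Set.toFinite _)
  have hfixw : ∀ i ∈ oppSet, ρ (ev LA wW) (ρ g i) = ρ g i := fun i hi => by
    rw [← Equiv.Perm.mul_apply, ← map_mul, ← hc.eq, map_mul, Equiv.Perm.mul_apply, wW_fix_of_opp hi]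
  obtain ⟨i₀, hi₀⟩ : oppSet.Nonempty := Set.nonempty_of_ncard_ne_zero (by rw [card_oppSet]; norm_num)
  have hoff : ρ g i₀ ∉ lineSet := fun h =>
    (lineL_facts.2.2.2.1 _ hi₀).2 ((setStab_apply hL).mpr h)
  set p := ρ g i₀
  obtain ⟨e, he, hep⟩ : ∃ e ∈ toPt, e.1 = (p : Nat) := by
    have h : coverW p = true := of_allBelow coverW_ok p p.2
    unfold coverW at h
    have h1 : Nat.beq (mv p wW) p = true := by
      have h1 := mv_eq wW_lt p
      rw [show (ρ (ev LA wW))⁻¹ p = p by
        rw [Equiv.Perm.inv_def, Equiv.symm_apply_eq, hfixw i₀ hi₀]] at h1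
      rw [← h1]; exact Nat.beq_refl _
    rw [h1, cond_true] at h
    cases h2 : memN p lineL
    · rw [h2, cond_false] at h
      obtain ⟨e, he, h3⟩ := List.mem_map.mp (mem_of_memN h)
      exact ⟨e, he, h3⟩
    · exact absurd (mem_of_memN h2) hoff
  have hte := allList_iff.mp two_ok e he
  unfold twoAt at hte
  simp only [cond_false_eq_true] at hte
  obtain ⟨hlt, h0, hlines⟩ := hte
  have hlt' := of_lettersA hlt
  have htp : ρ (ev LA e.2)⁻¹ pt0 = p := Fin.ext (by
    rw [map_inv, mv_eq hlt']; exact (Nat.eq_of_beq_eq_true h0).trans hep)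
  -- `g n` carries the first line to `g m`, which passes through `p`
  obtain ⟨q, hq, hqe⟩ : i₀ ∈ ρ (ev LA nW2)⁻¹ '' lineSet := hm ▸ hi₀
  obtain ⟨s, hs, -, -, hs0⟩ := move_line hq
  set h := ev LA e.2 * (g * (ev LA nW2)⁻¹ * s)
  have hP : h ∈ P := mem_P_of_fix (by
    have hp : ρ (g * (ev LA nW2)⁻¹ * s) pt0 = p := by
      simp only [map_mul, Equiv.Perm.mul_apply, hs0, hqe, p]
    show ρ (ev LA e.2 * _) pt0 = pt0
    rw [map_mul, Equiv.Perm.mul_apply, hp, ← htp, map_inv]
    exact Equiv.apply_symm_apply _ _)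
  obtain ⟨s', hs', himg⟩ := P_perm hP lineL_mem
  have hgm : ρ g '' oppSet = ρ (ev LA e.2)⁻¹ '' ptSet s' := by
    rw [← himg, ← Set.image_comp, ← Equiv.Perm.coe_mul, ← map_mul, inv_mul_cancel_left, map_mul,
      map_mul, Equiv.Perm.coe_mul, Equiv.Perm.coe_mul, Set.image_comp, Set.image_comp,
      show ρ s '' ptSet lineL = ptSet lineL from hs, hm]
  refine setStab_of_subset ?_
  rw [hgm]
  have hall : allList (fun i => Nat.beq (mv (mv i e.2) wW) (mv i e.2)) s' = true := by
    refine allList_iff.mpr fun i hi => ?_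
    have hib : i < 3906 := (by decide +kernel : ∀ s ∈ linesP, ∀ x ∈ s, x < 3906) s' hs' i hi
    have hmem : ρ (ev LA e.2)⁻¹ ⟨i, hib⟩ ∈ ρ g '' oppSet := hgm ▸ ⟨⟨i, hib⟩, hi, rfl⟩
    obtain ⟨j, hj, hje⟩ := hmem
    have h1 := hfixw j hj
    rw [hje] at h1
    have h2 := mv_eq wW_lt (ρ (ev LA e.2)⁻¹ ⟨i, hib⟩)
    rw [show (ρ (ev LA wW))⁻¹ (ρ (ev LA e.2)⁻¹ ⟨i, hib⟩) = ρ (ev LA e.2)⁻¹ ⟨i, hib⟩ by
      rw [Equiv.Perm.inv_def, Equiv.symm_apply_eq, h1], map_inv, mv_eq hlt'] at h2
    show Nat.beq (mv (mv i e.2) wW) (mv i e.2) = true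
    rw [← h2]; exact Nat.beq_refl _
  have hfin := allList_iff.mp hlines s' hs'
  rw [hall, cond_true] at hfin
  exact mapsN_sound hlt' hfin

theorem five_fix {g : A} (hL : g ∈ setStab lineSet) (hc : Commute g (ev LA wW))
    (ho : orderOf g = 5) : F g ≠ 36 := by
  have hM := setStab_opp_of_comm hL hc
  -- a fixed point on the line
  obtain ⟨q, hq, hfixq⟩ : ∃ q ∈ lineSet, ρ g q = q := by
    by_contra hno
    push Not at hno
    set Z := Subgroup.zpowers g
    have hcard : Nat.card Z = 5 := by rw [Nat.card_zpowers, ho]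
    have horb : ∀ i ∈ lineSet, (orb ρ Z i).ncard = 5 := by
      intro i hi
      have h := card_orb_mul (ρ := ρ) Z i
      rw [hcard] at h
      rcases (Nat.dvd_prime (by norm_num)).mp (Dvd.intro _ h) with h1 | h1
      · exfalso
        obtain ⟨a, ha⟩ := Set.ncard_eq_one.mp h1
        have e1 : i ∈ orb ρ Z i := self_mem_orb _ _
        have e2 : ρ g i ∈ orb ρ Z i := ⟨g, Subgroup.mem_zpowers g, rfl⟩
        rw [ha] at e1 e2
        exact hno i hi (e2.trans e1.symm)
      · exact h1
    have hsub : ∀ i ∈ lineSet, orb ρ Z i ⊆ lineSet := by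
      rintro i hi _ ⟨z, hz, rfl⟩
      exact (setStab_apply ((Subgroup.zpowers_le.mpr hL) hz)).mp hi
    obtain ⟨a, ha⟩ : lineSet.Nonempty := Set.nonempty_of_ncard_ne_zero (by rw [card_lineSet]; norm_num)
    obtain ⟨b, hb, hba⟩ := Set.exists_mem_notMem_of_ncard_lt_ncard
      (show (orb ρ Z a).ncard < lineSet.ncard by rw [horb a ha, card_lineSet]; norm_num)
      (Set.toFinite _)
    have hdis : Disjoint (orb ρ Z a) (orb ρ Z b) := by
      rw [Set.disjoint_left]
      rintro _ ⟨y, hy, rfl⟩ ⟨z, hz, e⟩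
      refine hba ⟨z⁻¹ * y, mul_mem (inv_mem hz) hy, ?_⟩
      rw [map_mul, Equiv.Perm.mul_apply, ← e, map_inv]
      exact Equiv.symm_apply_apply _ _
    have := (Set.ncard_union_eq hdis (Set.toFinite _) (Set.toFinite _)).symm.trans_le
      (Set.ncard_le_ncard (Set.union_subset (hsub a ha) (hsub b hb)) (Set.toFinite _))
    rw [horb a ha, horb b hb, card_lineSet] at this
    omega
  obtain ⟨s, hsL, hsM, hsw, hs0⟩ := move_line hq
  set g' := s⁻¹ * g * s
  have hF : F g' = F g := by simpa [g'] using F_conj g s⁻¹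
  have hg'L : g' ∈ setStab lineSet := mul_mem (mul_mem (inv_mem hsL) hL) hsL
  have hg'M : g' ∈ setStab oppSet := mul_mem (mul_mem (inv_mem hsM) hM) hsM
  have hg'c : Commute g' (ev LA wW) := ((hsw.inv_left).mul_left hc).mul_left hsw
  have hg'0 : ρ g' pt0 = pt0 := by
    simp only [g', map_mul, map_inv, Equiv.Perm.mul_apply, hs0, hfixq]
    rw [Equiv.Perm.inv_def, Equiv.symm_apply_eq, hs0]
  have hg'5 : g' ^ 5 = 1 := by
    have : g' = MulAut.conj s⁻¹ g := by simp [g']
    rw [this, ← map_pow, ← ho, pow_orderOf_eq_one, map_one]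
  have hgU : g' ∈ U := by
    have hN : g' ∈ Nor := Subgroup.mem_inf.mpr ⟨mem_P_of_fix hg'0, hg'L⟩
    have hUle : U ≤ Nor := le_inf U_le_P U_le_setStab
    have : (U.subgroupOf Nor).Normal := by
      rw [Subgroup.normal_subgroupOf_iff_le_normalizer hUle]
      exact Nor_normalizes
    have hidx : (U.subgroupOf Nor).index = 16 := by
      have h := (U.subgroupOf Nor).card_mul_index
      rw [Nat.card_congr (Subgroup.subgroupOfEquivOfLe hUle).toEquiv, card_U.1, Nor_eq.2] at h
      omega
    have h16 := Subgroup.pow_index_mem (U.subgroupOf Nor) (⟨g', hN⟩ : Nor)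
    rw [hidx, Subgroup.mem_subgroupOf] at h16
    have e : g' ^ 16 = g' := by
      rw [show 16 = 5 * 3 + 1 from rfl, pow_succ, pow_mul, hg'5, one_pow, one_mul]
    simpa [e] using h16
  have hfixS : ρ g' ptS = ptS := by
    have hmem : ρ g' ptS ∈ oppSet :=
      (setStab_apply hg'M).mp (show (ptS : Nat) ∈ lineM by decide +kernel)
    rcases offOrb_ok _ hmem with h | h
    · exact Fin.ext h
    · exfalso
      obtain ⟨j, hj, hje⟩ := orbit_ptS ⟨g', hgU, rfl⟩
      have h2 := allList_iff.mp h j (List.mem_range.mpr hj)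
      rw [hje] at h2
      simp at h2
  obtain ⟨w, hw, hgw⟩ := stab25_cases hgU hfixS
  have hk := allList_iff.mp check25_ok w hw
  unfold check25 at hk
  cases hne : neA (w ++ wW) (wW ++ w)
  · rw [hne, cond_false, Bool.not_eq_true'] at hk
    intro h36
    have hlt : ∀ l ∈ w, l < 18 := fun l hl => by
      have := stab25_mem w hw l hl
      simp only [List.mem_cons, List.not_mem_nil, or_false] at this
      omega
    rw [← hF, hgw, F_ev hlt] at h36
    rw [h36] at hk
    exact Bool.noConfusion ((Nat.beq_refl 36).symm.trans hk)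
  · exfalso
    refine neA_sound hne ?_
    rw [ev_append, ev_append, ← hgw]
    exact hg'c.eq

end CfsgLib.Coset.Ly
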