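import Cfsg.Agent.Coset.Ly.OutBase

/-!
Subgroups of the model used for the automorphisms: a Sylow 5-subgroup, two radicals, a torus.
-/

set_option autoImplicit false
set_option maxRecDepth 100000
set_option Elab.async false

namespace CfsgLib.Coset.Ly

/-- A Sylow 5-subgroup of the model. -/
noncomputable def U : Subgroup A := genW LA upG

/-- The radical of the parabolic subgroup. -/
noncomputable def Q1 : Subgroup A := genW LA (SQ.map fun l => [l])

/-- The second radical. -/
noncomputable def Q2 : Subgroup A := genW LA qG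

/-- The torus. -/
noncomputable def Tor : Subgroup A := genW LA [wW, tauW]

/-- The first line. -/
abbrev lineSet : Set (Fin 3906) := ptSet lineL

/-- The opposite line. -/
abbrev oppSet : Set (Fin 3906) := ptSet lineM

theorem upG_lt : ∀ w ∈ upG, ∀ l ∈ w, l < 18 := by decide +kernel

theorem mem_U {w : List Nat} (hw : w ∈ upG) : ev LA w ∈ U := ev_mem_genW hw

theorem letter_mem_U {l : Nat} (hl : l ∈ [2, 3, 4, 5, 10, 11, 12, 13, 14, 15, 16, 17]) :
    fl LA l ∈ U := by
  have key : ∀ l ∈ [2, 3, 4, 5, 10, 11, 12, 13, 14, 15, 16, 17],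
      [l] ∈ upG ∨ ([Nat.xor l 1] ∈ upG ∧ l < 18) := by decide +kernel
  rcases key l hl with h | ⟨h, h18⟩
  · simpa using mem_U h
  · have := inv_mem (mem_U h)
    rw [ev_cons, ev_nil, mul_one] at this
    rwa [← (inv_eq_of_mul_eq_one_left (pairsA l h18).2 : (fl LA (Nat.xor l 1))⁻¹ = fl LA l)]

theorem word_mem_U {w : List Nat} (hw : ∀ l ∈ w, l ∈ [2, 3, 4, 5, 10, 11, 12, 13, 14, 15, 16, 17]) :
    ev LA w ∈ U := by
  induction w with
  | nil => simp
  | cons x w ih => rw [ev_cons]; exact mul_mem (letter_mem_U (hw x (by simp))) (ih fun y hy => hw y (by simp [hy]))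

theorem Q1_le_U : Q1 ≤ U := genW_le fun w hw =>
  word_mem_U ((by decide +kernel : ∀ w ∈ SQ.map (fun l => [l]), ∀ l ∈ w,
    l ∈ [2, 3, 4, 5, 10, 11, 12, 13, 14, 15, 16, 17]) w hw)

theorem card_Q1_le : Nat.card Q1 ≤ 3125 := by
  refine le_trans ?_ card_genBy_SQ.2
  have := card_genBy_SQ.1
  refine Subgroup.card_le_of_le (genW_le fun w hw => ?_)
  obtain ⟨l, hl, rfl⟩ := List.mem_map.mp hw
  exact ev_mem_genBy SQ (by simpa using hl)

/-- The conjugation certificate of a letter of the parabolic subgroup. -/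
noncomputable def conjQok (i : Nat) : Bool :=
  allList (fun q : List Nat × List Nat =>
      cond (allList (fun l => memN l SQ) q.2)
        (eqA (invW [letP.getD i 0] ++ q.1 ++ [letP.getD i 0]) q.2) false)
    ([[4], [10], [12], [14], [16]].zip (conjQ.getD i []))

theorem conjQ_ok : ∀ i < 14, conjQok i = true ∧ (conjQ.getD i []).length = 5 := by decide +kernel

theorem Q1_normal_P {g : A} (hg : g ∈ P) : g ∈ Subgroup.normalizer (Q1 : Set A) := by
  suffices h : P ≤ Subgroup.normalizer (Q1 : Set A) from h hg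
  refine genW_le fun w hw => ?_
  obtain ⟨i, hi, rfl⟩ : ∃ i < 14, [letP.getD i 0] = w :=
    (by decide +kernel : ∀ w ∈ TP.subs, ∃ i < 14, [letP.getD i 0] = w) w hw
  have hlt : ∀ i < 14, ∀ l ∈ [letP.getD i 0], l < 18 := by decide +kernel
  obtain ⟨h, hlen⟩ := conjQ_ok i hi
  set g := ev LA [letP.getD i 0]
  have hmem : ∀ u ∈ [[4], [10], [12], [14], [16]], g⁻¹ * ev LA u * g ∈ Q1 := by
    intro u hu
    obtain ⟨j, hj, rfl⟩ := List.getElem_of_mem hu
    have hj' : j < (conjQ.getD i []).length := by rw [hlen]; exact hj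
    have h2 := allList_iff.mp h ([[4], [10], [12], [14], [16]][j], (conjQ.getD i [])[j])
      (List.mem_iff_getElem.mpr ⟨j, by rw [List.length_zip, hlen]; exact lt_min hj hj, by simp⟩)
    rw [cond_false_eq_true] at h2
    have h3 := eqA_sound h2.2
    rw [ev_append, ev_append, ev_invW_LA _ (hlt i hi)] at h3
    rw [h3]
    have h4 : ∀ l ∈ (conjQ.getD i [])[j], [l] ∈ SQ.map (fun l => [l]) := fun l hl =>
      List.mem_map.mpr ⟨l, mem_of_memN (allList_iff.mp h2.1 l hl), rfl⟩
    generalize (conjQ.getD i [])[j] = v at h4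
    induction v with
    | nil => simp
    | cons x v ih =>
      rw [ev_cons]
      refine mul_mem ?_ (ih fun l hl => h4 l (by simp [hl]))
      simpa [Q1] using ev_mem_genW (L := LA) (h4 x (by simp))
  refine mem_normalizer_of_conj ?_
  rintro _ ⟨u, hu, rfl⟩
  have key : ∀ u ∈ SQ.map (fun l => [l]), u ∈ [[4], [10], [12], [14], [16]] ∨
      ((u.map fun x => Nat.xor x 1) ∈ [[4], [10], [12], [14], [16]] ∧ (∀ l ∈ u, l < 18) ∧
        u.length = 1) := by decide +kernel
  rcases key u hu with h1 | ⟨h1, h2, h3⟩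
  · exact hmem u h1
  · match u, h3 with
    | [l], _ =>
      have := inv_mem (hmem _ h1)
      simp only [List.map_cons, List.map_nil, ev_cons, ev_nil, mul_one, mul_inv_rev, inv_inv] at this
      rw [(inv_eq_of_mul_eq_one_left (pairsA l (h2 l (by simp))).2 :
        (fl LA (Nat.xor l 1))⁻¹ = fl LA l)] at this
      simpa [Q1, genW, mul_assoc] using this

theorem U_le_P : U ≤ P := genW_le fun w hw =>
  ev_mem_genW ((by decide +kernel : ∀ w ∈ upG, w ∈ TP.subs) w hw)

theorem pow_five_b : ev LA [2] ^ 5 = 1 ∧ ev LA [10] ^ 5 = 1 := by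
  have h1 := eqA_sound (by decide +kernel : eqA [2, 2, 2, 2, 2] [] = true)
  have h2 := eqA_sound (by decide +kernel : eqA [10, 10, 10, 10, 10] [] = true)
  simp only [ev_cons, ev_nil, mul_one] at h1 h2
  constructor
  · rw [← h1]; simp [pow_succ, mul_assoc]
  · rw [← h2]; simp [pow_succ, mul_assoc]

theorem card_zpowers_le_five {a : A} (h : a ^ 5 = 1) : Nat.card (Subgroup.zpowers a) ≤ 5 := by
  rw [Nat.card_zpowers]
  exact Nat.le_of_dvd (by norm_num) (orderOf_dvd_of_pow_eq_one h)

theorem card_U_le : Nat.card U ≤ 5 * Nat.card Q1 := by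
  have hn : Subgroup.zpowers (ev LA [2]) ≤ Subgroup.normalizer (Q1 : Set A) :=
    Subgroup.zpowers_le.mpr (Q1_normal_P (U_le_P (mem_U (by decide +kernel))))
  have hle : U ≤ Subgroup.zpowers (ev LA [2]) ⊔ Q1 := genW_le fun w hw => by
    rcases (by decide +kernel : ∀ w ∈ upG, w = [2] ∨ w ∈ SQ.map (fun l => [l])) w hw with rfl | h
    · exact Subgroup.mem_sup_left (Subgroup.mem_zpowers _)
    · exact Subgroup.mem_sup_right (ev_mem_genW h)
  refine (Subgroup.card_le_of_le hle).trans ((card_sup_le _ _ hn).trans ?_)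
  exact Nat.mul_le_mul_right _ (card_zpowers_le_five pow_five_b.1)

/-- The 25 elements fixing a point. -/
def stab25 : List (List Nat) :=
  (List.range 25).map fun k =>
    (List.replicate (k / 5) (flatW upG (stabS.getD 0 []))).flatten ++
      (List.replicate (k % 5) (flatW upG (stabS.getD 1 []))).flatten

theorem stab25_ne : allList (fun i => allList (fun j =>
    cond (Nat.beq i j) true (neA (stab25.getD i []) (stab25.getD j []))) (List.range 25))
      (List.range 25) = true := by decide +kernel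

theorem stab25_fix : allList (fun w => cond (lettersA w) (Nat.beq (mv pointS w) pointS) false)
    stab25 = true := by decide +kernel

theorem stab25_mem : ∀ w ∈ stab25, ∀ l ∈ w, l ∈ [2, 3, 4, 5, 10, 11, 12, 13, 14, 15, 16, 17] := by
  decide +kernel

theorem sorb_ok : checkOrbit TP.Tb pointS 625 10 upG SOrbP SOrbInv = true := by decide +kernel

theorem sorb_closed : checkClosed TP.Tb 625 10 upG SOrbP SOrbInv = true := by decide +kernel

/-- The special point. -/
def ptS : Fin 3906 := ⟨1977, by norm_num⟩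

theorem ptS_val : (ptS : Nat) = pointS := rfl

theorem stab25_spec {k : Nat} (hk : k < 25) :
    ev LA (stab25.getD k []) ∈ U ⊓ pstab ρ ptS := by
  have hl : k < stab25.length := by
    have : stab25.length = 25 := by simp [stab25]
    omega
  rw [List.getD_eq_getElem _ _ hl]
  have hm := List.getElem_mem hl
  refine Subgroup.mem_inf.mpr ⟨word_mem_U (stab25_mem _ hm), ?_⟩
  have h := allList_iff.mp stab25_fix _ hm
  rw [cond_false_eq_true] at h
  rw [matches_ρ.mem_pstab_iff ptS (len_LA.symm ▸ of_lettersA h.1), ptS_val, ← ff_eq]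
  exact Nat.eq_of_beq_eq_true h.2

theorem stab25_inj : Function.Injective fun k : Fin 25 =>
    (⟨ev LA (stab25.getD k []), stab25_spec k.2⟩ : (U ⊓ pstab ρ ptS : Subgroup A)) := by
  intro i j h
  by_contra hne
  have h1 := allList_iff.mp (allList_iff.mp stab25_ne i (List.mem_range.mpr i.2)) j
    (List.mem_range.mpr j.2)
  cases hb : Nat.beq (i : Nat) j
  · rw [hb, cond_false] at h1
    exact neA_sound h1 (congrArg Subtype.val h)
  · exact hne (Fin.ext (Nat.eq_of_beq_eq_true hb))

theorem upG_letters : checkLetters LA.length upG = true := by rw [len_LA]; decide +kernel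

theorem card_U : Nat.card U = 15625 ∧ Nat.card Q1 = 3125 ∧
    Nat.card (U ⊓ pstab ρ ptS : Subgroup A) = 25 := by
  have h25 : 25 ≤ Nat.card (U ⊓ pstab ρ ptS : Subgroup A) := by
    simpa using Nat.card_le_card_of_injective _ stab25_inj
  have horb : 625 ≤ (orb ρ U ptS).ncard :=
    (matches_ρ.orbit_le (β := ptS) sorb_ok upG_letters fun w hw => mem_U hw).1
  have h := card_orb_mul (ρ := ρ) U ptS
  have hU := card_U_le
  have hQ := card_Q1_le
  have h1 : 625 * 25 ≤ Nat.card U := h ▸ Nat.mul_le_mul horb h25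
  refine ⟨by omega, by omega, ?_⟩
  nlinarith

theorem stab25_cases {g : A} (hg : g ∈ U) (hfix : ρ g ptS = ptS) :
    ∃ w ∈ stab25, g = ev LA w := by
  have hbij := (Nat.bijective_iff_injective_and_card _).mpr ⟨stab25_inj, by
    rw [Nat.card_fin, card_U.2.2]⟩
  obtain ⟨k, hk⟩ := hbij.2 ⟨g, Subgroup.mem_inf.mpr ⟨hg, hfix⟩⟩
  refine ⟨stab25.getD k [], ?_, (congrArg Subtype.val hk).symm⟩
  have hl : (k : Nat) < stab25.length := by simp [stab25]
  rw [List.getD_eq_getElem _ _ hl]; exact List.getElem_mem hl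

theorem orbit_ptS {i : Fin 3906} (hi : i ∈ orb ρ U ptS) :
    ∃ j < 625, opt SOrbP j = i := by
  have h := matches_ρ.orbit_subset (β := ptS) sorb_ok sorb_closed upG_letters (by norm_num)
  exact h hi

theorem qG_mem : ∀ w ∈ qG, ev LA w ∈ U := fun w hw =>
  word_mem_U ((by decide +kernel : ∀ w ∈ qG, ∀ l ∈ w,
    l ∈ [2, 3, 4, 5, 10, 11, 12, 13, 14, 15, 16, 17]) w hw)

theorem Q2_le_U : Q2 ≤ U := genW_le qG_mem

theorem qG_lt : ∀ w ∈ qG, ∀ l ∈ w, l < 18 := by decide +kernel

theorem card_Q2_ge : 3125 ≤ Nat.card Q2 := by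
  have hn : Subgroup.zpowers (ev LA [10]) ≤ Subgroup.normalizer (Q2 : Set A) :=
    Subgroup.zpowers_le.mpr (conjOK_normalizer (g := [10]) (exprs := conjE) (by simp)
      (by decide +kernel))
  have hmem : ∀ w ∈ qG ++ [[10]], ev LA w ∈ Subgroup.zpowers (ev LA [10]) ⊔ Q2 := by
    intro w hw
    rcases List.mem_append.mp hw with h | h
    · exact Subgroup.mem_sup_right (ev_mem_genW h)
    · rw [List.mem_singleton.mp h]; exact Subgroup.mem_sup_left (Subgroup.mem_zpowers _)
  have hexp : checkExpr (qG ++ [[10]]) upG exprU = true := by decide +kernel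
  have hle : U ≤ Subgroup.zpowers (ev LA [10]) ⊔ Q2 := genW_le fun w hw =>
    genW_le hmem (mem_of_checkExpr hexp w hw)
  have h := (Subgroup.card_le_of_le hle).trans ((card_sup_le _ _ hn).trans
    (Nat.mul_le_mul_right _ (card_zpowers_le_five pow_five_b.2)))
  rw [card_U.1] at h
  omega

theorem tor_lt : ∀ w ∈ [wW, tauW], ∀ l ∈ w, l < 18 := by decide +kernel

theorem tor_normalizes : Tor ≤ Subgroup.normalizer (U : Set A) := genW_le fun w hw => by
  rcases (by simpa using hw : w = wW ∨ w = tauW) with rfl | rfl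
  · exact conjOK_normalizer (exprs := conjT.getD 0 []) (tor_lt _ hw) (by decide +kernel)
  · exact conjOK_normalizer (exprs := conjT.getD 1 []) (tor_lt _ hw) (by decide +kernel)

/-- The elements of the torus. -/
def torList : List (List Nat) :=
  (List.range 16).map fun k =>
    (List.replicate (k / 4) wW).flatten ++ (List.replicate (k % 4) tauW).flatten

theorem torList_ne : allList (fun i => allList (fun j =>
    cond (Nat.beq i j) true (neA (torList.getD i []) (torList.getD j []))) (List.range 16))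
      (List.range 16) = true := by decide +kernel

theorem tor_relations : eqA (wW ++ tauW) (tauW ++ wW) = true ∧
    eqA (wW ++ wW ++ wW ++ wW) [] = true ∧ eqA (tauW ++ tauW ++ tauW ++ tauW) [] = true := by
  decide +kernel

theorem ev_replicate (w : List Nat) : ∀ k : Nat, ev LA (List.replicate k w).flatten = ev LA w ^ k := by
  intro k
  induction k with
  | zero => simp
  | succ k ih => rw [List.replicate_succ, List.flatten_cons, ev_append, ih, pow_succ']

theorem ev_torList {k : Nat} (hk : k < 16) :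
    ev LA (torList.getD k []) = ev LA wW ^ (k / 4) * ev LA tauW ^ (k % 4) := by
  simp only [torList, List.getD_eq_getElem?_getD, List.getElem?_map, List.getElem?_range hk,
    Option.map_some, Option.getD_some, ev_append, ev_replicate]

theorem tor_pow : ev LA wW ^ 4 = 1 ∧ ev LA tauW ^ 4 = 1 ∧
    Commute (ev LA wW) (ev LA tauW) := by
  obtain ⟨h1, h2, h3⟩ := tor_relations
  have e1 := eqA_sound h1
  have e2 := eqA_sound h2
  have e3 := eqA_sound h3
  simp only [ev_append, ev_nil] at e1 e2 e3
  refine ⟨?_, ?_, e1⟩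
  · rw [← e2]; simp [pow_succ, mul_assoc]
  · rw [← e3]; simp [pow_succ, mul_assoc]

theorem tor_cases {g : A} (hg : g ∈ Tor) : ∃ k < 16, g = ev LA (torList.getD k []) := by
  obtain ⟨hw, ht, hc⟩ := tor_pow
  have hform : ∀ g ∈ Tor, ∃ i j : ℤ, g = ev LA wW ^ i * ev LA tauW ^ j := by
    intro g hg
    induction hg using Subgroup.closure_induction with
    | mem x hx =>
      obtain ⟨w, hw', rfl⟩ := hx
      rcases (by simpa using hw' : w = wW ∨ w = tauW) with rfl | rfl
      · exact ⟨1, 0, by simp⟩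
      · exact ⟨0, 1, by simp⟩
    | one => exact ⟨0, 0, by simp⟩
    | mul x y _ _ hx hy =>
      obtain ⟨i, j, rfl⟩ := hx
      obtain ⟨k, l, rfl⟩ := hy
      refine ⟨i + k, j + l, ?_⟩
      rw [zpow_add, zpow_add, mul_assoc, ← mul_assoc (ev LA tauW ^ j),
        ((hc.symm.zpow_zpow j k)).eq]
      simp only [mul_assoc]
    | inv x _ hx =>
      obtain ⟨i, j, rfl⟩ := hx
      exact ⟨-i, -j, by rw [mul_inv_rev, ← zpow_neg, ← zpow_neg, ((hc.symm.zpow_zpow _ _)).eq]⟩
  obtain ⟨i, j, rfl⟩ := hform g hg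
  have red : ∀ (a : A), a ^ 4 = 1 → ∀ i : ℤ, ∃ n < 4, a ^ i = a ^ n := by
    intro a ha i
    refine ⟨(i % 4).toNat, by omega, ?_⟩
    rw [← zpow_natCast a (i % 4).toNat, Int.toNat_of_nonneg (Int.emod_nonneg _ (by norm_num)),
      Int.emod_def, zpow_sub, zpow_mul, show a ^ (4 : ℤ) = 1 by exact_mod_cast ha]
    simp
  obtain ⟨n, hn, en⟩ := red _ hw i
  obtain ⟨m, hm, em⟩ := red _ ht j
  refine ⟨4 * n + m, by omega, ?_⟩
  rw [ev_torList (by omega), en, em, show (4 * n + m) / 4 = n by omega,
    show (4 * n + m) % 4 = m by omega]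

theorem torList_mem {k : Nat} (hk : k < 16) : ev LA (torList.getD k []) ∈ Tor := by
  rw [ev_torList hk]
  exact mul_mem (pow_mem (ev_mem_genW (by simp)) _) (pow_mem (ev_mem_genW (by simp)) _)

theorem card_Tor : Nat.card Tor = 16 := by
  let f : Fin 16 → Tor := fun k => ⟨ev LA (torList.getD k []), torList_mem k.2⟩
  have hinj : Function.Injective f := by
    intro i j h
    by_contra hne
    have h1 := allList_iff.mp (allList_iff.mp torList_ne i (List.mem_range.mpr i.2)) j
      (List.mem_range.mpr j.2)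
    cases hb : Nat.beq (i : Nat) j
    · rw [hb, cond_false] at h1
      exact neA_sound h1 (congrArg Subtype.val h)
    · exact hne (Fin.ext (Nat.eq_of_beq_eq_true hb))
  have hsur : Function.Surjective f := by
    rintro ⟨g, hg⟩
    obtain ⟨k, hk, rfl⟩ := tor_cases hg
    exact ⟨⟨k, hk⟩, rfl⟩
  rw [← Nat.card_eq_of_bijective f ⟨hinj, hsur⟩, Nat.card_fin]

theorem isPGroup_U : IsPGroup 5 U := IsPGroup.of_card (n := 6) (by rw [card_U.1]; norm_num)

end CfsgLib.Coset.Ly
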