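import Cfsg.Agent.Coset.Ly.OutGroups

/-!
Lines in the action on 3906 points: the normaliser of the Sylow subgroup, elements of orders 3, 4
and 5 in the stabiliser of a line.
-/

set_option autoImplicit false
set_option maxRecDepth 100000
set_option Elab.async false

namespace CfsgLib.Coset.Ly

open Subgroup (zpowers)
open scoped Pointwise

section Kernel

/-- Words of the Sylow subgroup separating points off the line. -/
def sepW : List (List Nat) := [[], [2], [3], [2, 2], [4], [5], [10], [11], [12], [13], [14], [15],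
  [16], [17], [2, 4], [2, 10], [2, 12], [2, 14], [4, 10], [12, 14], [4, 12]]

/-- The list has at least `n` values that are distinct from each other and from those seen. -/
noncomputable def distinctAtLeast (l : List Nat) : Nat → List Nat → Bool :=
  List.rec (fun n _ => Nat.beq n 0)
    (fun a _ ih n seen => cond (Nat.beq n 0) true
      (cond (memN a seen) (ih n seen) (ih (Nat.sub n 1) (a :: seen)))) l

/-- A point off the line has a large orbit under the Sylow subgroup. -/
noncomputable def sepAt (i : Nat) : Bool :=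
  cond (memN i lineL) true (distinctAtLeast (sepW.map fun w => mv i w) 6 [])

/-- Only the first point is fixed by the Sylow subgroup. -/
noncomputable def fixU (i : Nat) : Bool :=
  cond (allList (fun w => Nat.beq (mv i w) i) upG) (Nat.beq i 0) true

end Kernel

theorem sep_ok : allBelow 12 3906 sepAt = true := by decide +kernel

theorem fixU_ok : allBelow 12 3906 fixU = true := by decide +kernel

/-- The first point. -/
def pt0 : Fin 3906 := ⟨0, by norm_num⟩

theorem lineL_facts : (0 ∈ lineL) ∧ lineL.Nodup ∧ (∀ i ∈ lineL, i < 3906) ∧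
    (∀ i ∈ lineM, i < 3906 ∧ i ∉ lineL) ∧ lineM.length = 6 ∧ lineL.length = 6 ∧ lineM.Nodup := by
  decide +kernel

theorem P_fix {g : A} (hg : g ∈ P) : ρ g pt0 = pt0 := by rw [P_eq.2] at hg; exact hg

theorem mem_P_of_fix {g : A} (hg : ρ g pt0 = pt0) : g ∈ P := by rw [P_eq.2]; exact hg

theorem fixed_by_U {i : Fin 3906} (h : ∀ g ∈ U, ρ g i = i) : i = pt0 := by
  have h1 : allList (fun w => Nat.beq (mv i w) i) upG = true := by
    refine allList_iff.mpr fun w hw => ?_
    have h2 := mv_eq (upG_lt w hw) i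
    rw [← map_inv, h _ (inv_mem (mem_U hw))] at h2
    rw [← h2]; exact Nat.beq_refl _
  have h3 : fixU i = true := of_allBelow fixU_ok i i.2
  unfold fixU at h3
  rw [h1, cond_true] at h3
  exact Fin.ext (Nat.eq_of_beq_eq_true h3)

theorem distinctAtLeast_sound : ∀ (l : List Nat) (n : Nat) (seen : List Nat),
    distinctAtLeast l n seen = true →
      ∃ d : List Nat, d.Nodup ∧ d.length = n ∧ ∀ x ∈ d, x ∈ l ∧ x ∉ seen := by
  intro l
  induction l with
  | nil =>
    intro n seen h
    exact ⟨[], List.nodup_nil, (Nat.eq_of_beq_eq_true h).symm, by simp⟩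
  | cons a t ih =>
    intro n seen h
    change cond (Nat.beq n 0) true
      (cond (memN a seen) (distinctAtLeast t n seen) (distinctAtLeast t (Nat.sub n 1) (a :: seen)))
      = true at h
    cases hn : Nat.beq n 0
    · rw [hn, cond_false] at h
      cases hm : memN a seen
      · rw [hm, cond_false] at h
        obtain ⟨d, hd, hlen, hsub⟩ := ih _ _ h
        refine ⟨a :: d, List.nodup_cons.mpr ⟨fun ha => (hsub a ha).2 (by simp), hd⟩, ?_, ?_⟩
        · rw [List.length_cons, hlen]
          show n - 1 + 1 = n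
          have := Nat.ne_of_beq_eq_false hn
          omega
        · intro x hx
          rcases List.mem_cons.mp hx with rfl | hx
          · refine ⟨by simp, fun h' => ?_⟩
            rw [memN_of_mem h'] at hm
            exact Bool.noConfusion hm
          · exact ⟨by simp [(hsub x hx).1], fun h' => (hsub x hx).2 (by simp [h'])⟩
      · rw [hm, cond_true] at h
        obtain ⟨d, hd, hlen, hsub⟩ := ih _ _ h
        exact ⟨d, hd, hlen, fun x hx => ⟨by simp [(hsub x hx).1], (hsub x hx).2⟩⟩
    · exact ⟨[], List.nodup_nil, (Nat.eq_of_beq_eq_true hn).symm, by simp⟩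

theorem small_orbit {i : Fin 3906} (h : (orb ρ U i).ncard ≤ 5) : i ∈ lineSet := by
  have h3 : sepAt i = true := of_allBelow sep_ok i i.2
  unfold sepAt at h3
  cases hm : memN i lineL
  · rw [hm, cond_false] at h3
    exfalso
    obtain ⟨d, hnd, hlen, hsub⟩ := distinctAtLeast_sound _ _ _ h3
    have hsub' : ∀ x ∈ d, ∃ j ∈ orb ρ U i, (j : Nat) = x := by
      intro x hx
      obtain ⟨w, hw, rfl⟩ := List.mem_map.mp (hsub x hx).1
      have hl : ∀ l ∈ w, l ∈ [2, 3, 4, 5, 10, 11, 12, 13, 14, 15, 16, 17] ∧ l < 18 :=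
        (by decide +kernel : ∀ w ∈ sepW, ∀ l ∈ w,
          l ∈ [2, 3, 4, 5, 10, 11, 12, 13, 14, 15, 16, 17] ∧ l < 18) w hw
      exact ⟨_, ⟨(ev LA w)⁻¹, inv_mem (word_mem_U fun l hl' => (hl l hl').1), rfl⟩,
        by rw [map_inv, mv_eq fun l hl' => (hl l hl').2]⟩
    choose f hf hfe using hsub'
    have hinj : Function.Injective (fun k : Fin d.length =>
        (⟨f _ (List.getElem_mem k.2), hf _ _⟩ : orb ρ U i)) := by
      intro a b e
      have e' := congrArg (fun z : orb ρ U i => ((z : Fin 3906) : Nat)) e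
      simp only [hfe] at e'
      exact Fin.ext ((List.Nodup.getElem_inj_iff hnd).mp e')
    have := Nat.card_le_card_of_injective _ hinj
    rw [Nat.card_fin, Nat.card_coe_set_eq] at this
    omega
  · exact mem_of_memN hm

theorem U_le_setStab : U ≤ setStab lineSet := genW_le fun w hw =>
  ev_mem_setStab (upG_lt w hw) ((by decide +kernel : ∀ w ∈ upG, mapsN w lineL lineL = true) w hw)

theorem tor_le : Tor ≤ P ⊓ setStab lineSet := genW_le fun w hw => by
  have hlt := tor_lt w hw
  refine Subgroup.mem_inf.mpr ⟨mem_P_of_fix ?_, ev_mem_setStab hlt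
    ((by decide +kernel : ∀ w ∈ [wW, tauW], mapsN w lineL lineL = true) w hw)⟩
  refine (matches_ρ.mem_pstab_iff pt0 (len_LA.symm ▸ hlt)).mpr ?_
  show follow (tget TP.Tb) 0 w = 0
  rw [← ff_eq]
  exact (by decide +kernel : ∀ w ∈ [wW, tauW], mv 0 w = 0) w hw

theorem P_perm {g : A} (hg : g ∈ P) {s : List Nat} (hs : s ∈ linesP) :
    ∃ s' ∈ linesP, ρ g '' ptSet s = ptSet s' := by
  let Fam : Set (Set (Fin 3906)) := {S | ∃ s ∈ linesP, ptSet s = S}
  have hfin : Fam.Finite := Set.toFinite _
  let K : Subgroup A :=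
    { carrier := {g | (fun S => ρ g '' S) '' Fam = Fam}
      one_mem' := by simp
      mul_mem' := fun {a b} ha hb => by
        show (fun S => ρ (a * b) '' S) '' Fam = Fam
        have e : (fun S : Set (Fin 3906) => ρ (a * b) '' S) =
            (fun S => ρ a '' S) ∘ (fun S => ρ b '' S) := by
          funext S; simp [Set.image_image]
        rw [e, Set.image_comp, hb, ha]
      inv_mem' := fun {a} ha => by
        show (fun S => ρ a⁻¹ '' S) '' Fam = Fam
        conv_lhs => rw [← ha]
        rw [Set.image_image]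
        simp [Set.image_image] }
  have hgen : P ≤ K := genW_le fun w hw => by
    rw [← inv_mem_iff]
    have hlt : ∀ l ∈ w, l < 18 := (by decide +kernel : ∀ w ∈ TP.subs, ∀ l ∈ w, l < 18) w hw
    have hchk := (by decide +kernel : ∀ w ∈ TP.subs, ∀ s ∈ linesP, ∃ s' ∈ linesP,
      mapsN w s s' = true ∧ s'.Nodup ∧ s'.length = 6 ∧ s.Nodup ∧ s.length = 6 ∧
        (∀ i ∈ s, i < 3906) ∧ ∀ i ∈ s', i < 3906) w hw
    have card6 : ∀ s : List Nat, s.Nodup → s.length = 6 → (∀ i ∈ s, i < 3906) →
        (ptSet s).ncard = 6 := by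
      intro s hn hl hlt'
      rw [← Nat.card_coe_set_eq, Nat.card_congr
        ({ toFun := fun i => ⟨((i : Fin 3906) : Nat), i.2⟩
           invFun := fun x => ⟨⟨x.1, hlt' _ x.2⟩, x.2⟩
           left_inv := fun i => rfl
           right_inv := fun x => rfl } : ptSet s ≃ {x : Nat // x ∈ s})]
      rw [Nat.card_congr (hn.getEquiv s).symm, Nat.card_fin, hl]
    refine Set.eq_of_subset_of_ncard_le ?_ ?_ hfin
    · rintro _ ⟨_, ⟨s, hs, rfl⟩, rfl⟩
      obtain ⟨s', hs', hm, hn', hl', hn, hl, hb, hb'⟩ := hchk s hs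
      refine ⟨s', hs', (Set.eq_of_subset_of_ncard_le (mapsN_sound hlt hm) ?_ (Set.toFinite _)).symm⟩
      rw [Set.ncard_image_of_injective _ (Equiv.injective _), card6 s hn hl hb, card6 s' hn' hl' hb']
    · rw [Set.ncard_image_of_injective _ (Set.image_injective.mpr (Equiv.injective _))]
  obtain ⟨s', hs', e⟩ : ρ g '' ptSet s ∈ Fam := by
    have h := hgen hg
    change (fun S => ρ g '' S) '' Fam = Fam at h
    rw [← h]; exact ⟨_, ⟨s, hs, rfl⟩, rfl⟩
  exact ⟨s', hs', e.symm⟩

theorem lineL_mem : lineL ∈ linesP := by decide +kernel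

theorem line_meet {s : List Nat} (hs : s ∈ linesP) {i : Nat} (hi : i ∈ s) (hl : i ∈ lineL)
    (h0 : i ≠ 0) : s = lineL :=
  (by decide +kernel : ∀ s ∈ linesP, ∀ i ∈ s, i ∈ lineL → i ≠ 0 → s = lineL) s hs i hi hl h0

/-- The intersection of the two stabilisers. -/
noncomputable def Nor : Subgroup A := P ⊓ setStab lineSet

theorem card_Nor_le : 6 * Nat.card Nor ≤ 1500000 := by
  have hmv : ∀ i < 6, (∀ l ∈ moveP.getD i [], l < 18) ∧
      mapsN (moveP.getD i []) lineL (linesP.getD i []) = true ∧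
      Nat.beq (mv 0 (moveP.getD i [])) 0 = true := by decide +kernel
  have hdiff : ∀ i < 6, ∀ j < 6, i = j ∨ ∃ x ∈ linesP.getD i [], x < 3906 ∧
      x ∉ linesP.getD j [] := by decide +kernel
  have hPmem : ∀ i < 6, (ev LA (moveP.getD i []))⁻¹ ∈ P := fun i hi => inv_mem (mem_P_of_fix (by
    obtain ⟨h1, -, h3⟩ := hmv i hi
    refine (matches_ρ.mem_pstab_iff pt0 (len_LA.symm ▸ h1)).mpr ?_
    show follow (tget TP.Tb) 0 _ = 0
    rw [← ff_eq]; exact Nat.eq_of_beq_eq_true h3))
  have himg : ∀ i < 6, ρ (ev LA (moveP.getD i []))⁻¹ '' lineSet = ptSet (linesP.getD i []) := by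
    intro i hi
    obtain ⟨h1, h2, -⟩ := hmv i hi
    obtain ⟨s', hs', e⟩ := P_perm (hPmem i hi) lineL_mem
    have hsub : ptSet s' ⊆ ptSet (linesP.getD i []) := e ▸ mapsN_sound h1 h2
    have key : ∀ s' ∈ linesP, ∀ i < 6, (∀ x ∈ s', x ∈ linesP.getD i []) → s' = linesP.getD i [] := by
      decide +kernel
    have hb : ∀ x ∈ s', x < 3906 := (by decide +kernel : ∀ s ∈ linesP, ∀ x ∈ s, x < 3906) s' hs'
    rw [e, key s' hs' i hi fun x hx => hsub (a := ⟨x, hb x hx⟩) hx]
  let f : Fin 6 → P ⧸ Nor.subgroupOf P := fun i => QuotientGroup.mk ⟨_, hPmem i i.2⟩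
  have hinj : Function.Injective f := by
    intro i j h
    by_contra hne
    have h2 : (ev LA (moveP.getD i []))⁻¹⁻¹ * (ev LA (moveP.getD j []))⁻¹ ∈ setStab lineSet := by
      have := QuotientGroup.eq.mp h
      exact (Subgroup.mem_inf.mp this).2
    have h3 : ρ (ev LA (moveP.getD j []))⁻¹ '' lineSet = ρ (ev LA (moveP.getD i []))⁻¹ '' lineSet := by
      conv_rhs => rw [← mem_setStab_iff.mp h2]
      rw [← Set.image_comp, ← Equiv.Perm.coe_mul, ← map_mul, inv_inv, ← mul_assoc, inv_mul_cancel,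
        one_mul]
    rw [himg _ i.2, himg _ j.2] at h3
    obtain ⟨x, hx, hx39, hnx⟩ := (hdiff i i.2 j j.2).resolve_left fun e => hne (Fin.ext e)
    exact hnx (show (⟨x, hx39⟩ : Fin 3906) ∈ ptSet (linesP.getD j []) by rw [h3]; exact hx)
  have h6 := Nat.card_le_card_of_injective f hinj
  rw [Nat.card_fin] at h6
  have hcard : Nat.card (Nor.subgroupOf P) = Nat.card Nor :=
    Nat.card_congr (Subgroup.subgroupOfEquivOfLe inf_le_left).toEquiv
  have := (Nor.subgroupOf P).index_mul_card
  rw [hcard, card_P_eq] at this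
  calc 6 * Nat.card Nor ≤ (Nor.subgroupOf P).index * Nat.card Nor := Nat.mul_le_mul_right _ h6
    _ = _ := this

theorem Nor_eq : Nor = U ⊔ Tor ∧ Nat.card Nor = 250000 := by
  have hle : U ⊔ Tor ≤ Nor := sup_le (le_inf U_le_P U_le_setStab) tor_le
  have h1 : Nat.card (U ⊔ Tor : Subgroup A) ≥ 250000 := by
    have a := Subgroup.card_dvd_of_le (le_sup_left : U ≤ U ⊔ Tor)
    have b := Subgroup.card_dvd_of_le (le_sup_right : Tor ≤ U ⊔ Tor)
    rw [card_U.1] at a
    rw [card_Tor] at b
    exact Nat.le_of_dvd Nat.card_pos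
      ((show Nat.Coprime 15625 16 by norm_num).mul_dvd_of_dvd_of_dvd a b)
  have h2 := card_Nor_le
  have h3 := Subgroup.card_le_of_le hle
  exact ⟨(Subgroup.eq_of_le_of_card_ge hle (by omega)).symm, by omega⟩

theorem Nor_normalizes : Nor ≤ Subgroup.normalizer (U : Set A) := by
  rw [Nor_eq.1]
  exact sup_le Subgroup.le_normalizer tor_normalizes

theorem normalizer_le_Nor : Subgroup.normalizer (U : Set A) ≤ Nor := by
  intro g hg
  have hconj : ∀ u ∈ U, g⁻¹ * u * g ∈ U := fun u hu => by
    have := (Subgroup.mem_normalizer_iff.mp (inv_mem hg) u).mp hu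
    simpa using this
  have h0 : ρ g pt0 = pt0 := fixed_by_U fun u hu => by
    have h := P_fix (U_le_P (hconj u hu))
    rw [map_mul, map_mul, Equiv.Perm.mul_apply, Equiv.Perm.mul_apply, map_inv,
      Equiv.Perm.inv_def, Equiv.symm_apply_eq] at h
    exact h
  refine Subgroup.mem_inf.mpr ⟨mem_P_of_fix h0, setStab_of_subset ?_⟩
  rintro _ ⟨i, hi, rfl⟩
  refine small_orbit ?_
  have hsub : orb ρ U (ρ g i) ⊆ ρ g '' orb ρ U i := by
    rintro _ ⟨u, hu, rfl⟩
    refine ⟨ρ (g⁻¹ * u * g) i, ⟨_, hconj u hu, rfl⟩, ?_⟩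
    simp [map_mul, map_inv]
  have horb : orb ρ U i ⊆ lineSet := by
    rintro _ ⟨u, hu, rfl⟩
    exact (setStab_apply (U_le_setStab hu)).mp hi
  have hc := (Set.ncard_le_ncard hsub (Set.toFinite _)).trans
    (le_of_eq (Set.ncard_image_of_injective _ (Equiv.injective _)))
  have hL : lineSet.ncard ≤ 6 := by
    rw [← Nat.card_coe_set_eq]
    refine (Nat.card_le_card_of_injective (fun x : lineSet => (⟨((x : Fin 3906) : Nat), x.2⟩ :
      {k : Nat // k ∈ lineL})) fun a b e => Subtype.ext (Fin.ext (congrArg Subtype.val e :))).trans ?_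
    rw [Nat.card_congr (lineL_facts.2.1.getEquiv lineL).symm, Nat.card_fin, lineL_facts.2.2.2.2.2.1]
  have hU := card_orb_mul (ρ := ρ) U i
  rw [card_U.1] at hU
  have hd : (orb ρ U i).ncard ∣ 5 ^ 6 := ⟨_, by rw [hU]; norm_num⟩
  have hle : (orb ρ U i).ncard ≤ 6 := (Set.ncard_le_ncard horb (Set.toFinite _)).trans hL
  obtain ⟨k, -, hk⟩ := (Nat.dvd_prime_pow (by norm_num)).mp hd
  have : (orb ρ U i).ncard ≤ 5 := by
    by_contra hgt
    have h6 : (orb ρ U i).ncard = 6 := by omega
    rw [h6] at hk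
    have : 6 ∣ 5 ^ 6 := h6 ▸ hd
    norm_num at this
  omega

theorem index_five_fixed {Q : Subgroup A} (hQ : Q ≤ U) (hc : Nat.card Q = 3125) {i : Fin 3906}
    (hi : ∀ q ∈ Q, ρ q i = i) : i ∈ lineSet := by
  refine small_orbit ?_
  have h := card_orb_mul (ρ := ρ) U i
  rw [card_U.1] at h
  have h2 : 3125 ≤ Nat.card (U ⊓ pstab ρ i : Subgroup A) :=
    hc ▸ Subgroup.card_le_of_le (le_inf hQ hi)
  nlinarith

theorem move_line {q : Fin 3906} (hq : q ∈ lineSet) :
    ∃ s : A, s ∈ setStab lineSet ∧ s ∈ setStab oppSet ∧ Commute s (ev LA wW) ∧ ρ s pt0 = q := by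
  obtain ⟨e, he, heq, hlt, h0, hL, hM, hc⟩ := (by decide +kernel : ∀ k ∈ lineL,
    ∃ e ∈ moveL, e.1 = k ∧ (∀ l ∈ e.2, l < 18) ∧ mv 0 e.2 = k ∧
      mapsN e.2 lineL lineL = true ∧ mapsN e.2 lineM lineM = true ∧
      eqA (e.2 ++ wW) (wW ++ e.2) = true) q hq
  refine ⟨(ev LA e.2)⁻¹, inv_mem (ev_mem_setStab hlt hL), inv_mem (ev_mem_setStab hlt hM), ?_, ?_⟩
  · have := eqA_sound hc
    rw [ev_append, ev_append] at this
    exact (show Commute _ _ from this).inv_left
  · exact Fin.ext (by rw [map_inv, mv_eq hlt]; exact h0)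

theorem card_stab_line : 3 ∣ Nat.card (setStab lineSet) ∧ ¬ 9 ∣ Nat.card (setStab lineSet) := by
  have h := card_orb_mul (ρ := ρ) (setStab lineSet) pt0
  have e : setStab lineSet ⊓ pstab ρ pt0 = Nor := by
    rw [Nor, P_eq.2, inf_comm]; rfl
  rw [e, Nor_eq.2] at h
  have hsub : orb ρ (setStab lineSet) pt0 ⊆ lineSet := by
    rintro _ ⟨g, hg, rfl⟩
    exact (setStab_apply hg).mp lineL_facts.1
  have hge : lineSet ⊆ orb ρ (setStab lineSet) pt0 := fun q hq => by
    obtain ⟨s, hs, -, -, hs0⟩ := move_line hq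
    exact ⟨s, hs, hs0⟩
  have h6 : lineSet.ncard = 6 := by
    rw [← Nat.card_coe_set_eq, Nat.card_congr
      ({ toFun := fun i => ⟨((i : Fin 3906) : Nat), i.2⟩
         invFun := fun x => ⟨⟨x.1, lineL_facts.2.2.1 _ x.2⟩, x.2⟩
         left_inv := fun i => rfl
         right_inv := fun x => rfl } : lineSet ≃ {x : Nat // x ∈ lineL})]
    rw [Nat.card_congr (lineL_facts.2.1.getEquiv lineL).symm, Nat.card_fin, lineL_facts.2.2.2.2.2.1]
  rw [Set.Subset.antisymm hsub hge, h6] at h
  rw [← h]; norm_num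

theorem t_facts : mapsN tW lineL lineL = true ∧ eqA (tW ++ tW ++ tW) [] = true ∧
    neA tW [] = true ∧ fixN tW = 0 ∧ (∀ l ∈ tW, l < 18) ∧ eqA (tW ++ wW) (wW ++ tW) = true := by
  decide +kernel

theorem order_three_fix {g : A} (hg : g ∈ setStab lineSet) (ho : orderOf g = 3) :
    ∀ i, ρ g i ≠ i := by
  obtain ⟨hL, h3, hne, hfix, hlt, -⟩ := t_facts
  have ht : ev LA tW ∈ setStab lineSet := ev_mem_setStab hlt hL
  have ot : orderOf (ev LA tW) = 3 := by
    have : Fact (Nat.Prime 3) := ⟨by norm_num⟩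
    refine orderOf_eq_prime ?_ (by simpa using neA_sound hne)
    have := eqA_sound h3
    simp only [ev_append, ev_nil] at this
    rw [← this]; simp [pow_succ, mul_assoc]
  have : Fact (Nat.Prime 3) := ⟨by norm_num⟩
  set S := setStab lineSet
  have hfact : (Nat.card S).factorization 3 = 1 := by
    obtain ⟨h1, h2⟩ := card_stab_line
    have a : 1 ≤ (Nat.card S).factorization 3 :=
      (Nat.Prime.dvd_iff_one_le_factorization (by norm_num) Nat.card_pos.ne').mp h1
    have b : (Nat.card S).factorization 3 < 2 := by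
      by_contra hb
      exact h2 (dvd_trans (pow_dvd_pow 3 (not_lt.mp hb)) (Nat.ordProj_dvd _ 3))
    omega
  let sy : ∀ x : A, x ∈ S → orderOf x = 3 → Sylow 3 S := fun x hx hox =>
    Sylow.ofCard (Subgroup.zpowers (⟨x, hx⟩ : S)) (by
      rw [Nat.card_zpowers, Subgroup.orderOf_mk, hox, hfact, pow_one])
  obtain ⟨c, hc⟩ := MulAction.exists_smul_eq S (sy _ ht ot) (sy g hg ho)
  have hmem : (⟨g, hg⟩ : S) ∈ ((c • sy _ ht ot : Sylow 3 S) : Subgroup S) := by
    rw [hc]
    exact Subgroup.mem_zpowers _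
  rw [Sylow.coe_subgroup_smul, Subgroup.mem_smul_pointwise_iff_exists] at hmem
  obtain ⟨y, hy, e⟩ := hmem
  have hy' : (y : A) ∈ Subgroup.zpowers (ev LA tW) := by
    obtain ⟨k, hk⟩ := Subgroup.mem_zpowers_iff.mp (hy : y ∈ Subgroup.zpowers (⟨_, ht⟩ : S))
    exact Subgroup.mem_zpowers_iff.mpr ⟨k, by rw [← hk]; rfl⟩
  have e' : g = (c : A) * y * (c : A)⁻¹ := by
    have := congrArg Subtype.val e
    simpa using this.symm
  have hy1 : (y : A) ≠ 1 := fun h => by
    rw [h, mul_one, mul_inv_cancel] at e'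
    simp [e'] at ho
  have hF : F g = 0 := by
    rw [e', F_conj, F_eq_of_zpowers_eq (zpowers_eq_of_mem_prime (by norm_num) ot hy' hy1),
      F_ev hlt, hfix]
  intro i hi
  have : IsEmpty {i : Fin 3906 // ρ g i = i} := (Nat.card_eq_zero.mp hF).resolve_right
    (fun h => not_finite_iff_infinite.mpr h inferInstance)
  exact this.false ⟨i, hi⟩

/-- Elements of the torus fixing three points of the line are powers of the central element. -/
noncomputable def torThree (k : Nat) : Bool :=
  cond (Nat.ble 3 ((lineL.filter fun i => Nat.beq (mv i (torList.getD k [])) i).length))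
    (List.rec false (fun j _ ih => cond (eqA (torList.getD k []) (List.replicate j wW).flatten) true ih)
      [0, 1, 2, 3]) true

theorem torThree_ok : allList torThree (List.range 16) = true := by decide +kernel

theorem tor_comm_three {g s : A} (hg : g ∈ Tor) (hs : s ∈ setStab lineSet) (ho : orderOf s = 3)
    (hc : Commute g s) : ∃ j < 4, g = ev LA wW ^ j := by
  obtain ⟨k, hk, rfl⟩ := tor_cases hg
  have hfix : ∀ m : Nat, ρ (ev LA (torList.getD k [])) (ρ (s ^ m) pt0) = ρ (s ^ m) pt0 := by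
    intro m
    rw [← Equiv.Perm.mul_apply, ← map_mul, (hc.pow_right m).eq, map_mul, Equiv.Perm.mul_apply,
      P_fix (Subgroup.mem_inf.mp (tor_le hg)).1]
  have hlt : ∀ l ∈ torList.getD k [], l < 18 :=
    (by decide +kernel : ∀ k < 16, ∀ l ∈ torList.getD k [], l < 18) k hk
  have hin : ∀ m : Nat, (ρ (s ^ m) pt0 : Nat) ∈
      lineL.filter fun i => Nat.beq (mv i (torList.getD k [])) i := by
    intro m
    refine List.mem_filter.mpr ⟨(setStab_apply (pow_mem hs m)).mp lineL_facts.1, ?_⟩
    have h1 := mv_eq hlt (ρ (s ^ m) pt0)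
    rw [show (ρ (ev LA (torList.getD k [])))⁻¹ (ρ (s ^ m) pt0) = ρ (s ^ m) pt0 by
      rw [Equiv.Perm.inv_def, Equiv.symm_apply_eq, hfix m]] at h1
    rw [← h1]; exact Nat.beq_refl _
  have h3 : 3 ≤ (lineL.filter fun i => Nat.beq (mv i (torList.getD k [])) i).length := by
    have hinj : Function.Injective fun m : Fin 3 => (⟨(ρ (s ^ (m : Nat)) pt0 : Nat), hin m⟩ :
        {i : Nat // i ∈ lineL.filter fun i => Nat.beq (mv i (torList.getD k [])) i}) := by
      intro a b e
      have e' : ρ (s ^ (a : Nat)) pt0 = ρ (s ^ (b : Nat)) pt0 := Fin.ext (congrArg Subtype.val e :)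
      rcases Nat.lt_trichotomy (a : Nat) b with h | h | h
      · exfalso
        have hm : orderOf (s ^ ((b : Nat) - a)) = 3 := by
          rw [Nat.Coprime.orderOf_pow]
          · exact ho
          · rw [ho]; rcases (show (b : Nat) - a = 1 ∨ (b : Nat) - a = 2 by omega) with e | e <;> rw [e] <;> decide
        refine order_three_fix (pow_mem hs _) hm pt0 ?_
        have : s ^ (b : Nat) = s ^ (a : Nat) * s ^ ((b : Nat) - a) := by
          rw [← pow_add]; congr 1; omega
        rw [this, map_mul, Equiv.Perm.mul_apply] at e'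
        exact ((ρ _).injective e').symm
      · exact Fin.ext h
      · exfalso
        have hm : orderOf (s ^ ((a : Nat) - b)) = 3 := by
          rw [Nat.Coprime.orderOf_pow]
          · exact ho
          · rw [ho]; rcases (show (a : Nat) - b = 1 ∨ (a : Nat) - b = 2 by omega) with e | e <;> rw [e] <;> decide
        refine order_three_fix (pow_mem hs _) hm pt0 ?_
        have : s ^ (a : Nat) = s ^ (b : Nat) * s ^ ((a : Nat) - b) := by
          rw [← pow_add]; congr 1; omega
        rw [this, map_mul, Equiv.Perm.mul_apply] at e'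
        exact (ρ _).injective e'
    have := Nat.card_le_card_of_injective _ hinj
    rwa [Nat.card_fin, Nat.card_congr ((lineL_facts.2.1.filter _).getEquiv _).symm,
      Nat.card_fin] at this
  have h := allList_iff.mp torThree_ok k (List.mem_range.mpr hk)
  unfold torThree at h
  rw [Nat.ble_eq.mpr h3, cond_true] at h
  revert h
  simp only
  intro h
  have hev : ∀ j, eqA (torList.getD k []) (List.replicate j wW).flatten = true →
      ev LA (torList.getD k []) = ev LA wW ^ j := fun j hj => by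
    rw [eqA_sound hj, ev_replicate]
  cases h0 : eqA (torList.getD k []) (List.replicate 0 wW).flatten
  · rw [h0, cond_false] at h
    cases h1 : eqA (torList.getD k []) (List.replicate 1 wW).flatten
    · rw [h1, cond_false] at h
      cases h2 : eqA (torList.getD k []) (List.replicate 2 wW).flatten
      · rw [h2, cond_false] at h
        cases h3' : eqA (torList.getD k []) (List.replicate 3 wW).flatten
        · rw [h3', cond_false] at h; simp at h
        · exact ⟨3, by norm_num, hev 3 h3'⟩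
      · exact ⟨2, by norm_num, hev 2 h2⟩
    · exact ⟨1, by norm_num, hev 1 h1⟩
  · exact ⟨0, by norm_num, hev 0 h0⟩

end CfsgLib.Coset.Ly
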