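import Cfsg.Agent.Coset.Ly.OutCosets
import Cfsg.Prelude.Def_KGroupFacts

/-!
Every automorphism of the Lyons group is inner, given that the model of `G₂(5)` is simple and has no
outer automorphisms.
-/

set_option autoImplicit false
set_option maxRecDepth 100000
set_option Elab.async false

namespace CfsgLib.Coset.Ly

open Cfsg.Spor (Ly)
open scoped Pointwise commutatorElement

/-- The automorphism carries the first element of the model to the second. -/
def Img (α : MulAut Ly) (a b : A) : Prop := α (frame_LG.Ψ a) = frame_LG.Ψ b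

variable {α : MulAut Ly}

theorem Img.one : Img α 1 1 := by simp [Img]

theorem Img.mul {a b a' b' : A} (h : Img α a b) (h' : Img α a' b') : Img α (a * a') (b * b') := by
  simp only [Img, map_mul] at *; rw [h, h']

theorem Img.inv {a b : A} (h : Img α a b) : Img α a⁻¹ b⁻¹ := by
  simp only [Img, map_inv] at *; rw [h]

theorem Img.unique (hA : IsSimpleGroup A) {a b b' : A} (h : Img α a b) (h' : Img α a b') : b = b' :=
  Ψ_injective hA (h.symm.trans h')

theorem Img.unique' (hA : IsSimpleGroup A) {a a' b : A} (h : Img α a b) (h' : Img α a' b) : a = a' :=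
  Ψ_injective hA (α.injective (h.trans h'.symm))

theorem Img.orderOf_eq (hA : IsSimpleGroup A) {a b : A} (h : Img α a b) : orderOf b = orderOf a := by
  rw [← orderOf_injective frame_LG.Ψ (Ψ_injective hA) b, ← h, MulEquiv.orderOf_eq,
    orderOf_injective frame_LG.Ψ (Ψ_injective hA)]

theorem Img.commute (hA : IsSimpleGroup A) {a b a' b' : A} (h : Img α a b) (h' : Img α a' b')
    (hc : Commute a a') : Commute b b' := (h.mul h').unique hA (hc.eq ▸ h'.mul h)

/-- The elements whose images lie in a given subgroup. -/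
def pullImg (α : MulAut Ly) (S : Subgroup A) : Subgroup A where
  carrier := {a | ∃ b ∈ S, Img α a b}
  one_mem' := ⟨1, one_mem _, Img.one⟩
  mul_mem' := by rintro _ _ ⟨b, hb, h⟩ ⟨b', hb', h'⟩; exact ⟨_, mul_mem hb hb', h.mul h'⟩
  inv_mem' := by rintro _ ⟨b, hb, h⟩; exact ⟨_, inv_mem hb, h.inv⟩

theorem card_U_map (hA : IsSimpleGroup A) : Nat.card (U.map frame_LG.Ψ : Subgroup Ly) = 15625 := by
  rw [Subgroup.card_map_of_injective (Ψ_injective hA), card_U.1]

theorem normalizes_U (hA : IsSimpleGroup A) {g : Ly}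
    (hg : ∀ u ∈ U.map frame_LG.Ψ, g * u * g⁻¹ ∈ U.map frame_LG.Ψ) :
    ∃ a ∈ Nor, frame_LG.Ψ a = g := by
  have hgH : g ∈ frame_LG.H := sylow_fix hA card_U.1 fun b hb => by
    obtain ⟨y, -, e⟩ := hg _ ⟨b, hb, rfl⟩
    exact ⟨y, e⟩
  obtain ⟨a, rfl⟩ := hgH
  refine ⟨a, normalizer_le_Nor ?_, rfl⟩
  have hle : U.map (MulAut.conj a).toMonoidHom ≤ U := by
    rintro _ ⟨b, hb, rfl⟩
    obtain ⟨y, hy, e⟩ := hg _ ⟨b, hb, rfl⟩
    rw [← map_inv, ← map_mul, ← map_mul] at e
    rw [← Ψ_injective hA e.symm] at hy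
    simpa using hy
  have he := Subgroup.eq_of_le_of_card_ge hle
    (by rw [Subgroup.card_map_of_injective (MulEquiv.injective _)])
  rw [Subgroup.mem_normalizer_iff]
  intro b
  constructor
  · intro hb; exact hle ⟨b, hb, by simp⟩
  · intro hb
    rw [← he] at hb
    obtain ⟨y, hy, e⟩ := hb
    have : y = b := by simpa using e
    exact this ▸ hy

theorem fact_two : (250000 : ℕ).factorization 2 = 4 := by
  have : Fact (Nat.Prime 2) := ⟨by norm_num⟩
  rw [Nat.factorization_def _ (by norm_num)]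
  rw [show 250000 = 2 ^ 4 * 15625 by norm_num, padicValNat.mul (by norm_num) (by norm_num),
    padicValNat.prime_pow, padicValNat.eq_zero_of_not_dvd (by norm_num)]

/-- After an inner correction an automorphism preserves the Sylow subgroup and its torus. -/
theorem exists_adjust (hA : IsSimpleGroup A) (α : MulAut Ly) :
    ∃ g : Ly, (∀ a ∈ U, ∃ b ∈ U, Img (MulAut.conj g * α) a b) ∧
      ∀ a ∈ Tor, ∃ b ∈ Tor, Img (MulAut.conj g * α) a b := by
  haveI := finite_Ly
  have : Fact (Nat.Prime 5) := ⟨by norm_num⟩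
  have : Fact (Nat.Prime 2) := ⟨by norm_num⟩
  have hf5 : (Nat.card Ly).factorization 5 = 6 := by
    rw [card_Ly hA, Nat.factorization_def _ (by norm_num),
      show 51765179004000000 = 5 ^ 6 * 3312971456256 by norm_num,
      padicValNat.mul (by norm_num) (by norm_num), padicValNat.prime_pow,
      padicValNat.eq_zero_of_not_dvd (by norm_num)]
  let S₁ : Sylow 5 Ly := Sylow.ofCard (U.map frame_LG.Ψ) (by rw [card_U_map hA, hf5]; norm_num)
  let S₂ : Sylow 5 Ly := Sylow.ofCard ((U.map frame_LG.Ψ).map α.toMonoidHom) (by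
    rw [Subgroup.card_map_of_injective α.injective, card_U_map hA, hf5]; norm_num)
  obtain ⟨g₁, hg₁⟩ := MulAction.exists_smul_eq Ly S₂ S₁
  set α₁ := MulAut.conj g₁ * α
  have h₁ : (U.map frame_LG.Ψ).map α₁.toMonoidHom = U.map frame_LG.Ψ := by
    have e := congrArg (fun P : Sylow 5 Ly => (P : Subgroup Ly)) hg₁
    simp only [Sylow.coe_subgroup_smul] at e
    have e' : MulAut.conj g₁ • (U.map frame_LG.Ψ).map α.toMonoidHom = U.map frame_LG.Ψ := e
    conv_rhs => rw [← e']
    ext x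
    simp only [Subgroup.mem_smul_pointwise_iff_exists, Subgroup.mem_map]
    constructor
    · rintro ⟨y, hy, rfl⟩; exact ⟨α y, ⟨y, hy, rfl⟩, rfl⟩
    · rintro ⟨_, ⟨y, hy, rfl⟩, rfl⟩; exact ⟨y, hy, rfl⟩
  have hTor : ∀ a ∈ Tor, ∃ b ∈ Nor, Img α₁ a b := by
    intro a ha
    obtain ⟨b, hb, e⟩ := normalizes_U hA (g := α₁ (frame_LG.Ψ a)) (fun u hu => by
      rw [← h₁] at hu
      obtain ⟨y, hy, rfl⟩ := hu
      obtain ⟨c, hc, rfl⟩ := hy
      rw [← h₁]
      refine ⟨frame_LG.Ψ (a * c * a⁻¹), ⟨_, ?_, rfl⟩, by simp⟩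
      exact (Subgroup.mem_normalizer_iff.mp (tor_normalizes ha) c).mp hc)
    exact ⟨b, hb, e.symm⟩
  let T' : Subgroup A :=
    { carrier := {b | ∃ a ∈ Tor, Img α₁ a b}
      one_mem' := ⟨1, one_mem _, Img.one⟩
      mul_mem' := by rintro _ _ ⟨a, ha, h⟩ ⟨a', ha', h'⟩; exact ⟨_, mul_mem ha ha', h.mul h'⟩
      inv_mem' := by rintro _ ⟨a, ha, h⟩; exact ⟨_, inv_mem ha, h.inv⟩ }
  have hT'N : T' ≤ Nor := fun b ⟨a, ha, h⟩ => by
    obtain ⟨b', hb', h'⟩ := hTor a ha
    rwa [h.unique hA h']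
  have hT'c : Nat.card T' = 16 := by
    choose f hfN hf using hTor
    rw [← card_Tor]
    refine (Nat.card_eq_of_bijective (fun a : Tor => (⟨f a a.2, a, a.2, hf a a.2⟩ : T')) ⟨?_, ?_⟩).symm
    · intro a a' e
      have e' : f a a.2 = f a' a'.2 := congrArg Subtype.val e
      exact Subtype.ext ((hf a a.2).unique' hA (e' ▸ hf a' a'.2))
    · rintro ⟨b, a, ha, h⟩
      exact ⟨⟨a, ha⟩, Subtype.ext ((hf a ha).unique hA h)⟩
  have hTN : Tor ≤ Nor := fun a ha => Subgroup.mem_inf.mpr (Subgroup.mem_inf.mp (tor_le ha))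
  let P₁ : Sylow 2 Nor := Sylow.ofCard (Tor.subgroupOf Nor) (by
    rw [Nat.card_congr (Subgroup.subgroupOfEquivOfLe hTN).toEquiv, card_Tor, Nor_eq.2, fact_two]
    norm_num)
  let P₂ : Sylow 2 Nor := Sylow.ofCard (T'.subgroupOf Nor) (by
    rw [Nat.card_congr (Subgroup.subgroupOfEquivOfLe hT'N).toEquiv, hT'c, Nor_eq.2, fact_two]
    norm_num)
  obtain ⟨c, hc⟩ := MulAction.exists_smul_eq Nor P₂ P₁
  refine ⟨frame_LG.Ψ c * g₁, fun a ha => ?_, fun a ha => ?_⟩
  · have : α₁ (frame_LG.Ψ a) ∈ (U.map frame_LG.Ψ).map α₁.toMonoidHom := ⟨_, ⟨a, ha, rfl⟩, rfl⟩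
    rw [h₁] at this
    obtain ⟨b, hb, e⟩ := this
    refine ⟨(c : A) * b * (c : A)⁻¹,
      (Subgroup.mem_normalizer_iff.mp (Nor_normalizes c.2) b).mp hb, ?_⟩
    show (MulAut.conj (frame_LG.Ψ c * g₁) * α) (frame_LG.Ψ a) = _
    rw [map_mul, mul_assoc, MulAut.mul_apply,
      show (MulAut.conj g₁ * α) (frame_LG.Ψ a) = frame_LG.Ψ b from e.symm]
    simp
  · obtain ⟨b, hb, e⟩ := hTor a ha
    refine ⟨(c : A) * b * (c : A)⁻¹, ?_, ?_⟩
    · have hmem : c * (⟨b, hb⟩ : Nor) * c⁻¹ ∈ (P₁ : Subgroup Nor) := by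
        rw [← hc, Sylow.coe_subgroup_smul, Subgroup.mem_smul_pointwise_iff_exists]
        exact ⟨⟨b, hb⟩, show (⟨b, hb⟩ : Nor) ∈ T'.subgroupOf Nor from ⟨a, ha, e⟩, by simp⟩
      exact hmem
    · show (MulAut.conj (frame_LG.Ψ c * g₁) * α) (frame_LG.Ψ a) = _
      rw [map_mul, mul_assoc, MulAut.mul_apply,
        show (MulAut.conj g₁ * α) (frame_LG.Ψ a) = frame_LG.Ψ b from e]
      simp

theorem center_Q1_check : ∀ l ∈ SQ, eqA ([16] ++ [l]) ([l] ++ [16]) = true := by decide +kernel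

theorem comm_Q1_check : ∀ l ∈ SQ, ∀ m ∈ SQ, ∃ e ∈ List.range 5,
    eqA [l, m, Nat.xor l 1, Nat.xor m 1] (List.replicate e [16]).flatten = true := by decide +kernel

/-- The radical has class two. -/
theorem Q1_class {x y w : A} (hx : x ∈ Q1) (hy : y ∈ Q1) (hw : w ∈ Q1) : ⁅⁅x, y⁆, w⁆ = 1 := by
  set C := Subgroup.zpowers (ev LA [16])
  have hcen : ∀ q ∈ Q1, ∀ z ∈ C, q * z = z * q := by
    intro q hq z hz
    obtain ⟨k, rfl⟩ := Subgroup.mem_zpowers_iff.mp hz
    have hc : Commute q (ev LA [16]) := by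
      induction hq using Subgroup.closure_induction with
      | mem u hu =>
        obtain ⟨v, hv, rfl⟩ := hu
        obtain ⟨l, hl, rfl⟩ := List.mem_map.mp hv
        have h := eqA_sound (center_Q1_check l hl)
        rw [ev_append, ev_append] at h
        exact h.symm
      | one => exact Commute.one_left _
      | mul a b _ _ ha hb => exact ha.mul_left hb
      | inv a _ ha => exact ha.inv_left
    exact (hc.zpow_right k).eq
  have hgen : ∀ l ∈ SQ, ∀ m ∈ SQ, ⁅ev LA [l], ev LA [m]⁆ ∈ C := by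
    intro l hl m hm
    obtain ⟨e, -, he⟩ := comm_Q1_check l hl m hm
    have h := eqA_sound he
    have hlt : ∀ l ∈ SQ, l < 18 := by decide +kernel
    rw [show [l, m, Nat.xor l 1, Nat.xor m 1] = [l] ++ [m] ++ invW [l] ++ invW [m] by simp [invW],
      ev_append, ev_append, ev_append, ev_invW_LA _ (by simpa using hlt l hl),
      ev_invW_LA _ (by simpa using hlt m hm), ev_replicate] at h
    rw [commutatorElement_def, h]
    exact pow_mem (Subgroup.mem_zpowers _) _
  have hleft : ∀ g ∈ Q1, (∀ l ∈ SQ, ⁅ev LA [l], g⁆ ∈ C) → ∀ a ∈ Q1, ⁅a, g⁆ ∈ C := by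
    intro g hg hgl a ha
    induction ha using Subgroup.closure_induction with
    | mem u hu =>
      obtain ⟨v, hv, rfl⟩ := hu
      obtain ⟨l, hl, rfl⟩ := List.mem_map.mp hv
      exact hgl l hl
    | one => simp
    | mul a b ha hb iha ihb =>
      have : ⁅a * b, g⁆ = a * ⁅b, g⁆ * a⁻¹ * ⁅a, g⁆ := by simp only [commutatorElement_def]; group
      rw [this, hcen a ha _ ihb, mul_assoc _ a, mul_inv_cancel, mul_one]
      exact mul_mem ihb iha
    | inv a ha iha =>
      have : ⁅a⁻¹, g⁆ = a⁻¹ * ⁅a, g⁆⁻¹ * a := by simp only [commutatorElement_def]; group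
      rw [this, hcen a⁻¹ (inv_mem ha) _ (inv_mem iha), mul_assoc, inv_mul_cancel, mul_one]
      exact inv_mem iha
  have hall : ∀ a ∈ Q1, ∀ b ∈ Q1, ⁅a, b⁆ ∈ C := by
    intro a ha b hb
    refine hleft b hb (fun l hl => ?_) a ha
    rw [← commutatorElement_inv]
    refine inv_mem (hleft _ (ev_mem_genW (List.mem_map.mpr ⟨l, hl, rfl⟩)) (fun m hm => ?_) b hb)
    exact hgen m hm l hl
  rw [commutatorElement_eq_one_iff_mul_comm]
  exact (hcen w hw _ (hall x hx y hy)).symm

theorem q2_class_check : neA (([2, 4, 3, 5] : List Nat) ++ [4] ++ invW [2, 4, 3, 5] ++ invW [4]) [] = true ∧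
    [2] ∈ qG ∧ [4] ∈ qG := by decide +kernel

theorem rW_facts : (∀ l ∈ rW, l < 18) ∧ conjOK rW qG upG conjR = true ∧ Nat.beq (mv 0 rW) 0 = false := by
  decide +kernel

theorem card_Q2 : Nat.card Q2 = 3125 := by
  obtain ⟨hlt, hconj, hmove⟩ := rW_facts
  have hd := Subgroup.card_dvd_of_le Q2_le_U
  rw [card_U.1, show (15625 : ℕ) = 5 ^ 6 by norm_num] at hd
  obtain ⟨k, hk, hk'⟩ := (Nat.dvd_prime_pow (by norm_num)).mp hd
  have hge := card_Q2_ge
  rw [hk'] at hge ⊢
  have h5 : 5 ≤ k := (Nat.pow_le_pow_iff_right (by norm_num : 1 < 5)).mp (by simpa using hge)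
  rcases (show k = 5 ∨ k = 6 by omega) with rfl | rfl
  · norm_num
  · exfalso
    have heq : Q2 = U := Subgroup.eq_of_le_of_card_ge Q2_le_U (by rw [hk', card_U.1]; norm_num)
    have hn : ev LA rW ∈ Subgroup.normalizer (U : Set A) := by
      refine mem_normalizer_of_conj ?_
      intro x hx
      have hxQ : x ∈ Q2 := heq ▸ Subgroup.subset_closure hx
      show _ ∈ U
      clear hx
      induction hxQ using Subgroup.closure_induction with
      | mem u hu =>
        obtain ⟨v, hv, rfl⟩ := hu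
        exact conjOK_mem hlt hconj v hv
      | one => simp
      | mul a b _ _ ha hb => have := mul_mem ha hb; simpa [U, mul_assoc] using this
      | inv a _ ha => have := inv_mem ha; simpa [U, mul_assoc] using this
    have h0 := (matches_ρ.mem_pstab_iff pt0 (len_LA.symm ▸ hlt)).mp
      (P_fix (Subgroup.mem_inf.mp (normalizer_le_Nor hn)).1)
    rw [← ff_eq] at h0
    rw [show mv 0 rW = 0 from h0] at hmove
    exact Bool.noConfusion hmove

/-- The image of the element moving the first point along the line. -/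
theorem img_r (hA : IsSimpleGroup A) (hU : ∀ a ∈ U, ∃ b ∈ U, Img α a b) :
    ∃ b ∈ setStab lineSet, Img α (ev LA rW) b := by
  obtain ⟨hlt, hconj, -⟩ := rW_facts
  set r := ev LA rW
  have hrQ : ∀ a ∈ Q2, r⁻¹ * a * r ∈ U := by
    intro a ha
    induction ha using Subgroup.closure_induction with
    | mem u hu =>
      obtain ⟨v, hv, rfl⟩ := hu
      exact conjOK_mem hlt hconj v hv
    | one => simp
    | mul a b _ _ ha hb => have := mul_mem ha hb; simpa [mul_assoc] using this
    | inv a _ ha => have := inv_mem ha; simpa [mul_assoc] using this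
  let Q' : Subgroup A :=
    { carrier := {b | ∃ a ∈ Q2, Img α a b}
      one_mem' := ⟨1, one_mem _, Img.one⟩
      mul_mem' := by rintro _ _ ⟨a, ha, h⟩ ⟨a', ha', h'⟩; exact ⟨_, mul_mem ha ha', h.mul h'⟩
      inv_mem' := by rintro _ ⟨a, ha, h⟩; exact ⟨_, inv_mem ha, h.inv⟩ }
  have hQ'U : Q' ≤ U := fun b ⟨a, ha, h⟩ => by
    obtain ⟨b', hb', h'⟩ := hU a (Q2_le_U ha)
    rwa [h.unique hA h']
  have hQ'c : Nat.card Q' = 3125 := by
    choose f hfU hf using hU
    rw [← card_Q2]
    refine (Nat.card_eq_of_bijective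
      (fun a : Q2 => (⟨f a (Q2_le_U a.2), a, a.2, hf a (Q2_le_U a.2)⟩ : Q')) ⟨?_, ?_⟩).symm
    · intro a a' e
      have e' : f a _ = f a' _ := congrArg Subtype.val e
      exact Subtype.ext ((hf a (Q2_le_U a.2)).unique' hA (e' ▸ hf a' (Q2_le_U a'.2)))
    · rintro ⟨b, a, ha, h⟩
      exact ⟨⟨a, ha⟩, Subtype.ext ((hf a (Q2_le_U ha)).unique hA h)⟩
  have hnot : ∀ a : A, ¬ ∀ b ∈ Q', a * b * a⁻¹ ∈ Q1 := by
    intro a hall
    obtain ⟨hne, m2, m4⟩ := q2_class_check
    obtain ⟨u', -, hu'⟩ := hU _ (qG_mem _ m2)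
    obtain ⟨v', -, hv'⟩ := hU _ (qG_mem _ m4)
    set u := ev LA [2]
    set v := ev LA [4]
    have hu := hall u' ⟨u, ev_mem_genW m2, hu'⟩
    have hv := hall v' ⟨v, ev_mem_genW m4, hv'⟩
    have himg : Img α ⁅⁅u, v⁆, v⁆ ⁅⁅u', v'⁆, v'⁆ := by
      simp only [commutatorElement_def]
      exact ((((hu'.mul hv').mul hu'.inv).mul hv'.inv).mul hv').mul
        (((hu'.mul hv').mul hu'.inv).mul hv'.inv).inv |>.mul hv'.inv
    have h1 := Q1_class hu hv hv
    have e : ⁅⁅a * u' * a⁻¹, a * v' * a⁻¹⁆, a * v' * a⁻¹⁆ = a * ⁅⁅u', v'⁆, v'⁆ * a⁻¹ := by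
      simp only [commutatorElement_def]; group
    rw [e, conj_eq_one_iff] at h1
    rw [h1] at himg
    have h2 := himg.unique' hA Img.one
    refine neA_sound hne ?_
    have hl : ∀ w ∈ [[2, 4, 3, 5], [4]], ∀ l ∈ w, l < 18 := by decide
    rw [ev_append, ev_append, ev_append, ev_invW_LA _ (hl _ (by simp)), ev_invW_LA _ (hl _ (by simp)),
      show ([2, 4, 3, 5] : List Nat) = [2] ++ [4] ++ invW [2] ++ invW [4] by simp [invW],
      ev_append, ev_append, ev_append, ev_invW_LA _ (by simp), ev_invW_LA _ (by simp), ev_nil, ← h2]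
    rfl
  -- the image lies in the subgroup
  have hg : α (frame_LG.Ψ r) ∈ frame_LG.H := by
    by_contra hne
    obtain ⟨a, ha⟩ := radical_fix hA hQ'c (g := (α (frame_LG.Ψ r))⁻¹) (fun b ⟨a, ha, h⟩ => by
      obtain ⟨b', -, h'⟩ := hU _ (hrQ a ha)
      refine ⟨b', ?_⟩
      rw [← h', map_mul, map_mul, map_mul, map_mul, map_inv, map_inv, inv_inv, h]) (fun h => hne (by
        simpa using inv_mem h))
    exact hnot a ha
  obtain ⟨r', hr'⟩ := hg
  refine ⟨r', ?_, hr'.symm⟩
  have hr'Q : ∀ b ∈ Q', r'⁻¹ * b * r' ∈ U := fun b ⟨a, ha, h⟩ => by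
    obtain ⟨b', hb', h'⟩ := hU _ (hrQ a ha)
    rwa [← h'.unique hA (((show Img α r r' from hr'.symm).inv.mul h).mul hr'.symm)]
  by_cases h0 : ρ r' pt0 = pt0
  · have hP := mem_P_of_fix h0
    set U' := U.map (MulAut.conj r').toMonoidHom
    have hQ'U' : Q' ≤ U' := fun b hb => ⟨_, hr'Q b hb, by simp [mul_assoc]⟩
    have hQ1U' : Q1 ≤ U' := fun b hb => ⟨r'⁻¹ * b * r', Q1_le_U (by
      have := (Subgroup.mem_normalizer_iff.mp (Q1_normal_P (inv_mem hP)) b).mp hb
      simpa using this), by simp [mul_assoc]⟩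
    have hd := Subgroup.card_dvd_of_le (inf_le_left : U ⊓ U' ≤ U)
    rw [card_U.1, show (15625 : ℕ) = 5 ^ 6 by norm_num] at hd
    obtain ⟨k, hk, hk'⟩ := (Nat.dvd_prime_pow (by norm_num)).mp hd
    rcases (show k ≤ 5 ∨ k = 6 by omega) with hk5 | rfl
    · exfalso
      have hle : Nat.card (U ⊓ U' : Subgroup A) ≤ 3125 := by
        rw [hk']
        calc 5 ^ k ≤ 5 ^ 5 := Nat.pow_le_pow_right (by norm_num) hk5
          _ = 3125 := by norm_num
      have e1 : Q1 = U ⊓ U' := Subgroup.eq_of_le_of_card_ge (le_inf Q1_le_U hQ1U')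
        (by rw [card_U.2.1]; exact hle)
      refine hnot 1 fun b hb => ?_
      rw [one_mul, inv_one, mul_one, e1]
      exact ⟨hQ'U hb, hQ'U' hb⟩
    · have e1 : U ⊓ U' = U := Subgroup.eq_of_le_of_card_ge inf_le_left (by
        rw [hk', card_U.1]; norm_num)
      have e2 : U = U' := Subgroup.eq_of_le_of_card_ge (e1 ▸ inf_le_right)
        (by rw [Subgroup.card_map_of_injective (MulEquiv.injective _)])
      refine (Subgroup.mem_inf.mp (normalizer_le_Nor ?_)).2
      rw [Subgroup.mem_normalizer_iff]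
      intro b
      constructor
      · intro hb
        show _ ∈ U
        rw [e2]; exact ⟨b, hb, by simp⟩
      · intro hb
        have hb' : r' * b * r'⁻¹ ∈ U' := e2 ▸ hb
        obtain ⟨y, hy, e⟩ := hb'
        have : y = b := by simpa using e
        exact this ▸ hy
  · set p := ρ r' pt0
    have hp : p ∈ lineSet := index_five_fixed hQ'U hQ'c fun b hb => by
      have h := P_fix (U_le_P (hr'Q b hb))
      rw [map_mul, map_mul, Equiv.Perm.mul_apply, Equiv.Perm.mul_apply, map_inv,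
        Equiv.Perm.inv_def, Equiv.symm_apply_eq] at h
      exact h
    set Q'' := Q'.map (MulAut.conj r'⁻¹).toMonoidHom
    have hq : (ρ r')⁻¹ pt0 ∈ lineSet := index_five_fixed (Q := Q'') (by
        rintro _ ⟨b, hb, rfl⟩; simpa using hr'Q b hb)
      (by rw [Subgroup.card_map_of_injective (MulEquiv.injective _), hQ'c]) (by
        rintro _ ⟨b, hb, rfl⟩
        show ρ (r'⁻¹ * b * r'⁻¹⁻¹) ((ρ r')⁻¹ pt0) = (ρ r')⁻¹ pt0
        rw [inv_inv, map_mul, map_mul, map_inv, Equiv.Perm.mul_apply, Equiv.Perm.mul_apply]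
        have : ρ r' ((ρ r')⁻¹ pt0) = pt0 := Equiv.apply_symm_apply _ _
        rw [this, P_fix (U_le_P (hQ'U hb))])
    obtain ⟨s, hs, -, -, hs0⟩ := move_line hq
    have hP : r' * s ∈ P := mem_P_of_fix (by
      rw [map_mul, Equiv.Perm.mul_apply, hs0]; exact Equiv.apply_symm_apply _ _)
    obtain ⟨s', hs', e⟩ := P_perm hP lineL_mem
    rw [map_mul, Equiv.Perm.coe_mul, Set.image_comp,
      show ρ s '' ptSet lineL = ptSet lineL from hs] at e
    have hps : (p : Nat) ∈ s' := by
      have : p ∈ ptSet s' := e ▸ ⟨pt0, lineL_facts.1, rfl⟩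
      exact this
    rw [line_meet hs' hps hp fun hz => h0 (Fin.ext hz)] at e
    exact e

theorem gensL_check : ∀ w ∈ gensL, w ∈ upG ∨ w = wW ∨ w = tauW ∨ w = rW := by decide +kernel

theorem exprL_check : checkExpr gensL
    [tW, xW, invW nW2 ++ tW ++ nW2, invW nW2 ++ xW ++ nW2] exprL = true := by decide +kernel

theorem exprA_check : checkExpr (gensL ++ [nW2]) ((List.range 18).map fun l => [l]) exprA = true := by
  decide +kernel

theorem xW_facts : (∀ l ∈ xW, l < 18) ∧ eqA (xW ++ xW ++ xW ++ xW ++ xW) [] = true ∧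
    neA xW [] = true ∧ eqA (xW ++ wW) (wW ++ xW) = true ∧ neA (wW ++ wW) [] = true := by
  decide +kernel

/-- An automorphism preserving the Sylow subgroup and torus preserves the image of the model. -/
theorem preserves_H (hA : IsSimpleGroup A) (hU : ∀ a ∈ U, ∃ b ∈ U, Img α a b)
    (hT : ∀ a ∈ Tor, ∃ b ∈ Tor, Img α a b) : ∀ a : A, ∃ b, Img α a b := by
  obtain ⟨-, h3, hne3, -, hlt3, hct⟩ := t_facts
  obtain ⟨hltx, h5, hne5, hcx, hne4⟩ := xW_facts
  obtain ⟨hltn, -, -⟩ := nW2_facts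
  set D := pullImg α (setStab lineSet)
  have hgens : ∀ w ∈ gensL, ev LA w ∈ D := by
    intro w hw
    rcases gensL_check w hw with h | rfl | rfl | rfl
    · obtain ⟨b, hb, h'⟩ := hU _ (mem_U h); exact ⟨b, U_le_setStab hb, h'⟩
    · obtain ⟨b, hb, h'⟩ := hT _ (ev_mem_genW (w := wW) (by simp))
      exact ⟨b, (Subgroup.mem_inf.mp (tor_le hb)).2, h'⟩
    · obtain ⟨b, hb, h'⟩ := hT _ (ev_mem_genW (w := tauW) (by simp))
      exact ⟨b, (Subgroup.mem_inf.mp (tor_le hb)).2, h'⟩
    · exact img_r hA hU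
  have hD := genW_le hgens
  have hmem := mem_of_checkExpr exprL_check
  obtain ⟨t', ht', it⟩ : ev LA tW ∈ D := hD (hmem tW (by simp))
  obtain ⟨x', hx', ix⟩ : ev LA xW ∈ D := hD (hmem xW (by simp))
  obtain ⟨t₁, ht₁, it₁⟩ : ev LA (invW nW2 ++ tW ++ nW2) ∈ D := hD (hmem _ (by simp))
  obtain ⟨x₁, hx₁, ix₁⟩ : ev LA (invW nW2 ++ xW ++ nW2) ∈ D := hD (hmem _ (by simp))
  obtain ⟨w', hw', iw⟩ := hT _ (ev_mem_genW (w := wW) (by simp : wW ∈ [wW, tauW]))
  have ot : orderOf t' = 3 := by
    rw [it.orderOf_eq hA]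
    have : Fact (Nat.Prime 3) := ⟨by norm_num⟩
    refine orderOf_eq_prime ?_ (by simpa using neA_sound hne3)
    have := eqA_sound h3
    simp only [ev_append, ev_nil] at this
    rw [← this]; simp [pow_succ, mul_assoc]
  have ox : orderOf x' = 5 := by
    rw [ix.orderOf_eq hA]
    have : Fact (Nat.Prime 5) := ⟨by norm_num⟩
    refine orderOf_eq_prime ?_ (by simpa using neA_sound hne5)
    have := eqA_sound h5
    simp only [ev_append, ev_nil] at this
    rw [← this]; simp [pow_succ, mul_assoc]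
  have ow : orderOf (ev LA wW) = 4 := by
    have : Fact (Nat.Prime 2) := ⟨by norm_num⟩
    have := orderOf_eq_prime_pow (p := 2) (n := 1) (x := ev LA wW) (by
      have := neA_sound hne4
      simp only [ev_append, ev_nil] at this
      simpa [pow_succ] using this) (by simpa using tor_pow.1)
    simpa using this
  have hcwt : Commute (ev LA wW) (ev LA tW) := by
    have := eqA_sound hct
    simp only [ev_append] at this
    exact this.symm
  obtain ⟨j, hj, hw'e⟩ := tor_comm_three hw' ht' ot (iw.commute hA it hcwt)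
  have hj' : j = 1 ∨ j = 3 := by
    have h := iw.orderOf_eq hA
    rw [ow, hw'e] at h
    interval_cases j
    · simp at h
    · exact Or.inl rfl
    · exfalso
      have : orderOf (ev LA wW ^ 2) ∣ 2 :=
        orderOf_dvd_of_pow_eq_one (by rw [← pow_mul]; exact tor_pow.1)
      rw [h] at this
      norm_num at this
    · exact Or.inr rfl
  have hcx' : Commute x' (ev LA wW) := by
    have hc : Commute x' w' := ix.commute hA iw (by
      have := eqA_sound hcx
      simp only [ev_append] at this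
      exact this)
    rw [hw'e] at hc
    rcases hj' with rfl | rfl
    · simpa using hc
    · have e : (ev LA wW ^ 3) ^ 3 = ev LA wW := by
        rw [← pow_mul, show 3 * 3 = 4 * 2 + 1 from rfl, pow_succ, pow_mul, tor_pow.1, one_pow,
          one_mul]
      simpa [e] using hc.pow_right 3
  have hF := five_fix hx' hcx' ox
  have hn : α (frame_LG.Ψ (ev LA nW2)) ∈ frame_LG.H := by
    have key : ∀ {w : List Nat} {a' b' : A}, Img α (ev LA w) a' →
        Img α (ev LA (invW nW2 ++ w ++ nW2)) b' →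
        (α (frame_LG.Ψ (ev LA nW2)))⁻¹ * frame_LG.Ψ a' * (α (frame_LG.Ψ (ev LA nW2)))⁻¹⁻¹ ∈
          frame_LG.H := by
      intro w a' b' h h'
      refine ⟨b', ?_⟩
      rw [← h', ev_append, ev_append, ev_invW_LA _ hltn, map_mul, map_mul, map_mul, map_mul,
        map_inv, map_inv, inv_inv, h]
    have := pair_fix hA (order_three_fix ht' ot) ox hF (key it it₁) (key ix ix₁)
    simpa using inv_mem this
  intro a
  have htop : ∀ a, a ∈ pullImg α (⊤ : Subgroup A) := by
    intro a
    have hle : genW LA (gensL ++ [nW2]) ≤ pullImg α (⊤ : Subgroup A) := genW_le fun w hw => by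
      rcases List.mem_append.mp hw with h | h
      · obtain ⟨b, -, h'⟩ := hgens w h; exact ⟨b, trivial, h'⟩
      · rw [List.mem_singleton.mp h]
        obtain ⟨b, hb⟩ := hn
        exact ⟨b, trivial, hb.symm⟩
    have hall : Subgroup.closure {x | x ∈ LA} ≤ pullImg α (⊤ : Subgroup A) := by
      rw [Subgroup.closure_le]
      intro x hx
      obtain ⟨l, hl, rfl⟩ := List.getElem_of_mem hx
      have := hle (mem_of_checkExpr exprA_check [l]
        (List.mem_map.mpr ⟨l, List.mem_range.mpr (len_LA ▸ hl), rfl⟩))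
      rwa [ev_cons, ev_nil, mul_one, fl, List.getD_eq_getElem _ _ hl] at this
    exact hall (closure_LA ▸ Subgroup.mem_top a)
  obtain ⟨b, -, h⟩ := htop a
  exact ⟨b, h⟩

theorem ck0_orbit : checkOrbit TP.Tb 2144 3125 12 CK0G CK0P CK0Inv = true := by decide +kernel

theorem ck0_points : (field (CK0Inv 2455) 0 < 3125 ∧ opt CK0P (field (CK0Inv 2455) 0) = 2455) ∧
    (field (CK0Inv 1980) 0 < 3125 ∧ opt CK0P (field (CK0Inv 1980) 0) = 1980) := by decide +kernel

/-- The centraliser of the subgroup normalised by `z` in the model is trivial. -/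
theorem centralizer_K0 {a : A} (ha : ∀ k ∈ K0, Commute a k) : a = 1 := by
  have haK : a ∈ K0 := normalizer_K0 (Subgroup.mem_normalizer_iff.mpr fun k => by
    constructor
    · intro hk; rw [(ha k hk).eq, mul_inv_cancel_right]; exact hk
    · intro hk
      have h := (ha _ hk).eq
      have : a * k * a⁻¹ = k := by
        have h2 : a * (a * k * a⁻¹) = a * k := by rw [h]; group
        exact mul_left_cancel h2
      rwa [this] at hk)
  have h0 := P_fix (K0_le_P haK)
  set β : Fin 3906 := ⟨2144, by norm_num⟩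
  have hβ : ρ a β = β := by
    have hmem : ∀ w ∈ CK1G, ev LA w ∈ K0 := mem_of_checkExpr (exprs := CK1E) (by decide +kernel)
    have hfix : ∀ w ∈ CK1G, ρ (ev LA w) β = β := fun w hw => by
      have hlt : ∀ l ∈ w, l < 18 := (by decide +kernel : ∀ w ∈ CK1G, ∀ l ∈ w, l < 18) w hw
      refine (matches_ρ.mem_pstab_iff β (len_LA.symm ▸ hlt)).mpr ?_
      rw [← ff_eq]
      exact (by decide +kernel : ∀ w ∈ CK1G, mv 2144 w = 2144) w hw
    have key : allBelow 12 3906 (fun i => cond (allList (fun w => Nat.beq (mv i w) i) CK1G)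
        (cond (Nat.beq i 0) true (Nat.beq i 2144)) true) = true := by decide +kernel
    have h2 := of_allBelow key (ρ a β) (Fin.isLt _)
    rw [show allList (fun w => Nat.beq (mv (ρ a β) w) (ρ a β)) CK1G = true by
      refine allList_iff.mpr fun w hw => ?_
      have hlt : ∀ l ∈ w, l < 18 := (by decide +kernel : ∀ w ∈ CK1G, ∀ l ∈ w, l < 18) w hw
      have h3 : ρ (ev LA w) (ρ a β) = ρ a β := by
        rw [← Equiv.Perm.mul_apply, ← map_mul, ← (ha _ (hmem w hw)).eq, map_mul,
          Equiv.Perm.mul_apply, hfix w hw]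
      have h4 := mv_eq hlt (ρ a β)
      rw [show (ρ (ev LA w))⁻¹ (ρ a β) = ρ a β by
        rw [Equiv.Perm.inv_def, Equiv.symm_apply_eq, h3]] at h4
      rw [← h4]; exact Nat.beq_refl _, cond_true] at h2
    cases hz : Nat.beq (ρ a β : Nat) 0
    · rw [hz, cond_false] at h2; exact Fin.ext (Nat.eq_of_beq_eq_true h2)
    · exfalso
      have : ρ a β = ρ a pt0 := (Fin.ext (Nat.eq_of_beq_eq_true hz) : ρ a β = pt0).trans h0.symm
      exact absurd (congrArg Fin.val ((ρ a).injective this)) (by decide)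
  have horb : ∀ i : Fin 3906, i ∈ orb ρ K0 β → ρ a i = i := by
    rintro _ ⟨k, hk, rfl⟩
    rw [← Equiv.Perm.mul_apply, ← map_mul, (ha k hk).eq, map_mul, Equiv.Perm.mul_apply, hβ]
  have hpts := (matches_ρ.orbit_le (β := β) (S := K0) ck0_orbit (by rw [len_LA]; decide +kernel)
    fun w hw => ev_mem_genW ((by decide +kernel : ∀ w ∈ CK0G, w ∈ kgW) w hw)).2
  obtain ⟨⟨j1, e1⟩, ⟨j2, e2⟩⟩ := ck0_points
  have hbase : a ∈ baseStab ρ baseF := by
    refine (mem_foldl_inf baseF ⊤).mpr ⟨trivial, fun b hb => ?_⟩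
    show ρ a b = b
    simp only [baseF, List.mem_cons, List.not_mem_nil, or_false] at hb
    rcases hb with rfl | rfl | rfl
    · exact h0
    · obtain ⟨x, hx, hxe⟩ := hpts _ j1
      rw [e1] at hxe
      rw [show (2455 : Fin 3906) = x from Fin.ext hxe.symm]
      exact horb x hx
    · obtain ⟨x, hx, hxe⟩ := hpts _ j2
      rw [e2] at hxe
      rw [show (1980 : Fin 3906) = x from Fin.ext hxe.symm]
      exact horb x hx
  rw [baseF_eq_bot] at hbase
  exact Subgroup.mem_bot.mp hbase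

/-- Only the identity centralises the subgroup normalised by `z`. -/
theorem centralizer_Ly (hA : IsSimpleGroup A) {d : Ly}
    (hd : ∀ k ∈ K0, Commute d (frame_LG.Ψ k)) : d = 1 := by
  by_cases hH : d ∈ frame_LG.H
  · obtain ⟨a, rfl⟩ := hH
    have ha : a = 1 := centralizer_K0 fun k hk => Ψ_injective hA (by
      rw [map_mul, map_mul]; exact (hd k hk).eq)
    rw [ha, map_one]
  · exfalso
    obtain ⟨n, hn5, a, ha⟩ := frame_LG.exists_node d
    have hconj : ∀ k ∈ K0, a * k * a⁻¹ ∈ frame_LG.stabN n := by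
      intro k hk
      show frame_LG.Rel (ev LG (nW n) * frame_LG.Ψ (a * k * a⁻¹)) (ev LG (nW n))
      have h2 : frame_LG.Rel (d * frame_LG.Ψ k) d := by
        show d * frame_LG.Ψ k * d⁻¹ ∈ frame_LG.H
        rw [(hd k hk).eq, mul_inv_cancel_right]
        exact ⟨k, rfl⟩
      have h3 := frame_LG.rel_trans (frame_LG.rel_symm (frame_LG.rel_mul ha (frame_LG.Ψ k)))
        (frame_LG.rel_trans h2 ha)
      have h4 := frame_LG.rel_mul h3 (frame_LG.Ψ a)⁻¹
      simpa [map_mul, map_inv, mul_assoc] using h4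
    have hn1 : n = 1 := by
      rcases Nat.eq_zero_or_pos n with rfl | h
      · exfalso
        apply hH
        rw [show nW 0 = [] from by decide +kernel, ev_nil, one_mul] at ha
        have : d * (frame_LG.Ψ a)⁻¹ * frame_LG.Ψ a ∈ frame_LG.H := mul_mem ha ⟨a, rfl⟩
        simpa using this
      · have hle : K0.map (MulAut.conj a).toMonoidHom ≤ frame_LG.stabN n := by
          rintro _ ⟨k, hk, rfl⟩
          simpa using hconj k hk
        have hdvd := Subgroup.card_dvd_of_le hle
        rw [Subgroup.card_map_of_injective (MulEquiv.injective _), card_K0] at hdvd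
        obtain ⟨-, c2, c3, c4⟩ := card_stabN hA
        rcases nodes h (by omega) with rfl | rfl | rfl | rfl
        · rfl
        all_goals simp_all
    subst hn1
    have haK : a ∈ K0 := by
      refine normalizer_K0 (Subgroup.mem_normalizer_iff.mpr ?_)
      have hle : K0.map (MulAut.conj a).toMonoidHom ≤ K0 := by
        rintro _ ⟨k, hk, rfl⟩
        have := hconj k hk
        rw [T1_eq] at this
        simpa using this
      have he := Subgroup.eq_of_le_of_card_ge hle
        (by rw [Subgroup.card_map_of_injective (MulEquiv.injective _)])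
      intro k
      constructor
      · intro hk; exact hle ⟨k, hk, by simp⟩
      · intro hk
        rw [← he] at hk
        obtain ⟨y, hy, e⟩ := hk
        have : y = k := by simpa using e
        exact this ▸ hy
    have hz : ev LG (nW 1) = fl LG 18 := by rw [show nW 1 = [18] from by decide +kernel]; simp
    have haR : frame_LG.Rel (ev LG (nW 1) * frame_LG.Ψ a) (ev LG (nW 1)) :=
      frame_LG.St_le (n := 1) (by norm_num) haK
    have hdz : frame_LG.Rel d (fl LG 18) := hz ▸ frame_LG.rel_trans ha haR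
    obtain ⟨h, he⟩ := hdz
    -- `d = h z`; conjugation by `z` and by `h` would agree
    set k := ev LA (kgW.getD 1 [])
    set m := ev LA (kmW.getD 1 [])
    set u := ev LA [0, 0]
    have hk : k ∈ K0 := ev_mem_genW (by decide +kernel : kgW.getD 1 [] ∈ kgW)
    have hlk : (∀ l ∈ kgW.getD 1 [], l < 18) ∧ (∀ l ∈ kmW.getD 1 [], l < 18) ∧
        fixN (kgW.getD 1 []) = 36 ∧ fixN (kmW.getD 1 []) = 31 := by decide +kernel
    have hzk : fl LG 18 * frame_LG.Ψ k * (fl LG 18)⁻¹ = frame_LG.Ψ (u * m * u⁻¹) := by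
      have h1 := frame_LG.conj_k (i := 1) (by norm_num)
      rw [← frame_LG.Ψ_ev _ hlk.1, ← frame_LG.Ψ_ev _ hlk.2.1] at h1
      have h2 : frame_LG.Ψ u = fl LG 18 * fl LG 18 := by
        rw [frame_LG.zz, frame_LG.Ψ_ev _ (by simp)]
      calc fl LG 18 * frame_LG.Ψ k * (fl LG 18)⁻¹
          = fl LG 18 * (frame_LG.Ψ k * fl LG 18) * (fl LG 18 * fl LG 18)⁻¹ := by group
        _ = (fl LG 18 * fl LG 18) * frame_LG.Ψ m * (fl LG 18 * fl LG 18)⁻¹ := by
          rw [show frame_LG.Ψ k * fl LG 18 = fl LG 18 * frame_LG.Ψ m from h1]; group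
        _ = _ := by rw [← h2]; simp
    have hde : d = frame_LG.Ψ h * fl LG 18 := by rw [he]; group
    have hc := (hd k hk).eq
    rw [hde] at hc
    have hkey : frame_LG.Ψ (h * (u * m * u⁻¹) * h⁻¹) = frame_LG.Ψ k := by
      rw [map_mul, map_mul, ← hzk, map_inv]
      calc frame_LG.Ψ h * (fl LG 18 * frame_LG.Ψ k * (fl LG 18)⁻¹) * (frame_LG.Ψ h)⁻¹
          = frame_LG.Ψ h * fl LG 18 * frame_LG.Ψ k * (frame_LG.Ψ h * fl LG 18)⁻¹ := by group
        _ = _ := by rw [hc]; group
    have hFF := congrArg F (Ψ_injective hA hkey)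
    rw [F_conj, F_conj, F_ev hlk.1, F_ev hlk.2.1, hlk.2.2.1, hlk.2.2.2] at hFF
    norm_num at hFF

/-- An automorphism fixing the model pointwise is trivial. -/
theorem eq_one_of_fix (hA : IsSimpleGroup A) (hα : ∀ a, α (frame_LG.Ψ a) = frame_LG.Ψ a) : α = 1 := by
  have hlet : ∀ w : List Nat, (∀ l ∈ w, l < 18) → α (ev LG w) = ev LG w := fun w hw => by
    rw [← frame_LG.Ψ_ev w hw, hα]
  set z := fl LG 18
  have hd : α z * z⁻¹ = 1 := by
    refine centralizer_Ly hA fun k hk => ?_
    induction hk using Subgroup.closure_induction with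
    | mem x hx =>
      obtain ⟨w, hw, rfl⟩ := hx
      obtain ⟨i, hi, rfl⟩ := List.getElem_of_mem hw
      have hi8 : i < 8 := by
        have : kgW.length = 8 := by decide +kernel
        omega
      have hl : (∀ l ∈ kgW.getD i [], l < 18) ∧ (∀ l ∈ kmW.getD i [], l < 18) :=
        (by decide +kernel : ∀ i < 8, (∀ l ∈ kgW.getD i [], l < 18) ∧ ∀ l ∈ kmW.getD i [], l < 18) i hi8
      rw [← List.getD_eq_getElem kgW [] hi, frame_LG.Ψ_ev _ hl.1]
      set kg := ev LG (kgW.getD i [])
      set km := ev LG (kmW.getD i [])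
      have h1 : kg * z = z * km := frame_LG.conj_k hi8
      have h2 : kg * α z = α z * km := by
        have := congrArg α h1
        rwa [map_mul, map_mul, hlet _ hl.1, hlet _ hl.2] at this
      show α z * z⁻¹ * kg = kg * (α z * z⁻¹)
      calc α z * z⁻¹ * kg = α z * z⁻¹ * (kg * z) * z⁻¹ := by group
        _ = α z * km * z⁻¹ := by rw [h1]; group
        _ = _ := by rw [← h2]; group
    | one => rw [map_one]; exact Commute.one_right _
    | mul x y _ _ hx hy => rw [map_mul]; exact hx.mul_right hy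
    | inv x _ hx => rw [map_inv]; exact hx.inv_right
  have hz : α z = z := mul_inv_eq_one.mp hd
  refine MulEquiv.ext fun g => ?_
  have hg : g ∈ Subgroup.closure {x | x ∈ LG} := frame_LG.gen ▸ Subgroup.mem_top g
  show α g = g
  induction hg using Subgroup.closure_induction with
  | mem x hx =>
    obtain ⟨l, hl, rfl⟩ := List.getElem_of_mem hx
    rw [← List.getD_eq_getElem LG 1 hl]
    show α (fl LG l) = fl LG l
    rcases lt_or_ge l 18 with h | h
    · simpa using hlet [l] (by simpa using h)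
    · rw [frame_LG.len] at hl
      rcases (show l = 18 ∨ l = 19 by omega) with rfl | rfl
      · exact hz
      · rw [show fl LG 19 = z⁻¹ from frame_LG.fl_xor 18, map_inv, hz]
  | one => exact map_one _
  | mul x y _ _ hx hy => rw [map_mul, hx, hy]
  | inv x _ hx => rw [map_inv, hx]

/-- Every automorphism of the Lyons group is inner. -/
theorem out_Ly (hA : IsSimpleGroup A) (hOut : Nat.card (Cfsg.Out A) = 1) :
    Nat.card (Cfsg.Out Ly) = 1 := by
  haveI := finite_Ly
  rw [← Subgroup.index_eq_card, Subgroup.index_eq_one, eq_top_iff]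
  intro α _
  obtain ⟨g, hU, hT⟩ := exists_adjust hA α
  have hall := preserves_H hA hU hT
  choose f hf using hall
  let θ₀ : A →* A := MonoidHom.mk' f fun a b => (hf (a * b)).unique hA ((hf a).mul (hf b))
  have hinj : Function.Injective θ₀ := fun a b e => (hf a).unique' hA (by
    have : f a = f b := e
    rw [this]; exact hf b)
  let θ : MulAut A := MulEquiv.ofBijective θ₀ ⟨hinj, Finite.injective_iff_surjective.mp hinj⟩
  obtain ⟨c, hc⟩ : θ ∈ Cfsg.Inn A := by
    have h : Cfsg.Inn A = ⊤ := by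
      rw [← Subgroup.index_eq_one, Subgroup.index_eq_card]; exact hOut
    rw [h]; trivial
  set β := MulAut.conj (frame_LG.Ψ c⁻¹ * g) * α
  have hβ : β = 1 := eq_one_of_fix hA fun a => by
    have h1 : (MulAut.conj g * α) (frame_LG.Ψ a) = frame_LG.Ψ (f a) := hf a
    have h2 : f a = c * a * c⁻¹ := by
      have h := DFunLike.congr_fun hc a
      exact h.symm
    show (MulAut.conj (frame_LG.Ψ c⁻¹ * g) * α) (frame_LG.Ψ a) = _
    rw [map_mul, mul_assoc, MulAut.mul_apply, h1, h2]
    simp [mul_assoc]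
  refine ⟨(frame_LG.Ψ c⁻¹ * g)⁻¹, ?_⟩
  rw [map_inv, eq_comm]
  exact eq_inv_of_mul_eq_one_right hβ

end CfsgLib.Coset.Ly
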