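import Cfsg.Agent.Coset.Ly.MatPairs
import Cfsg.Agent.Coset.Ly.MatRels0
import Cfsg.Agent.Coset.Ly.MatRels1
import Cfsg.Agent.Coset.Ly.MatRels2
import Cfsg.Agent.Coset.Ly.MatRels3
import Cfsg.Agent.Coset.Ly.Group

/-!
The representation of the presented Lyons group by matrices of degree 111 modulo 5.
-/

set_option autoImplicit false
set_option maxRecDepth 100000
set_option maxHeartbeats 1000000

namespace CfsgLib.Coset.Ly

theorem relW_one : ∀ w ∈ relW, matWord 111 matL w = 1 := by
  intro w hw
  obtain ⟨i, hi, rfl⟩ := List.getElem_of_mem hw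
  have hlt : ∀ l ∈ relW[i], l < matL.length := fun l hl =>
    (by decide +kernel : ∀ v ∈ relW, ∀ l ∈ v, l < 20) _ (List.getElem_mem hi) l hl
  have hi' : i < 86 := hi
  refine matWord_eq_one (by norm_num) matL_ok mask111_eq hlt ?_
  rw [← List.getD_eq_getElem relW [] hi]
  interval_cases i
  · exact rel0_blk
  · exact rel1_blk
  · exact rel2_blk
  · exact rel3_blk
  · exact rel4_blk
  · exact rel5_blk
  · exact rel6_blk
  · exact rel7_blk
  · exact rel8_blk
  · exact rel9_blk
  · exact rel10_blk
  · exact rel11_blk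
  · exact rel12_blk
  · exact rel13_blk
  · exact rel14_blk
  · exact rel15_blk
  · exact rel16_blk
  · exact rel17_blk
  · exact rel18_blk
  · exact rel19_blk
  · exact rel20_blk
  · exact rel21_blk
  · exact rel22_blk
  · exact rel23_blk
  · exact rel24_blk
  · exact rel25_blk
  · exact rel26_blk
  · exact rel27_blk
  · exact rel28_blk
  · exact rel29_blk
  · exact rel30_blk
  · exact rel31_blk
  · exact rel32_blk
  · exact rel33_blk
  · exact rel34_blk
  · exact rel35_blk
  · exact rel36_blk
  · exact rel37_blk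
  · exact rel38_blk
  · exact rel39_blk
  · exact rel40_blk
  · exact rel41_blk
  · exact rel42_blk
  · exact rel43_blk
  · exact rel44_blk
  · exact rel45_blk
  · exact rel46_blk
  · exact rel47_blk
  · exact rel48_blk
  · exact rel49_blk
  · exact rel50_blk
  · exact rel51_blk
  · exact rel52_blk
  · exact rel53_blk
  · exact rel54_blk
  · exact rel55_blk
  · exact rel56_blk
  · exact rel57_blk
  · exact rel58_blk
  · exact rel59_blk
  · exact rel60_blk
  · exact rel61_blk
  · exact rel62_blk
  · exact rel63_blk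
  · exact rel64_blk
  · exact rel65_blk
  · exact rel66_blk
  · exact rel67_blk
  · exact rel68_blk
  · exact rel69_blk
  · exact rel70_blk
  · exact rel71_blk
  · exact rel72_blk
  · exact rel73_blk
  · exact rel74_blk
  · exact rel75_blk
  · exact rel76_blk
  · exact rel77_blk
  · exact rel78_blk
  · exact rel79_blk
  · exact rel80_blk
  · exact rel81_blk
  · exact rel82_blk
  · exact rel83_blk
  · exact rel84_blk
  · exact rel85_blk

attribute [local irreducible] matL matOf

theorem mat_pair (l : Fin 20) :
    matOf 111 (matL.getD l []) * matOf 111 (matL.getD (Nat.xor l 1) []) = 1 := by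
  simpa [matWord] using pairs_one l l.2

/-- The matrix of a letter, as a unit. -/
def gR (l : Fin 20) : GL (Fin 111) (ZMod 5) where
  val := matOf 111 (matL.getD l [])
  inv := matOf 111 (matL.getD (Nat.xor l 1) [])
  val_inv := mat_pair l
  inv_val := mul_eq_one_comm.mp (mat_pair l)

/-- The letters in the matrix group. -/
def LR : List (GL (Fin 111) (ZMod 5)) := List.ofFn gR

theorem len_LR : LR.length = 20 := List.length_ofFn

theorem val_fl_LR {l : Nat} (hl : l < 20) :
    ((fl LR l : GL (Fin 111) (ZMod 5)) : Matrix (Fin 111) (Fin 111) (ZMod 5)) =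
      matOf 111 (matL.getD l []) := by
  rw [fl, List.getD_eq_getElem _ _ (by rw [len_LR]; exact hl)]
  unfold LR
  rw [List.getElem_ofFn]
  rfl

attribute [local irreducible] LR gR

theorem val_ev_LR : ∀ w : List Nat, (∀ l ∈ w, l < 20) →
    ((ev LR w : GL (Fin 111) (ZMod 5)) : Matrix (Fin 111) (Fin 111) (ZMod 5)) =
      matWord 111 matL w := by
  intro w
  induction w with
  | nil => intro _; simp [matWord]
  | cons l w ih =>
    intro hw
    rw [ev_cons, Units.val_mul, val_fl_LR (hw l (by simp)), ih fun x hx => hw x (by simp [hx])]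
    simp [matWord]

theorem relW_LR : ∀ w ∈ relW, ev LR w = 1 := by
  intro w hw
  refine Units.ext ?_
  rw [val_ev_LR w ((by decide +kernel : ∀ v ∈ relW, ∀ l ∈ v, l < 20) w hw), relW_one w hw]
  rfl

theorem pair_LR {l : Nat} (hl : l < 20) : fl LR l * fl LR (Nat.xor l 1) = 1 := by
  refine Units.ext ?_
  rw [Units.val_mul, val_fl_LR hl,
    val_fl_LR ((by decide +kernel : ∀ m < 20, Nat.xor m 1 < 20) l hl)]
  exact mat_pair ⟨l, hl⟩

open Cfsg.Spor.Ly (Gen)

section

variable {X : Type*} [Group X] {M : List X}
  (hp : ∀ l, l < 20 → fl M l * fl M (Nat.xor l 1) = 1)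
include hp

theorem ev_invW_gen : ∀ w : List Nat, (∀ l ∈ w, l < 20) → ev M (invW w) = (ev M w)⁻¹ := by
  intro w
  induction w with
  | nil => simp [invW]
  | cons x w ih =>
    intro hw
    have e : invW (x :: w) = invW w ++ [Nat.xor x 1] := by simp [invW]
    rw [e, ev_append, ih fun y hy => hw y (by simp [hy])]
    simp only [ev_cons, ev_nil, mul_one, mul_inv_rev]
    rw [inv_eq_of_mul_eq_one_right (hp x (hw x (by simp)))]

theorem lift_eq_ev (r : FreeGroup Gen) :
    FreeGroup.lift (fun x => ev M (dw x)) r = ev M (tw r) := by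
  set g := FreeGroup.lift (fun x => ev M (dw x)) with hg
  have key : ∀ v : List (Gen × Bool), g (FreeGroup.mk v) = ev M (v.flatMap sw) := by
    intro v
    induction v with
    | nil => rw [← FreeGroup.one_eq_mk, map_one]; rfl
    | cons p v ih =>
      have e : FreeGroup.mk (p :: v) = FreeGroup.mk [p] * FreeGroup.mk v := rfl
      rw [e, map_mul, ih, List.flatMap_cons, ev_append]
      congr 1
      obtain ⟨x, b⟩ := p
      have hx : g (FreeGroup.of x) = ev M (dw x) := FreeGroup.lift_apply_of
      cases b
      · rw [show FreeGroup.mk [(x, false)] = (FreeGroup.of x)⁻¹ from rfl, map_inv, hx,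
          show sw (x, false) = invW (dw x) from rfl, ev_invW_gen hp _ (dw_lt x)]
      · rw [show sw (x, true) = dw x from rfl]
        exact hx
  conv_lhs => rw [← FreeGroup.mk_toWord (x := r)]
  exact key r.toWord

end

theorem lift_rels : ∀ r ∈ Cfsg.Spor.coxRelators Cfsg.Spor.Ly.edges ∪ {r | r ∈ Cfsg.Spor.Ly.extra},
    FreeGroup.lift (fun x => ev LR (dw x)) r = 1 := by
  rintro r (⟨x, hx, y, -, -⟩ | hr)
  · simp [Cfsg.Spor.Ly.edges, Cfsg.Spor.coxNodes] at hx
  · rw [lift_eq_ev (fun _ h => pair_LR h)]
    refine relW_LR _ ?_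
    rw [← relW_eq]
    exact List.mem_map_of_mem hr

/-- The representation of the presented group. -/
def repLy : Cfsg.Spor.Ly →* GL (Fin 111) (ZMod 5) :=
  PresentedGroup.toGroup (f := fun x => ev LR (dw x)) lift_rels

theorem repLy_of (y : Gen) : repLy (mkLy (FreeGroup.of y)) = ev LR (dw y) :=
  PresentedGroup.toGroup.of lift_rels

attribute [local irreducible] repLy

theorem repLy_fl : ∀ l < 20, repLy (fl LG l) = fl LR l := by
  have he : ∀ k < 10, repLy (fl LG (2 * k)) = fl LR (2 * k) := by
    intro k hk
    have h1 : fl LG (2 * k) = mkLy (FreeGroup.of (baseG.getD k .a)) := by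
      interval_cases k <;> rfl
    rw [h1, repLy_of, baseG_words k hk]
    simp
  intro l hl
  rcases Nat.even_or_odd l with ⟨k, rfl⟩ | ⟨k, rfl⟩
  · rw [← two_mul]; exact he k (by omega)
  · have hx : Nat.xor (2 * k) 1 = 2 * k + 1 :=
      (by decide +kernel : ∀ m < 10, Nat.xor (2 * m) 1 = 2 * m + 1) k (by omega)
    rw [← hx, frame_LG.fl_xor, map_inv, he k (by omega)]
    exact inv_eq_of_mul_eq_one_right (pair_LR (by omega))

theorem repLy_ev (w : List Nat) (hw : ∀ l ∈ w, l < 20) : repLy (ev LG w) = ev LR w := by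
  induction w with
  | nil => simp
  | cons l w ih =>
    rw [ev_cons, ev_cons, map_mul, repLy_fl l (hw l (by simp)), ih fun x hx => hw x (by simp [hx])]

theorem len_matL : matL.length = 20 := by decide +kernel

/-- The code of the image of a vector under a word. -/
theorem vrun_rep  (w : List Nat) (hw : ∀ l ∈ w, l < 20) (v : Fin 111 → ZMod 5) :
    vrun mask111 matL (code v) w =
      code (Matrix.vecMul v ((repLy (ev LG w)) : Matrix (Fin 111) (Fin 111) (ZMod 5))) := by
  rw [mask111_eq, vrun_code (by norm_num) matL_ok w (fun l hl => (hw l hl).trans_eq len_matL.symm),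
    repLy_ev w hw, val_ev_LR w hw]

end CfsgLib.Coset.Ly
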