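import Cfsg.Agent.Coset.Ly.Cover

/-!
A group with a frame is covered by five double cosets, so has at most the order of the Lyons group.
-/

set_option autoImplicit false
set_option maxRecDepth 100000
set_option Elab.async false

namespace CfsgLib.Coset.Ly

variable {Γ : Type*} [Group Γ] {L : List Γ}

/-- The subgroup of the model fixing the coset of a node. -/
noncomputable def Frame.stabN (hF : Frame L) (n : Nat) : Subgroup A where
  carrier := {a | hF.Rel (ev L (nW n) * hF.Ψ a) (ev L (nW n))}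
  one_mem' := by simpa using hF.rel_refl _
  mul_mem' := fun {a b} ha hb => by
    show hF.Rel _ _
    rw [map_mul, ← mul_assoc]
    exact hF.rel_trans (hF.rel_mul ha _) hb
  inv_mem' := fun {a} ha => by
    show hF.Rel _ _
    have := hF.rel_mul (hF.rel_symm ha) (hF.Ψ a⁻¹)
    simpa [mul_assoc, ← map_mul] using this

theorem Frame.stWord_stabN (hF : Frame L) {n i : Nat} (hi : i < stL.length)
    (hn : (stAt i).1 = n) (hw : ∀ l ∈ (stAt i).2, l < 18) :
    ev LA (stAt i).2 ∈ hF.stabN n := by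
  show hF.Rel _ _
  have h := hF.known.stab i hi
  rw [hn] at h
  rw [hF.Ψ_ev _ hw]
  simpa [pe] using h

theorem stL_letters : ∀ i < stL.length, ∀ l ∈ (stAt i).2, l < 18 := by decide +kernel

theorem gens_listed : ∀ n < 5, n ≠ 0 → ∀ w ∈ (if n = 1 then kgW else if n = 2 then cv2G else
    if n = 3 then cv3G else cv4G), ∃ i < stL.length, (stAt i).1 = n ∧ (stAt i).2 = w := by
  decide +kernel

theorem Frame.St_le (hF : Frame L) {n : Nat} (hn : n < 5) : St n ≤ hF.stabN n := by
  rcases Nat.eq_zero_or_pos n with rfl | h0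
  · intro a _
    show hF.Rel _ _
    rw [show nW 0 = [] from by decide +kernel]
    simpa [Frame.Rel] using ⟨a, rfl⟩
  · have key := gens_listed n hn (by omega)
    have hgen : ∀ gens : List (List Nat),
        (∀ w ∈ gens, ∃ i < stL.length, (stAt i).1 = n ∧ (stAt i).2 = w) →
        genW LA gens ≤ hF.stabN n := by
      intro gens hg
      refine (Subgroup.closure_le _).mpr ?_
      rintro _ ⟨w, hw, rfl⟩
      obtain ⟨i, hi, hin, rfl⟩ := hg w hw
      exact hF.stWord_stabN hi hin (stL_letters i hi)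
    interval_cases n <;> exact hgen _ key

theorem Frame.Ψ_z (hF : Frame L) {q : A} (hq : q ∈ K0) :
    ∃ q', hF.Ψ q * fl L 18 = fl L 18 * hF.Ψ q' := by
  induction hq using Subgroup.closure_induction with
  | mem x hx =>
    obtain ⟨w, hw, rfl⟩ := hx
    obtain ⟨i, hi, rfl⟩ := List.getElem_of_mem hw
    have hi8 : i < 8 := by
      have : kgW.length = 8 := by decide +kernel
      omega
    refine ⟨ev LA (kmW.getD i []), ?_⟩
    rw [hF.Ψ_ev _ ((by decide +kernel : ∀ w ∈ kgW, ∀ l ∈ w, l < 18) _ (List.getElem_mem hi)),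
      hF.Ψ_ev _ ((by decide +kernel : ∀ k < 8, ∀ l ∈ kmW.getD k [], l < 18) i hi8)]
    have := hF.conj_k hi8
    rwa [List.getD_eq_getElem _ _ hi] at this
  | one => exact ⟨1, by simp⟩
  | mul a b _ _ ha hb =>
    obtain ⟨a', ha⟩ := ha
    obtain ⟨b', hb⟩ := hb
    exact ⟨a' * b', by rw [map_mul, mul_assoc, hb, ← mul_assoc, ha, mul_assoc, map_mul]⟩
  | inv a _ ha =>
    obtain ⟨a', ha⟩ := ha
    refine ⟨a'⁻¹, ?_⟩
    rw [map_inv, map_inv, inv_mul_eq_iff_eq_mul, ← mul_assoc, ha, mul_inv_cancel_right]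

theorem fact_letters : ∀ j < factL.length, (∀ l ∈ (factAt j).2.1, l < 18) ∧
    (∀ l ∈ (factAt j).2.2.2, l < 18) ∧ (factAt j).2.2.1 < 5 := by decide +kernel

theorem Frame.z_step (hF : Frame L) {n : Nat} (hn : n < 5) (a : A) :
    ∃ m < 5, ∃ b : A, hF.Rel (ev L (nW n) * hF.Ψ a * fl L 18) (ev L (nW m) * hF.Ψ b) := by
  rcases Nat.eq_zero_or_pos n with rfl | h0
  · refine ⟨1, by norm_num, 1, ?_⟩
    have h1 : ev L (nW 0) = 1 := by rw [show nW 0 = [] from by decide +kernel]; rfl
    have h2 : nW 1 = [18] := by decide +kernel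
    rw [h1, h2]
    simpa [Frame.Rel] using ⟨a, rfl⟩
  · obtain ⟨j, hj, hjn, g, hg, q, hq, rfl⟩ := cover n h0 (by omega) a
    obtain ⟨q', hq'⟩ := hF.Ψ_z hq
    obtain ⟨hl1, hl2, hm⟩ := fact_letters j hj
    refine ⟨(factAt j).2.2.1, hm, ev LA (factAt j).2.2.2 * q', ?_⟩
    have hg' : hF.Rel (ev L (nW n) * hF.Ψ g) (ev L (nW n)) := hF.St_le hn hg
    rw [map_mul, map_mul, map_mul, hF.Ψ_ev _ hl1, hF.Ψ_ev _ hl2]
    simp only [← mul_assoc]
    rw [mul_assoc _ (hF.Ψ q), hq', ← mul_assoc]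
    refine hF.rel_trans (hF.rel_mul (hF.rel_mul (hF.rel_mul hg' _) _) _) (hF.rel_mul ?_ _)
    have := hF.known.fact j hj
    rw [hjn] at this
    simpa [pe] using this

/-- Every element lies in one of the five double cosets. -/
theorem Frame.exists_node (hF : Frame L) (g : Γ) :
    ∃ n < 5, ∃ a : A, hF.Rel g (ev L (nW n) * hF.Ψ a) := by
  have hmulA : ∀ (l : Nat), l < 18 → ∀ x : Γ, (∃ n < 5, ∃ a : A, hF.Rel x (ev L (nW n) * hF.Ψ a)) →
      ∃ n < 5, ∃ a : A, hF.Rel (x * fl L l) (ev L (nW n) * hF.Ψ a) := by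
    rintro l hl x ⟨n, hn, a, ha⟩
    refine ⟨n, hn, a * ev LA [l], ?_⟩
    rw [map_mul, hF.Ψ_ev [l] (by simpa using hl)]
    simpa [mul_assoc] using hF.rel_mul ha (fl L l)
  have hmulZ : ∀ x : Γ, (∃ n < 5, ∃ a : A, hF.Rel x (ev L (nW n) * hF.Ψ a)) →
      ∃ n < 5, ∃ a : A, hF.Rel (x * fl L 18) (ev L (nW n) * hF.Ψ a) := by
    rintro x ⟨n, hn, a, ha⟩
    obtain ⟨m, hm, b, hb⟩ := hF.z_step hn a
    exact ⟨m, hm, b, hF.rel_trans (hF.rel_mul ha _) hb⟩
  have hmul : ∀ l < 20, ∀ x : Γ, (∃ n < 5, ∃ a : A, hF.Rel x (ev L (nW n) * hF.Ψ a)) →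
      ∃ n < 5, ∃ a : A, hF.Rel (x * fl L l) (ev L (nW n) * hF.Ψ a) := by
    intro l hl x hx
    rcases lt_or_ge l 18 with h | h
    · exact hmulA l h x hx
    · rcases (show l = 18 ∨ l = 19 by omega) with rfl | rfl
      · exact hmulZ x hx
      · rw [hF.z_inv, ev_cons, ev_cons, ev_nil, mul_one, ← mul_assoc, ← mul_assoc]
        exact hmulA 1 (by norm_num) _ (hmulA 1 (by norm_num) _ (hmulZ x hx))
  have hg : g ∈ Subgroup.closure {x | x ∈ L} := hF.gen ▸ Subgroup.mem_top g
  induction hg using Subgroup.closure_induction_right with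
  | one =>
    refine ⟨0, by norm_num, 1, ?_⟩
    rw [show nW 0 = [] from by decide +kernel]
    simpa using hF.rel_refl _
  | mul_right x _ y hy ih =>
    obtain ⟨l, hl, rfl⟩ := List.getElem_of_mem hy
    rw [← List.getD_eq_getElem L 1 hl]
    exact hmul l (hF.len ▸ hl) x ih
  | mul_inv_cancel x _ y hy ih =>
    obtain ⟨l, hl, rfl⟩ := List.getElem_of_mem hy
    rw [← List.getD_eq_getElem L 1 hl]
    show ∃ n < 5, ∃ a : A, hF.Rel (x * (fl L l)⁻¹) (ev L (nW n) * hF.Ψ a)
    rw [← hF.fl_xor l]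
    exact hmul _ ((by decide +kernel : ∀ m < 20, Nat.xor m 1 < 20) l (hF.len ▸ hl)) x ih

/-- The cosets of the nodes. -/
noncomputable def Frame.blk (hF : Frame L) (n : Fin 5) : A ⧸ St n → Γ ⧸ hF.H :=
  Quotient.lift (fun a => (QuotientGroup.mk (hF.Ψ a * (ev L (nW n))⁻¹) : Γ ⧸ hF.H))
    (fun a b hab => by
      have h0 : a⁻¹ * b ∈ St n := QuotientGroup.leftRel_apply.mp hab
      refine QuotientGroup.eq.mpr ?_
      have : hF.Rel (ev L (nW n) * hF.Ψ (a⁻¹ * b)) (ev L (nW n)) := hF.St_le n.2 h0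
      simpa [Frame.Rel, mul_assoc] using this)

theorem Frame.blk_surjective (hF : Frame L) :
    Function.Surjective (fun s : Σ n : Fin 5, A ⧸ St n => hF.blk s.1 s.2) := by
  intro x
  induction x using QuotientGroup.induction_on with
  | _ g =>
    obtain ⟨n, hn, a, ha⟩ := hF.exists_node g⁻¹
    refine ⟨⟨⟨n, hn⟩, QuotientGroup.mk a⁻¹⟩, QuotientGroup.eq.mpr ?_⟩
    simpa [Frame.Rel, mul_assoc] using inv_mem ha

theorem index_St_le : ∀ n : Fin 5,
    (St n).index ≤ [1, 19530, 968750, 5812500, 2034375].getD n 0 := by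
  have hA := card_and_injective.1
  intro n
  have h := Subgroup.card_mul_index (St n)
  rw [hA] at h
  fin_cases n
  · show (St 0).index ≤ 1
    simp [St]
  · have h2 : 300000 ≤ Nat.card (St 1) := card_K0_ge
    show (St 1).index ≤ 19530
    change Nat.card (St 1) * (St 1).index = _ at h
    nlinarith
  · have h2 := card_St2_ge
    show (St 2).index ≤ 968750
    change Nat.card (St 2) * (St 2).index = _ at h
    nlinarith
  · have h2 := card_St3_ge
    show (St 3).index ≤ 5812500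
    change Nat.card (St 3) * (St 3).index = _ at h
    nlinarith
  · have h2 := card_St4_ge
    show (St 4).index ≤ 2034375
    change Nat.card (St 4) * (St 4).index = _ at h
    nlinarith

theorem Frame.index_le (hF : Frame L) :
    Finite (Γ ⧸ hF.H) ∧ Nat.card (Γ ⧸ hF.H) ≤ 8835156 := by
  have : Finite (Σ n : Fin 5, A ⧸ St n) := inferInstance
  refine ⟨Finite.of_surjective _ hF.blk_surjective,
    (Nat.card_le_card_of_surjective _ hF.blk_surjective).trans ?_⟩
  rw [Nat.card_sigma]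
  refine (Finset.sum_le_sum (s := Finset.univ) fun n _ => index_St_le n).trans ?_
  rw [Fin.sum_univ_five]
  decide

/-- A group with a frame has at most the order of the Lyons group. -/
theorem Frame.card_le (hF : Frame L) : Finite Γ ∧ Nat.card Γ ≤ 51765179004000000 := by
  obtain ⟨hq, hi⟩ := hF.index_le
  have hH : Finite hF.H := Finite.of_surjective _ hF.Ψ.rangeRestrict_surjective
  have hHc : Nat.card hF.H ≤ 5859000000 :=
    (Nat.card_le_card_of_surjective _ hF.Ψ.rangeRestrict_surjective).trans_eq card_and_injective.1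
  have hfin : Finite Γ := Finite.of_equiv _ (Subgroup.groupEquivQuotientProdSubgroup (s := hF.H)).symm
  refine ⟨hfin, ?_⟩
  rw [Subgroup.card_eq_card_quotient_mul_card_subgroup hF.H]
  calc Nat.card (Γ ⧸ hF.H) * Nat.card hF.H ≤ 8835156 * 5859000000 := Nat.mul_le_mul hi hHc
    _ = _ := by norm_num

end CfsgLib.Coset.Ly
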